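import Mathlib

set_option autoImplicit false

namespace Cfsg.Agent.Lib.Helper9

universe u

/-- A minimal normal subgroup. -/
def IsMinNormal {G : Type*} [Group G] (M : Subgroup G) : Prop :=
  M.Normal ∧ M ≠ ⊥ ∧ ∀ K : Subgroup G, K.Normal → K ≤ M → K = ⊥ ∨ K = M

theorem exists_isMinNormal_le {G : Type*} [Group G] [Finite G] (N : Subgroup G) (hN : N.Normal)
    (hne : N ≠ ⊥) : ∃ M : Subgroup G, IsMinNormal M ∧ M ≤ N := by
  obtain ⟨M, hMN, hM⟩ := exists_minimal_le_of_wellFoundedLT
    (fun K : Subgroup G => K.Normal ∧ K ≠ ⊥) N ⟨hN, hne⟩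
  refine ⟨M, ⟨hM.1.1, hM.1.2, ?_⟩, hMN⟩
  intro K hK hKM
  by_cases hKb : K = ⊥
  · exact Or.inl hKb
  · exact Or.inr (le_antisymm hKM (hM.2 ⟨hK, hKb⟩ hKM))

theorem IsMinNormal.map_equiv {G H : Type*} [Group G] [Group H] (e : G ≃* H) {M : Subgroup G}
    (hM : IsMinNormal M) : IsMinNormal (M.map e.toMonoidHom) := by
  obtain ⟨hn, hne, hmin⟩ := hM
  refine ⟨hn.map _ e.surjective, ?_, ?_⟩
  · intro h
    exact hne ((Subgroup.map_eq_bot_iff_of_injective _ e.injective).1 h)
  · intro K hK hKM
    have h1 : K.comap e.toMonoidHom ≤ M := by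
      have := Subgroup.comap_mono (f := e.toMonoidHom) hKM
      rwa [Subgroup.comap_map_eq_self_of_injective e.injective] at this
    have h2 : K = (K.comap e.toMonoidHom).map e.toMonoidHom :=
      (Subgroup.map_comap_eq_self_of_surjective e.surjective K).symm
    rcases hmin _ (hK.comap _) h1 with h3 | h3
    · left; rw [h2, h3, Subgroup.map_bot]
    · right; rw [h2, h3]

theorem mem_normalizer_iff_map_conj_eq {G : Type*} [Group G] (x : G) (H : Subgroup G) :
    x ∈ Subgroup.normalizer (H : Set G) ↔ H.map (MulAut.conj x).toMonoidHom = H := by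
  constructor
  · intro hx
    ext y
    rw [Subgroup.mem_normalizer_iff''] at hx
    constructor
    · rintro ⟨h, hh, rfl⟩
      have := (hx (x * h * x⁻¹)).2
      apply this
      simpa [mul_assoc] using hh
    · intro hy
      refine ⟨x⁻¹ * y * x, (hx y).1 hy, ?_⟩
      simp [mul_assoc]
  · intro h
    rw [Subgroup.mem_normalizer_iff]
    intro y
    have h2 := Subgroup.mem_map_iff_mem (f := (MulAut.conj x).toMonoidHom)
      (MulAut.conj x).injective (K := H) (x := y)
    rw [h] at h2
    exact h2.symm

theorem normalizer_inf_le_normalizer_sup {G : Type*} [Group G] (A B : Subgroup G) :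
    Subgroup.normalizer (A : Set G) ⊓ Subgroup.normalizer (B : Set G) ≤
      Subgroup.normalizer ((A ⊔ B : Subgroup G) : Set G) := by
  intro x hx
  have hA : x ∈ Subgroup.normalizer (A : Set G) := (Subgroup.mem_inf.1 hx).1
  have hB : x ∈ Subgroup.normalizer (B : Set G) := (Subgroup.mem_inf.1 hx).2
  rw [mem_normalizer_iff_map_conj_eq] at hA hB
  rw [mem_normalizer_iff_map_conj_eq, Subgroup.map_sup, hA, hB]

/-- If `x : N` normalizes `H.subgroupOf N` and `H ≤ N`, then `x` normalizes `H`. -/
theorem coe_mem_normalizer_of_mem_normalizer_subgroupOf {G : Type*} [Group G] {H N : Subgroup G}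
    (hHN : H ≤ N) (x : N) (hx : x ∈ Subgroup.normalizer ((H.subgroupOf N : Subgroup N) : Set N)) :
    (x : G) ∈ Subgroup.normalizer (H : Set G) := by
  rw [Subgroup.mem_normalizer_iff] at hx ⊢
  intro h
  constructor
  · intro hh
    have := (hx ⟨h, hHN hh⟩).1 (by rw [Subgroup.mem_subgroupOf]; exact hh)
    rw [Subgroup.mem_subgroupOf] at this
    simpa using this
  · intro hh
    have hhN : h ∈ N := by
      have h1 : (x : G)⁻¹ * ((x : G) * h * (x : G)⁻¹) * (x : G) ∈ N :=
        N.mul_mem (N.mul_mem (N.inv_mem x.2) (hHN hh)) x.2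
      have h2 : (x : G)⁻¹ * ((x : G) * h * (x : G)⁻¹) * (x : G) = h := by group
      rwa [h2] at h1
    have := (hx ⟨h, hhN⟩).2 (by rw [Subgroup.mem_subgroupOf]; simpa using hh)
    rw [Subgroup.mem_subgroupOf] at this
    exact this

/-- Wielandt: a minimal normal subgroup normalizes every subnormal subgroup. -/
theorem isMinNormal_le_normalizer_of_isSubnormal : ∀ (n : ℕ) (G : Type u) [Group G] [Finite G],
    Nat.card G = n → ∀ H : Subgroup G, H.IsSubnormal → ∀ M : Subgroup G, IsMinNormal M →
      M ≤ Subgroup.normalizer (H : Set G) := by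
  intro n
  induction n using Nat.strong_induction_on with
  | _ n ih =>
    intro G _ _ hcard H hH M hM
    by_cases hHtop : H = ⊤
    · rw [hHtop, Subgroup.normalizer_eq_top]; exact le_top
    obtain ⟨N, hNn, hHN, hNlt⟩ := hH.exists_normal_and_le_and_lt_top_of_ne hHtop
    obtain ⟨hMn, hMne, hMmin⟩ := hM
    by_cases hdisj : M ⊓ N = ⊥
    · -- M centralizes N
      intro m hm
      rw [Subgroup.mem_normalizer_iff]
      intro h
      have hcomm : ∀ h' ∈ N, m * h' * m⁻¹ = h' := by
        intro h' hh'
        have := Subgroup.commute_of_normal_of_disjoint M N hMn hNn (disjoint_iff.2 hdisj) m h' hm hh'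
        rw [this.eq, mul_inv_cancel_right]
      constructor
      · intro hh
        rw [hcomm h (hHN hh)]; exact hh
      · intro hh
        have h1 : h ∈ N := by
          have h2 : m⁻¹ * (m * h * m⁻¹) * m⁻¹⁻¹ ∈ N := hNn.conj_mem _ (hHN hh) m⁻¹
          have h3 : m⁻¹ * (m * h * m⁻¹) * m⁻¹⁻¹ = h := by group
          rwa [h3] at h2
        rw [hcomm h h1] at hh; exact hh
    · -- M ≤ N
      have hMN : M ≤ N := by
        have h1 : (M ⊓ N).Normal := Subgroup.normal_inf_normal _ _
        rcases hMmin _ h1 inf_le_left with h2 | h2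
        · exact absurd h2 hdisj
        · rw [← h2]; exact inf_le_right
      have hlt : Nat.card N < n := by
        rw [← hcard]
        have h1 : N.index ≠ 1 := fun h => hNlt.ne (Subgroup.index_eq_one.1 h)
        have h2 := Subgroup.index_mul_card N
        have h3 : 0 < N.index := Nat.pos_of_ne_zero Subgroup.index_ne_zero_of_finite
        have h4 : 0 < Nat.card N := Nat.card_pos
        have h5 : 2 ≤ N.index := by omega
        nlinarith
      have hMNn : (M.subgroupOf N).Normal := hMn.subgroupOf N
      have hMNne : M.subgroupOf N ≠ ⊥ := by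
        intro h
        rw [Subgroup.subgroupOf_eq_bot, disjoint_iff] at h
        exact hdisj h
      obtain ⟨K, hK, hKM⟩ := exists_isMinNormal_le (M.subgroupOf N) hMNn hMNne
      have hHsub : (H.subgroupOf N).IsSubnormal := hH.subgroupOf
      -- all conjugates of `K` normalize `H`
      have hconj : ∀ g : G, ∀ k ∈ K, g * (k : G) * g⁻¹ ∈ Subgroup.normalizer (H : Set G) := by
        intro g k hk
        have hK' := IsMinNormal.map_equiv (MulAut.conjNormal g : N ≃* N) hK
        have h1 := ih _ hlt N rfl _ hHsub _ hK'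
        have h2 : (MulAut.conjNormal g : N ≃* N) k ∈
            K.map (MulAut.conjNormal g : N ≃* N).toMonoidHom := Subgroup.mem_map_of_mem _ hk
        have h3 := coe_mem_normalizer_of_mem_normalizer_subgroupOf hHN _ (h1 h2)
        rwa [MulAut.conjNormal_apply] at h3
      have hKne : K.map N.subtype ≠ ⊥ := by
        intro h
        exact hK.2.1 ((Subgroup.map_eq_bot_iff_of_injective _ N.subtype_injective).1 h)
      have hKM' : K.map N.subtype ≤ M := by
        rintro x ⟨k, hk, rfl⟩
        exact hKM hk
      have hcl_le : Subgroup.normalClosure ((K.map N.subtype : Subgroup G) : Set G) ≤ M :=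
        Subgroup.normalClosure_le_normal hKM'
      have hcl_eq : Subgroup.normalClosure ((K.map N.subtype : Subgroup G) : Set G) = M := by
        rcases hMmin _ Subgroup.normalClosure_normal hcl_le with h1 | h1
        · exfalso
          apply hKne
          rw [eq_bot_iff, ← h1]
          exact Subgroup.le_normalClosure
        · exact h1
      rw [← hcl_eq, Subgroup.normalClosure, Subgroup.closure_le]
      intro y hy
      rw [Group.mem_conjugatesOfSet_iff] at hy
      obtain ⟨a, ha, hay⟩ := hy
      obtain ⟨c, hc⟩ := isConj_iff.1 hay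
      obtain ⟨k, hk, rfl⟩ := ha
      rw [← hc]
      exact hconj c k hk

/-- Wielandt's join theorem. -/
theorem isSubnormal_sup : ∀ (n : ℕ) (G : Type u) [Group G] [Finite G], Nat.card G = n →
    ∀ A B : Subgroup G, A.IsSubnormal → B.IsSubnormal → (A ⊔ B).IsSubnormal := by
  intro n
  induction n using Nat.strong_induction_on with
  | _ n ih =>
    intro G _ _ hcard A B hA hB
    rcases subsingleton_or_nontrivial G with hs | hnt
    · have : A ⊔ B = ⊤ := Subsingleton.elim _ _
      rw [this]; exact Subgroup.IsSubnormal.top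
    obtain ⟨M, hM, -⟩ := exists_isMinNormal_le (⊤ : Subgroup G) inferInstance top_ne_bot
    haveI hMn : M.Normal := hM.1
    have hlt : Nat.card (G ⧸ M) < n := by
      rw [← hcard, Subgroup.card_eq_card_quotient_mul_card_subgroup M]
      have h1 : Nat.card M ≠ 1 := fun h => hM.2.1 (Subgroup.card_eq_one.1 h)
      have h3 : 0 < Nat.card M := Nat.card_pos
      have h4 : 0 < Nat.card (G ⧸ M) := Nat.card_pos
      have h5 : 2 ≤ Nat.card M := by omega
      nlinarith
    have hsurj := QuotientGroup.mk'_surjective M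
    have h1 := ih _ hlt (G ⧸ M) rfl _ _ (hA.map hsurj) (hB.map hsurj)
    rw [← Subgroup.map_sup] at h1
    have h2 := h1.comap (QuotientGroup.mk' M)
    rw [Subgroup.comap_map_eq, QuotientGroup.ker_mk'] at h2
    refine Subgroup.IsSubnormal.step _ _ le_sup_left h2 ?_
    apply Subgroup.normal_subgroupOf_of_le_normalizer
    apply sup_le Subgroup.le_normalizer
    refine le_trans ?_ (normalizer_inf_le_normalizer_sup A B)
    exact le_inf (isMinNormal_le_normalizer_of_isSubnormal _ G rfl A hA M hM)
      (isMinNormal_le_normalizer_of_isSubnormal _ G rfl B hB M hM)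

end Cfsg.Agent.Lib.Helper9
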