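import Mathlib
import Cfsg.Prelude.Def_SolvableStructure
import Cfsg.Agent.Lib.Helper9.Subnormal

set_option autoImplicit false
open Pointwise

namespace Cfsg.Agent.Lib.Helper9

theorem index_conj_smul_h9 {G : Type*} [Group G] (g : G) (H : Subgroup G) :
    (MulAut.conj g • H).index = H.index :=
  Subgroup.index_map_equiv H (MulAut.conj g)

theorem card_conj_smul_h9 {G : Type*} [Group G] (g : G) (H : Subgroup G) :
    Nat.card (MulAut.conj g • H : Subgroup G) = Nat.card H :=
  Nat.card_congr (Subgroup.equivSMul (MulAut.conj g) H).toEquiv.symm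

/-- A member `K r` of a complement system has order prime to `r`. -/
theorem not_dvd_card_of_isComplementSystem_h9 {G : Type*} [Group G] [Finite G]
    (K : Nat.Primes → Subgroup G) (hK : Cfsg.IsComplementSystem K) (r : Nat.Primes) :
    ¬ (r : ℕ) ∣ Nat.card (K r) := by
  intro hdvd
  have h1 := Subgroup.index_mul_card (K r)
  rw [hK r] at h1
  have hr : (r : ℕ).Prime := r.2
  have hpos : Nat.card (K r) ≠ 0 := Nat.card_pos.ne'
  have h2 : ((r : ℕ) ^ (Nat.card G).factorization r * Nat.card (K r)).factorization r =
      (Nat.card G).factorization r := by rw [h1]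
  rw [Nat.factorization_mul (pow_ne_zero _ hr.ne_zero) hpos, Nat.factorization_pow] at h2
  simp only [Finsupp.coe_add, Finsupp.coe_smul, Pi.add_apply, Pi.smul_apply, smul_eq_mul,
    Nat.Prime.factorization_self hr, mul_one] at h2
  have h3 : 1 ≤ (Nat.card (K r)).factorization r :=
    (hr.dvd_iff_one_le_factorization hpos).1 hdvd
  omega

theorem mem_normalizer_iff_conj_smul_eq_h9 {G : Type*} [Group G] (x : G) (W : Subgroup G) :
    x ∈ Subgroup.normalizer (W : Set G) ↔ MulAut.conj x • W = W :=
  mem_normalizer_iff_map_conj_eq x W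

end Cfsg.Agent.Lib.Helper9
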