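import Mathlib

set_option autoImplicit false

namespace Cfsg.Agent.Lib.Helper9

universe u

theorem card_comap_mk'_eq {G : Type u} [Group G] [Finite G] (D : Subgroup G) [D.Normal]
    (H' : Subgroup (G ⧸ D)) :
    Nat.card (H'.comap (QuotientGroup.mk' D)) = Nat.card H' * Nat.card D := by
  have h1 : (H'.comap (QuotientGroup.mk' D)).index = H'.index :=
    Subgroup.index_comap_of_surjective _ (QuotientGroup.mk'_surjective D)
  have h2 := Subgroup.index_mul_card (H'.comap (QuotientGroup.mk' D))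
  have h3 := Subgroup.index_mul_card H'
  have h4 := Subgroup.card_eq_card_quotient_mul_card_subgroup D
  have hpos : 0 < H'.index := Nat.pos_of_ne_zero Subgroup.index_ne_zero_of_finite
  rw [h1, h4, ← h3, mul_assoc] at h2
  exact Nat.eq_of_mul_eq_mul_left hpos h2

theorem card_map_mk'_mul_card {G : Type u} [Group G] [Finite G] (D : Subgroup G) [D.Normal]
    (X : Subgroup G) (hDX : D ≤ X) :
    Nat.card (X.map (QuotientGroup.mk' D)) * Nat.card D = Nat.card X := by
  rw [← card_comap_mk'_eq, Subgroup.comap_map_eq, QuotientGroup.ker_mk', sup_eq_left.2 hDX]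

theorem map_inf_eq_of_ker_le {G H : Type*} [Group G] [Group H] (f : G →* H) (A B : Subgroup G)
    (hA : f.ker ≤ A) : (A ⊓ B).map f = A.map f ⊓ B.map f := by
  apply le_antisymm (Subgroup.map_inf_le _ _ _)
  rintro x ⟨⟨a, ha, rfl⟩, ⟨b, hb, hab⟩⟩
  refine ⟨b, ⟨?_, hb⟩, hab⟩
  have h1 : a⁻¹ * b ∈ f.ker := by
    rw [MonoidHom.mem_ker, map_mul, map_inv, hab, inv_mul_cancel]
  have h2 : b = a * (a⁻¹ * b) := by group
  rw [h2]
  exact A.mul_mem ha (hA h1)

theorem relIndex_mul_card_of_le {G : Type*} [Group G] {H K : Subgroup G} (h : H ≤ K) :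
    H.relIndex K * Nat.card H = Nat.card K := by
  rw [Subgroup.relIndex, ← Nat.card_congr (Subgroup.subgroupOfEquivOfLe h).toEquiv]
  exact Subgroup.index_mul_card _

end Cfsg.Agent.Lib.Helper9
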