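import Mathlib

set_option autoImplicit false

namespace Cfsg.Agent.Lib.Helper9

/-- Subgroups of coprime index: the index of the intersection is the product. -/
theorem index_inf_of_coprime {G : Type*} [Group G] [Finite G] (H K : Subgroup G)
    (hcop : H.index.Coprime K.index) : (H ⊓ K).index = H.index * K.index := by
  have h1 : H.index ∣ (H ⊓ K).index := Subgroup.index_dvd_of_le inf_le_left
  have h2 : K.index ∣ (H ⊓ K).index := Subgroup.index_dvd_of_le inf_le_right
  have h3 : H.index * K.index ∣ (H ⊓ K).index := hcop.mul_dvd_of_dvd_of_dvd h1 h2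
  have h4 : (H ⊓ K).index ≤ H.index * K.index := Subgroup.index_inf_le
  have h5 : (H ⊓ K).index ≠ 0 := Subgroup.index_ne_zero_of_finite
  exact le_antisymm h4 (Nat.le_of_dvd (Nat.pos_of_ne_zero h5) h3)

theorem relIndex_eq_index_of_coprime {G : Type*} [Group G] [Finite G] (H K : Subgroup G)
    (hcop : H.index.Coprime K.index) : K.relIndex H = K.index := by
  have h1 := index_inf_of_coprime H K hcop
  have h2 := Subgroup.relIndex_mul_index (inf_le_left : H ⊓ K ≤ H)
  rw [Subgroup.inf_relIndex_left, h1, mul_comm H.index] at h2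
  have h3 : H.index ≠ 0 := Subgroup.index_ne_zero_of_finite
  exact Nat.eq_of_mul_eq_mul_right (Nat.pos_of_ne_zero h3) h2

/-- Subgroups of coprime index: `G = H K`. -/
theorem exists_mul_of_coprime_index {G : Type*} [Group G] [Finite G] (H K : Subgroup G)
    (hcop : H.index.Coprime K.index) (y : G) : ∃ h ∈ H, ∃ k ∈ K, y = h * k := by
  let f : H ⧸ K.subgroupOf H → G ⧸ K :=
    Quotient.map' (fun h : H => (h : G)) (by
      intro a b hab
      rw [QuotientGroup.leftRel_apply] at hab ⊢
      exact hab)
  have hf : Function.Injective f := by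
    intro a b
    induction a using Quotient.inductionOn' with | _ a => ?_
    induction b using Quotient.inductionOn' with | _ b => ?_
    intro hab
    have h1 : (QuotientGroup.mk (a : G) : G ⧸ K) = QuotientGroup.mk (b : G) := hab
    rw [QuotientGroup.eq] at h1
    apply Quotient.sound'
    rw [QuotientGroup.leftRel_apply]
    exact h1
  have hcard : Nat.card (G ⧸ K) ≤ Nat.card (H ⧸ K.subgroupOf H) := by
    rw [← Subgroup.index_eq_card, ← Subgroup.index_eq_card]
    exact (relIndex_eq_index_of_coprime H K hcop).ge
  have hbij : Function.Bijective f := hf.bijective_of_nat_card_le hcard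
  obtain ⟨a, ha⟩ := hbij.2 (QuotientGroup.mk y)
  induction a using Quotient.inductionOn' with | _ a => ?_
  have h1 : (QuotientGroup.mk (a : G) : G ⧸ K) = QuotientGroup.mk y := ha
  rw [QuotientGroup.eq] at h1
  exact ⟨a, a.2, (a : G)⁻¹ * y, h1, by group⟩

end Cfsg.Agent.Lib.Helper9
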