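import Mathlib
import Cfsg.Agent.Lib.Helper9.Card
import Cfsg.Agent.Lib.Helper9.CoprimeIndex

set_option autoImplicit false
open scoped Pointwise

namespace Cfsg.Agent.Lib.Helper9

/-- Product formula when one of the subgroups is normal. -/
theorem card_sup_mul_card_inf {G : Type*} [Group G] [Finite G] (A N : Subgroup G) [N.Normal] :
    Nat.card (A ⊔ N : Subgroup G) * Nat.card (A ⊓ N : Subgroup G) = Nat.card A * Nat.card N := by
  have h1 : N.relIndex (A ⊔ N) = N.relIndex A := Subgroup.relIndex_sup_right A N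
  have h2 := relIndex_mul_card_of_le (le_sup_right : N ≤ A ⊔ N)
  have h3 := relIndex_mul_card_of_le (inf_le_left : A ⊓ N ≤ A)
  rw [Subgroup.inf_relIndex_left] at h3
  rw [← h2, h1, ← h3]
  ring

theorem relIndex_sup_normal {G : Type*} [Group G] [Finite G] (A N : Subgroup G) [N.Normal] :
    A.relIndex (A ⊔ N) = A.relIndex N := by
  have h1 := card_sup_mul_card_inf A N
  have h2 := relIndex_mul_card_of_le (le_sup_left : A ≤ A ⊔ N)
  have h3 := relIndex_mul_card_of_le (inf_le_right : A ⊓ N ≤ N)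
  rw [Subgroup.inf_relIndex_right] at h3
  have hA : 0 < Nat.card A := Nat.card_pos
  have hAN : 0 < Nat.card (A ⊓ N : Subgroup G) := Nat.card_pos
  have h4 : A.relIndex (A ⊔ N) * (Nat.card A * Nat.card (A ⊓ N : Subgroup G)) =
      A.relIndex N * (Nat.card A * Nat.card (A ⊓ N : Subgroup G)) := by
    calc A.relIndex (A ⊔ N) * (Nat.card A * Nat.card (A ⊓ N : Subgroup G))
        = (A.relIndex (A ⊔ N) * Nat.card A) * Nat.card (A ⊓ N : Subgroup G) := by ring
      _ = Nat.card A * Nat.card N := by rw [h2, h1]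
      _ = Nat.card A * (A.relIndex N * Nat.card (A ⊓ N : Subgroup G)) := by rw [h3]
      _ = A.relIndex N * (Nat.card A * Nat.card (A ⊓ N : Subgroup G)) := by ring
  exact Nat.eq_of_mul_eq_mul_right (Nat.mul_pos hA hAN) h4

theorem relIndex_dvd_index_of_normal_right {G : Type*} [Group G] [Finite G] (A N : Subgroup G)
    [N.Normal] : A.relIndex N ∣ A.index := by
  rw [← relIndex_sup_normal A N]
  exact Dvd.intro _ (Subgroup.relIndex_mul_index (le_sup_left : A ≤ A ⊔ N))

/-- For subgroups `A`, `B` of coprime index and `N` normal, `NA ∩ NB = N(A ∩ B)`. -/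
theorem sup_inf_sup_of_coprime {G : Type*} [Group G] [Finite G] (N A B : Subgroup G) [N.Normal]
    (hcop : A.index.Coprime B.index) : (N ⊔ A) ⊓ (N ⊔ B) = N ⊔ (A ⊓ B) := by
  apply le_antisymm
  · intro y hy
    obtain ⟨hyA, hyB⟩ := hy
    have hyA' : y ∈ ((N ⊔ A : Subgroup G) : Set G) := hyA
    have hyB' : y ∈ ((N ⊔ B : Subgroup G) : Set G) := hyB
    rw [Subgroup.normal_mul] at hyA' hyB'
    obtain ⟨n₁, hn₁, a, ha, rfl⟩ := hyA'
    obtain ⟨n₂, hn₂, b, hb, hab⟩ := hyB'
    change n₂ * b = n₁ * a at hab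
    change n₁ * a ∈ N ⊔ (A ⊓ B)
    -- coprime indices inside `N`
    have hcopN : (A.subgroupOf N).index.Coprime (B.subgroupOf N).index :=
      Nat.Coprime.of_dvd (relIndex_dvd_index_of_normal_right A N)
        (relIndex_dvd_index_of_normal_right B N) hcop
    obtain ⟨u, hu, v, hv, huv⟩ := exists_mul_of_coprime_index _ _ hcopN
      (⟨n₁⁻¹ * n₂, N.mul_mem (N.inv_mem hn₁) hn₂⟩ : N)
    have huv' : n₁⁻¹ * n₂ = (u : G) * (v : G) := by
      have := congrArg Subtype.val huv
      simpa using this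
    have hz : (u : G)⁻¹ * a = (v : G) * b := by
      have h1 : a = n₁⁻¹ * n₂ * b := by
        have : n₁ * a = n₂ * b := hab.symm
        calc a = n₁⁻¹ * (n₁ * a) := by group
          _ = n₁⁻¹ * (n₂ * b) := by rw [this]
          _ = n₁⁻¹ * n₂ * b := by group
      rw [h1, huv']
      group
    have hzA : (u : G)⁻¹ * a ∈ A := A.mul_mem (A.inv_mem hu) ha
    have hzB : (u : G)⁻¹ * a ∈ B := by rw [hz]; exact B.mul_mem hv hb
    have : n₁ * a = (n₁ * (u : G)) * ((u : G)⁻¹ * a) := by group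
    rw [this]
    exact Subgroup.mul_mem_sup (N.mul_mem hn₁ u.2) ⟨hzA, hzB⟩
  · exact le_inf (sup_le_sup_left inf_le_left N) (sup_le_sup_left inf_le_right N)

end Cfsg.Agent.Lib.Helper9
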