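import Mathlib
import Cfsg.Agent.Lib.Helper17.SimpleIndex
import Cfsg.Agent.Lib.Helper17.SylowCard
import Cfsg.Agent.Lib.Helper17.SylowInter
import Cfsg.Agent.Lib.Helper17.Burnside
import Cfsg.Agent.Lib.Helper17.PrimeSylow
import Cfsg.Agent.Lib.Helper17.SimpleTools
import Cfsg.Agent.Lib.Helper17.AltNormalizer
import Cfsg.Agent.Lib.Helper17.InvolutionParity
import Cfsg.Agent.Lib.Helper17.CosetAction

/-!
# Soundness of the numerical tests used in the small-order sieve (for S0496)

`G` is a non-commutative finite simple group, `|G| = n = p^a * m`, `p ∤ m`, `d = n_p`.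
Each lemma says that some numerical configuration is impossible.
-/

set_option autoImplicit false
set_option linter.unusedSectionVars false
set_option linter.style.haveILetI false
set_option linter.unusedVariables false

namespace Cfsg.Agent.Lib.Helper9.Sieve

open Cfsg.Agent.Lib.Helper17 Subgroup MulAction

variable {G : Type*} [Group G] [Finite G] [IsSimpleGroup G]

/-- Index test: `true` means that a non-commutative simple group of order `n` has no subgroup of
index `j`. Only evaluated for `j ≤ 16`. -/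
def idxExcl (n j : ℕ) : Bool :=
  decide (j ≤ 16) && (decide (j.factorial % (2 * n) ≠ 0) ||
    (decide (5 ≤ j) && decide (2 * n ≠ j.factorial) && decide (j.factorial < 2 * n * j)))

theorem idxExcl_sound (hG : ¬ IsMulCommutative G) (H : Subgroup G) (hH : H ≠ ⊤) :
    idxExcl (Nat.card G) H.index = false := by
  by_contra hne
  rw [Bool.not_eq_false] at hne
  unfold idxExcl at hne
  simp only [Bool.and_eq_true, Bool.or_eq_true, decide_eq_true_eq] at hne
  obtain ⟨-, h | ⟨⟨h5, hneq⟩, hlt⟩⟩ := hne
  · exact h (Nat.mod_eq_zero_of_dvd (two_mul_card_dvd_factorial_index_of_simple hG H hH))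
  · rcases index_bound_of_simple hG H hH h5 with h1 | h1
    · exact hneq h1
    · omega

/-- The basic facts about `d = n_p`. -/
theorem sylow_facts (hG : ¬ IsMulCommutative G) {n p a m : ℕ} [hp : Fact p.Prime]
    (hn : Nat.card G = n) (hnm : n = p ^ a * m) (hpm : ¬ p ∣ m) (ha : 0 < a) (hm1 : m ≠ 1) :
    Nat.card (Sylow p G) ∣ m ∧ Nat.card (Sylow p G) % p = 1 ∧ Nat.card (Sylow p G) ≠ 1 := by
  have h : Nat.card G = p ^ a * m := hn.trans hnm
  refine ⟨card_sylow_dvd_of_card_eq h hpm, ?_, card_sylow_ne_one_of_simple h hpm ha hm1⟩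
  have h3 : Nat.card (Sylow p G) % p = 1 % p := card_sylow_modEq_one p G
  rwa [Nat.mod_eq_of_lt hp.out.one_lt] at h3

theorem normalizer_ne_top (hG : ¬ IsMulCommutative G) {p : ℕ} [hp : Fact p.Prime]
    (P : Sylow p G) (h1 : Nat.card (Sylow p G) ≠ 1) :
    normalizer ((P : Subgroup G) : Set G) ≠ ⊤ := by
  intro htop
  apply h1
  have h2 : Nat.card (Sylow p G) = (normalizer ((P : Subgroup G) : Set G)).index :=
    P.card_eq_index_normalizer
  rw [h2, htop, index_top]

/-- Test (i)/(ii): the index `d = n_p` is not excluded. -/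
theorem idxExcl_card_sylow (hG : ¬ IsMulCommutative G) {p : ℕ} [hp : Fact p.Prime]
    (h1 : Nat.card (Sylow p G) ≠ 1) : idxExcl (Nat.card G) (Nat.card (Sylow p G)) = false := by
  obtain ⟨P⟩ := (Sylow.nonempty : Nonempty (Sylow p G))
  have h2 : Nat.card (Sylow p G) = (normalizer ((P : Subgroup G) : Set G)).index :=
    P.card_eq_index_normalizer
  rw [h2]
  exact idxExcl_sound hG _ (normalizer_ne_top hG P h1)

/-- `|N_G(P)| * d = n`, in the form `|N_G(P)| = p^a * (m / d)`. -/
theorem card_normalizer_eq {n p a m : ℕ} [hp : Fact p.Prime]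
    (hn : Nat.card G = n) (hnm : n = p ^ a * m) (hd : Nat.card (Sylow p G) ∣ m) (P : Sylow p G) :
    Nat.card (normalizer ((P : Subgroup G) : Set G)) = p ^ a * (m / Nat.card (Sylow p G)) := by
  have h1 := card_sylow_mul_card_normalizer P
  obtain ⟨c, hc⟩ := hd
  have hdpos : 0 < Nat.card (Sylow p G) := Nat.card_pos
  rw [hn, hnm, hc] at h1
  rw [hc, Nat.mul_div_cancel_left _ hdpos]
  have : Nat.card (Sylow p G) * Nat.card (normalizer ((P : Subgroup G) : Set G)) =
      Nat.card (Sylow p G) * (p ^ a * c) := by rw [h1]; ring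
  exact Nat.eq_of_mul_eq_mul_left hdpos this

/-- Test (iii): Burnside transfer for a Sylow subgroup of prime order. -/
theorem false_of_gcd_eq_one (hG : ¬ IsMulCommutative G) {n p m : ℕ} [hp : Fact p.Prime]
    (hn : Nat.card G = n) (hnm : n = p ^ 1 * m) (hpm : ¬ p ∣ m)
    (hd : Nat.card (Sylow p G) ∣ m)
    (hgcd : Nat.gcd (m / Nat.card (Sylow p G)) (p - 1) = 1) : False := by
  obtain ⟨P⟩ := (Sylow.nonempty : Nonempty (Sylow p G))
  have hP : Nat.card (P : Subgroup G) = p := by
    have := sylow_card_of_card_eq P (hn.trans hnm) hpm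
    rwa [pow_one] at this
  have hdvd : p ∣ Nat.card G := by rw [hn, hnm, pow_one]; exact Dvd.intro _ rfl
  have h1 := relIndex_cent_norm_dvd_pred_of_card_prime P hP
  have h2 := mul_relIndex_cent_norm_dvd_of_card_prime P hP
  rw [card_normalizer_eq hn hnm hd P, pow_one] at h2
  have h3 := Nat.dvd_of_mul_dvd_mul_left hp.out.pos h2
  have h4 := Nat.dvd_gcd h3 h1
  rw [hgcd, Nat.dvd_one] at h4
  exact relIndex_cent_norm_ne_one_of_simple hG P hdvd h4

/-- Test (v): the normalizer of a Sylow `p`-subgroup of prime order when `p ≤ n_p < 2p`. -/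
theorem false_of_alt_normalizer (hG : ¬ IsMulCommutative G) {n p m : ℕ} [hp : Fact p.Prime]
    (hp2 : p ≠ 2) (hn : Nat.card G = n) (hnm : n = p ^ 1 * m)
    (hd : Nat.card (Sylow p G) ∣ m) (h1 : Nat.card (Sylow p G) ≠ 1)
    (hle : p ≤ Nat.card (Sylow p G)) (hlt : Nat.card (Sylow p G) < 2 * p)
    (hnd : (p * (p - 1) * (Nat.card (Sylow p G) - p).factorial) %
      (2 * (p ^ 1 * (m / Nat.card (Sylow p G)))) ≠ 0) : False := by
  obtain ⟨P⟩ := (Sylow.nonempty : Nonempty (Sylow p G))
  have hdvd : p ∣ Nat.card G := by rw [hn, hnm, pow_one]; exact Dvd.intro _ rfl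
  have hidx : (normalizer ((P : Subgroup G) : Set G)).index = Nat.card (Sylow p G) :=
    P.card_eq_index_normalizer.symm
  have h := two_mul_card_normalizer_dvd_of_index_of_simple hG p hp2
    (normalizer ((P : Subgroup G) : Set G)) (normalizer_ne_top hG P h1)
    (by rw [hidx]; exact hle) (by rw [hidx]; exact hlt) P hdvd
  rw [hidx, card_normalizer_eq hn hnm hd P] at h
  exact hnd (Nat.mod_eq_zero_of_dvd h)

end Cfsg.Agent.Lib.Helper9.Sieve
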