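import Mathlib
import Cfsg.Agent.Lib.Helper9.SmallOrderSieveA

/-!
# There is no simple group of order 1080 (module O1080 for S0496)

`n_5 = 36`, `|N(P₅)| = 30`, `|C(P₅)| = 15`.  The subgroup `Q` of order `3` of `C(P₅)` is normalized
by `N(P₅)`, and `9 ∣ |N(Q)|`, so `90 ∣ |N(Q)|` and `N(Q)` has index `12` (smaller indices are
impossible).  But a subgroup containing `N_G(P₅)` has index `≡ 1 mod 5`.
-/

set_option autoImplicit false
set_option linter.unusedSectionVars false
set_option linter.style.haveILetI false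
set_option linter.unusedVariables false

namespace Cfsg.Agent.Lib.Helper9.Simple1080

open Cfsg.Agent.Lib.Helper17 Cfsg.Agent.Lib.Helper9.Sieve Subgroup MulAction

/-- If `H` contains the normalizer of the Sylow `p`-subgroup `P`, then `n_p(G) = n_p(H) * [G:H]`. -/
theorem card_sylow_eq_mul_index_of_normalizer_le {G : Type*} [Group G] [Finite G] {p : ℕ}
    [hp : Fact p.Prime] (P : Sylow p G) (H : Subgroup G)
    (hNH : normalizer ((P : Subgroup G) : Set G) ≤ H) :
    Nat.card (Sylow p G) = Nat.card (Sylow p H) * H.index := by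
  have hPH : (P : Subgroup G) ≤ H := le_normalizer.trans hNH
  have h1 : Nat.card (Sylow p H) =
      (normalizer (((P.subtype hPH : Sylow p H) : Subgroup H) : Set H)).index :=
    (P.subtype hPH).card_eq_index_normalizer
  rw [Sylow.coe_subtype, ← Subgroup.subgroupOf_normalizer_eq hPH] at h1
  have h2 : Nat.card (Sylow p G) = (normalizer ((P : Subgroup G) : Set G)).index :=
    P.card_eq_index_normalizer
  rw [h2, h1, ← Subgroup.relIndex_mul_index hNH]
  rfl

/-- If `H` contains the normalizer of a Sylow `p`-subgroup, then `[G:H] ≡ 1 mod p`. -/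
theorem index_mod_eq_one_of_normalizer_le {G : Type*} [Group G] [Finite G] {p : ℕ}
    [hp : Fact p.Prime] (P : Sylow p G) (H : Subgroup G)
    (hNH : normalizer ((P : Subgroup G) : Set G) ≤ H) :
    H.index % p = 1 := by
  have h := card_sylow_eq_mul_index_of_normalizer_le P H hNH
  have h1 : Nat.card (Sylow p G) % p = 1 % p := card_sylow_modEq_one p G
  have h2 : Nat.card (Sylow p H) % p = 1 % p := card_sylow_modEq_one p H
  rw [Nat.mod_eq_of_lt hp.out.one_lt] at h1 h2
  have h3 : (Nat.card (Sylow p H) * H.index) % p = 1 := by rw [← h]; exact h1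
  rw [Nat.mul_mod, h2, one_mul, Nat.mod_mod] at h3
  exact h3

/-- Conjugation by an element of `N_G(P)` preserves `C_G(P)`. -/
theorem conj_mem_centralizer_of_mem_normalizer {G : Type*} [Group G] (P : Subgroup G) {n x : G}
    (hn : n ∈ normalizer (P : Set G)) (hx : x ∈ centralizer (P : Set G)) :
    n * x * n⁻¹ ∈ centralizer (P : Set G) := by
  rw [Subgroup.mem_centralizer_iff] at hx ⊢
  intro y hy
  have hy' : n⁻¹ * y * n ∈ P := (Subgroup.mem_normalizer_iff''.1 hn y).1 hy
  have h1 := hx _ hy'
  calc y * (n * x * n⁻¹) = n * ((n⁻¹ * y * n) * x) * n⁻¹ := by group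
    _ = n * (x * (n⁻¹ * y * n)) * n⁻¹ := by rw [h1]
    _ = n * x * n⁻¹ * y := by group

variable {G : Type*} [Group G] [Finite G] [IsSimpleGroup G]

theorem not_simple_of_card_1080 (h : Nat.card G = 1080) : False := by
  have hG : ¬ IsMulCommutative G := not_comm_of_simple_of_not_prime (by rw [h]; norm_num)
  haveI : Fact (Nat.Prime 5) := ⟨by norm_num⟩
  haveI : Fact (Nat.Prime 3) := ⟨by norm_num⟩
  -- `n_5 = 36`
  obtain ⟨hd, hmod, hne1⟩ := sylow_facts (p := 5) (a := 1) (m := 216) hG h (by norm_num)
    (by norm_num) (by norm_num) (by norm_num)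
  have key : ∀ d : ℕ, d ≤ 216 → d ∣ 216 → d % 5 = 1 → d ≠ 1 → d ≠ 6 → d ≠ 216 → d = 36 := by
    intro d hle hdvd h5 h1 h6 h216
    interval_cases d <;> omega
  have h6 : Nat.card (Sylow 5 G) ≠ 6 := by
    intro h6
    have := idxExcl_card_sylow (p := 5) hG hne1
    rw [h, h6] at this
    exact absurd this (by decide)
  have h216 : Nat.card (Sylow 5 G) ≠ 216 := by
    intro h216
    exact false_of_gcd_eq_one (p := 5) (m := 216) hG h (by norm_num) (by norm_num) hd
      (by rw [h216]; decide)
  have hd36 : Nat.card (Sylow 5 G) = 36 :=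
    key _ (Nat.le_of_dvd (by norm_num) hd) hd hmod hne1 h6 h216
  obtain ⟨P⟩ := (Sylow.nonempty : Nonempty (Sylow 5 G))
  have hP : Nat.card (P : Subgroup G) = 5 := by
    have := sylow_card_of_card_eq P (k := 1) (m := 216) (h.trans (by norm_num)) (by norm_num)
    simpa using this
  have hNcard : Nat.card (normalizer ((P : Subgroup G) : Set G)) = 30 := by
    have := card_normalizer_eq (p := 5) (a := 1) (m := 216) h (by norm_num) hd P
    rw [this, hd36]
    norm_num
  -- `|C(P)| = 15`
  have hr1 : (centralizer ((P : Subgroup G) : Set G)).relIndex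
      (normalizer ((P : Subgroup G) : Set G)) ∣ 4 :=
    relIndex_cent_norm_dvd_pred_of_card_prime P hP
  have hr2 : 5 * (centralizer ((P : Subgroup G) : Set G)).relIndex
      (normalizer ((P : Subgroup G) : Set G)) ∣ 30 := by
    have := mul_relIndex_cent_norm_dvd_of_card_prime P hP
    rwa [hNcard] at this
  have hr3 : (centralizer ((P : Subgroup G) : Set G)).relIndex
      (normalizer ((P : Subgroup G) : Set G)) ≠ 1 :=
    relIndex_cent_norm_ne_one_of_simple hG P (by rw [h]; norm_num)
  have hr : (centralizer ((P : Subgroup G) : Set G)).relIndex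
      (normalizer ((P : Subgroup G) : Set G)) = 2 := by
    have h6 : (centralizer ((P : Subgroup G) : Set G)).relIndex
        (normalizer ((P : Subgroup G) : Set G)) ∣ 6 :=
      Nat.dvd_of_mul_dvd_mul_left (by norm_num : 0 < 5) hr2
    have hle := Nat.le_of_dvd (by norm_num) hr1
    interval_cases ((centralizer ((P : Subgroup G) : Set G)).relIndex
      (normalizer ((P : Subgroup G) : Set G))) <;> omega
  have hCN : centralizer ((P : Subgroup G) : Set G) ≤ normalizer ((P : Subgroup G) : Set G) :=
    centralizer_le_normalizer _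
  have hCcard : Nat.card (centralizer ((P : Subgroup G) : Set G)) = 15 := by
    have := card_mul_relIndex_of_le hCN
    rw [hr, hNcard] at this
    omega
  -- the subgroup `Q` of order 3 of `C(P)`
  obtain ⟨Q⟩ := (Sylow.nonempty : Nonempty (Sylow 3 (centralizer ((P : Subgroup G) : Set G))))
  have hQcard : Nat.card (Q : Subgroup (centralizer ((P : Subgroup G) : Set G))) = 3 := by
    have := sylow_card_of_card_eq Q (k := 1) (m := 5) (hCcard.trans (by norm_num)) (by norm_num)
    simpa using this
  have hn3C : Nat.card (Sylow 3 (centralizer ((P : Subgroup G) : Set G))) = 1 := by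
    have h1 : Nat.card (Sylow 3 (centralizer ((P : Subgroup G) : Set G))) ∣ 5 :=
      card_sylow_dvd_of_card_eq (k := 1) (m := 5) (hCcard.trans (by norm_num)) (by norm_num)
    have h2 : Nat.card (Sylow 3 (centralizer ((P : Subgroup G) : Set G))) % 3 = 1 % 3 :=
      card_sylow_modEq_one 3 _
    have hle := Nat.le_of_dvd (by norm_num) h1
    interval_cases (Nat.card (Sylow 3 (centralizer ((P : Subgroup G) : Set G)))) <;> omega
  have hsub : Subsingleton (Sylow 3 (centralizer ((P : Subgroup G) : Set G))) :=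
    (Nat.card_eq_one_iff_unique.1 hn3C).1
  set Q' : Subgroup G :=
    (Q : Subgroup (centralizer ((P : Subgroup G) : Set G))).map
      (centralizer ((P : Subgroup G) : Set G)).subtype with hQ'
  have hQ'card : Nat.card Q' = 3 := by
    rw [hQ', Subgroup.card_subtype]; exact hQcard
  have hmem : ∀ x : G, x ∈ Q' ↔ x ∈ centralizer ((P : Subgroup G) : Set G) ∧ x ^ 3 = 1 := by
    intro x
    constructor
    · intro hx
      refine ⟨?_, ?_⟩
      · rw [hQ', Subgroup.mem_map] at hx
        obtain ⟨y, hy, rfl⟩ := hx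
        exact y.2
      · have : (⟨x, hx⟩ : Q') ^ 3 = 1 := by rw [← hQ'card]; exact pow_card_eq_one'
        simpa using congrArg Subtype.val this
    · rintro ⟨hxC, hx3⟩
      have hy3 : (⟨x, hxC⟩ : centralizer ((P : Subgroup G) : Set G)) ^ 3 = 1 := by
        apply Subtype.ext; simpa using hx3
      have hpg : IsPGroup 3 (zpowers (⟨x, hxC⟩ : centralizer ((P : Subgroup G) : Set G))) := by
        rintro ⟨g, hg⟩
        refine ⟨1, ?_⟩
        obtain ⟨j, rfl⟩ := mem_zpowers_iff.1 hg
        apply Subtype.ext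
        simp only [pow_one, SubgroupClass.coe_pow, OneMemClass.coe_one]
        rw [← zpow_natCast, ← zpow_mul, mul_comm, zpow_mul, zpow_natCast, hy3, one_zpow]
      obtain ⟨R, hR⟩ := hpg.exists_le_sylow
      have hRQ : R = Q := Subsingleton.elim _ _
      rw [hRQ] at hR
      exact ⟨⟨x, hxC⟩, hR (mem_zpowers _), rfl⟩
  -- `N(P) ≤ N(Q')`
  have hNQ : normalizer ((P : Subgroup G) : Set G) ≤ normalizer (Q' : Set G) := by
    intro n hn
    rw [Subgroup.mem_normalizer_iff]
    intro x
    rw [hmem, hmem]
    have hpow : (n * x * n⁻¹) ^ 3 = n * x ^ 3 * n⁻¹ := conj_pow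
    constructor
    · rintro ⟨hxC, hx3⟩
      refine ⟨conj_mem_centralizer_of_mem_normalizer _ hn hxC, ?_⟩
      rw [hpow, hx3]; group
    · rintro ⟨hxC, hx3⟩
      refine ⟨?_, ?_⟩
      · have := conj_mem_centralizer_of_mem_normalizer _ (inv_mem hn) hxC
        have h2 : n⁻¹ * (n * x * n⁻¹) * n⁻¹⁻¹ = x := by group
        rwa [h2] at this
      · rw [hpow] at hx3
        have h2 : x ^ 3 = n⁻¹ * (n * x ^ 3 * n⁻¹) * n := by group
        rw [h2, hx3]; group
  -- `90 ∣ |N(Q')|`
  have h9 : 3 ^ (1 + 1) ∣ Nat.card (normalizer (Q' : Set G)) :=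
    Sylow.prime_pow_dvd_card_normalizer (p := 3) (n := 1) (by rw [h]; norm_num)
      (by rw [hQ'card]; norm_num)
  have h30 : 30 ∣ Nat.card (normalizer (Q' : Set G)) := by
    rw [← hNcard]; exact Subgroup.card_dvd_of_le hNQ
  have h90 : 90 ∣ Nat.card (normalizer (Q' : Set G)) := by
    norm_num at h9
    omega
  obtain ⟨k, hk⟩ := h90
  have hidx12 : (normalizer (Q' : Set G)).index ∣ 12 := by
    have h1 := (normalizer (Q' : Set G)).card_mul_index
    rw [hk, h] at h1
    have h2 : 90 * (k * (normalizer (Q' : Set G)).index) = 90 * 12 := by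
      rw [← mul_assoc]; exact h1
    exact Dvd.intro_left k (Nat.eq_of_mul_eq_mul_left (by norm_num) h2)
  have hidx5 : (normalizer (Q' : Set G)).index % 5 = 1 :=
    index_mod_eq_one_of_normalizer_le P _ hNQ
  have hle := Nat.le_of_dvd (by norm_num) hidx12
  have hcases : (normalizer (Q' : Set G)).index = 1 ∨ (normalizer (Q' : Set G)).index = 6 := by
    interval_cases ((normalizer (Q' : Set G)).index) <;> omega
  rcases hcases with h1 | h6'
  · -- `Q'` is normal
    rw [Subgroup.index_eq_one, Subgroup.normalizer_eq_top_iff] at h1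
    rcases h1.eq_bot_or_eq_top with hb | ht
    · rw [hb, Subgroup.card_bot] at hQ'card
      omega
    · rw [ht, Subgroup.card_top, h] at hQ'card
      omega
  · have hne : normalizer (Q' : Set G) ≠ ⊤ := by
      intro ht
      rw [← Subgroup.index_eq_one, h6'] at ht
      omega
    have := idxExcl_sound hG _ hne
    rw [h, h6'] at this
    exact absurd this (by decide)

end Cfsg.Agent.Lib.Helper9.Simple1080
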