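import Mathlib

set_option autoImplicit false

namespace Cfsg.Agent.Lib.Helper9

/-- If `g ∉ K` has positive order, then some power of `g` of prime-power order is not in `K`. -/
theorem exists_pow_prime_pow_order_not_mem {G : Type*} [Group G] (K : Subgroup G) :
    ∀ (n : ℕ) (g : G), orderOf g = n → 0 < n → g ∉ K →
      ∃ r k j : ℕ, r.Prime ∧ r ∣ n ∧ orderOf (g ^ j) = r ^ k ∧ g ^ j ∉ K := by
  intro n
  induction n using Nat.strong_induction_on with
  | _ n ih =>
  intro g hgn hn hgK
  have hn1 : n ≠ 1 := by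
    rintro rfl
    rw [orderOf_eq_one_iff] at hgn
    exact hgK (hgn ▸ K.one_mem)
  have hr : n.minFac.Prime := Nat.minFac_prime hn1
  have hrn : n.minFac ∣ n := Nat.minFac_dvd n
  have hnm : n.minFac ^ n.factorization n.minFac * (n / n.minFac ^ n.factorization n.minFac) = n :=
    Nat.ordProj_mul_ordCompl_eq_self n n.minFac
  have hcop : (n.minFac ^ n.factorization n.minFac).Coprime
      (n / n.minFac ^ n.factorization n.minFac) :=
    Nat.Coprime.pow_left _ (Nat.coprime_ordCompl hr hn.ne')
  have hk1 : 1 ≤ n.factorization n.minFac :=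
    (hr.dvd_iff_one_le_factorization hn.ne').1 hrn
  generalize n.minFac = r at hr hrn hnm hcop hk1
  generalize n.factorization r = k at hnm hcop hk1
  generalize n / r ^ k = m at hnm hcop
  have hm0 : m ≠ 0 := by
    rintro rfl
    rw [mul_zero] at hnm
    exact hn.ne hnm
  by_cases hm1 : m = 1
  · refine ⟨r, k, 1, hr, hrn, ?_, by simpa using hgK⟩
    rw [pow_one, hgn, ← hnm, hm1, mul_one]
  · -- the two coprime parts
    have hrk : 1 < r ^ k := Nat.one_lt_pow (by omega) hr.one_lt
    have hmn : m < n := by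
      have hmpos : 0 < m := Nat.pos_of_ne_zero hm0
      calc m = 1 * m := (one_mul m).symm
        _ < r ^ k * m := Nat.mul_lt_mul_of_pos_right hrk hmpos
        _ = n := hnm
    have ho1 : orderOf (g ^ (r ^ k)) = m := by
      rw [orderOf_pow_of_dvd (pow_pos hr.pos k).ne' (by rw [hgn, ← hnm]; exact Dvd.intro _ rfl),
        hgn]
      exact Nat.div_eq_of_eq_mul_right (pow_pos hr.pos k) hnm.symm
    have ho2 : orderOf (g ^ m) = r ^ k := by
      rw [orderOf_pow_of_dvd hm0 (by rw [hgn, ← hnm]; exact Dvd.intro_left _ rfl), hgn]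
      exact Nat.div_eq_of_eq_mul_left (Nat.pos_of_ne_zero hm0) hnm.symm
    by_cases h2 : g ^ m ∈ K
    · have h1 : g ^ (r ^ k) ∉ K := by
        intro h1
        apply hgK
        have hb : ((r ^ k : ℕ) : ℤ) * Nat.gcdA (r ^ k) m + (m : ℤ) * Nat.gcdB (r ^ k) m = 1 := by
          rw [← Nat.gcd_eq_gcd_ab, hcop]
          rfl
        have : g = (g ^ (r ^ k)) ^ (Nat.gcdA (r ^ k) m) * (g ^ m) ^ (Nat.gcdB (r ^ k) m) := by
          rw [← zpow_natCast g (r ^ k), ← zpow_natCast g m, ← zpow_mul, ← zpow_mul, ← zpow_add,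
            hb, zpow_one]
        rw [this]
        exact K.mul_mem (K.zpow_mem h1 _) (K.zpow_mem h2 _)
      obtain ⟨r', k', j', hr', hr'm, ho', hK'⟩ :=
        ih m hmn (g ^ (r ^ k)) ho1 (Nat.pos_of_ne_zero hm0) h1
      refine ⟨r', k', r ^ k * j', hr', hr'm.trans (Dvd.intro_left _ hnm), ?_, ?_⟩
      · rw [pow_mul]; exact ho'
      · rw [pow_mul]; exact hK'
    · exact ⟨r, k, m, hr, hrn, ho2, h2⟩

/-- Conjugation action of a subgroup `R` normalizing `H` on `H`. -/
@[instance_reducible]
def conjActOfLeNormalizer {G : Type*} [Group G] (H R : Subgroup G)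
    (hRH : R ≤ Subgroup.normalizer (H : Set G)) : MulAction R H where
  smul k h := ⟨(k : G) * h * (k : G)⁻¹, (Subgroup.mem_normalizer_iff.1 (hRH k.2) h).1 h.2⟩
  one_smul h := by
    apply Subtype.ext
    change ((1 : R) : G) * h * ((1 : R) : G)⁻¹ = h
    simp
  mul_smul a b h := by
    apply Subtype.ext
    change ((a * b : R) : G) * h * ((a * b : R) : G)⁻¹ =
      (a : G) * ((b : G) * h * (b : G)⁻¹) * (a : G)⁻¹
    simp [mul_assoc]

/-- Fixed-point congruence for an `r`-group `R` normalizing `H`: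
`|H| ≡ |C_H(R)|` modulo `r`. -/
theorem card_modEq_card_inf_centralizer {G : Type*} [Group G] (r : ℕ) [Fact r.Prime]
    (H R : Subgroup G) [Finite H] (hR : IsPGroup r R)
    (hRH : R ≤ Subgroup.normalizer (H : Set G)) :
    Nat.card H ≡ Nat.card (H ⊓ Subgroup.centralizer (R : Set G) : Subgroup G) [MOD r] := by
  let _ : MulAction R H := conjActOfLeNormalizer H R hRH
  have h1 := hR.card_modEq_card_fixedPoints H
  have hsmul : ∀ (k : R) (h : H), ((k • h : H) : G) = (k : G) * h * (k : G)⁻¹ := fun _ _ => rfl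
  have e : MulAction.fixedPoints R H ≃ (H ⊓ Subgroup.centralizer (R : Set G) : Subgroup G) :=
    { toFun := fun h => ⟨(h.1 : G), h.1.2, by
        change (h.1 : G) ∈ Subgroup.centralizer (R : Set G)
        rw [Subgroup.mem_centralizer_iff]
        intro k hk
        have := congrArg Subtype.val (h.2 ⟨k, hk⟩)
        rw [hsmul] at this
        change k * (h.1 : G) * k⁻¹ = h.1 at this
        calc k * (h.1 : G) = (k * (h.1 : G) * k⁻¹) * k := by group
          _ = (h.1 : G) * k := by rw [this]⟩
      invFun := fun x => ⟨⟨x.1, x.2.1⟩, by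
        intro k
        apply Subtype.ext
        rw [hsmul]
        have := (Subgroup.mem_centralizer_iff.1 x.2.2) k k.2
        change (k : G) * (x : G) * (k : G)⁻¹ = x
        rw [this]
        group⟩
      left_inv := fun h => rfl
      right_inv := fun x => rfl }
  rw [← Nat.card_congr e]
  exact h1

end Cfsg.Agent.Lib.Helper9
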