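import Mathlib
import Cfsg.Agent.Lib.Helper54.Coprime
import Cfsg.Agent.Lib.Helper24.ConjOn

/-!
Coprime action toolkit in subgroup form (helper9), used for BG Theorem 3.6 (S1444).
-/

set_option autoImplicit false
set_option linter.unusedSectionVars false

open scoped commutatorElement

namespace Cfsg.Agent.Lib.Helper9

variable {G : Type*} [Group G]

/-! ### Basic normalizer facts -/

theorem conj_mem_of_mem_normalizer {T : Subgroup G} {x t : G}
    (hx : x ∈ Subgroup.normalizer (T : Set G)) (ht : t ∈ T) : x * t * x⁻¹ ∈ T :=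
  (Subgroup.mem_normalizer_iff.mp hx t).mp ht

theorem conj_inv_mem_of_mem_normalizer {T : Subgroup G} {x t : G}
    (hx : x ∈ Subgroup.normalizer (T : Set G)) (ht : t ∈ T) : x⁻¹ * t * x ∈ T := by
  have := conj_mem_of_mem_normalizer (Subgroup.inv_mem _ hx) ht
  simpa using this

theorem zpowers_le_normalizer {T : Subgroup G} {x : G}
    (hx : x ∈ Subgroup.normalizer (T : Set G)) :
    Subgroup.zpowers x ≤ Subgroup.normalizer (T : Set G) := by
  rw [Subgroup.zpowers_le]; exact hx

theorem mem_normalizer_of_conj_mem {T : Subgroup G} {A : Subgroup G}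
    (h : ∀ a ∈ A, ∀ t ∈ T, a * t * a⁻¹ ∈ T) : A ≤ Subgroup.normalizer (T : Set G) := by
  intro a ha
  rw [Subgroup.mem_normalizer_iff]
  intro t
  constructor
  · exact h a ha t
  · intro ht
    have := h a⁻¹ (A.inv_mem ha) _ ht
    have e : a⁻¹ * (a * t * a⁻¹) * a⁻¹⁻¹ = t := by group
    rwa [e] at this

/-- the normalizer of `A` and `B` normalizes `A ⊓ B` -/
theorem normalizer_inf_le (A B : Subgroup G) :
    Subgroup.normalizer (A : Set G) ⊓ Subgroup.normalizer (B : Set G) ≤
      Subgroup.normalizer ((A ⊓ B : Subgroup G) : Set G) := by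
  intro g hg
  have ha := Subgroup.mem_normalizer_iff.mp hg.1
  have hb := Subgroup.mem_normalizer_iff.mp hg.2
  rw [Subgroup.mem_normalizer_iff]
  intro y
  rw [Subgroup.mem_inf, Subgroup.mem_inf, ← ha y, ← hb y]

/-- the normalizer of `A` normalizes its centralizer -/
theorem normalizer_le_normalizer_centralizer (A : Subgroup G) :
    Subgroup.normalizer (A : Set G) ≤
      Subgroup.normalizer ((Subgroup.centralizer (A : Set G) : Subgroup G) : Set G) := by
  apply mem_normalizer_of_conj_mem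
  intro g hg c hc
  rw [Subgroup.mem_centralizer_iff] at hc ⊢
  intro a ha
  have h1 := hc _ (conj_inv_mem_of_mem_normalizer hg ha)
  calc a * (g * c * g⁻¹) = g * ((g⁻¹ * a * g) * c) * g⁻¹ := by group
    _ = g * (c * (g⁻¹ * a * g)) * g⁻¹ := by rw [h1]
    _ = g * c * g⁻¹ * a := by group

/-- the normalizers of `A` and `B` normalize `⁅A, B⁆` -/
theorem normalizer_inf_le_normalizer_commutator (A B : Subgroup G) :
    Subgroup.normalizer (A : Set G) ⊓ Subgroup.normalizer (B : Set G) ≤
      Subgroup.normalizer ((⁅A, B⁆ : Subgroup G) : Set G) := by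
  apply mem_normalizer_of_conj_mem
  intro g hg t ht
  have hconj : ∀ t ∈ ⁅A, B⁆, g * t * g⁻¹ ∈ ⁅A, B⁆ := by
    intro t ht
    have hle : ⁅A, B⁆ ≤ (⁅A, B⁆).comap (MulAut.conj g).toMonoidHom := by
      rw [Subgroup.commutator_le]
      intro a ha b hb
      rw [Subgroup.mem_comap]
      show MulAut.conj g ⁅a, b⁆ ∈ ⁅A, B⁆
      rw [map_commutatorElement]
      exact Subgroup.commutator_mem_commutator (conj_mem_of_mem_normalizer hg.1 ha)
        (conj_mem_of_mem_normalizer hg.2 hb)
    exact hle ht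
  exact hconj t ht

/-- `A` normalizes `⁅A, B⁆`. -/
theorem le_normalizer_commutator_left (A B : Subgroup G) :
    A ≤ Subgroup.normalizer ((⁅A, B⁆ : Subgroup G) : Set G) := by
  apply mem_normalizer_of_conj_mem
  intro g hg t ht
  have hle : ⁅A, B⁆ ≤ (⁅A, B⁆).comap (MulAut.conj g).toMonoidHom := by
    rw [Subgroup.commutator_le]
    intro a ha b hb
    rw [Subgroup.mem_comap]
    show g * ⁅a, b⁆ * g⁻¹ ∈ ⁅A, B⁆
    have e : g * ⁅a, b⁆ * g⁻¹ = ⁅g * a, b⁆ * ⁅g, b⁆⁻¹ := by
      simp only [commutatorElement_def]; group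
    rw [e]
    exact Subgroup.mul_mem _ (Subgroup.commutator_mem_commutator (A.mul_mem hg ha) hb)
      (Subgroup.inv_mem _ (Subgroup.commutator_mem_commutator hg hb))
  exact hle ht

theorem le_normalizer_commutator_right (A B : Subgroup G) :
    B ≤ Subgroup.normalizer ((⁅A, B⁆ : Subgroup G) : Set G) := by
  rw [Subgroup.commutator_comm]
  exact le_normalizer_commutator_left B A

/-- if `B` normalizes `A` then `⁅A, B⁆ ≤ A` -/
theorem commutator_le_left_of_le_normalizer {A B : Subgroup G}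
    (h : B ≤ Subgroup.normalizer (A : Set G)) : ⁅A, B⁆ ≤ A := by
  rw [Subgroup.commutator_le]
  intro a ha b hb
  rw [commutatorElement_def]
  have h1 : b * a⁻¹ * b⁻¹ ∈ A := conj_mem_of_mem_normalizer (h hb) (A.inv_mem ha)
  have e : a * b * a⁻¹ * b⁻¹ = a * (b * a⁻¹ * b⁻¹) := by group
  rw [e]
  exact A.mul_mem ha h1

/-- `B ≤ C(A)` iff `⁅A, B⁆ = ⊥`. -/
theorem commutator_eq_bot_iff_le_centralizer' {A B : Subgroup G} :
    ⁅A, B⁆ = ⊥ ↔ B ≤ Subgroup.centralizer (A : Set G) := by
  rw [Subgroup.commutator_comm]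
  exact Subgroup.commutator_eq_bot_iff_le_centralizer

/-! ### Coprime orders -/

theorem eq_one_of_mem_of_coprime [Finite G] {A B : Subgroup G}
    (h : (Nat.card A).Coprime (Nat.card B)) {g : G} (ha : g ∈ A) (hb : g ∈ B) : g = 1 := by
  have h1 : orderOf g ∣ Nat.card A := by
    have := orderOf_dvd_natCard (⟨g, ha⟩ : ↥A)
    rwa [Subgroup.orderOf_mk] at this
  have h2 : orderOf g ∣ Nat.card B := by
    have := orderOf_dvd_natCard (⟨g, hb⟩ : ↥B)
    rwa [Subgroup.orderOf_mk] at this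
  have h3 : orderOf g = 1 := Nat.eq_one_of_dvd_coprimes h h1 h2
  exact orderOf_eq_one_iff.mp h3

theorem inf_eq_bot_of_coprime' [Finite G] {A B : Subgroup G}
    (h : (Nat.card A).Coprime (Nat.card B)) : A ⊓ B = ⊥ := by
  rw [eq_bot_iff]
  intro g hg
  rw [Subgroup.mem_bot]
  exact eq_one_of_mem_of_coprime h hg.1 hg.2

/-- coprime stabilizing argument: if `g c g⁻¹ = c * z`-type. If `g a g⁻¹ = a * c` with `c` commuting
with `g`, `g ^ m = 1`, `c ^ n = 1`, `m`, `n` coprime, then `c = 1`. -/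
theorem eq_one_of_conj_eq_mul {g a c : G} (h : g * a * g⁻¹ = a * c) (hgc : Commute g c)
    {m n : ℕ} (hg : g ^ m = 1) (hc : c ^ n = 1) (hmn : m.Coprime n) : c = 1 := by
  have key : ∀ k : ℕ, g ^ k * a * (g ^ k)⁻¹ = a * c ^ k := by
    intro k
    induction k with
    | zero => simp
    | succ k ih =>
      have h1 : g * c ^ k * g⁻¹ = c ^ k := by
        rw [(hgc.pow_right k).eq, mul_inv_cancel_right]
      calc g ^ (k + 1) * a * (g ^ (k + 1))⁻¹ = g * (g ^ k * a * (g ^ k)⁻¹) * g⁻¹ := by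
            rw [pow_succ']; group
        _ = g * (a * c ^ k) * g⁻¹ := by rw [ih]
        _ = (g * a * g⁻¹) * (g * c ^ k * g⁻¹) := by group
        _ = a * c * c ^ k := by rw [h, h1]
        _ = a * c ^ (k + 1) := by rw [pow_succ', mul_assoc]
  have h2 := key m
  rw [hg, one_mul, inv_one, mul_one] at h2
  have h3 : c ^ m = 1 := by
    have : a * 1 = a * c ^ m := by rw [mul_one]; exact h2
    exact (mul_left_cancel this).symm
  have h4 : orderOf c ∣ m := orderOf_dvd_of_pow_eq_one h3
  have h5 : orderOf c ∣ n := orderOf_dvd_of_pow_eq_one hc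
  have h6 : orderOf c = 1 := Nat.eq_one_of_dvd_coprimes hmn h4 h5
  exact orderOf_eq_one_iff.mp h6

/-- If `P` normalizes `Q`, their orders are coprime and `P` centralizes `⁅Q, P⁆`, then
`P` centralizes `Q`. -/
theorem le_centralizer_of_commutator_le_centralizer [Finite G] {Q P : Subgroup G}
    (hcop : (Nat.card P).Coprime (Nat.card Q)) (hPQ : P ≤ Subgroup.normalizer (Q : Set G))
    (h : ⁅Q, P⁆ ≤ Subgroup.centralizer (P : Set G)) : P ≤ Subgroup.centralizer (Q : Set G) := by
  intro g hg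
  rw [Subgroup.mem_centralizer_iff]
  intro a ha
  -- `g a g⁻¹ = a * c` with `c = a⁻¹ g a g⁻¹ ∈ ⁅Q, P⁆`
  set c := a⁻¹ * (g * a * g⁻¹) with hc
  have hcQ : c ∈ Q := Q.mul_mem (Q.inv_mem ha) (conj_mem_of_mem_normalizer (hPQ hg) ha)
  have hcomm : c ∈ ⁅Q, P⁆ := by
    have : c = ⁅a⁻¹, g⁆ := by rw [hc, commutatorElement_def]; group
    rw [this]
    exact Subgroup.commutator_mem_commutator (Q.inv_mem ha) hg
  have hgc : Commute g c := by
    have := Subgroup.mem_centralizer_iff.mp (h hcomm) g hg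
    exact this
  have h1 : g * a * g⁻¹ = a * c := by rw [hc]; group
  have hgm : g ^ Nat.card P = 1 := by
    have h5 : (⟨g, hg⟩ : ↥P) ^ Nat.card P = 1 := pow_card_eq_one'
    have := congrArg Subtype.val h5
    simpa only [Subgroup.coe_pow, Subgroup.coe_one] using this
  have hcn : c ^ Nat.card Q = 1 := by
    have h5 : (⟨c, hcQ⟩ : ↥Q) ^ Nat.card Q = 1 := pow_card_eq_one'
    have := congrArg Subtype.val h5
    simpa only [Subgroup.coe_pow, Subgroup.coe_one] using this
  have hc1 : c = 1 := eq_one_of_conj_eq_mul h1 hgc hgm hcn hcop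
  rw [hc1, mul_one] at h1
  calc a * g = (g * a * g⁻¹) * g := by rw [h1]
    _ = g * a := by group

end Cfsg.Agent.Lib.Helper9
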