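import Mathlib
import Cfsg.Agent.Lib.Helper9.BG36Tools

/-!
Coprime action toolkit, part 2 (helper9): fixed points in invariant cosets for an element of prime
order, `Q = C_Q(x) T`, and `⁅⁅H, R⁆, R⁆ = ⁅H, R⁆`.
-/

set_option autoImplicit false
set_option linter.unusedSectionVars false

open scoped commutatorElement
open Pointwise

namespace Cfsg.Agent.Lib.Helper9

variable {G : Type*} [Group G] [Finite G]

/-- **Fixed point in an invariant coset.**  `x` of prime order `r` normalizes `T`, `r ∤ |T|`, and the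
coset `a T` is `x`-invariant.  Then `a T` contains an element commuting with `x`. -/
theorem exists_fixed_in_coset {r : ℕ} (hr : r.Prime) {x : G} (hx : orderOf x = r) (T : Subgroup G)
    (hxT : x ∈ Subgroup.normalizer (T : Set G)) (hrT : ¬ r ∣ Nat.card T) (a : G)
    (ha : a⁻¹ * (x * a * x⁻¹) ∈ T) : ∃ b : G, a⁻¹ * b ∈ T ∧ x * b = b * x := by
  classical
  have : Fact r.Prime := ⟨hr⟩
  -- the coset as a type
  let S := {b : G // a⁻¹ * b ∈ T}
  have hSfin : Finite S := Subtype.finite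
  have := Fintype.ofFinite S
  have hconj : ∀ y ∈ Subgroup.normalizer (T : Set G), a⁻¹ * (y * a * y⁻¹) ∈ T →
      ∀ b : G, a⁻¹ * b ∈ T → a⁻¹ * (y * b * y⁻¹) ∈ T := by
    intro y hy hya b hb
    have h1 : y * (a⁻¹ * b) * y⁻¹ ∈ T := conj_mem_of_mem_normalizer hy hb
    have e : a⁻¹ * (y * b * y⁻¹) = (a⁻¹ * (y * a * y⁻¹)) * (y * (a⁻¹ * b) * y⁻¹) := by group
    rw [e]
    exact T.mul_mem hya h1
  have hxinv : a⁻¹ * (x⁻¹ * a * x⁻¹⁻¹) ∈ T := by
    have h1 : x⁻¹ * (a⁻¹ * (x * a * x⁻¹))⁻¹ * x⁻¹⁻¹ ∈ T :=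
      conj_mem_of_mem_normalizer (Subgroup.inv_mem _ hxT) (T.inv_mem ha)
    have e : x⁻¹ * (a⁻¹ * (x * a * x⁻¹))⁻¹ * x⁻¹⁻¹ = a⁻¹ * (x⁻¹ * a * x⁻¹⁻¹) := by group
    rwa [e] at h1
  let σ : Equiv.Perm S :=
    { toFun := fun b => ⟨x * b.1 * x⁻¹, hconj x hxT ha b.1 b.2⟩
      invFun := fun b => ⟨x⁻¹ * b.1 * x⁻¹⁻¹, hconj x⁻¹ (Subgroup.inv_mem _ hxT) hxinv b.1 b.2⟩
      left_inv := fun b => Subtype.ext (by
        show x⁻¹ * (x * b.1 * x⁻¹) * x⁻¹⁻¹ = b.1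
        group)
      right_inv := fun b => Subtype.ext (by
        show x * (x⁻¹ * b.1 * x⁻¹⁻¹) * x⁻¹ = b.1
        group) }
  have hσpow : ∀ (k : ℕ) (b : S), ((σ ^ k) b).1 = x ^ k * b.1 * (x ^ k)⁻¹ := by
    intro k
    induction k with
    | zero => intro b; simp
    | succ k ih =>
      intro b
      rw [pow_succ', Equiv.Perm.mul_apply]
      show x * ((σ ^ k) b).1 * x⁻¹ = _
      rw [ih b, pow_succ']
      group
  have hσr : σ ^ r ^ 1 = 1 := by
    rw [pow_one]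
    ext b
    rw [hσpow r b, ← hx, pow_orderOf_eq_one]
    simp
  -- the coset has `|T|` elements
  have hcard : Fintype.card S = Nat.card T := by
    rw [← Nat.card_eq_fintype_card]
    apply Nat.card_congr
    exact
      { toFun := fun b => ⟨a⁻¹ * b.1, b.2⟩
        invFun := fun t => ⟨a * t.1, by
          show a⁻¹ * (a * t.1) ∈ T
          rw [inv_mul_cancel_left]; exact t.2⟩
        left_inv := fun b => Subtype.ext (by simp)
        right_inv := fun t => Subtype.ext (by simp) }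
  obtain ⟨b, hb⟩ := Equiv.Perm.exists_fixed_point_of_prime (p := r) (n := 1)
    (by rw [hcard]; exact hrT) hσr
  refine ⟨b.1, b.2, ?_⟩
  have h1 : x * b.1 * x⁻¹ = b.1 := congrArg Subtype.val hb
  calc x * b.1 = (x * b.1 * x⁻¹) * x := by group
    _ = b.1 * x := by rw [h1]

/-- `Q = C_Q(x) T` when `x` (of prime order not dividing `|T|`) acts trivially on `Q / T`. -/
theorem exists_fixed_mul_of_forall_comm_mem {r : ℕ} (hr : r.Prime) {x : G} (hx : orderOf x = r)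
    (Q T : Subgroup G) (hTQ : T ≤ Q) (hxT : x ∈ Subgroup.normalizer (T : Set G))
    (hrT : ¬ r ∣ Nat.card T) (h : ∀ a ∈ Q, a⁻¹ * (x * a * x⁻¹) ∈ T) :
    ∀ a ∈ Q, ∃ b ∈ Q ⊓ Subgroup.centralizer ({x} : Set G), a⁻¹ * b ∈ T := by
  intro a ha
  obtain ⟨b, hb, hxb⟩ := exists_fixed_in_coset hr hx T hxT hrT a (h a ha)
  refine ⟨b, Subgroup.mem_inf.mpr ⟨?_, ?_⟩, hb⟩
  · have : b = a * (a⁻¹ * b) := by group
    rw [this]
    exact Q.mul_mem ha (hTQ hb)
  · refine Subgroup.mem_centralizer_iff.mpr ?_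
    intro y hy
    rw [Set.mem_singleton_iff] at hy
    subst hy
    exact hxb

/-- `a⁻¹ (x a x⁻¹) ∈ ⁅Q, ⟨x⟩⁆`. -/
theorem inv_mul_conj_mem_commutator_zpowers {Q : Subgroup G} {a x : G} (ha : a ∈ Q) :
    a⁻¹ * (x * a * x⁻¹) ∈ ⁅Q, Subgroup.zpowers x⁆ := by
  have e : a⁻¹ * (x * a * x⁻¹) = ⁅a⁻¹, x⁆ := by rw [commutatorElement_def]; group
  rw [e]
  exact Subgroup.commutator_mem_commutator (Q.inv_mem ha) (Subgroup.mem_zpowers x)

/-- If `x` of prime order `r ∤ |Q|` normalizes `Q` and `C_Q(x) = 1` then `Q = ⁅Q, ⟨x⟩⁆`. -/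
theorem eq_commutator_zpowers_of_fixed_eq_bot {r : ℕ} (hr : r.Prime) {x : G} (hx : orderOf x = r)
    (Q : Subgroup G) (hxQ : x ∈ Subgroup.normalizer (Q : Set G)) (hrQ : ¬ r ∣ Nat.card Q)
    (hfix : Q ⊓ Subgroup.centralizer ({x} : Set G) = ⊥) : ⁅Q, Subgroup.zpowers x⁆ = Q := by
  have hle : ⁅Q, Subgroup.zpowers x⁆ ≤ Q :=
    commutator_le_left_of_le_normalizer (zpowers_le_normalizer hxQ)
  apply le_antisymm hle
  intro a ha
  have hxT : x ∈ Subgroup.normalizer ((⁅Q, Subgroup.zpowers x⁆ : Subgroup G) : Set G) :=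
    le_normalizer_commutator_right Q (Subgroup.zpowers x) (Subgroup.mem_zpowers x)
  have hrT : ¬ r ∣ Nat.card ↥⁅Q, Subgroup.zpowers x⁆ := fun hd =>
    hrQ (hd.trans (Subgroup.card_dvd_of_le hle))
  obtain ⟨b, hb, hab⟩ := exists_fixed_mul_of_forall_comm_mem hr hx Q _ hle hxT hrT
    (fun a ha => inv_mul_conj_mem_commutator_zpowers ha) a ha
  rw [hfix, Subgroup.mem_bot] at hb
  rw [hb, mul_one] at hab
  have := Subgroup.inv_mem _ hab
  rwa [inv_inv] at this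

/-- **`H = C_H(R) ⁅H, R⁆`** for a coprime action (with `H` or `R` solvable). -/
theorem exists_fixed_mul_commutator (H R : Subgroup G)
    (hRH : R ≤ Subgroup.normalizer (H : Set G)) (hcop : (Nat.card H).Coprime (Nat.card R))
    (hsolv : Group.IsSolvable R ∨ Group.IsSolvable H) :
    ∀ h ∈ H, ∃ c ∈ H ⊓ Subgroup.centralizer (R : Set G), c⁻¹ * h ∈ ⁅H, R⁆ := by
  intro h hh
  set K := ⁅H, R⁆ with hK
  have hKH : K ≤ H := commutator_le_left_of_le_normalizer hRH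
  have hRK : R ≤ Subgroup.normalizer (K : Set G) := le_normalizer_commutator_right H R
  have hHK : H ≤ Subgroup.normalizer (K : Set G) := le_normalizer_commutator_left H R
  have hcopK : (Nat.card K).Coprime (Nat.card R) :=
    Nat.Coprime.coprime_dvd_left (Subgroup.card_dvd_of_le hKH) hcop
  have hdisj : K ⊓ R = ⊥ := inf_eq_bot_of_coprime' hcopK
  have hHR : H ⊓ R = ⊥ := inf_eq_bot_of_coprime' hcop
  -- `B = h⁻¹ R h ≤ K R`
  have hB : MulAut.conj h⁻¹ • R ≤ K ⊔ R := by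
    intro y hy
    rw [Cfsg.Agent.Lib.Helper54.mem_conj_smul_iff] at hy
    -- `y = h⁻¹ ρ h` with `ρ = h y h⁻¹ ∈ R`
    simp only [inv_inv] at hy
    set ρ := h * y * h⁻¹ with hρ
    have e : y = ⁅h⁻¹, ρ⁆ * ρ := by rw [hρ, commutatorElement_def]; group
    rw [e]
    exact Subgroup.mul_mem _
      (Subgroup.mem_sup_left (Subgroup.commutator_mem_commutator (H.inv_mem hh) hy))
      (Subgroup.mem_sup_right hy)
  have hML : K ⊔ R ≤ Subgroup.normalizer (K : Set G) := sup_le Subgroup.le_normalizer hRK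
  have hcard : Nat.card K * Nat.card R = Nat.card ↥(K ⊔ R) :=
    (Cfsg.Agent.Lib.Helper54.card_sup_of_le_normalizer hRK hdisj).symm
  have hsolv' : Group.IsSolvable R ∨ Group.IsSolvable K :=
    hsolv.imp id (Cfsg.Agent.Lib.Helper54.isSolvable_of_le hKH)
  obtain ⟨l, hl, hlconj⟩ := Cfsg.Agent.Lib.Helper54.sz_conj_rel (K ⊔ R) K R (MulAut.conj h⁻¹ • R)
    le_sup_left hML le_sup_right hB hcard (Cfsg.Agent.Lib.Helper54.card_conj_smul _ _) hcopK hsolv'
  -- `h l` normalizes `R`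
  have hnorm : MulAut.conj (h * l) • R = R := by
    rw [map_mul, mul_smul, hlconj, ← mul_smul, ← map_mul, mul_inv_cancel, map_one, one_smul]
  have hhl : h * l ∈ H := H.mul_mem hh (hKH hl)
  have hcent : h * l ∈ Subgroup.centralizer (R : Set G) := by
    rw [Subgroup.mem_centralizer_iff]
    intro ρ hρ
    -- `⁅h l, ρ⁆ ∈ H ⊓ R`
    have h1 : (h * l) * ρ * (h * l)⁻¹ ∈ R := by
      rw [← hnorm]
      exact Cfsg.Agent.Lib.Helper54.conj_mem_conj_smul hρ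
    have h2 : (h * l) * ρ * (h * l)⁻¹ * ρ⁻¹ ∈ R := R.mul_mem h1 (R.inv_mem hρ)
    have h3 : (h * l) * ρ * (h * l)⁻¹ * ρ⁻¹ ∈ H := by
      have h4 : ρ * (h * l)⁻¹ * ρ⁻¹ ∈ H := conj_mem_of_mem_normalizer (hRH hρ) (H.inv_mem hhl)
      have e : (h * l) * ρ * (h * l)⁻¹ * ρ⁻¹ = (h * l) * (ρ * (h * l)⁻¹ * ρ⁻¹) := by group
      rw [e]
      exact H.mul_mem hhl h4
    have h5 : (h * l) * ρ * (h * l)⁻¹ * ρ⁻¹ ∈ H ⊓ R := ⟨h3, h2⟩
    rw [hHR, Subgroup.mem_bot] at h5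
    calc ρ * (h * l) = ((h * l) * ρ * (h * l)⁻¹ * ρ⁻¹)⁻¹ * ((h * l) * ρ) := by group
      _ = (h * l) * ρ := by rw [h5, inv_one, one_mul]
  refine ⟨h * l, Subgroup.mem_inf.mpr ⟨hhl, hcent⟩, ?_⟩
  have e : (h * l)⁻¹ * h = l⁻¹ := by group
  rw [e]
  exact K.inv_mem hl

/-- **`⁅⁅H, R⁆, R⁆ = ⁅H, R⁆`** for a coprime action. -/
theorem commutator_commutator_eq_of_coprime (H R : Subgroup G)
    (hRH : R ≤ Subgroup.normalizer (H : Set G)) (hcop : (Nat.card H).Coprime (Nat.card R))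
    (hsolv : Group.IsSolvable R ∨ Group.IsSolvable H) : ⁅⁅H, R⁆, R⁆ = ⁅H, R⁆ := by
  set K := ⁅H, R⁆ with hK
  have hRK : R ≤ Subgroup.normalizer (K : Set G) := le_normalizer_commutator_right H R
  have hHK : H ≤ Subgroup.normalizer (K : Set G) := le_normalizer_commutator_left H R
  apply le_antisymm (commutator_le_left_of_le_normalizer hRK)
  rw [hK, Subgroup.commutator_le]
  intro h hh ρ hρ
  obtain ⟨c, hc, hck⟩ := exists_fixed_mul_commutator H R hRH hcop hsolv h hh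
  have hcH : c ∈ H := (Subgroup.mem_inf.mp hc).1
  have hcR : c ∈ Subgroup.centralizer (R : Set G) := (Subgroup.mem_inf.mp hc).2
  set k := c⁻¹ * h with hk
  have hh' : h = c * k := by rw [hk]; group
  have hcρ : c * ρ = ρ * c := (Subgroup.mem_centralizer_iff.mp hcR ρ hρ).symm
  -- `⁅c k, ρ⁆ = c ⁅k, ρ⁆ c⁻¹`
  have e : ⁅h, ρ⁆ = c * ⁅k, ρ⁆ * c⁻¹ * ⁅c, ρ⁆ := by
    rw [hh']
    simp only [commutatorElement_def]
    group
  have e2 : ⁅c, ρ⁆ = 1 := commutatorElement_eq_one_iff_mul_comm.mpr hcρ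
  rw [e, e2, mul_one]
  have hcN : c ∈ Subgroup.normalizer (K : Set G) ⊓ Subgroup.normalizer (R : Set G) :=
    ⟨hHK hcH, Subgroup.centralizer_le_normalizer (R : Set G) hcR⟩
  exact conj_mem_of_mem_normalizer (normalizer_inf_le_normalizer_commutator K R hcN)
    (Subgroup.commutator_mem_commutator hck hρ)

end Cfsg.Agent.Lib.Helper9
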