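import Mathlib
import Cfsg.Prelude.Def_Transfer
import Cfsg.Agent.Lib.Helper2.FusionComplement
import Cfsg.Agent.Lib.Helper2.Burnside
import Cfsg.Agent.Lib.Helper24.OddSolvableStructure
import Cfsg.Agent.S0081

/-!
Lemmas about normal `p`-complements: lifting from normal subgroups of `p`-power index, from
quotients by central subgroups of order `p` or by normal subgroups inside `Φ(P)` (Tate), the
focal-subgroup criterion, fusion control in `p`-nilpotent groups, and the action of `p'`-elements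
on cyclic `p`-subgroups for the smallest prime `p`.
-/

set_option autoImplicit false

namespace Cfsg.Agent.Lib.Helper9

open Cfsg

variable {G : Type*} [Group G]

/-- If `K ⊴ G` has `p`-power index and a normal `p`-complement then so does `G`. -/
theorem hasNormalPComplement_of_normal_of_isPGroup_quotient [Finite G] {p : ℕ} [Fact p.Prime]
    (K : Subgroup G) [K.Normal] (hK : IsPGroup p (G ⧸ K)) (h : HasNormalPComplement p K) :
    HasNormalPComplement p G := by
  rw [Cfsg.Agent.Lib.Helper34.hasNormalPComplement_iff_pResidual_coprime] at h ⊢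
  rw [Cfsg.Agent.Lib.Helper2.pResidual_eq_map_of_isPGroup_quotient K hK]
  rwa [Subgroup.card_map_of_injective K.subtype_injective]

/-- A normal `p`-complement as a normal subgroup of order prime to `p` and `p`-power index. -/
theorem exists_normal_coprime_of_hasNormalPComplement [Finite G] {p : ℕ} [hp : Fact p.Prime]
    (h : HasNormalPComplement p G) :
    ∃ K : Subgroup G, K.Normal ∧ (Nat.card K).Coprime p ∧ ∃ k : ℕ, K.index = p ^ k := by
  obtain ⟨P, K, hKn, hK⟩ := h
  refine ⟨K, hKn, Cfsg.Agent.Lib.Helper34.card_coprime_of_isComplement' P K hK, ?_⟩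
  obtain ⟨k, hk⟩ := IsPGroup.iff_card.mp P.isPGroup'
  exact ⟨k, by rw [hK.symm.index_eq_card, hk]⟩

/-- In a group with a normal `p`-complement, a Sylow `p`-subgroup controls its own fusion. -/
theorem controlsOwnFusion_of_hasNormalPComplement [Finite G] {p : ℕ} [hp : Fact p.Prime]
    (h : HasNormalPComplement p G) (P : Sylow p G) :
    Cfsg.Agent.Lib.Helper2.ControlsOwnFusion (P : Subgroup G) := by
  obtain ⟨K, hKn, hK⟩ := Cfsg.Agent.Lib.Helper2.exists_normal_complement_of_hasNormalPComplement h P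
  intro x hx g hgx
  -- write g = k * u with k ∈ K, u ∈ P
  obtain ⟨⟨⟨k, hk⟩, ⟨u, hu⟩⟩, hku⟩ := hK.existsUnique g |>.exists
  simp only at hku
  refine ⟨u, hu, ?_⟩
  set b := u * x * u⁻¹ with hb
  have hbP : b ∈ (P : Subgroup G) :=
    Subgroup.mul_mem _ (Subgroup.mul_mem _ hu hx) (Subgroup.inv_mem _ hu)
  have hg : g * x * g⁻¹ = k * b * k⁻¹ := by
    rw [← hku, hb]; group
  rw [hg] at hgx ⊢
  -- k b k⁻¹ b⁻¹ ∈ K ∩ P = 1
  have h1 : k * b * k⁻¹ * b⁻¹ ∈ K := by
    have : k * b * k⁻¹ * b⁻¹ = k * (b * k⁻¹ * b⁻¹) := by group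
    rw [this]
    exact Subgroup.mul_mem _ hk (hKn.conj_mem _ (Subgroup.inv_mem _ hk) b)
  have h2 : k * b * k⁻¹ * b⁻¹ ∈ (P : Subgroup G) :=
    Subgroup.mul_mem _ hgx (Subgroup.inv_mem _ hbP)
  have h3 : k * b * k⁻¹ * b⁻¹ ∈ K ⊓ (P : Subgroup G) := ⟨h1, h2⟩
  rw [hK.isCompl.inf_eq_bot, Subgroup.mem_bot] at h3
  calc k * b * k⁻¹ = (k * b * k⁻¹ * b⁻¹) * b := by group
    _ = b := by rw [h3, one_mul]

/-- For the smallest prime `p`, a `p'`-element normalizing a cyclic `p`-subgroup centralizes it. -/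
theorem mem_centralizer_of_mem_normalizer_cyclic [Finite G] {p : ℕ} [hp : Fact p.Prime]
    (hmin : ∀ q : ℕ, q.Prime → q ∣ Nat.card G → p ≤ q) (A : Subgroup G) (hA : IsCyclic A)
    (hAp : IsPGroup p A) (g : G) (hg : g ∈ Subgroup.normalizer (A : Set G))
    (hcop : (orderOf g).Coprime p) : g ∈ Subgroup.centralizer (A : Set G) := by
  set α : MulAut A := A.normalizerMonoidHom ⟨g, hg⟩ with hα
  have h1 : orderOf α ∣ orderOf g := by
    have : orderOf α ∣ orderOf (⟨g, hg⟩ : Subgroup.normalizer (A : Set G)) :=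
      orderOf_map_dvd _ _
    rwa [Subgroup.orderOf_mk] at this
  have h2 : orderOf α ∣ Nat.card (MulAut A) := orderOf_dvd_natCard α
  obtain ⟨m, hm⟩ := IsPGroup.iff_card.mp hAp
  have hα1 : orderOf α = 1 := by
    by_contra hne
    obtain ⟨q, hq, hqα⟩ := Nat.exists_prime_and_dvd hne
    have hqg : q ∣ orderOf g := hqα.trans h1
    have hqG : q ∣ Nat.card G := hqg.trans (orderOf_dvd_natCard g)
    have hpq : p ≤ q := hmin q hq hqG
    have hqp : q ≠ p := by
      rintro rfl
      have := Nat.Coprime.eq_one_of_dvd hcop.symm hqg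
      exact hq.ne_one this
    have hqaut : q ∣ Nat.card (MulAut A) := hqα.trans h2
    rw [hA.card_mulAut, hm] at hqaut
    rcases Nat.eq_zero_or_pos m with h0 | h0
    · rw [h0, pow_zero, Nat.totient_one] at hqaut
      exact hq.ne_one (Nat.dvd_one.mp hqaut)
    · rw [Nat.totient_prime_pow hp.out h0] at hqaut
      rcases (Nat.Prime.dvd_mul hq).mp hqaut with h | h
      · exact hqp ((Nat.prime_dvd_prime_iff_eq hq hp.out).mp (hq.dvd_of_dvd_pow h))
      · have : q ≤ p - 1 := Nat.le_of_dvd (Nat.sub_pos_of_lt hp.out.one_lt) h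
        have := hp.out.one_lt
        omega
  have hα' : α = 1 := orderOf_eq_one_iff.mp hα1
  have hker : (⟨g, hg⟩ : Subgroup.normalizer (A : Set G)) ∈ A.normalizerMonoidHom.ker := by
    rw [MonoidHom.mem_ker]; exact hα'
  rw [Subgroup.normalizerMonoidHom_ker] at hker
  exact Subgroup.mem_subgroupOf.mp hker

end Cfsg.Agent.Lib.Helper9
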