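import Mathlib
import Cfsg.Agent.Lib.Helper24.PFCycDefs
import Cfsg.Agent.Lib.Helper4.PFTypes
import Cfsg.Agent.Lib.Helper4.PFNineA
import Cfsg.Agent.Lib.Helper81.IrrTwist

/-!
# PF sections 10-13 bookkeeping, module [MU-GAL] (helper9, for helper24)

`σ ∘ μ_ω = μ_{σ ∘ ω}` and `δ_{σ ∘ ω} = δ_ω` for a field automorphism `σ` of `ℂ`.
-/

set_option autoImplicit false

namespace Cfsg.Agent.Lib.Helper9.PFCyc

open Cfsg Cfsg.Agent.Lib.Helper4.PF Cfsg.Agent.Lib.Helper4.PF9 Cfsg.Agent.Lib.Helper24.PFCyc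

universe u

variable {G : Type u} [Group G] [Finite G] {M W₁ U W₂ : Subgroup G} [Fintype M]

variable {mu : WChar W₁ W₂ → (↥M → ℂ)} {dl : WChar W₁ W₂ → ℂ}

omit [Finite G] in
/-- Two linear characters of `W = W₁ ⊔ W₂` that agree outside `W₂` are equal (`W₁ ≠ 1`,
`W₁ ∩ W₂ = 1`). -/
theorem wchar_ext_of_eq_off_W₂ (hW : IsSelfNormalizingCyclic W₁ W₂) (ω ω' : WChar W₁ W₂)
    (h : ∀ w : ↥(W₁ ⊔ W₂), (w : G) ∉ W₂ → ω w = ω' w) : ω = ω' := by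
  obtain ⟨hW₁, -, hinf, -, -, -⟩ := hW
  obtain ⟨w₁, hw₁1⟩ := (Subgroup.ne_bot_iff_exists_ne_one.mp hW₁)
  have hw₁' : (w₁ : G) ∈ W₁ := w₁.2
  have hw₁ne : (w₁ : G) ≠ 1 := fun h1 => hw₁1 (Subtype.ext h1)
  have hw₁W₂ : (w₁ : G) ∉ W₂ := by
    intro h2
    have : (w₁ : G) ∈ W₁ ⊓ W₂ := ⟨hw₁', h2⟩
    rw [hinf, Subgroup.mem_bot] at this
    exact hw₁ne this
  set a : ↥(W₁ ⊔ W₂) := ⟨(w₁ : G), Subgroup.mem_sup_left hw₁'⟩ with ha
  apply MonoidHom.ext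
  intro w
  by_cases hw : (w : G) ∈ W₂
  · have h1 : ((a * w : ↥(W₁ ⊔ W₂)) : G) ∉ W₂ := by
      intro h2
      apply hw₁W₂
      have : (w₁ : G) = ((a * w : ↥(W₁ ⊔ W₂)) : G) * (w : G)⁻¹ := by
        simp [ha]
      rw [this]
      exact W₂.mul_mem h2 (W₂.inv_mem hw)
    have h2 : ((a⁻¹ : ↥(W₁ ⊔ W₂)) : G) ∉ W₂ := by
      intro h3
      apply hw₁W₂
      have : (w₁ : G) = ((a⁻¹ : ↥(W₁ ⊔ W₂)) : G)⁻¹ := by simp [ha]
      rw [this]
      exact W₂.inv_mem h3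
    have e : w = a⁻¹ * (a * w) := by group
    calc ω w = ω (a⁻¹ * (a * w)) := by rw [← e]
      _ = ω a⁻¹ * ω (a * w) := map_mul _ _ _
      _ = ω' a⁻¹ * ω' (a * w) := by rw [h _ h1, h _ h2]
      _ = ω' (a⁻¹ * (a * w)) := (map_mul _ _ _).symm
      _ = ω' w := by rw [← e]
  · exact h w hw

/-- MODULE [MU-GAL] -/
theorem mu_galChar (hP : IsTypePWith M W₁ U W₂) (hodd : Odd (Nat.card M))
    (md : MuData M W₁ W₂ mu dl) (σ : ℂ ≃+* ℂ) (ω : WChar W₁ W₂) :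
    mu (galChar σ ω) = (fun m => σ (mu ω m)) ∧ dl (galChar σ ω) = dl ω := by
  have hW := hP.selfNormalizing
  obtain ⟨hW₁, -, hinf, -, -, -⟩ := hW
  have hW₁M : W₁ ≤ M := W₁_le hP
  have hW₂M : W₂ ≤ M := (W₂_le_H hP).trans (fittingHallOf_le M)
  have hWM : W₁ ⊔ W₂ ≤ M := sup_le hW₁M hW₂M
  -- a nontrivial element of `W₁`
  obtain ⟨w₁, hw₁1⟩ := (Subgroup.ne_bot_iff_exists_ne_one.mp hW₁)
  have hw₁' : (w₁ : G) ∈ W₁ := w₁.2
  have hw₁ne : (w₁ : G) ≠ 1 := fun h1 => hw₁1 (Subtype.ext h1)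
  have hnotW₂ : ∀ x : G, x ∈ W₁ → x ≠ 1 → x ∉ W₂ := by
    intro x hx hx1 h2
    have : x ∈ W₁ ⊓ W₂ := ⟨hx, h2⟩
    rw [hinf, Subgroup.mem_bot] at this
    exact hx1 this
  -- signs
  have hσsign : ∀ ω' : WChar W₁ W₂, σ (dl ω') = dl ω' := by
    intro ω'
    rcases md.sign ω' with h | h
    · rw [h, map_one]
    · rw [h, map_neg, map_one]
  have hdlne : ∀ ω' : WChar W₁ W₂, dl ω' ≠ 0 := by
    intro ω'
    rcases md.sign ω' with h | h <;> rw [h] <;> norm_num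
  -- the twisted character
  set θ : ↥M → ℂ := fun m => σ (mu ω m) with hθ
  have hθirr : IsIrrCharacter ↥M θ :=
    Cfsg.Agent.Lib.Helper81.isIrrCharacter_galois (md.irr ω) σ
  have hθval : ∀ (m : ↥M) (hm : (m : G) ∈ W₁ ⊔ W₂), (m : G) ∉ W₂ →
      θ m = dl ω * ((galChar σ ω ⟨(m : G), hm⟩ : ℂˣ) : ℂ) := by
    intro m hm hm2
    rw [hθ]
    show σ (mu ω m) = _
    rw [md.val ω m hm hm2, map_mul, hσsign ω, galChar_apply]
  have hex : ∃ ω', θ = mu ω' := by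
    by_contra hne
    have hne : ∀ ω', θ ≠ mu ω' := fun ω' h' => hne ⟨ω', h'⟩
    set m₁ : ↥M := ⟨(w₁ : G), hW₁M hw₁'⟩ with hm₁
    have hm₁W : ((m₁ : ↥M) : G) ∈ W₁ ⊔ W₂ := Subgroup.mem_sup_left hw₁'
    have h0 := md.vanish θ hθirr hne m₁ hm₁W (hnotW₂ _ hw₁' hw₁ne)
    rw [hθval m₁ hm₁W (hnotW₂ _ hw₁' hw₁ne)] at h0
    rcases mul_eq_zero.mp h0 with h1 | h1
    · exact hdlne ω h1
    · exact (Units.ne_zero _) h1
  obtain ⟨ω', hω'⟩ := hex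
  -- comparison of values off `W₂`
  have hstar : ∀ w : ↥(W₁ ⊔ W₂), (w : G) ∉ W₂ →
      dl ω' * ((ω' w : ℂˣ) : ℂ) = dl ω * ((galChar σ ω w : ℂˣ) : ℂ) := by
    intro w hw
    set m : ↥M := ⟨(w : G), hWM w.2⟩ with hm
    have h1 := md.val ω' m w.2 hw
    have h2 := hθval m w.2 hw
    rw [hω'] at h2
    rw [← h1, h2]
  -- the signs agree
  have hdl : dl ω' = dl ω := by
    by_contra hne
    have hneg : dl ω' = - dl ω := by
      rcases md.sign ω' with h1 | h1 <;> rcases md.sign ω with h2 | h2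
      · exact absurd (h1.trans h2.symm) hne
      · rw [h1, h2]; norm_num
      · rw [h1, h2]
      · exact absurd (h1.trans h2.symm) hne
    have hval : ∀ w : ↥(W₁ ⊔ W₂), (w : G) ∉ W₂ →
        ((ω' w : ℂˣ) : ℂ) = - ((galChar σ ω w : ℂˣ) : ℂ) := by
      intro w hw
      have := hstar w hw
      rw [hneg] at this
      have h3 : dl ω * (-((ω' w : ℂˣ) : ℂ)) = dl ω * ((galChar σ ω w : ℂˣ) : ℂ) := by
        rw [← this]; ring
      have h4 := mul_left_cancel₀ (hdlne ω) h3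
      rw [← h4]; ring
    -- `w₁ ^ 2 ≠ 1`
    have hsq : (w₁ : G) ^ 2 ≠ 1 := by
      intro h2
      have hdvd : orderOf (w₁ : G) ∣ 2 := orderOf_dvd_of_pow_eq_one h2
      have hdvdM : orderOf (w₁ : G) ∣ Nat.card M := by
        have := orderOf_dvd_natCard (⟨(w₁ : G), hW₁M hw₁'⟩ : ↥M)
        rwa [← Subgroup.orderOf_coe] at this
      have hoddo : Odd (orderOf (w₁ : G)) := hodd.of_dvd_nat hdvdM
      have hle := Nat.le_of_dvd (by norm_num) hdvd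
      have h1 : orderOf (w₁ : G) = 1 := by
        rcases hoddo with ⟨k, hk⟩
        have hpos : 0 < orderOf (w₁ : G) := by
          rcases Nat.eq_zero_or_pos (orderOf (w₁ : G)) with h0 | h0
          · rw [h0] at hk; omega
          · exact h0
        interval_cases (orderOf (w₁ : G)) <;> omega
      exact hw₁ne (orderOf_eq_one_iff.mp h1)
    set a : ↥(W₁ ⊔ W₂) := ⟨(w₁ : G), Subgroup.mem_sup_left hw₁'⟩ with ha
    have ha1 : ((a : ↥(W₁ ⊔ W₂)) : G) ∉ W₂ := hnotW₂ _ hw₁' hw₁ne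
    have ha2 : ((a ^ 2 : ↥(W₁ ⊔ W₂)) : G) ∉ W₂ := by
      have : ((a ^ 2 : ↥(W₁ ⊔ W₂)) : G) = (w₁ : G) ^ 2 := by simp [ha]
      rw [this]
      exact hnotW₂ _ (W₁.pow_mem hw₁' 2) hsq
    have e1 := hval a ha1
    have e2 := hval (a ^ 2) ha2
    rw [map_pow, map_pow, Units.val_pow_eq_pow_val, Units.val_pow_eq_pow_val, e1] at e2
    have h5 : ((galChar σ ω a : ℂˣ) : ℂ) ^ 2 = 0 := by
      have : ((galChar σ ω a : ℂˣ) : ℂ) ^ 2 = -((galChar σ ω a : ℂˣ) : ℂ) ^ 2 := by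
        rw [← e2]; ring
      have h6 : (2 : ℂ) * ((galChar σ ω a : ℂˣ) : ℂ) ^ 2 = 0 := by linear_combination this
      rcases mul_eq_zero.mp h6 with h7 | h7
      · norm_num at h7
      · exact h7
    exact (Units.ne_zero _) (pow_eq_zero_iff (by norm_num) |>.mp h5)
  -- hence `ω' = galChar σ ω`
  have hωeq : ω' = galChar σ ω := by
    apply wchar_ext_of_eq_off_W₂ hP.selfNormalizing
    intro w hw
    apply Units.ext
    have := hstar w hw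
    rw [hdl] at this
    exact mul_left_cancel₀ (hdlne ω) this
  refine ⟨?_, ?_⟩
  · rw [← hωeq, ← hω']
  · rw [← hωeq, hdl]

end Cfsg.Agent.Lib.Helper9.PFCyc
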