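import Mathlib
import Cfsg.Agent.Lib.Helper24.PFCycDefs
import Cfsg.Agent.Lib.Helper4.PFTypes
import Cfsg.Agent.Lib.Helper4.PFNineA
import Cfsg.Agent.Lib.Helper75.GaloisPow
import Cfsg.Agent.Lib.Helper9.PFCycMuGal

/-!
# PF sections 10-13 bookkeeping, module [MU-CONST] (helper9, for helper24)

If `W₂` has prime order, the sign `δ_ψ` and the degree `μ_ψ(1)` do not depend on the nonprincipal
character `ψ` of `W/W₁`.
-/

set_option autoImplicit false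

namespace Cfsg.Agent.Lib.Helper9.PFCyc

open Cfsg Cfsg.Agent.Lib.Helper4.PF Cfsg.Agent.Lib.Helper4.PF9 Cfsg.Agent.Lib.Helper24.PFCyc

universe u

variable {G : Type u} [Group G] [Finite G] {M W₁ U W₂ : Subgroup G} [Fintype M]

variable {mu : WChar W₁ W₂ → (↥M → ℂ)} {dl : WChar W₁ W₂ → ℂ}

omit [Finite G] in
/-- Two linear characters of `W = W₁ ⊔ W₂` that agree on `W₁` and on `W₂` are equal. -/
theorem wchar_ext_of_eq_on (ω ω' : WChar W₁ W₂)
    (h₁ : ∀ w : ↥(W₁ ⊔ W₂), (w : G) ∈ W₁ → ω w = ω' w)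
    (h₂ : ∀ w : ↥(W₁ ⊔ W₂), (w : G) ∈ W₂ → ω w = ω' w) : ω = ω' := by
  set E : Subgroup ↥(W₁ ⊔ W₂) := MonoidHom.eqLocus ω ω' with hE
  have hle : W₁ ⊔ W₂ ≤ E.map (W₁ ⊔ W₂).subtype := by
    apply sup_le
    · intro x hx
      exact ⟨⟨x, Subgroup.mem_sup_left hx⟩, h₁ _ hx, rfl⟩
    · intro x hx
      exact ⟨⟨x, Subgroup.mem_sup_right hx⟩, h₂ _ hx, rfl⟩
  apply MonoidHom.ext
  intro w
  obtain ⟨w', hw', hww'⟩ := hle w.2
  have : w' = w := Subtype.ext hww'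
  rw [← this]
  exact hw'

/-- MODULE [MU-CONST] -/
theorem mu_const (hP : IsTypePWith M W₁ U W₂) (hodd : Odd (Nat.card M))
    (md : MuData M W₁ W₂ mu dl) (hp : (Nat.card W₂).Prime)
    (ψ ψ' : WChar W₁ W₂) (hψ : TrivOn W₁ ψ) (hψ' : TrivOn W₁ ψ') (hψ1 : ψ ≠ 1) (hψ'1 : ψ' ≠ 1) :
    dl ψ = dl ψ' ∧ mu ψ 1 = mu ψ' 1 := by
  obtain ⟨-, hW₂, -, -, -, -⟩ := hP.selfNormalizing
  set p := Nat.card W₂ with hpdef
  have : NeZero p := ⟨hp.ne_zero⟩
  -- a generator of `W₂`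
  obtain ⟨w₂, hw₂1⟩ := (Subgroup.ne_bot_iff_exists_ne_one.mp hW₂)
  have hw₂' : (w₂ : G) ∈ W₂ := w₂.2
  have hw₂ne : (w₂ : G) ≠ 1 := fun h1 => hw₂1 (Subtype.ext h1)
  have hW₂z : W₂ = Subgroup.zpowers (w₂ : G) := by
    -- `W₂` has prime order
    have hfin : Finite W₂ := Nat.finite_of_card_ne_zero (by rw [← hpdef]; exact hp.ne_zero)
    have hord : orderOf (w₂ : G) = p := by
      have h1 : orderOf (w₂ : G) ∣ p := by
        have := Subgroup.orderOf_dvd_natCard W₂ hw₂'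
        rwa [← hpdef] at this
      rcases (Nat.dvd_prime hp).mp h1 with h | h
      · exact absurd (orderOf_eq_one_iff.mp h) hw₂ne
      · exact h
    symm
    apply Subgroup.eq_of_le_of_card_ge
    · rw [Subgroup.zpowers_le]; exact hw₂'
    · rw [Nat.card_zpowers, hord]
  set b : ↥(W₁ ⊔ W₂) := ⟨(w₂ : G), Subgroup.mem_sup_right hw₂'⟩ with hb
  have hbpow : b ^ p = 1 := by
    apply Subtype.ext
    have : ((b ^ p : ↥(W₁ ⊔ W₂)) : G) = (w₂ : G) ^ p := by simp [hb]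
    rw [this]
    have h1 : w₂ ^ p = 1 := by rw [hpdef]; exact pow_card_eq_one'
    have := congrArg Subtype.val h1
    simpa using this
  have hmemz : ∀ w : ↥(W₁ ⊔ W₂), (w : G) ∈ W₂ → w ∈ Subgroup.zpowers b := by
    intro w hw
    have hw' : (w : G) ∈ Subgroup.zpowers (w₂ : G) := hW₂z ▸ hw
    obtain ⟨j, hj⟩ := Subgroup.mem_zpowers_iff.mp hw'
    rw [Subgroup.mem_zpowers_iff]
    refine ⟨j, ?_⟩
    apply Subtype.ext
    rw [← hj]
    simp [hb]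
  -- a character trivial on `W₁` and at `b` is trivial
  have htriv : ∀ χ : WChar W₁ W₂, TrivOn W₁ χ → χ b = 1 → χ = 1 := by
    intro χ hχ hχb
    apply wchar_ext_of_eq_on
    · intro w hw
      rw [hχ w hw]; rfl
    · intro w hw
      obtain ⟨j, hj⟩ := Subgroup.mem_zpowers_iff.mp (hmemz w hw)
      rw [← hj, map_zpow, hχb, one_zpow]; rfl
  -- the roots of unity
  set ζ : ℂ := ((ψ b : ℂˣ) : ℂ) with hζ
  set ξ : ℂ := ((ψ' b : ℂˣ) : ℂ) with hξ
  have hζp : ζ ^ p = 1 := by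
    rw [hζ, ← Units.val_pow_eq_pow_val, ← map_pow, hbpow, map_one]; rfl
  have hξp : ξ ^ p = 1 := by
    rw [hξ, ← Units.val_pow_eq_pow_val, ← map_pow, hbpow, map_one]; rfl
  have hζ1 : ζ ≠ 1 := by
    intro h1
    apply hψ1
    apply htriv ψ hψ
    apply Units.ext
    rw [← hζ, h1]; rfl
  have hξ1 : ξ ≠ 1 := by
    intro h1
    apply hψ'1
    apply htriv ψ' hψ'
    apply Units.ext
    rw [← hξ, h1]; rfl
  have hprim : IsPrimitiveRoot ζ p := by
    rw [IsPrimitiveRoot.iff_orderOf]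
    have h1 : orderOf ζ ∣ p := orderOf_dvd_of_pow_eq_one hζp
    rcases (Nat.dvd_prime hp).mp h1 with h | h
    · exact absurd (orderOf_eq_one_iff.mp h) hζ1
    · exact h
  obtain ⟨k, hkp, hk⟩ := hprim.eq_pow_of_pow_eq_one hξp
  have hk0 : k ≠ 0 := by
    intro h0
    rw [h0, pow_zero] at hk
    exact hξ1 hk.symm
  have hcop : k.Coprime p := by
    rw [Nat.coprime_comm]
    apply (Nat.Prime.coprime_iff_not_dvd hp).mpr
    intro hdvd
    have := Nat.le_of_dvd (Nat.pos_of_ne_zero hk0) hdvd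
    omega
  obtain ⟨σ, hσ⟩ := Cfsg.Agent.Lib.Helper75.exists_ringEquiv_pow p hp.pos k hcop
  -- `σ ∘ ψ = ψ'`
  have hgal : galChar σ ψ = ψ' := by
    apply wchar_ext_of_eq_on
    · intro w hw
      rw [(hψ.galChar σ) w hw, hψ' w hw]
    · intro w hw
      have hE : Subgroup.zpowers b ≤ MonoidHom.eqLocus (galChar σ ψ) ψ' := by
        rw [Subgroup.zpowers_le]
        show galChar σ ψ b = ψ' b
        apply Units.ext
        rw [galChar_apply, ← hζ, ← hξ, hσ ζ hζp, hk]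
      exact hE (hmemz w hw)
  have hmg := mu_galChar hP hodd md σ ψ
  rw [hgal] at hmg
  obtain ⟨hmu, hdl⟩ := hmg
  refine ⟨hdl.symm, ?_⟩
  obtain ⟨n, ρ, -, hρ⟩ := md.irr ψ
  have h1 : mu ψ 1 = (Module.finrank ℂ (Fin n → ℂ) : ℂ) := by
    rw [← hρ, Representation.char_one]
  rw [hmu]
  show mu ψ 1 = σ (mu ψ 1)
  rw [h1, map_natCast]

end Cfsg.Agent.Lib.Helper9.PFCyc
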