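import Mathlib
import Cfsg.Prelude.Def_SolvableStructure

set_option autoImplicit false

namespace Cfsg.Agent.Lib.Helper9

universe u

/-- `SSChain N M`: `M` is reached from the normal subgroup `N` by a finite chain of normal
subgroups of `G`, each obtained from the previous one by adjoining one element. -/
inductive SSChain {G : Type u} [Group G] (N : Subgroup G) : Subgroup G → Prop
  | refl (hN : N.Normal) : SSChain N N
  | step {M : Subgroup G} (g : G) (h : SSChain N M)
      (hn : (M ⊔ Subgroup.zpowers g).Normal) : SSChain N (M ⊔ Subgroup.zpowers g)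

namespace SSChain

variable {G : Type u} [Group G]

theorem normal_left {N M : Subgroup G} (h : SSChain N M) : N.Normal := by
  induction h with
  | refl hN => exact hN
  | step g _ _ ih => exact ih

theorem normal_right {N M : Subgroup G} (h : SSChain N M) : M.Normal := by
  induction h with
  | refl hN => exact hN
  | step g _ hn _ => exact hn

theorem le {N M : Subgroup G} (h : SSChain N M) : N ≤ M := by
  induction h with
  | refl hN => exact le_rfl
  | step g _ _ ih => exact ih.trans le_sup_left

theorem trans {A B C : Subgroup G} (h1 : SSChain A B) (h2 : SSChain B C) : SSChain A C := by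
  induction h2 with
  | refl hN => exact h1
  | step g _ hn ih => exact SSChain.step g ih hn

/-- Push a chain forward along a homomorphism that preserves normality of the relevant images. -/
theorem map' {G' : Type*} [Group G'] (f : G →* G')
    (hf : ∀ X : Subgroup G, X.Normal → (X.map f).Normal) {N M : Subgroup G}
    (h : SSChain N M) : SSChain (N.map f) (M.map f) := by
  induction h with
  | refl hN => exact SSChain.refl (hf _ hN)
  | step g h hn ih =>
    have h1 := hf _ hn
    rw [Subgroup.map_sup, MonoidHom.map_zpowers] at h1 ⊢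
    exact SSChain.step (f g) ih h1

theorem map {G' : Type*} [Group G'] (f : G →* G') (hf : Function.Surjective f)
    {N M : Subgroup G} (h : SSChain N M) : SSChain (N.map f) (M.map f) :=
  map' f (fun _ hX => hX.map f hf) h

theorem comap {G' : Type*} [Group G'] (f : G' →* G) (hf : Function.Surjective f)
    {N M : Subgroup G} (h : SSChain N M) : SSChain (N.comap f) (M.comap f) := by
  induction h with
  | refl hN => exact SSChain.refl (hN.comap f)
  | step g h hn ih =>
    obtain ⟨g', rfl⟩ := hf g
    have h1 : (Subgroup.comap f (_ ⊔ Subgroup.zpowers (f g'))).Normal := hn.comap f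
    have key : ∀ M : Subgroup G, Subgroup.comap f (M ⊔ Subgroup.zpowers (f g')) =
        Subgroup.comap f M ⊔ Subgroup.zpowers g' := by
      intro M
      rw [← Subgroup.comap_sup_eq f _ _ hf, ← MonoidHom.map_zpowers, Subgroup.comap_map_eq]
      apply le_antisymm
      · apply sup_le le_sup_left
        apply sup_le le_sup_right
        exact le_trans (fun x hx => by
          rw [Subgroup.mem_comap, (MonoidHom.mem_ker).1 hx]; exact one_mem _) le_sup_left
      · exact sup_le le_sup_left (le_trans le_sup_left le_sup_right)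
    rw [key] at h1 ⊢
    exact SSChain.step g' ih h1

end SSChain

section chain_iff

variable {G : Type u} [Group G]

theorem ssChain_of_isSupersolvable (h : Cfsg.IsSupersolvable G) :
    SSChain (⊥ : Subgroup G) ⊤ := by
  obtain ⟨n, H, h0, hlast, hnorm, hstep⟩ := h
  have key : ∀ i : Fin (n + 1), SSChain (⊥ : Subgroup G) (H i) := by
    intro i
    induction i using Fin.induction with
    | zero => rw [h0]; exact SSChain.refl inferInstance
    | succ i ih =>
      obtain ⟨g, hg⟩ := hstep i
      have hn := hnorm i.succ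
      rw [hg] at hn ⊢
      exact SSChain.step g ih hn
  rw [← hlast]
  exact key _

theorem exists_fin_chain_of_ssChain {N M : Subgroup G} (h : SSChain N M) :
    ∃ (n : ℕ) (H : Fin (n + 1) → Subgroup G),
      H 0 = N ∧ H (Fin.last n) = M ∧ (∀ i, (H i).Normal) ∧
        ∀ i : Fin n, ∃ g : G, H i.succ = H i.castSucc ⊔ Subgroup.zpowers g := by
  induction h with
  | refl hN =>
    exact ⟨0, fun _ => N, rfl, rfl, fun _ => hN, fun i => i.elim0⟩
  | @step M g h hn ih =>
    obtain ⟨n, H, h0, hlast, hnorm, hstep⟩ := ih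
    refine ⟨n + 1, Fin.snoc H (M ⊔ Subgroup.zpowers g), ?_, ?_, ?_, ?_⟩
    · have : (0 : Fin (n + 2)) = Fin.castSucc (0 : Fin (n + 1)) := rfl
      rw [this, Fin.snoc_castSucc]; exact h0
    · exact Fin.snoc_last _ _
    · intro i
      induction i using Fin.lastCases with
      | last => rw [Fin.snoc_last]; exact hn
      | cast j => rw [Fin.snoc_castSucc]; exact hnorm j
    · intro i
      induction i using Fin.lastCases with
      | last =>
        refine ⟨g, ?_⟩
        rw [Fin.succ_last, Fin.snoc_last, Fin.snoc_castSucc, hlast]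
      | cast j =>
        obtain ⟨g', hg'⟩ := hstep j
        refine ⟨g', ?_⟩
        rw [Fin.snoc_castSucc, ← Fin.castSucc_succ, Fin.snoc_castSucc, hg']

theorem isSupersolvable_iff_ssChain :
    Cfsg.IsSupersolvable G ↔ SSChain (⊥ : Subgroup G) ⊤ :=
  ⟨ssChain_of_isSupersolvable, fun h => exists_fin_chain_of_ssChain h⟩

end chain_iff

section closure

variable {G : Type u} [Group G]

/-- If `C ≤ M ⊔ ⟨g⟩` with `M` normal, then `C` is generated by `C ⊓ M` and one element. -/
theorem exists_eq_inf_sup_zpowers (M : Subgroup G) [M.Normal] (g : G) (C : Subgroup G)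
    (hC : C ≤ M ⊔ Subgroup.zpowers g) : ∃ c ∈ C, C = (C ⊓ M) ⊔ Subgroup.zpowers c := by
  have h1 : C.map (QuotientGroup.mk' M) ≤ Subgroup.zpowers (QuotientGroup.mk' M g) := by
    calc C.map (QuotientGroup.mk' M) ≤ (M ⊔ Subgroup.zpowers g).map (QuotientGroup.mk' M) :=
          Subgroup.map_mono hC
      _ = Subgroup.zpowers (QuotientGroup.mk' M g) := by
        rw [Subgroup.map_sup, MonoidHom.map_zpowers, QuotientGroup.map_mk'_self, bot_sup_eq]
  obtain ⟨n, hn⟩ := (Subgroup.le_zpowers_iff _ _).1 h1
  have h2 : (QuotientGroup.mk' M g) ^ n ∈ C.map (QuotientGroup.mk' M) := by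
    rw [hn]; exact Subgroup.mem_zpowers _
  obtain ⟨c, hcC, hc⟩ := h2
  refine ⟨c, hcC, le_antisymm ?_ (sup_le inf_le_left ((Subgroup.zpowers_le).2 hcC))⟩
  intro x hx
  have hx' : QuotientGroup.mk' M x ∈ Subgroup.zpowers ((QuotientGroup.mk' M g) ^ n) := by
    rw [← hn]; exact Subgroup.mem_map_of_mem _ hx
  rw [← hc] at hx'
  obtain ⟨k, hk⟩ := Subgroup.mem_zpowers_iff.1 hx'
  have hx2 : x = (x * (c ^ k)⁻¹) * c ^ k := by group
  rw [hx2]
  apply Subgroup.mul_mem_sup
  · refine ⟨C.mul_mem hx (C.inv_mem (C.zpow_mem hcC k)), ?_⟩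
    apply (QuotientGroup.eq_one_iff (N := M) _).1
    have h5 : QuotientGroup.mk' M (x * (c ^ k)⁻¹) = 1 := by
      rw [map_mul, map_inv, map_zpow, hk]
      exact mul_inv_cancel _
    exact h5
  · exact Subgroup.zpow_mem_zpowers c k

theorem SSChain.subgroupOf (K : Subgroup G) {N M : Subgroup G} (h : SSChain N M) :
    SSChain (N.subgroupOf K) (M.subgroupOf K) := by
  induction h with
  | refl hN => exact SSChain.refl (hN.subgroupOf K)
  | @step M g h hn ih =>
    have hM : M.Normal := h.normal_right
    obtain ⟨c, hc, hC⟩ :=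
      exists_eq_inf_sup_zpowers M g ((M ⊔ Subgroup.zpowers g) ⊓ K) inf_le_left
    have hcK : c ∈ K := hc.2
    have key : (M ⊔ Subgroup.zpowers g).subgroupOf K =
        M.subgroupOf K ⊔ Subgroup.zpowers (⟨c, hcK⟩ : K) := by
      apply Subgroup.map_injective K.subtype_injective
      rw [Subgroup.subgroupOf_map_subtype, Subgroup.map_sup, Subgroup.subgroupOf_map_subtype,
        MonoidHom.map_zpowers]
      have h3 : (M ⊔ Subgroup.zpowers g) ⊓ K ⊓ M = M ⊓ K := by
        rw [inf_right_comm, inf_eq_right.2 (le_sup_left : M ≤ M ⊔ Subgroup.zpowers g)]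
      rw [h3] at hC
      exact hC
    have hn' : ((M ⊔ Subgroup.zpowers g).subgroupOf K).Normal := hn.subgroupOf K
    rw [key] at hn' ⊢
    exact SSChain.step _ ih hn'

theorem isSupersolvable_subgroup (hG : Cfsg.IsSupersolvable G) (K : Subgroup G) :
    Cfsg.IsSupersolvable K := by
  rw [isSupersolvable_iff_ssChain] at hG ⊢
  have := hG.subgroupOf K
  simpa using this

theorem isSupersolvable_of_surjective {G' : Type*} [Group G'] (hG : Cfsg.IsSupersolvable G)
    (f : G →* G') (hf : Function.Surjective f) : Cfsg.IsSupersolvable G' := by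
  rw [isSupersolvable_iff_ssChain] at hG ⊢
  have := hG.map f hf
  rwa [Subgroup.map_bot, Subgroup.map_top_of_surjective f hf] at this

theorem isSupersolvable_quotient (hG : Cfsg.IsSupersolvable G) (N : Subgroup G) [N.Normal] :
    Cfsg.IsSupersolvable (G ⧸ N) :=
  isSupersolvable_of_surjective hG (QuotientGroup.mk' N) (QuotientGroup.mk'_surjective N)

theorem isSupersolvable_of_mulEquiv {G' : Type*} [Group G'] (hG : Cfsg.IsSupersolvable G)
    (e : G ≃* G') : Cfsg.IsSupersolvable G' :=
  isSupersolvable_of_surjective hG e.toMonoidHom e.surjective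

/-- Extension of a cyclic normal subgroup by a supersolvable group. -/
theorem isSupersolvable_of_quotient_cyclic (N : Subgroup G) [N.Normal] [IsCyclic N]
    (h : Cfsg.IsSupersolvable (G ⧸ N)) : Cfsg.IsSupersolvable G := by
  rw [isSupersolvable_iff_ssChain] at h ⊢
  have h1 := h.comap (QuotientGroup.mk' N) (QuotientGroup.mk'_surjective N)
  rw [MonoidHom.comap_bot, QuotientGroup.ker_mk', Subgroup.comap_top] at h1
  refine SSChain.trans ?_ h1
  obtain ⟨g, hg⟩ := (isCyclic_iff_exists_zpowers_eq_top (α := N)).1 inferInstance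
  have h2 : N = ⊥ ⊔ Subgroup.zpowers (g : G) := by
    rw [bot_sup_eq]
    have := congrArg (Subgroup.map N.subtype) hg
    rw [MonoidHom.map_zpowers, ← MonoidHom.range_eq_map, Subgroup.range_subtype] at this
    exact this.symm
  have h3 : SSChain (⊥ : Subgroup G) (⊥ ⊔ Subgroup.zpowers (g : G)) :=
    SSChain.step _ (SSChain.refl inferInstance) (by rw [← h2]; infer_instance)
  rwa [← h2] at h3

theorem map_inl_eq_prod_bot {H : Type*} [Group H] (X : Subgroup G) :
    X.map (MonoidHom.inl G H) = X.prod ⊥ := by
  ext ⟨a, b⟩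
  simp [Subgroup.mem_prod, Subgroup.mem_map, eq_comm]

theorem isSupersolvable_prod {H : Type*} [Group H] (hG : Cfsg.IsSupersolvable G)
    (hH : Cfsg.IsSupersolvable H) : Cfsg.IsSupersolvable (G × H) := by
  rw [isSupersolvable_iff_ssChain] at hG hH ⊢
  have h1 : SSChain ((⊥ : Subgroup G).map (MonoidHom.inl G H))
      ((⊤ : Subgroup G).map (MonoidHom.inl G H)) := by
    apply SSChain.map' _ _ hG
    intro X hX
    rw [map_inl_eq_prod_bot]
    have := hX
    infer_instance
  have h2 := hH.comap (MonoidHom.snd G H) (fun h => ⟨(1, h), rfl⟩)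
  rw [Subgroup.map_bot, map_inl_eq_prod_bot] at h1
  rw [Subgroup.comap_top, ← Subgroup.top_prod] at h2
  exact h1.trans h2

end closure

end Cfsg.Agent.Lib.Helper9
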