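import Mathlib
import Cfsg.Prelude.Def_SolvableStructure
import Cfsg.Agent.Lib.Helper9.SS

set_option autoImplicit false

namespace Cfsg.Agent.Lib.Helper9

universe u

theorem normal_of_le_center {G : Type*} [Group G] (N : Subgroup G)
    (h : N ≤ Subgroup.center G) : N.Normal := by
  constructor
  intro n hn g
  have h1 := Subgroup.mem_center_iff.1 (h hn) g
  rw [h1, mul_inv_cancel_right]
  exact hn

theorem isSupersolvable_of_subsingleton {G : Type*} [Group G] [Subsingleton G] :
    Cfsg.IsSupersolvable G := by
  rw [isSupersolvable_iff_ssChain]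
  have : (⊤ : Subgroup G) = ⊥ := Subsingleton.elim _ _
  rw [this]
  exact SSChain.refl inferInstance

theorem isSupersolvable_of_isCyclic {G : Type*} [Group G] [IsCyclic G] :
    Cfsg.IsSupersolvable G := by
  rw [isSupersolvable_iff_ssChain]
  obtain ⟨g, hg⟩ := (isCyclic_iff_exists_zpowers_eq_top (α := G)).1 inferInstance
  have h2 : (⊤ : Subgroup G) = ⊥ ⊔ Subgroup.zpowers g := by rw [bot_sup_eq, hg]
  rw [h2]
  exact SSChain.step _ (SSChain.refl inferInstance) (by rw [← h2]; infer_instance)

theorem isSupersolvable_of_isPGroup (p : ℕ) [Fact p.Prime] :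
    ∀ (n : ℕ) (G : Type u) [Group G] [Finite G], Nat.card G = n → IsPGroup p G →
      Cfsg.IsSupersolvable G := by
  intro n
  induction n using Nat.strong_induction_on with
  | _ n ih =>
    intro G _ _ hcard hG
    rcases subsingleton_or_nontrivial G with hs | hnt
    · exact isSupersolvable_of_subsingleton
    have hc : Nontrivial (Subgroup.center G) := hG.center_nontrivial
    have hcp : IsPGroup p (Subgroup.center G) := hG.to_subgroup _
    have hdvd : p ∣ Nat.card (Subgroup.center G) := by
      obtain ⟨k, hk0, hk⟩ := hcp.nontrivial_iff_card.mp hc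
      exact hk.symm ▸ dvd_pow_self _ (ne_of_gt hk0)
    obtain ⟨z, hz⟩ := exists_prime_orderOf_dvd_card' (G := Subgroup.center G) p hdvd
    have hNle : Subgroup.zpowers (z : G) ≤ Subgroup.center G :=
      (Subgroup.zpowers_le).2 z.2
    haveI hNn : (Subgroup.zpowers (z : G)).Normal := normal_of_le_center _ hNle
    have hNcard : Nat.card (Subgroup.zpowers (z : G)) = p := by
      rw [Nat.card_zpowers, Subgroup.orderOf_coe, hz]
    have hlt : Nat.card (G ⧸ Subgroup.zpowers (z : G)) < n := by
      rw [← hcard, Subgroup.card_eq_card_quotient_mul_card_subgroup (Subgroup.zpowers (z : G)),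
        hNcard]
      have hpos : 0 < Nat.card (G ⧸ Subgroup.zpowers (z : G)) := Nat.card_pos
      have := (Fact.out : p.Prime).one_lt
      nlinarith
    have hQ := ih _ hlt (G ⧸ Subgroup.zpowers (z : G)) rfl (hG.to_quotient _)
    exact isSupersolvable_of_quotient_cyclic _ hQ

/-- If `M` has prime index and `K` is not contained in `M` then `M ⊔ K = ⊤`. -/
theorem sup_eq_top_of_index_prime {G : Type*} [Group G] [Finite G] (M K : Subgroup G)
    (hM : M.index.Prime) (hK : ¬ K ≤ M) : M ⊔ K = ⊤ := by
  have h1 : (M ⊔ K).index ∣ M.index := Subgroup.index_dvd_of_le le_sup_left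
  rcases (Nat.dvd_prime hM).1 h1 with h2 | h2
  · exact Subgroup.index_eq_one.1 h2
  · exfalso
    apply hK
    have h3 : Nat.card (M ⊔ K : Subgroup G) = Nat.card M := by
      have h4 := Subgroup.index_mul_card (M ⊔ K)
      have h5 := Subgroup.index_mul_card M
      rw [h2, ← h5] at h4
      exact Nat.eq_of_mul_eq_mul_left hM.pos h4
    have h5 : M = M ⊔ K := Subgroup.eq_of_le_of_card_ge le_sup_left h3.le
    rw [h5]; exact le_sup_right

end Cfsg.Agent.Lib.Helper9
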