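/-
helper9: module BP-[L2-TR2] of project BP (helper92): transitivity of the relative trace in the `G`-algebra `R[G]`,
the trace of a fixed point, the trace from a normal subgroup of prime index as a sum over powers, conjugation of traces,
and the ideal `Tr_S^Q(A^S)` of `A^Q` (membership, two-sidedness).  The few facts of [L2-CONJ] / [L2-TR1] that are used
are proved here again (primed names), so that the file depends on the vocabulary only.
-/
import Cfsg.Agent.Lib.Helper92.BPGAlg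

set_option autoImplicit false
set_option linter.style.haveILetI false
set_option linter.unusedVariables false

namespace Cfsg.Agent.Lib.Helper9.BP

open Cfsg.Agent.Lib.Helper92.BP

section

variable {R : Type*} [CommRing R] {G : Type*} [Group G]

/-! ### Conjugation -/

theorem of_mul_of_inv (g : G) : MonoidAlgebra.of R G g * MonoidAlgebra.of R G g⁻¹ = 1 := by
  rw [← map_mul, mul_inv_cancel, map_one]

theorem of_inv_mul_of (g : G) : MonoidAlgebra.of R G g⁻¹ * MonoidAlgebra.of R G g = 1 := by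
  rw [← map_mul, inv_mul_cancel, map_one]

theorem conj_mul' (g : G) (a b : MonoidAlgebra R G) : conj R g (a * b) = conj R g a * conj R g b := by
  unfold conj
  calc MonoidAlgebra.of R G g * (a * b) * MonoidAlgebra.of R G g⁻¹
      = MonoidAlgebra.of R G g * a * 1 * b * MonoidAlgebra.of R G g⁻¹ := by simp only [mul_one, mul_assoc]
    _ = MonoidAlgebra.of R G g * a * MonoidAlgebra.of R G g⁻¹ *
          (MonoidAlgebra.of R G g * b * MonoidAlgebra.of R G g⁻¹) := by
        rw [← of_inv_mul_of (R := R) g]; simp only [mul_assoc]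

theorem conj_add' (g : G) (a b : MonoidAlgebra R G) : conj R g (a + b) = conj R g a + conj R g b := by
  unfold conj
  rw [mul_add, add_mul]

theorem conj_zero' (g : G) : conj R g (0 : MonoidAlgebra R G) = 0 := by
  unfold conj
  rw [mul_zero, zero_mul]

theorem conj_smul' (g : G) (r : R) (a : MonoidAlgebra R G) : conj R g (r • a) = r • conj R g a := by
  unfold conj
  rw [mul_smul_comm, smul_mul_assoc]

theorem conj_sum' {ι : Type*} (s : Finset ι) (f : ι → MonoidAlgebra R G) (g : G) :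
    conj R g (∑ i ∈ s, f i) = ∑ i ∈ s, conj R g (f i) := by
  unfold conj
  rw [Finset.mul_sum, Finset.sum_mul]

theorem conj_conj' (g h : G) (a : MonoidAlgebra R G) : conj R g (conj R h a) = conj R (g * h) a := by
  unfold conj
  rw [mul_inv_rev, map_mul, map_mul]
  simp only [mul_assoc]

theorem conj_one_left' (a : MonoidAlgebra R G) : conj R (1 : G) a = a := by
  unfold conj
  rw [inv_one, map_one, one_mul, mul_one]

theorem mem_fixedAlg_iff' (Q : Subgroup G) (a : MonoidAlgebra R G) :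
    a ∈ fixedAlg R Q ↔ ∀ q ∈ Q, conj R q a = a := by
  unfold fixedAlg conj
  rw [Subalgebra.mem_centralizer_iff]
  constructor
  · intro h q hq
    rw [h _ ⟨q, hq, rfl⟩, mul_assoc, of_mul_of_inv, mul_one]
  · rintro h _ ⟨q, hq, rfl⟩
    have := h q hq
    calc MonoidAlgebra.of R G q * a
        = MonoidAlgebra.of R G q * a * (MonoidAlgebra.of R G q⁻¹ * MonoidAlgebra.of R G q) := by
          rw [of_inv_mul_of, mul_one]
      _ = a * MonoidAlgebra.of R G q := by rw [← mul_assoc, this]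

theorem fixedAlg_anti' {S Q : Subgroup G} (h : S ≤ Q) : fixedAlg R Q ≤ fixedAlg R S := by
  intro a ha
  rw [mem_fixedAlg_iff'] at ha ⊢
  exact fun q hq => ha q (h hq)

theorem conj_eq_of_mem {Q : Subgroup G} {a : MonoidAlgebra R G} (ha : a ∈ fixedAlg R Q) {q : G} (hq : q ∈ Q) :
    conj R q a = a := (mem_fixedAlg_iff' Q a).1 ha q hq

/-- conjugation by `q s` with `s` in `S` and `a` fixed by `S` -/
theorem conj_mul_of_mem {S : Subgroup G} {a : MonoidAlgebra R G} (ha : a ∈ fixedAlg R S) (q : G) {s : G}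
    (hs : s ∈ S) : conj R (q * s) a = conj R q a := by
  rw [← conj_conj', conj_eq_of_mem ha hs]

theorem mem_map_conj_iff (g y : G) (S : Subgroup G) :
    g * y * g⁻¹ ∈ S.map (MulAut.conj g).toMonoidHom ↔ y ∈ S := by
  rw [Subgroup.mem_map_equiv, MulAut.conj_symm_apply]
  have : g⁻¹ * (g * y * g⁻¹) * g = y := by group
  rw [this]

theorem conj_mem_fixedAlg' (g : G) (Q : Subgroup G) {a : MonoidAlgebra R G} (ha : a ∈ fixedAlg R Q) :
    conj R g a ∈ fixedAlg R (Q.map (MulAut.conj g).toMonoidHom) := by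
  rw [mem_fixedAlg_iff']
  rintro _ ⟨q, hq, rfl⟩
  rw [MulEquiv.coe_toMonoidHom, MulAut.conj_apply, conj_conj']
  have : g * q * g⁻¹ * g = g * q := by group
  rw [this, conj_mul_of_mem ha g hq]

/-! ### Sums over transversals -/

/-- The canonical representatives of the cosets of `S` in `Q`. -/
theorem out_reps (S Q : Subgroup G) (q : G) (hq : q ∈ Q) (x : Q ⧸ S.subgroupOf Q) :
    ((Quotient.out x : Q) : G)⁻¹ * q ∈ S ↔ x = QuotientGroup.mk ⟨q, hq⟩ := by
  have h1 : ((Quotient.out x : Q)⁻¹ * ⟨q, hq⟩ : Q) ∈ S.subgroupOf Q ↔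
      (QuotientGroup.mk (Quotient.out x : Q) : Q ⧸ S.subgroupOf Q) = QuotientGroup.mk ⟨q, hq⟩ :=
    QuotientGroup.eq.symm
  rw [QuotientGroup.out_eq'] at h1
  rw [← h1, Subgroup.mem_subgroupOf]
  rfl

theorem out_reps_existsUnique (S Q : Subgroup G) (q : G) (hq : q ∈ Q) :
    ∃! x : Q ⧸ S.subgroupOf Q, ((Quotient.out x : Q) : G)⁻¹ * q ∈ S :=
  ⟨QuotientGroup.mk ⟨q, hq⟩, (out_reps S Q q hq _).2 rfl, fun x hx => (out_reps S Q q hq x).1 hx⟩

/-- A sum over the canonical representatives of `Q / S` of a right `S`-invariant function can be computed with any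
system of representatives. -/
theorem finsum_out_eq_sum [Finite G] {M : Type*} [AddCommMonoid M] (S Q : Subgroup G) (φ : G → M)
    (hφ : ∀ q ∈ Q, ∀ s ∈ S, φ (q * s) = φ q) {ι : Type*} [Fintype ι] (r : ι → G) (hrQ : ∀ i, r i ∈ Q)
    (hr : ∀ q ∈ Q, ∃! i, (r i)⁻¹ * q ∈ S) :
    ∑ᶠ x : Q ⧸ S.subgroupOf Q, φ ((Quotient.out x : Q) : G) = ∑ i, φ (r i) := by
  classical
  letI : Fintype (Q ⧸ S.subgroupOf Q) := Fintype.ofFinite _
  rw [finsum_eq_sum_of_fintype]
  symm
  let e : ι → Q ⧸ S.subgroupOf Q := fun i => QuotientGroup.mk ⟨r i, hrQ i⟩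
  have he : Function.Bijective e := by
    constructor
    · intro i i' hii'
      have h1 : ((⟨r i, hrQ i⟩ : Q)⁻¹ * ⟨r i', hrQ i'⟩ : Q) ∈ S.subgroupOf Q := QuotientGroup.eq.1 hii'
      rw [Subgroup.mem_subgroupOf] at h1
      obtain ⟨i₀, -, huniq⟩ := hr (r i') (hrQ i')
      have a1 := huniq i h1
      have a2 := huniq i' (by show (r i')⁻¹ * r i' ∈ S; rw [inv_mul_cancel]; exact S.one_mem)
      rw [a1, a2]
    · intro x
      obtain ⟨q, rfl⟩ := QuotientGroup.mk_surjective x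
      obtain ⟨i, hi, -⟩ := hr q q.2
      refine ⟨i, QuotientGroup.eq.2 ?_⟩
      rw [Subgroup.mem_subgroupOf]
      exact hi
  apply Fintype.sum_bijective e he
  intro i
  obtain ⟨s, hs⟩ := QuotientGroup.mk_out_eq_mul (S.subgroupOf Q) (⟨r i, hrQ i⟩ : Q)
  show φ (r i) = φ ((Quotient.out (e i) : Q) : G)
  have h2 : (Quotient.out (e i) : Q) = ⟨r i, hrQ i⟩ * s := hs
  rw [h2, Subgroup.coe_mul, hφ _ (hrQ i) _ (Subgroup.mem_subgroupOf.1 s.2)]

/-- the relative trace as a sum over a fintype of cosets -/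
theorem relTr_eq_sum [Finite G] (S Q : Subgroup G) [Fintype (Q ⧸ S.subgroupOf Q)] (a : MonoidAlgebra R G) :
    relTr R S Q a = ∑ x : Q ⧸ S.subgroupOf Q, conj R ((Quotient.out x : Q) : G) a := by
  unfold relTr
  rw [finsum_eq_sum_of_fintype]

/-- [L2-TR1], indexed form: the relative trace may be computed with any system of representatives. -/
theorem relTr_eq_sum_of_reps' [Finite G] {S Q : Subgroup G} {a : MonoidAlgebra R G} (ha : a ∈ fixedAlg R S)
    {ι : Type*} [Fintype ι] (r : ι → G) (hrQ : ∀ i, r i ∈ Q) (hr : ∀ q ∈ Q, ∃! i, (r i)⁻¹ * q ∈ S) :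
    relTr R S Q a = ∑ i, conj R (r i) a := by
  unfold relTr
  exact finsum_out_eq_sum S Q (fun g => conj R g a) (fun q _ s hs => conj_mul_of_mem ha q hs) r hrQ hr

theorem relTr_add' [Finite G] (S Q : Subgroup G) (a b : MonoidAlgebra R G) :
    relTr R S Q (a + b) = relTr R S Q a + relTr R S Q b := by
  classical
  letI : Fintype (Q ⧸ S.subgroupOf Q) := Fintype.ofFinite _
  rw [relTr_eq_sum, relTr_eq_sum, relTr_eq_sum, ← Finset.sum_add_distrib]
  exact Finset.sum_congr rfl fun x _ => conj_add' _ a b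

theorem relTr_zero' [Finite G] (S Q : Subgroup G) : relTr R S Q (0 : MonoidAlgebra R G) = 0 := by
  classical
  letI : Fintype (Q ⧸ S.subgroupOf Q) := Fintype.ofFinite _
  rw [relTr_eq_sum]
  exact Finset.sum_eq_zero fun x _ => conj_zero' _

theorem mul_relTr' [Finite G] (S Q : Subgroup G) {c : MonoidAlgebra R G} (hc : c ∈ fixedAlg R Q)
    (a : MonoidAlgebra R G) : c * relTr R S Q a = relTr R S Q (c * a) := by
  classical
  letI : Fintype (Q ⧸ S.subgroupOf Q) := Fintype.ofFinite _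
  rw [relTr_eq_sum, relTr_eq_sum, Finset.mul_sum]
  refine Finset.sum_congr rfl fun x _ => ?_
  rw [conj_mul', conj_eq_of_mem hc (Quotient.out x : Q).2]

theorem relTr_mul' [Finite G] (S Q : Subgroup G) {c : MonoidAlgebra R G} (hc : c ∈ fixedAlg R Q)
    (a : MonoidAlgebra R G) : relTr R S Q a * c = relTr R S Q (a * c) := by
  classical
  letI : Fintype (Q ⧸ S.subgroupOf Q) := Fintype.ofFinite _
  rw [relTr_eq_sum, relTr_eq_sum, Finset.sum_mul]
  refine Finset.sum_congr rfl fun x _ => ?_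
  rw [conj_mul', conj_eq_of_mem hc (Quotient.out x : Q).2]

/-! ### [L2-TR2] -/

theorem relTr_trans [Finite G] {T S Q : Subgroup G} (hTS : T ≤ S) (hSQ : S ≤ Q)
    {a : MonoidAlgebra R G} (ha : a ∈ fixedAlg R T) :
    relTr R S Q (relTr R T S a) = relTr R T Q a := by
  classical
  letI : Fintype (Q ⧸ S.subgroupOf Q) := Fintype.ofFinite _
  letI : Fintype (S ⧸ T.subgroupOf S) := Fintype.ofFinite _
  rw [relTr_eq_sum_of_reps' ha
    (fun z : (Q ⧸ S.subgroupOf Q) × (S ⧸ T.subgroupOf S) =>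
      ((Quotient.out z.1 : Q) : G) * ((Quotient.out z.2 : S) : G))
    (fun z => Q.mul_mem (Quotient.out z.1 : Q).2 (hSQ (Quotient.out z.2 : S).2))]
  · rw [Fintype.sum_prod_type, relTr_eq_sum S Q]
    refine Finset.sum_congr rfl fun x _ => ?_
    rw [relTr_eq_sum T S, conj_sum']
    exact Finset.sum_congr rfl fun y _ => conj_conj' _ _ a
  · intro q hq
    set x : Q ⧸ S.subgroupOf Q := QuotientGroup.mk ⟨q, hq⟩ with hx
    have hs : ((Quotient.out x : Q) : G)⁻¹ * q ∈ S := (out_reps S Q q hq x).2 rfl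
    set y : S ⧸ T.subgroupOf S := QuotientGroup.mk ⟨_, hs⟩ with hy
    have ht : ((Quotient.out y : S) : G)⁻¹ * (((Quotient.out x : Q) : G)⁻¹ * q) ∈ T :=
      (out_reps T S _ hs y).2 rfl
    refine ⟨(x, y), ?_, ?_⟩
    · show (((Quotient.out x : Q) : G) * ((Quotient.out y : S) : G))⁻¹ * q ∈ T
      rw [mul_inv_rev, mul_assoc]
      exact ht
    · rintro ⟨x', y'⟩ h'
      have h'' : ((Quotient.out y' : S) : G)⁻¹ * (((Quotient.out x' : Q) : G)⁻¹ * q) ∈ T := by
        have : (((Quotient.out x' : Q) : G) * ((Quotient.out y' : S) : G))⁻¹ * q ∈ T := h'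
        rwa [mul_inv_rev, mul_assoc] at this
      have hs' : ((Quotient.out x' : Q) : G)⁻¹ * q ∈ S := by
        have := S.mul_mem (Quotient.out y' : S).2 (hTS h'')
        rwa [mul_inv_cancel_left] at this
      have hxx : x' = x := (out_reps S Q q hq x').1 hs'
      subst hxx
      have hyy : y' = y := (out_reps T S _ hs y').1 h''
      rw [hyy]

theorem relTr_of_mem_fixedAlg [Finite G] {S Q : Subgroup G} (hSQ : S ≤ Q)
    {a : MonoidAlgebra R G} (ha : a ∈ fixedAlg R Q) :
    relTr R S Q a = (S.relIndex Q : R) • a := by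
  classical
  letI : Fintype (Q ⧸ S.subgroupOf Q) := Fintype.ofFinite _
  rw [relTr_eq_sum]
  have : ∀ x : Q ⧸ S.subgroupOf Q, conj R ((Quotient.out x : Q) : G) a = a :=
    fun x => conj_eq_of_mem ha (Quotient.out x : Q).2
  rw [Finset.sum_congr rfl fun x _ => this x, Finset.sum_const, Finset.card_univ, Nat.cast_smul_eq_nsmul]
  congr 1
  unfold Subgroup.relIndex Subgroup.index
  rw [Nat.card_eq_fintype_card]

theorem relTr_eq_sum_pow [Finite G] {S Q : Subgroup G} (hSQ : S ≤ Q)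
    (hn : (S.subgroupOf Q).Normal) {p : ℕ} (hp : p.Prime) (hidx : S.relIndex Q = p)
    {t : G} (ht : t ∈ Q) (htS : t ∉ S) {a : MonoidAlgebra R G} (ha : a ∈ fixedAlg R S) :
    relTr R S Q a = ∑ i ∈ Finset.range p, conj R (t ^ i) a := by
  classical
  have := hn
  have : Fact p.Prime := ⟨hp⟩
  rw [Finset.sum_range]
  apply relTr_eq_sum_of_reps' ha (fun i : Fin p => t ^ (i : ℕ)) (fun i => Q.pow_mem ht _)
  intro q hq
  have hcard : Nat.card (Q ⧸ S.subgroupOf Q) = p := hidx
  set τ : Q ⧸ S.subgroupOf Q := QuotientGroup.mk ⟨t, ht⟩ with hτ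
  have hτ1 : τ ≠ 1 := by
    intro h1
    rw [hτ, QuotientGroup.eq_one_iff, Subgroup.mem_subgroupOf] at h1
    exact htS h1
  have hord : orderOf τ = p := by
    apply orderOf_eq_prime
    · rw [← hcard]; exact pow_card_eq_one'
    · exact hτ1
  have htop : Subgroup.zpowers τ = ⊤ := zpowers_eq_top_of_prime_card hcard hτ1
  have hmem : (QuotientGroup.mk ⟨q, hq⟩ : Q ⧸ S.subgroupOf Q) ∈ Subgroup.zpowers τ := by
    rw [htop]; exact Subgroup.mem_top _
  rw [mem_zpowers_iff_mem_range_orderOf, Finset.mem_image] at hmem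
  obtain ⟨i, hi, hiq⟩ := hmem
  rw [Finset.mem_range, hord] at hi
  have key : ∀ j : ℕ, (t ^ j)⁻¹ * q ∈ S ↔ τ ^ j = QuotientGroup.mk ⟨q, hq⟩ := by
    intro j
    rw [hτ, ← QuotientGroup.mk_pow, QuotientGroup.eq, Subgroup.mem_subgroupOf]
    rfl
  refine ⟨⟨i, hi⟩, (key i).2 hiq, ?_⟩
  intro j hj
  have hj' := (key j).1 hj
  apply Fin.ext
  show (j : ℕ) = i
  apply pow_injOn_Iio_orderOf (x := τ)
  · rw [Set.mem_Iio, hord]; exact j.2
  · rw [Set.mem_Iio, hord]; exact hi
  · show τ ^ (j : ℕ) = τ ^ i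
    rw [hj', hiq]

theorem conj_relTr [Finite G] (g : G) {S Q : Subgroup G} (hSQ : S ≤ Q)
    {a : MonoidAlgebra R G} (ha : a ∈ fixedAlg R S) :
    conj R g (relTr R S Q a) =
      relTr R (S.map (MulAut.conj g).toMonoidHom) (Q.map (MulAut.conj g).toMonoidHom)
        (conj R g a) := by
  classical
  letI : Fintype (Q ⧸ S.subgroupOf Q) := Fintype.ofFinite _
  rw [relTr_eq_sum_of_reps' (conj_mem_fixedAlg' g S ha)
    (fun x : Q ⧸ S.subgroupOf Q => g * ((Quotient.out x : Q) : G) * g⁻¹)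
    (fun x => (mem_map_conj_iff g _ Q).2 (Quotient.out x : Q).2)]
  · rw [relTr_eq_sum, conj_sum']
    refine Finset.sum_congr rfl fun x _ => ?_
    rw [conj_conj', conj_conj']
    congr 1
    group
  · rintro _ ⟨q, hq, rfl⟩
    rw [MulEquiv.coe_toMonoidHom, MulAut.conj_apply]
    have key : ∀ x : Q ⧸ S.subgroupOf Q,
        (g * ((Quotient.out x : Q) : G) * g⁻¹)⁻¹ * (g * q * g⁻¹) ∈ S.map (MulAut.conj g).toMonoidHom ↔
          ((Quotient.out x : Q) : G)⁻¹ * q ∈ S := by
      intro x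
      have : (g * ((Quotient.out x : Q) : G) * g⁻¹)⁻¹ * (g * q * g⁻¹) =
          g * (((Quotient.out x : Q) : G)⁻¹ * q) * g⁻¹ := by group
      rw [this, mem_map_conj_iff]
    obtain ⟨x, hx, hux⟩ := out_reps_existsUnique S Q q hq
    exact ⟨x, (key x).2 hx, fun x' hx' => hux x' ((key x').1 hx')⟩

theorem mem_trIdeal_iff [Finite G] {S Q : Subgroup G} (hSQ : S ≤ Q) (x : fixedAlg R Q) :
    x ∈ trIdeal R S Q ↔ (x : MonoidAlgebra R G) ∈ trSet R S Q := by
  constructor
  · intro hx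
    unfold trIdeal at hx
    induction hx using Submodule.span_induction with
    | mem y hy => exact hy
    | zero => exact ⟨0, (fixedAlg R S).zero_mem, relTr_zero' S Q⟩
    | add y z _ _ hy hz =>
      obtain ⟨a, ha, hay⟩ := hy
      obtain ⟨b, hb, hbz⟩ := hz
      refine ⟨a + b, (fixedAlg R S).add_mem ha hb, ?_⟩
      rw [relTr_add', hay, hbz]
      rfl
    | smul c y _ hy =>
      obtain ⟨a, ha, hay⟩ := hy
      refine ⟨(c : MonoidAlgebra R G) * a, (fixedAlg R S).mul_mem (fixedAlg_anti' hSQ c.2) ha, ?_⟩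
      rw [← mul_relTr' S Q c.2, hay]
      rfl
  · intro hx
    exact Ideal.subset_span hx

theorem trIdeal_isTwoSided [Finite G] {S Q : Subgroup G} (hSQ : S ≤ Q) :
    (trIdeal R S Q).IsTwoSided := by
  refine ⟨fun {x} b hx => ?_⟩
  rw [mem_trIdeal_iff hSQ] at hx ⊢
  obtain ⟨a, ha, hax⟩ := hx
  refine ⟨a * (b : MonoidAlgebra R G), (fixedAlg R S).mul_mem ha (fixedAlg_anti' hSQ b.2), ?_⟩
  rw [← relTr_mul' S Q b.2, hax]
  rfl

end

end Cfsg.Agent.Lib.Helper9.BP
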