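/-
helper9: module BP-[L2-BR3] of project BP (helper92): relative traces from proper subgroups of a `p`-group `Q` are
killed by the Brauer map `Br_Q` (the coefficient at `z ∈ C_G(Q)` is `|Q : S|` times the coefficient of `a`, and
`p ∣ |Q : S|`).
-/
import Cfsg.Agent.Lib.Helper92.BPGAlg
import Cfsg.Agent.Lib.Helper9.BPTr2

set_option autoImplicit false
set_option linter.style.haveILetI false
set_option linter.unusedVariables false

namespace Cfsg.Agent.Lib.Helper9.BP

open Cfsg.Agent.Lib.Helper92.BP

section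

variable {R : Type*} [CommRing R] {G : Type*} [Group G]

theorem coeff_conj' (g x : G) (a : MonoidAlgebra R G) :
    (conj R g a).coeff x = a.coeff (g⁻¹ * x * g) := by
  unfold conj
  rw [MonoidAlgebra.of_apply, MonoidAlgebra.of_apply, MonoidAlgebra.coeff_mul_single_apply,
    MonoidAlgebra.coeff_single_mul_apply, one_mul, mul_one, inv_inv, mul_assoc]

end

section

variable {R : Type*} [CommRing R] [IsLocalRing R] {G : Type*} [Group G]

theorem coeff_br' (Q : Subgroup G) (a : MonoidAlgebra R G) (z : Subgroup.centralizer (Q : Set G)) :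
    (br R Q a).coeff z = IsLocalRing.residue R (a.coeff (z : G)) := by
  unfold br
  rw [MonoidAlgebra.coeff_ofCoeff, Finsupp.comapDomain_apply, Finsupp.mapRange_apply]

/-- the index of a proper subgroup of a finite `p`-group is divisible by `p` -/
theorem dvd_relIndex_of_lt [Finite G] {p : ℕ} [Fact p.Prime] {S Q : Subgroup G} (hQ : IsPGroup p Q)
    (hSQ : S < Q) : p ∣ S.relIndex Q := by
  obtain ⟨n, hn⟩ := hQ.index (S.subgroupOf Q)
  have h1 : S.relIndex Q = p ^ n := hn
  have hne : S.relIndex Q ≠ 1 := by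
    intro h
    have : S.subgroupOf Q = ⊤ := Subgroup.index_eq_one.1 h
    rw [Subgroup.subgroupOf_eq_top] at this
    exact (not_le_of_gt hSQ) this
  rw [h1]
  rcases Nat.eq_zero_or_pos n with rfl | hpos
  · rw [h1, pow_zero] at hne
    exact (hne rfl).elim
  · exact dvd_pow_self p (Nat.pos_iff_ne_zero.1 hpos)

/-- BP-[L2-BR3] : relative traces from proper subgroups die under `Br_Q` -/
theorem br_relTr [Finite G] {p : ℕ} [Fact p.Prime] [CharP (IsLocalRing.ResidueField R) p]
    {S Q : Subgroup G} (hQ : IsPGroup p Q) (hSQ : S < Q) {a : MonoidAlgebra R G}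
    (ha : a ∈ fixedAlg R S) : br R Q (relTr R S Q a) = 0 := by
  classical
  letI : Fintype (Q ⧸ S.subgroupOf Q) := Fintype.ofFinite _
  apply MonoidAlgebra.coeff_injective
  ext z
  rw [coeff_br', MonoidAlgebra.coeff_zero, Finsupp.zero_apply, relTr_eq_sum, MonoidAlgebra.coeff_sum,
    Finsupp.finsetSum_apply]
  have h1 : ∀ x : Q ⧸ S.subgroupOf Q,
      (conj R ((Quotient.out x : Q) : G) a).coeff (z : G) = a.coeff (z : G) := by
    intro x
    rw [coeff_conj']
    congr 1
    have hz := z.2
    rw [Subgroup.mem_centralizer_iff] at hz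
    have := hz _ (Quotient.out x : Q).2
    rw [mul_assoc, ← this, inv_mul_cancel_left]
  rw [Finset.sum_congr rfl fun x _ => h1 x, Finset.sum_const, Finset.card_univ, nsmul_eq_mul, map_mul, map_natCast]
  have hcard : Fintype.card (Q ⧸ S.subgroupOf Q) = S.relIndex Q := by
    unfold Subgroup.relIndex Subgroup.index
    rw [Nat.card_eq_fintype_card]
  rw [hcard, (CharP.cast_eq_zero_iff (IsLocalRing.ResidueField R) p _).2 (dvd_relIndex_of_lt hQ hSQ), zero_mul]

end

end Cfsg.Agent.Lib.Helper9.BP
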