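import Mathlib
import Cfsg.Agent.Lib.Helper9.Subnormal
import Cfsg.Agent.S0539

set_option autoImplicit false
open Pointwise

namespace Cfsg.Agent.Lib.Helper9

theorem isSubnormal_of_normalizerCondition {G : Type*} [Group G] [Finite G]
    (h : NormalizerCondition G) (H : Subgroup G) : H.IsSubnormal := by
  induction H using WellFoundedGT.induction with
  | ind H ih =>
    by_cases hH : H = ⊤
    · rw [hH]; exact Subgroup.IsSubnormal.top
    · have h1 : H < Subgroup.normalizer (H : Set G) := h H (lt_top_iff_ne_top.2 hH)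
      exact Subgroup.IsSubnormal.step H _ h1.le (ih _ h1)
        (Subgroup.normal_subgroupOf_of_le_normalizer le_rfl)

theorem isSubnormal_of_isPGroup {G : Type*} [Group G] [Finite G] {p : ℕ} [Fact p.Prime]
    (hG : IsPGroup p G) (H : Subgroup G) : H.IsSubnormal := by
  haveI := hG.isNilpotent
  exact isSubnormal_of_normalizerCondition Group.normalizerCondition_of_isNilpotent H

theorem le_normalizer_sSup_of_invariant {G : Type*} [Group G] (X : Subgroup G)
    (F : Set (Subgroup G)) (h : ∀ B ∈ F, ∀ x ∈ X, MulAut.conj x • B ∈ F) :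
    X ≤ Subgroup.normalizer ((sSup F : Subgroup G) : Set G) := by
  apply Cfsg.Agent.S0539.le_normalizer_of_forall_conj_smul_le
  intro x hx
  rw [Subgroup.pointwise_smul_subset_iff]
  apply sSup_le
  intro B hB
  rw [← Subgroup.pointwise_smul_subset_iff]
  exact le_sSup (h B hB x hx)

theorem map_subtype_conj_smul' {G : Type*} [Group G] (V : Subgroup G) (v : V) (Y : Subgroup V) :
    (MulAut.conj v • Y).map V.subtype = MulAut.conj (v : G) • (Y.map V.subtype) := by
  ext x
  constructor
  · rintro ⟨y, ⟨z, hz, rfl⟩, rfl⟩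
    exact ⟨(z : G), ⟨z, hz, rfl⟩, by simp [MulAut.smul_def]⟩
  · rintro ⟨y, ⟨z, hz, rfl⟩, rfl⟩
    exact ⟨MulAut.conj v • z, ⟨z, hz, rfl⟩, by simp [MulAut.smul_def]⟩

/-- Relative version of S0539: a family `F` of subgroups of `V`, subnormal in `V` and invariant
under `V`-conjugation, and a proper subfamily `F₀`. -/
theorem exists_mem_normalizing_sSup {G : Type*} [Group G] [Finite G] (V : Subgroup G)
    (F F₀ : Set (Subgroup G)) (hleV : ∀ B ∈ F, B ≤ V)
    (hsn : ∀ B ∈ F, (B.subgroupOf V).IsSubnormal)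
    (hconjF : ∀ B ∈ F, ∀ v : V, MulAut.conj (v : G) • B ∈ F) (hsub : F₀ ⊂ F) :
    ∃ B ∈ F, B ∉ F₀ ∧ B ≤ Subgroup.normalizer ((sSup F₀ : Subgroup G) : Set G) := by
  have hDV : sSup F₀ ≤ V := sSup_le (fun B hB => hleV B (hsub.1 hB))
  let T : Set (Subgroup V) := {Y | Y.map V.subtype ∈ F}
  let T₀ : Set (Subgroup V) := {Y | Y.map V.subtype ∈ F₀}
  have hT : ∀ Y ∈ T, Y.IsSubnormal := by
    intro Y hY
    have h1 := hsn _ hY
    rwa [Subgroup.subgroupOf, Subgroup.comap_map_eq_self_of_injective V.subtype_injective] at h1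
  have hconj : ∀ Y ∈ T, ∀ v : V, MulAut.conj v • Y ∈ T := by
    intro Y hY v
    change (MulAut.conj v • Y).map V.subtype ∈ F
    rw [map_subtype_conj_smul']
    exact hconjF _ hY v
  have hT₀ : T₀ ⊂ T := by
    constructor
    · intro Y hY
      exact hsub.1 hY
    · intro h
      obtain ⟨B, hB, hB0⟩ := Set.exists_of_ssubset hsub
      have h1 : (B.subgroupOf V).map V.subtype = B := Subgroup.map_subgroupOf_eq_of_le (hleV B hB)
      have h2 : B.subgroupOf V ∈ T := by change _ ∈ F; rw [h1]; exact hB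
      have h3 : B.subgroupOf V ∈ T₀ := h h2
      change _ ∈ F₀ at h3
      rw [h1] at h3
      exact hB0 h3
  obtain ⟨Y, hYT, hYT₀, hYn⟩ := Cfsg.Agent.S0539.result T T₀ hT hconj hT₀
  have hmap : (sSup T₀ : Subgroup V).map V.subtype = sSup F₀ := by
    rw [(Subgroup.gc_map_comap V.subtype).l_sSup]
    apply le_antisymm
    · apply iSup₂_le
      intro Z hZ
      exact le_sSup hZ
    · apply sSup_le
      intro B hB
      have h1 : (B.subgroupOf V).map V.subtype = B :=
        Subgroup.map_subgroupOf_eq_of_le (hleV B (hsub.1 hB))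
      have h2 : B.subgroupOf V ∈ T₀ := by change _ ∈ F₀; rw [h1]; exact hB
      calc B = (B.subgroupOf V).map V.subtype := h1.symm
        _ ≤ ⨆ a ∈ T₀, Subgroup.map V.subtype a :=
          le_iSup₂ (f := fun a _ => Subgroup.map V.subtype a) _ h2
  have hsub' : (sSup F₀ : Subgroup G).subgroupOf V = sSup T₀ := by
    rw [← hmap, Subgroup.subgroupOf, Subgroup.comap_map_eq_self_of_injective V.subtype_injective]
  refine ⟨Y.map V.subtype, hYT, hYT₀, ?_⟩
  rintro x ⟨y, hy, rfl⟩
  apply coe_mem_normalizer_of_mem_normalizer_subgroupOf hDV y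
  rw [hsub']
  exact hYn hy

end Cfsg.Agent.Lib.Helper9
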