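import Cfsg.Agent.Lib.Helper9.BG36Core2

/-!
BG Theorem 3.6 (`S1444`), assembly (helper9): induction on the order of `H R`.
-/

set_option autoImplicit false
set_option linter.unusedSectionVars false
set_option linter.unusedVariables false

open scoped commutatorElement
open Cfsg

universe u

namespace Cfsg.Agent.Lib.Helper9

local notation "N(" T ")" => Subgroup.normalizer ((T : Subgroup _) : Set _)
local notation "Cx(" x ")" => Subgroup.centralizer ({x} : Set _)

theorem iHyp_all (hB : ModuleB.{u}) (p r : ℕ) [hp : Fact p.Prime] (hr : r.Prime) :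
    ∀ n : ℕ, IHyp.{u} p r n := by
  intro n
  induction n using Nat.strong_induction_on with
  | _ n IH =>
    intro G _ _ _ hodd H R x hRH hcop hxR hord hZ hlt
    by_contra hnot
    have hHL : H ≤ H ⊔ R := le_sup_left
    have hRL : R ≤ H ⊔ R := le_sup_right
    have hLN : H ⊔ R ≤ N(H) := sup_le Subgroup.le_normalizer hRH
    have hcardH : Nat.card (H.subgroupOf (H ⊔ R)) = Nat.card H :=
      Nat.card_congr (Subgroup.subgroupOfEquivOfLe hHL).toEquiv
    have hcardR : Nat.card (R.subgroupOf (H ⊔ R)) = Nat.card R :=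
      Nat.card_congr (Subgroup.subgroupOfEquivOfLe hRL).toEquiv
    have hZ' : IsZGroup ↥(H.subgroupOf (H ⊔ R) ⊓
        Subgroup.centralizer ({(⟨x, hRL hxR⟩ : ↥(H ⊔ R))} : Set ↥(H ⊔ R))) := by
      let f : ↥(H.subgroupOf (H ⊔ R) ⊓
          Subgroup.centralizer ({(⟨x, hRL hxR⟩ : ↥(H ⊔ R))} : Set ↥(H ⊔ R))) →* ↥(H ⊓ Cx(x)) :=
        ((H ⊔ R).subtype.comp (Subgroup.subtype _)).codRestrict _ (by
          intro y
          obtain ⟨h1, h2⟩ := Subgroup.mem_inf.mp y.2
          refine Subgroup.mem_inf.mpr ⟨Subgroup.mem_subgroupOf.mp h1, ?_⟩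
          rw [mem_centralizer_singleton_iff] at h2 ⊢
          exact congrArg Subtype.val h2)
      apply IsZGroup.of_injective (f := f)
      intro a b hab
      have h1 : ((a : ↥(H ⊔ R)) : G) = ((b : ↥(H ⊔ R)) : G) :=
        congrArg (fun z : ↥(H ⊓ Cx(x)) => (z : G)) hab
      exact Subtype.ext (Subtype.ext h1)
    have hnot' : ¬ PLengthLE p 1 ↥⁅H.subgroupOf (H ⊔ R), R.subgroupOf (H ⊔ R)⁆ := by
      intro h
      apply hnot
      have e1 := Subgroup.equivMapOfInjective ⁅H.subgroupOf (H ⊔ R), R.subgroupOf (H ⊔ R)⁆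
        (H ⊔ R).subtype (Subgroup.subtype_injective _)
      have heq : (⁅H.subgroupOf (H ⊔ R), R.subgroupOf (H ⊔ R)⁆).map (H ⊔ R).subtype = ⁅H, R⁆ := by
        rw [Subgroup.map_commutator, Subgroup.map_subgroupOf_eq_of_le hHL,
          Subgroup.map_subgroupOf_eq_of_le hRL]
      exact Cfsg.Agent.Lib.Helper63.PLengthLE.of_equiv h (e1.trans (MulEquiv.subgroupCongr heq))
    have K : Core.{u} p r ↥(H ⊔ R) (H.subgroupOf (H ⊔ R)) (R.subgroupOf (H ⊔ R)) ⟨x, hRL hxR⟩ :=
      { odd := hodd.of_dvd_nat (Subgroup.card_subgroup_dvd_card _)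
        normal := Subgroup.normal_subgroupOf_of_le_normalizer hLN
        sup := by rw [← Subgroup.subgroupOf_sup hHL hRL, Subgroup.subgroupOf_self]
        cop := by rw [hcardH, hcardR]; exact hcop
        xR := Subgroup.mem_subgroupOf.mpr hxR
        ord := by rw [Subgroup.orderOf_mk]; exact hord
        hr := hr
        Z := hZ'
        ih := IH _ hlt
        hnot := hnot'
        modB := hB }
    exact K.false

/-- **BG Theorem 3.6**, internal form (modulo MODULE B). -/
theorem bg36 (hB : ModuleB.{u}) {G : Type u} [Group G] [Finite G] [Group.IsSolvable G] (hodd : Odd (Nat.card G))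
    {p r : ℕ} [Fact p.Prime] (hr : r.Prime) (H R : Subgroup G) (x : G) (hRH : R ≤ N(H))
    (hcop : (Nat.card H).Coprime (Nat.card R)) (hxR : x ∈ R) (hord : orderOf x = r)
    (hZ : IsZGroup ↥(H ⊓ Cx(x))) : PLengthLE p 1 ↥⁅H, R⁆ :=
  iHyp_all hB p r hr (Nat.card ↥(H ⊔ R) + 1) G hodd H R x hRH hcop hxR hord hZ (Nat.lt_succ_self _)

end Cfsg.Agent.Lib.Helper9
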