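import Mathlib
import Cfsg.Agent.S1545
import Cfsg.Agent.Lib.Helper54.Coprime

/-!
Convenient forms of Wielandt's fixed point formula for a Frobenius group `U ⋊ ⟨x⟩`
(`x` of prime order `r`) acting coprimely on a solvable subgroup `H` (helper9).
-/

set_option autoImplicit false

namespace Cfsg.Agent.Lib.Helper9

variable {X : Type*} [Group X]

theorem centralizer_zpowers_eq (x : X) :
    Subgroup.centralizer ((Subgroup.zpowers x : Subgroup X) : Set X) =
      Subgroup.centralizer ({x} : Set X) := by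
  rw [Subgroup.zpowers_eq_closure, Subgroup.centralizer_closure]

/-- an element of `zpowers x` different from `1` generates `zpowers x` when `x` has prime order;
hence anything commuting with it commutes with `x`. -/
theorem commute_of_commute_zpowers_prime {r : ℕ} (hr : r.Prime) {x : X} (hx : orderOf x = r)
    {e : X} (he : e ∈ Subgroup.zpowers x) (he1 : e ≠ 1) {u : X} (hu : e * u = u * e) :
    x * u = u * x := by
  have hcard : Nat.card (Subgroup.zpowers x) = r := by rw [Nat.card_zpowers, hx]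
  have : Fact r.Prime := ⟨hr⟩
  have hz : Subgroup.zpowers (⟨e, he⟩ : Subgroup.zpowers x) = ⊤ := by
    apply zpowers_eq_top_of_prime_card hcard
    intro h
    exact he1 (congrArg Subtype.val h)
  have hx' : (⟨x, Subgroup.mem_zpowers x⟩ : Subgroup.zpowers x) ∈
      Subgroup.zpowers (⟨e, he⟩ : Subgroup.zpowers x) := by rw [hz]; trivial
  obtain ⟨k, hk⟩ := Subgroup.mem_zpowers_iff.mp hx'
  have hk' : e ^ k = x := by
    have := congrArg Subtype.val hk
    simpa using this
  rw [← hk']
  exact ((Commute.zpow_left (show Commute e u from hu) k)).eq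

variable [Finite X]

/-- **Wielandt's formula** for `U ⋊ ⟨x⟩`, `x` of prime order `r` acting fixed point freely on `U`,
both acting on the solvable group `H` of order prime to `r |U|`. -/
theorem frob_formula {r : ℕ} (hr : r.Prime) (x : X) (hx : orderOf x = r) (U H : Subgroup X)
    (hU1 : U ≠ ⊥) (hxU : x ∈ Subgroup.normalizer (U : Set X))
    (hfpf : U ⊓ Subgroup.centralizer ({x} : Set X) = ⊥)
    (hUH : U ≤ Subgroup.normalizer (H : Set X)) (hxH : x ∈ Subgroup.normalizer (H : Set X))
    (hcopU : (Nat.card H).Coprime (Nat.card U)) (hcopr : (Nat.card H).Coprime r)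
    (hrU : (Nat.card U).Coprime r) (hsolv : Group.IsSolvable H) :
    Nat.card ↥(H ⊓ Subgroup.centralizer ((U ⊔ Subgroup.zpowers x : Subgroup X) : Set X)) ^ r *
        Nat.card H =
      Nat.card ↥(H ⊓ Subgroup.centralizer ({x} : Set X)) ^ r *
        Nat.card ↥(H ⊓ Subgroup.centralizer (U : Set X)) := by
  classical
  set E := Subgroup.zpowers x with hE
  have hEcard : Nat.card E = r := by rw [hE, Nat.card_zpowers, hx]
  have hx1 : x ≠ 1 := by
    intro h
    rw [h, orderOf_one] at hx
    exact hr.one_lt.ne hx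
  have hE1 : E ≠ ⊥ := by
    rw [hE, Ne, Subgroup.zpowers_eq_bot]; exact hx1
  have hUE : U ⊓ E = ⊥ := by
    rw [← Subgroup.card_eq_one]
    have h1 : Nat.card ↥(U ⊓ E) ∣ Nat.card U := Subgroup.card_dvd_of_le inf_le_left
    have h2 : Nat.card ↥(U ⊓ E) ∣ r := by
      rw [← hEcard]; exact Subgroup.card_dvd_of_le inf_le_right
    exact Nat.eq_one_of_dvd_coprimes hrU h1 h2
  have hEnU : E ≤ Subgroup.normalizer (U : Set X) := by
    rw [hE, Subgroup.zpowers_le]; exact hxU
  have hEnH : E ≤ Subgroup.normalizer (H : Set X) := by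
    rw [hE, Subgroup.zpowers_le]; exact hxH
  have hUEcard : Nat.card ↥(U ⊔ E) ∣ Nat.card U * r := by
    rw [Cfsg.Agent.Lib.Helper54.card_sup_of_le_normalizer hEnU hUE, hEcard]
  have hcop : Nat.Coprime (Nat.card H) (Nat.card ↥(U ⊔ E)) :=
    Nat.Coprime.coprime_dvd_right hUEcard (Nat.Coprime.mul_right hcopU hcopr)
  have hdisj : H ⊓ (U ⊔ E) = ⊥ := by
    rw [← Subgroup.card_eq_one]
    have h1 : Nat.card ↥(H ⊓ (U ⊔ E)) ∣ Nat.card H := Subgroup.card_dvd_of_le inf_le_left
    have h2 : Nat.card ↥(H ⊓ (U ⊔ E)) ∣ Nat.card ↥(U ⊔ E) := Subgroup.card_dvd_of_le inf_le_right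
    exact Nat.eq_one_of_dvd_coprimes hcop h1 h2
  have h := Cfsg.Agent.S1545.result U E H hU1 hE1 hUE
    (fun e he u hu => (Subgroup.mem_normalizer_iff.mp (hEnU he) u).mp hu)
    (fun e he he1 u hu hcomm => by
      have hxu : x * u = u * x := commute_of_commute_zpowers_prime hr hx he he1 hcomm
      have hmem : u ∈ U ⊓ Subgroup.centralizer ({x} : Set X) := by
        refine Subgroup.mem_inf.mpr ⟨hu, Subgroup.mem_centralizer_iff.mpr ?_⟩
        intro y hy
        rw [Set.mem_singleton_iff] at hy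
        subst hy
        exact hxu
      rw [hfpf, Subgroup.mem_bot] at hmem
      exact hmem)
    (fun y hy h hh => by
      have hyN : y ∈ Subgroup.normalizer (H : Set X) := (sup_le hUH hEnH) hy
      exact (Subgroup.mem_normalizer_iff.mp hyN h).mp hh)
    hdisj hsolv hcop
  rw [hEcard, hE, centralizer_zpowers_eq] at h
  exact h

/-- The special case `C_H(U) = 1`: then `|H| = |C_H(x)|^r`. -/
theorem frob_card_eq {r : ℕ} (hr : r.Prime) (x : X) (hx : orderOf x = r) (U H : Subgroup X)
    (hU1 : U ≠ ⊥) (hxU : x ∈ Subgroup.normalizer (U : Set X))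
    (hfpf : U ⊓ Subgroup.centralizer ({x} : Set X) = ⊥)
    (hUH : U ≤ Subgroup.normalizer (H : Set X)) (hxH : x ∈ Subgroup.normalizer (H : Set X))
    (hcopU : (Nat.card H).Coprime (Nat.card U)) (hcopr : (Nat.card H).Coprime r)
    (hrU : (Nat.card U).Coprime r) (hsolv : Group.IsSolvable H)
    (hCU : H ⊓ Subgroup.centralizer (U : Set X) = ⊥) :
    Nat.card H = Nat.card ↥(H ⊓ Subgroup.centralizer ({x} : Set X)) ^ r := by
  have h := frob_formula hr x hx U H hU1 hxU hfpf hUH hxH hcopU hcopr hrU hsolv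
  have h1 : H ⊓ Subgroup.centralizer ((U ⊔ Subgroup.zpowers x : Subgroup X) : Set X) = ⊥ := by
    rw [eq_bot_iff, ← hCU]
    exact inf_le_inf_left H (Subgroup.centralizer_le (by
      exact_mod_cast (le_sup_left : U ≤ U ⊔ Subgroup.zpowers x)))
  rw [h1, hCU, Subgroup.card_bot, one_pow, one_mul, mul_one] at h
  exact h

end Cfsg.Agent.Lib.Helper9
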