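import Mathlib
import Cfsg.Agent.Lib.Helper60.PFTenTDefs
import Cfsg.Agent.Lib.Helper51.PFCycCalS
import Cfsg.Agent.Lib.Helper16.PFNineTen
import Cfsg.Agent.Lib.Helper26.PFBookC
import Cfsg.Agent.Lib.Helper66.PF127Mass2
import Cfsg.Agent.Lib.Helper76.PFTenTSuppCard
import Cfsg.Agent.Lib.Helper38.PFCycA3

/-!
# Peterfalvi section 10, T-side, module [TS-C2-MASS] (helper60 #4464)

The number of elements of `G` of order prime to `q = |W₁|` is at most `|G| (|A'| + c) / |M|`:
those in the Dade support of `A'` are counted by `|dadeSupp| |M| = |G| |A'|`; off the support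
`χ = ∑ η_φ` is an odd integer, so each such element contributes at least `1` to the mass.
-/

set_option autoImplicit false

open Cfsg Cfsg.Agent.Lib.Helper24.PFCyc Cfsg.Agent.Lib.Helper4.PF Cfsg.Agent.Lib.Helper4.PFTen
  Cfsg.Agent.Lib.Helper58.PF9 Cfsg.Agent.Lib.Helper74.PF127

namespace Cfsg.Agent.Lib.Helper9.PFTenT

universe u

/-- MODULE [TS-C2-MASS] -/
theorem card_coprime_le {G : Type u} [Group G] [Fintype G] (pf8 : BookPF8Data G)
    {M W₁ W₂ : Subgroup G} (hM : IsCoatom M) (hW : IsSelfNormalizingCyclic W₁ W₂)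
    (hodd : Odd (Nat.card G))
    (η : WChar W₁ W₂ → (G → ℂ)) (hη : IsCyclicTIFamily W₁ W₂ η) (χ : G → ℂ) (A' : Set G) (c : ℝ)
    (ms : MSide M W₁ W₂ η χ A' c) :
    (Nat.card {g : G // (orderOf g).Coprime (Nat.card W₁)} : ℝ) ≤
      (Nat.card G : ℝ) * ((Nat.card A' : ℝ) + c) / Nat.card M := by
  classical
  have : Fintype ↥M := Fintype.ofFinite _
  set D : Set G := dadeSupp A' (supportR M) with hDdef
  have hD' : DadeHypothesis A' M (supportR M) :=
    Cfsg.Agent.Lib.Helper66.PF127.dadeHypothesis_mono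
      ((pf8.dade M hM (litA M) (Or.inr (Or.inl rfl))).2) ms.sub ms.conj_mem
  have hcard : Nat.card D * Nat.card M = Nat.card G * Nat.card A' :=
    Cfsg.Agent.Lib.Helper76.PFTenT.card_dadeSupp A' M (supportR M) hD'
  have hMpos : (0 : ℝ) < (Nat.card M : ℝ) := by exact_mod_cast (Nat.card_pos (α := ↥M))
  have hoddW : Odd (Nat.card ↥(W₁ ⊔ W₂)) :=
    Odd.of_dvd_nat hodd (Subgroup.card_subgroup_dvd_card _)
  -- pointwise lower bound off the support
  have hpt : ∀ g : G, g ∉ D → (orderOf g).Coprime (Nat.card W₁) → (1 : ℝ) ≤ ‖χ g‖ ^ 2 := by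
    intro g hgD hg
    obtain ⟨n, hn⟩ := Cfsg.Agent.Lib.Helper38.PFCyc.etaSum_one_odd hW hoddW hη g hg
    rw [ms.supp g hgD, hn]
    have h1 : (2 * (n : ℂ) + 1) = ((2 * n + 1 : ℤ) : ℂ) := by push_cast; ring
    rw [h1, Complex.norm_intCast]
    have h2 : (2 * n + 1 : ℤ) ≠ 0 := by omega
    have h3 : (1 : ℝ) ≤ |((2 * n + 1 : ℤ) : ℝ)| := by
      rw [← Int.cast_abs]
      exact_mod_cast Int.one_le_abs h2
    nlinarith [h3]
  -- count
  set S : Finset G := Finset.univ.filter (fun g => (orderOf g).Coprime (Nat.card W₁)) with hS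
  have hScard : Nat.card {g : G // (orderOf g).Coprime (Nat.card W₁)} = S.card := by
    rw [Nat.card_eq_fintype_card, Fintype.card_subtype]
  set S₁ : Finset G := S.filter (fun g => g ∈ D) with hS₁
  set S₂ : Finset G := S.filter (fun g => g ∉ D) with hS₂
  have hsplit : S.card = S₁.card + S₂.card := by
    rw [hS₁, hS₂]
    exact (Finset.card_filter_add_card_filter_not (s := S) (fun g => g ∈ D)).symm
  have h1 : (S₁.card : ℝ) ≤ (Nat.card D : ℝ) := by
    have : S₁.card ≤ Nat.card D := by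
      rw [Nat.card_eq_fintype_card, Fintype.card_subtype]
      apply Finset.card_le_card
      intro g hg
      rw [hS₁, Finset.mem_filter] at hg
      exact Finset.mem_filter.mpr ⟨Finset.mem_univ _, hg.2⟩
    exact_mod_cast this
  have h2 : (S₂.card : ℝ) ≤ ∑ᶠ g ∈ Dᶜ, ‖χ g‖ ^ 2 := by
    rw [finsum_mem_eq_finite_toFinset_sum _ (Set.toFinite _)]
    have hsub : S₂ ⊆ (Set.toFinite Dᶜ).toFinset := by
      intro g hg
      rw [hS₂, Finset.mem_filter] at hg
      rw [Set.Finite.mem_toFinset]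
      exact hg.2
    calc (S₂.card : ℝ) = ∑ _g ∈ S₂, (1 : ℝ) := by simp
      _ ≤ ∑ g ∈ S₂, ‖χ g‖ ^ 2 := by
          apply Finset.sum_le_sum
          intro g hg
          rw [hS₂, Finset.mem_filter, hS, Finset.mem_filter] at hg
          exact hpt g hg.2 hg.1.2
      _ ≤ ∑ g ∈ (Set.toFinite Dᶜ).toFinset, ‖χ g‖ ^ 2 :=
          Finset.sum_le_sum_of_subset_of_nonneg hsub (fun g _ _ => by positivity)
  have h3 := ms.mass
  rw [← hDdef] at h3
  have hDreal : (Nat.card D : ℝ) = (Nat.card G : ℝ) * (Nat.card A' : ℝ) / (Nat.card M : ℝ) := by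
    rw [eq_div_iff hMpos.ne']
    exact_mod_cast hcard
  rw [hScard, hsplit]
  push_cast
  calc (S₁.card : ℝ) + (S₂.card : ℝ)
      ≤ (Nat.card G : ℝ) * (Nat.card A' : ℝ) / (Nat.card M : ℝ) +
          c * (Nat.card G : ℝ) / (Nat.card M : ℝ) := by
        rw [← hDreal]
        exact add_le_add h1 (h2.trans h3)
    _ = (Nat.card G : ℝ) * ((Nat.card A' : ℝ) + c) / (Nat.card M : ℝ) := by ring

end Cfsg.Agent.Lib.Helper9.PFTenT
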