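import Mathlib
import Cfsg.Agent.Lib.Helper60.PFTenTDefs
import Cfsg.Agent.Lib.Helper51.PFCycCalS
import Cfsg.Agent.Lib.Helper16.PFNineTen
import Cfsg.Agent.Lib.Helper26.PFBookC

/-!
# Peterfalvi section 10, T-side, module [TS-TWO] (helper60 #4464)

Two distinct `W₁`-invariant members of `X(H₀C)` of degree `|U : C|`.
-/

set_option autoImplicit false

open Cfsg Cfsg.Agent.Lib.Helper24.PFCyc Cfsg.Agent.Lib.Helper4.PF Cfsg.Agent.Lib.Helper4.PFTen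
  Cfsg.Agent.Lib.Helper58.PF9 Cfsg.Agent.Lib.Helper74.PF127

namespace Cfsg.Agent.Lib.Helper9.PFTenT

universe u

/-- MODULE [TS-TWO] -/
theorem exists_two_invariant {L : Type u} [Group L] [Fintype L] {K H U W₁ W₂ H₀ : Subgroup L}
    {p q : ℕ} (c : Ctx K H U W₁ W₂ H₀ p q)
    (hchief : ∀ N : Subgroup L, N.Normal → H₀ ≤ N → N ≤ H → N = H₀ ∨ N = H) :
    ∃ θ₁ θ₂ : ↥K → ℂ, θ₁ ≠ θ₂ ∧ ∀ θ : ↥K → ℂ, (θ = θ₁ ∨ θ = θ₂) →
      IsIrrCharacter ↥K θ ∧ (∃ h : ↥K, (h : L) ∈ H ∧ θ h ≠ θ 1) ∧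
      IsW1Inv K W₁ c.K_normal θ ∧ θ 1 = (((coreC U H H₀).relIndex U : ℕ) : ℂ) := by
  classical
  have hN := Cfsg.Agent.Lib.Helper16.PFNineNC.sup_H₀_coreC_normal c
  have hNK := Cfsg.Agent.Lib.Helper16.PFNineNC.sup_H₀_coreC_le c
  have hNH := Cfsg.Agent.Lib.Helper16.PFNineNC.sup_H₀_coreC_inf c
  have hcard := Cfsg.Agent.Lib.Helper62.PF9G3.ncard_W1Inv_Xset c (H₀ ⊔ coreC U H H₀) hN hNK hNH
  -- `p` is an odd prime
  have hp3 : 3 ≤ p := by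
    have hq1 : 1 ≤ q := c.q_prime.one_lt.le
    have h1 : p ∣ H₀.relIndex H := by
      rw [c.relIndex_H₀]
      exact dvd_pow_self p (by omega)
    have h2 : p ∣ Nat.card L :=
      h1.trans ((Subgroup.relIndex_dvd_card H₀ H).trans (Subgroup.card_subgroup_dvd_card H))
    have h3 : Odd p := Odd.of_dvd_nat c.odd h2
    have h4 := c.p_prime.two_le
    rcases h3 with ⟨k, hk⟩
    omega
  have hgt : 1 < {θ : ↥K → ℂ | θ ∈ Xset K H (H₀ ⊔ coreC U H H₀) ∧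
      IsW1Inv K W₁ c.K_normal θ}.ncard := by
    rw [hcard]; omega
  have hfin : {θ : ↥K → ℂ | θ ∈ Xset K H (H₀ ⊔ coreC U H H₀) ∧
      IsW1Inv K W₁ c.K_normal θ}.Finite := Set.finite_of_ncard_pos (by omega)
  obtain ⟨θ₁, θ₂, h1, h2, hne⟩ := (Set.one_lt_ncard_iff hfin).mp hgt
  have hCC : H₀ ⊔ ⁅coreC U H H₀, coreC U H H₀⁆ ≤ H₀ ⊔ coreC U H H₀ := by
    apply sup_le_sup_left
    rw [Subgroup.commutator_le]
    intro a ha b hb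
    exact Subgroup.mul_mem _ (Subgroup.mul_mem _ (Subgroup.mul_mem _ ha hb)
      (Subgroup.inv_mem _ ha)) (Subgroup.inv_mem _ hb)
  have hdeg : ∀ θ : ↥K → ℂ, θ ∈ Xset K H (H₀ ⊔ coreC U H H₀) → IsW1Inv K W₁ c.K_normal θ →
      θ 1 = (((coreC U H H₀).relIndex U : ℕ) : ℂ) := by
    intro θ hθ hinv
    rcases Cfsg.Agent.Lib.Helper16.PFNineDI.galois_or_axis c hchief with hG | ⟨H₁, hA⟩
    · have hθ' : θ ∈ Xset K H (H₀ ⊔ ⁅coreC U H H₀, coreC U H H₀⁆) :=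
        ⟨hθ.1, fun a ha => hθ.2.1 a (hCC ha), hθ.2.2⟩
      exact (galois_core_theta c hG hθ').1
    · exact (Cfsg.Agent.Lib.Helper16.PFNineNB.axis_reducible_member c hA hθ hinv).1
  refine ⟨θ₁, θ₂, hne, ?_⟩
  rintro θ (rfl | rfl)
  · exact ⟨h1.1.1, h1.1.2.2, h1.2, hdeg _ h1.1 h1.2⟩
  · exact ⟨h2.1.1, h2.1.2.2, h2.2, hdeg _ h2.1 h2.2⟩

end Cfsg.Agent.Lib.Helper9.PFTenT
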