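import Mathlib
import Cfsg.Agent.Lib.Helper24.PFCycCtx0
import Cfsg.Agent.Lib.Helper3.ColOrth
import Cfsg.Agent.Lib.Helper26.IrrFactsInst
import Cfsg.Agent.Lib.Helper1.PFElevenGalB
import Cfsg.Agent.Lib.Helper81.IrrTwist

/-!
# Peterfalvi section 10, module [K-BIG] (helper24 batch 3): `|M'| ≥ 1 + 2q + (p-1)(2q-1)²`

The `pq` irreducible characters `μ_ω`, together with `ζ` and `conj ζ`, are pairwise distinct
irreducible characters of `M`; their degrees are `1` (`q` of them), `≥ 2q-1` (`(p-1)q` of them),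
`q`, `q`.  The sum of the squares of the degrees is at most `|M| = q |M'|`.
-/

set_option autoImplicit false

namespace Cfsg.Agent.Lib.Helper9.PFCyc

open Cfsg Cfsg.Agent.Lib.Helper4.PF Cfsg.Agent.Lib.Helper74.PF127 Cfsg.Agent.Lib.Helper24.PFCyc

universe u

/-- The sum of the squares of the degrees of pairwise distinct irreducible characters is at most
the order of the group. -/
theorem sum_sq_deg_le {H : Type*} [Group H] [Fintype H] {ι : Type*} (s : Finset ι)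
    (θ : ι → H → ℂ) (hθ : ∀ i ∈ s, IsIrrCharacter H (θ i))
    (hinj : ∀ i ∈ s, ∀ j ∈ s, θ i = θ j → i = j) (d : ι → ℕ)
    (hd : ∀ i ∈ s, θ i 1 = (d i : ℂ)) : ∑ i ∈ s, d i ^ 2 ≤ Nat.card H := by
  classical
  have : Fintype (IrrCharacter H) := Fintype.ofFinite _
  choose e he0 he using fun χ : IrrCharacter H => Cfsg.Agent.Lib.Helper26.irr_deg_pos χ.1 χ.2
  have htot : ∑ χ : IrrCharacter H, e χ ^ 2 = Nat.card H := by
    have h1 := Cfsg.Agent.Lib.Helper3.sum_sq_degrees (G := H)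
    have h2 : ((∑ χ : IrrCharacter H, e χ ^ 2 : ℕ) : ℂ) = (Nat.card H : ℂ) := by
      rw [← h1]
      push_cast
      exact Finset.sum_congr rfl fun χ _ => by rw [he χ]
    exact_mod_cast h2
  let f : {i // i ∈ s} → IrrCharacter H := fun i => ⟨θ i.1, hθ i.1 i.2⟩
  have hf : Function.Injective f := fun i j h =>
    Subtype.ext (hinj i.1 i.2 j.1 j.2 (congrArg Subtype.val h))
  have hde : ∀ i : {i // i ∈ s}, d i.1 = e (f i) := by
    intro i
    have h1 := hd i.1 i.2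
    have h2 := he (f i)
    have h3 : ((d i.1 : ℕ) : ℂ) = (e (f i) : ℂ) := by rw [← h1, ← h2]
    exact_mod_cast h3
  calc ∑ i ∈ s, d i ^ 2 = ∑ i ∈ s.attach, d i.1 ^ 2 :=
        (Finset.sum_attach s (fun i => d i ^ 2)).symm
    _ = ∑ i ∈ s.attach, e (f i) ^ 2 := Finset.sum_congr rfl fun i _ => by rw [hde i]
    _ = ∑ χ ∈ s.attach.image f, e χ ^ 2 := (Finset.sum_image (f := fun χ => e χ ^ 2) (s := s.attach) (g := f)
        (fun i _ j _ h => hf h)).symm
    _ ≤ ∑ χ, e χ ^ 2 := Finset.sum_le_sum_of_subset (Finset.subset_univ _)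
    _ = Nat.card H := htot

theorem mul_inv_eq_of_mul_eq_mul {C : Type*} [CommGroup C] {a b c d : C} (h : a * b = c * d) :
    a * c⁻¹ = d * b⁻¹ := by
  have h1 : a = c * d * b⁻¹ := by rw [← h, mul_inv_cancel_right]
  rw [h1, mul_comm, mul_assoc c, inv_mul_cancel_left]

variable {G : Type u} [Group G] [Fintype G] {M W₁ U W₂ : Subgroup G} [Fintype M]
  {mu : WChar W₁ W₂ → (↥M → ℂ)} {dl : WChar W₁ W₂ → ℂ} {η : WChar W₁ W₂ → (G → ℂ)}
  {ζ : ↥M → ℂ}

/-- MODULE [K-BIG] -/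
theorem card_der_lower (h : MCtx0 M W₁ U W₂ mu dl η ζ) (hf : MFacts M W₁ W₂ mu dl η) :
    1 + 2 * Nat.card W₁ + (Nat.card W₂ - 1) * (2 * Nat.card W₁ - 1) ^ 2 ≤
      Nat.card ↥(⁅M, M⁆ : Subgroup G) := by
  classical
  set q := Nat.card W₁ with hq
  set p := Nat.card W₂ with hp
  have hP := h.hP
  have md := h.md
  have hq2 : 1 < q := (Subgroup.one_lt_card_iff_ne_bot W₁).mpr hP.W₁_ne
  set A := trivSet W₁ W₂ W₂ with hA
  set B := trivSet W₁ W₂ W₁ with hB
  have hAcard : A.card = q := Cfsg.Agent.Lib.Helper51.PFCyc.card_trivSet_W₂ h.hW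
  have hBcard : B.card = p := Cfsg.Agent.Lib.Helper1.PF11GalB.card_trivSet_W₁ h.hW
  -- degrees of the `μ_ω`
  choose dg hdg0 hdg using fun ω : WChar W₁ W₂ =>
    Cfsg.Agent.Lib.Helper26.irr_deg_pos (mu ω) (md.irr ω)
  have hone : ((1 : ↥M) : G) ∈ ⁅M, M⁆ := Subgroup.one_mem _
  -- (a) degree one for `φ`
  have hdegA : ∀ φ ∈ A, dg (φ * 1) = 1 := by
    intro φ hφ
    obtain ⟨-, f, hf1, -, -⟩ := hf.mu_phi φ (mem_trivSet.mp hφ)
    have h1 : mu φ 1 = 1 := by rw [hf1]; simp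
    have h0 : φ * 1 = φ := mul_one φ
    have h2 : ((dg (φ * 1) : ℕ) : ℂ) = ((1 : ℕ) : ℂ) := by
      rw [← hdg, h0, h1]; simp
    exact_mod_cast h2
  -- (b) degree at least `2q-1` for `φψ`, `ψ ≠ 1`
  have hdegB : ∀ ψ ∈ B, ψ ≠ 1 → ∀ φ ∈ A, 2 * q - 1 ≤ dg (φ * ψ) := by
    intro ψ hψ hψ1 φ hφ
    obtain ⟨d, hd1, hd2, -⟩ := hf.mu_deg ψ (mem_trivSet.mp hψ) hψ1
    have h1 : mu (φ * ψ) 1 = mu ψ 1 := by
      apply hf.mu_res (φ * ψ) ψ ?_ 1 hone
      intro w hw
      rw [MonoidHom.mul_apply, mem_trivSet.mp hφ w hw, one_mul]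
    have h2 : ((dg (φ * ψ) : ℕ) : ℂ) = (d : ℂ) := by rw [← hdg, h1, hd1]
    have h3 : dg (φ * ψ) = d := by exact_mod_cast h2
    rw [h3]
    exact hd2
  -- facts on `ζ` and its conjugate
  obtain ⟨-, -, hcmem, hcne, -⟩ := Zero.calS_basic h ζ h.hζ
  have hζmu : ∀ ω, ζ ≠ mu ω := by
    rcases hf.calS_cases ζ h.hζ with h1 | ⟨ψ, hψ, hψ1, h1⟩
    · exact h1.2
    · exact absurd h1.symm (Zero.muSum_facts h hf ψ hψ hψ1).1
  have hcirr : IsIrrCharacter ↥M (conjFun ζ) := Cfsg.Agent.Lib.Helper81.isIrrCharacter_conj h.hζirr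
  have hc1 : conjFun ζ 1 = (q : ℂ) := by
    show (starRingEnd ℂ) (ζ 1) = (q : ℂ)
    rw [h.hζ1]; exact Complex.conj_natCast _
  have hcmu : ∀ ω, conjFun ζ ≠ mu ω := by
    rcases hf.calS_cases (conjFun ζ) hcmem with h1 | ⟨ψ, hψ, hψ1, h1⟩
    · exact h1.2
    · exfalso
      obtain ⟨d, hd1, hd2, -⟩ := hf.mu_deg ψ hψ hψ1
      have h2 := (Zero.muSum_facts h hf ψ hψ hψ1).2.2.1
      rw [← h1, hc1, hd1] at h2
      have h3 : q = q * d := by exact_mod_cast h2
      have h4 : d = 1 := by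
        have : q * 1 = q * d := by rw [mul_one]; exact h3
        exact (Nat.eq_of_mul_eq_mul_left (by omega) this).symm
      omega
  -- the family of distinct irreducible characters
  let ι := (WChar W₁ W₂ × WChar W₁ W₂) ⊕ Bool
  let θ : ι → (↥M → ℂ) :=
    Sum.elim (fun x => mu (x.1 * x.2)) (fun b => if b then ζ else conjFun ζ)
  let d : ι → ℕ := Sum.elim (fun x => dg (x.1 * x.2)) (fun _ => q)
  let s : Finset ι := (A ×ˢ B).disjSum (Finset.univ : Finset Bool)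
  have hprodinj : ∀ x ∈ A ×ˢ B, ∀ y ∈ A ×ˢ B, x.1 * x.2 = y.1 * y.2 → x = y := by
    intro x hx y hy hxy
    obtain ⟨hx1, hx2⟩ := Finset.mem_product.mp hx
    obtain ⟨hy1, hy2⟩ := Finset.mem_product.mp hy
    have hχ : x.1 * y.1⁻¹ = y.2 * x.2⁻¹ :=
      mul_inv_eq_of_mul_eq_mul (C := WChar W₁ W₂) hxy
    have ht2 : TrivOn W₂ (x.1 * y.1⁻¹) := (mem_trivSet.mp hx1).mul (mem_trivSet.mp hy1).inv
    have ht1 : TrivOn W₁ (x.1 * y.1⁻¹) := by
      rw [hχ]; exact (mem_trivSet.mp hy2).mul (mem_trivSet.mp hx2).inv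
    have h1 := Cfsg.Agent.Lib.Helper51.PFCyc.eq_one_of_trivOn h.hW ht1 ht2
    have h2 : x.1 = y.1 := mul_inv_eq_one.mp h1
    have h3 : x.2 = y.2 := by
      rw [h2] at hxy
      exact mul_left_cancel hxy
    exact Prod.ext h2 h3
  have hmain := sum_sq_deg_le s θ ?_ ?_ d ?_
  · -- arithmetic
    have hs : ∑ i ∈ s, d i ^ 2 =
        ∑ x ∈ A ×ˢ B, dg (x.1 * x.2) ^ 2 + ∑ _b : Bool, q ^ 2 := by
      show ∑ i ∈ (A ×ˢ B).disjSum Finset.univ, d i ^ 2 = _
      rw [Finset.sum_disjSum]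
      rfl
    have hbool : ∑ _b : Bool, q ^ 2 = 2 * q ^ 2 := by
      rw [Finset.sum_const, Finset.card_univ, Fintype.card_bool, smul_eq_mul]
    have h1B : (1 : WChar W₁ W₂) ∈ B := mem_trivSet.mpr (trivOn_one W₁)
    have hlow : q + (p - 1) * (q * (2 * q - 1) ^ 2) ≤ ∑ x ∈ A ×ˢ B, dg (x.1 * x.2) ^ 2 := by
      rw [Finset.sum_product_right]
      rw [← Finset.add_sum_erase B _ h1B]
      apply add_le_add
      · have : ∑ φ ∈ A, dg (φ * 1) ^ 2 = q := by
          rw [Finset.sum_congr rfl (fun φ hφ => by rw [hdegA φ hφ]), Finset.sum_const, hAcard]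
          simp
        rw [this]
      · have hcard : (B.erase 1).card = p - 1 := by rw [Finset.card_erase_of_mem h1B, hBcard]
        rw [← hcard, ← smul_eq_mul]
        apply Finset.card_nsmul_le_sum
        intro ψ hψ
        obtain ⟨hψ1, hψB⟩ := Finset.mem_erase.mp hψ
        have hAq : A.card • (2 * q - 1) ^ 2 = q * (2 * q - 1) ^ 2 := by
          rw [smul_eq_mul, hAcard]
        rw [← hAq]
        apply Finset.card_nsmul_le_sum
        intro φ hφ
        exact Nat.pow_le_pow_left (hdegB ψ hψB hψ1 φ hφ) 2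
    have hM : Nat.card ↥M = q * Nat.card ↥(⁅M, M⁆ : Subgroup G) := by
      have h1 := Cfsg.Agent.Lib.Helper51.PFCyc.KM_index hP
      have h2 := Subgroup.card_mul_index (KM M)
      have h3 : Nat.card ↥(KM M) = Nat.card ↥(⁅M, M⁆ : Subgroup G) :=
        Nat.card_congr (Subgroup.subgroupOfEquivOfLe hP.W₁_compl.1).toEquiv
      rw [← h2, h1, h3, mul_comm]
    rw [hs, hbool, hM] at hmain
    have h5 : q * (1 + 2 * q + (p - 1) * (2 * q - 1) ^ 2) ≤
        q * Nat.card ↥(⁅M, M⁆ : Subgroup G) := by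
      calc q * (1 + 2 * q + (p - 1) * (2 * q - 1) ^ 2)
          = q + (p - 1) * (q * (2 * q - 1) ^ 2) + 2 * q ^ 2 := by ring
        _ ≤ _ := le_trans (Nat.add_le_add_right hlow _) hmain
    exact Nat.le_of_mul_le_mul_left h5 (by omega)
  · -- irreducibility
    intro i hi
    rcases i with x | b
    · exact md.irr _
    · cases b
      · exact hcirr
      · exact h.hζirr
  · -- injectivity
    intro i hi j hj hij
    rcases i with x | b <;> rcases j with y | c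
    · have hx : x ∈ A ×ˢ B := Finset.inl_mem_disjSum.mp hi
      have hy : y ∈ A ×ˢ B := Finset.inl_mem_disjSum.mp hj
      have : x.1 * x.2 = y.1 * y.2 := md.inj hij
      rw [hprodinj x hx y hy this]
    · exfalso
      cases c
      · exact hcmu _ hij.symm
      · exact hζmu _ hij.symm
    · exfalso
      cases b
      · exact hcmu _ hij
      · exact hζmu _ hij
    · cases b <;> cases c
      · rfl
      · exact absurd hij hcne
      · exact absurd hij.symm hcne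
      · rfl
  · -- degrees
    intro i hi
    rcases i with x | b
    · exact hdg _
    · cases b
      · exact hc1
      · exact h.hζ1

end Cfsg.Agent.Lib.Helper9.PFCyc
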