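/-
helper9: modules TITS-[NILP] and TITS-[ABS] of helper18's project TITS (S1074):
a nilpotent group with cyclic abelianisation is abelian; simplicity of a derived subgroup of index 2 from the
Tits dichotomy.
-/
import Mathlib

set_option autoImplicit false

namespace Cfsg.Agent.Lib.Helper9.TitsAbs

open scoped commutatorElement Pointwise

/-- TITS-[NILP]: a nilpotent group whose abelianisation is cyclic is abelian. -/
theorem commutator_eq_bot_of_isCyclic_quotient {P : Type*} [Group P] [Group.IsNilpotent P]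
    (h : IsCyclic (P ⧸ commutator P)) : commutator P = ⊥ := by
  have hN2le : ⁅commutator P, (⊤ : Subgroup P)⁆ ≤ commutator P := Subgroup.commutator_le_left _ _
  let f : P ⧸ ⁅commutator P, (⊤ : Subgroup P)⁆ →* P ⧸ commutator P :=
    QuotientGroup.map _ _ (MonoidHom.id P) (fun x hx => hN2le hx)
  have hker : f.ker ≤ Subgroup.center (P ⧸ ⁅commutator P, (⊤ : Subgroup P)⁆) := by
    intro x hx
    obtain ⟨a, rfl⟩ := QuotientGroup.mk_surjective x
    rw [MonoidHom.mem_ker] at hx
    have ha : a ∈ commutator P := by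
      have h1 : f (a : P ⧸ ⁅commutator P, (⊤ : Subgroup P)⁆) = ((a : P) : P ⧸ commutator P) := rfl
      rw [h1, QuotientGroup.eq_one_iff] at hx
      exact hx
    rw [Subgroup.mem_center_iff]
    intro y
    obtain ⟨b, rfl⟩ := QuotientGroup.mk_surjective y
    rw [← QuotientGroup.mk_mul, ← QuotientGroup.mk_mul, QuotientGroup.eq]
    have h2 : (b * a)⁻¹ * (a * b) = ⁅a⁻¹, b⁻¹⁆ := by
      rw [commutatorElement_def]
      group
    rw [h2]
    exact Subgroup.commutator_mem_commutator ((commutator P).inv_mem ha) (Subgroup.mem_top _)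
  have hcomm : IsMulCommutative (P ⧸ ⁅commutator P, (⊤ : Subgroup P)⁆) :=
    f.isMulCommutative_of_isCyclic_of_ker_le_center hker
  have hle : commutator P ≤ ⁅commutator P, (⊤ : Subgroup P)⁆ :=
    Subgroup.Normal.quotient_commutative_iff_commutator_le.mp hcomm
  have heq : ⁅commutator P, (⊤ : Subgroup P)⁆ = commutator P := le_antisymm hN2le hle
  have hlcs : ∀ n, (⊤ : Subgroup P).lowerCentralSeries (n + 1) = commutator P := by
    intro n
    induction n with
    | zero => rfl
    | succ n ih => rw [Subgroup.lowerCentralSeries_succ, ih, heq]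
  obtain ⟨n, hn⟩ := Subgroup.nilpotent_iff_lowerCentralSeries.mp (inferInstance : Group.IsNilpotent P)
  cases n with
  | zero =>
    rw [Subgroup.lowerCentralSeries_zero] at hn
    exact le_bot_iff.mp (hn ▸ le_top)
  | succ n =>
    rw [hlcs] at hn
    exact hn

/-- the order of `A ⊔ B` when `A` normalises `B` and `A ⊓ B = ⊥` -/
theorem card_sup_of_disjoint {G : Type*} [Group G] (A B : Subgroup G)
    (hLE : A ≤ Subgroup.normalizer B) (h : A ⊓ B = ⊥) :
    Nat.card ↥(A ⊔ B) = Nat.card A * Nat.card B := by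
  rw [← Nat.card_prod]
  symm
  apply Nat.card_congr
  refine Equiv.ofBijective
    (fun x : A × B => (⟨x.1 * x.2, Subgroup.mul_mem_sup x.1.2 x.2.2⟩ : ↥(A ⊔ B))) ⟨?_, ?_⟩
  · rintro ⟨a, b⟩ ⟨a', b'⟩ hab
    have h1 : (a : G) * b = a' * b' := congrArg Subtype.val hab
    have h2 : (a' : G)⁻¹ * a = b' * (b : G)⁻¹ := by
      rw [eq_mul_inv_iff_mul_eq, mul_assoc, h1, inv_mul_cancel_left]
    have h3 : (a' : G)⁻¹ * a ∈ A ⊓ B :=
      ⟨A.mul_mem (A.inv_mem a'.2) a.2, by rw [h2]; exact B.mul_mem b'.2 (B.inv_mem b.2)⟩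
    rw [h, Subgroup.mem_bot, inv_mul_eq_one] at h3
    have hb : (b : G) = b' := by
      rw [h3] at h1
      exact mul_left_cancel h1
    exact Prod.ext (Subtype.ext h3.symm) (Subtype.ext hb)
  · rintro ⟨x, hx⟩
    have hx' : x ∈ (A : Set G) * B := by
      rw [← Subgroup.coe_mul_of_left_le_normalizer_right A B hLE]
      exact hx
    obtain ⟨a, ha, b, hb, rfl⟩ := hx'
    exact ⟨(⟨a, ha⟩, ⟨b, hb⟩), rfl⟩

/-- the quotient by a normal subgroup supplementing a 2-group is a 2-group -/
theorem isPGroup_quotient_of_sup_eq_top {G : Type*} [Group G] (U X : Subgroup G) [X.Normal]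
    (hU : IsPGroup 2 U) (h : U ⊔ X = ⊤) : IsPGroup 2 (G ⧸ X) := by
  intro x
  obtain ⟨g, rfl⟩ := QuotientGroup.mk_surjective x
  have hg : g ∈ (U : Set G) * X := by
    rw [← Subgroup.mul_normal, h]
    trivial
  obtain ⟨u, hu, k, hk, rfl⟩ := hg
  obtain ⟨n, hn⟩ := hU ⟨u, hu⟩
  refine ⟨n, ?_⟩
  have h1 : ((u * k : G) : G ⧸ X) = (u : G ⧸ X) := by
    rw [QuotientGroup.mk_mul, (QuotientGroup.eq_one_iff k).mpr hk, mul_one]
  have h2 : u ^ 2 ^ n = 1 := by
    have := congrArg Subtype.val hn
    simpa using this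
  rw [h1, ← QuotientGroup.mk_pow, h2]
  rfl

section conj

variable {G : Type*} [Group G]

/-- conjugation by `g`, as an endomorphism -/
def cj (g : G) : G →* G := (MulAut.conj g).toMonoidHom

theorem cj_apply (g x : G) : cj g x = g * x * g⁻¹ := rfl

theorem cj_injective (g : G) : Function.Injective (cj g) := (MulAut.conj g).injective

theorem map_cj_mul (a b : G) (M : Subgroup G) : M.map (cj (a * b)) = (M.map (cj b)).map (cj a) := by
  rw [Subgroup.map_map]
  congr 1
  ext x
  simp [cj_apply, mul_assoc]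

theorem normal_of_map_cj {K : Subgroup G} (h : ∀ g, K.map (cj g) = K) : K.Normal :=
  ⟨fun n hn g => by
    rw [← h g]
    exact ⟨n, hn, rfl⟩⟩

end conj

/-- the core of TITS-[ABS]: a non-trivial subgroup of the derived subgroup normalised by it is the whole of it -/
theorem eq_commutator_of_normalized {G : Type*} [Group G] [Finite G]
    (U : Subgroup G) (hU : IsPGroup 2 U)
    (hdich : ∀ X : Subgroup G, X.Normal → X = ⊥ ∨ U ⊔ X = ⊤)
    (hidx : (commutator G).index = 2)
    (p : ℕ) (hp : p.Prime) (hp2 : p ≠ 2) (hpd : p ∣ Nat.card G) (hpsq : ¬ p ^ 2 ∣ Nat.card G)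
    (M : Subgroup G) (hMT : M ≤ commutator G)
    (hnorm : ∀ t ∈ commutator G, ∀ m ∈ M, t * m * t⁻¹ ∈ M) (hM : M ≠ ⊥) : M = commutator G := by
  have hTn : (commutator G).Normal := inferInstance
  have hp2' : Nat.Coprime p 2 := (Nat.coprime_primes hp Nat.prime_two).mpr hp2
  -- an element outside the derived subgroup
  obtain ⟨q, hq⟩ : ∃ q, q ∉ commutator G := by
    by_contra hcon
    push Not at hcon
    have : commutator G = ⊤ := (Subgroup.eq_top_iff' _).mpr hcon
    rw [this, Subgroup.index_top] at hidx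
    omega
  have hqi : q⁻¹ ∉ commutator G := fun h => hq ((Subgroup.inv_mem_iff _).mp h)
  have hcoset : ∀ g, g ∈ commutator G ∨ q⁻¹ * g ∈ commutator G := by
    intro g
    by_cases hg : g ∈ commutator G
    · exact Or.inl hg
    · right
      rw [Subgroup.mul_mem_iff_of_index_two hidx]
      exact ⟨fun h => absurd h hqi, fun h => absurd h hg⟩
  have hqq : q * q ∈ commutator G := Subgroup.mul_self_mem_of_index_two hidx q
  -- the conjugates of `M`
  have F1 : ∀ t ∈ commutator G, M.map (cj t) = M := by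
    intro t ht
    apply le_antisymm
    · rintro x ⟨m, hm, rfl⟩
      exact hnorm t ht m hm
    · intro m hm
      refine ⟨t⁻¹ * m * t, ?_, ?_⟩
      · have := hnorm t⁻¹ ((commutator G).inv_mem ht) m hm
        rwa [inv_inv] at this
      · rw [cj_apply]
        group
  have F2 : ∀ t ∈ commutator G, (M.map (cj q)).map (cj t) = M.map (cj q) := by
    intro t ht
    have h1 : t * q = q * (q⁻¹ * t * q) := by group
    rw [← map_cj_mul, h1, map_cj_mul, F1 _ (hTn.conj_mem' t ht q)]
  have F3 : (M.map (cj q)).map (cj q) = M := by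
    rw [← map_cj_mul, F1 _ hqq]
  have F4 : ∀ g, (M.map (cj g) = M ∧ (M.map (cj q)).map (cj g) = M.map (cj q)) ∨
      (M.map (cj g) = M.map (cj q) ∧ (M.map (cj q)).map (cj g) = M) := by
    intro g
    rcases hcoset g with hg | hg
    · exact Or.inl ⟨F1 g hg, F2 g hg⟩
    · right
      have h1 : g = q * (q⁻¹ * g) := by group
      constructor
      · rw [h1, map_cj_mul, F1 _ hg]
      · rw [h1, map_cj_mul, F2 _ hg, F3]
  have hMqT : M.map (cj q) ≤ commutator G := by
    rintro x ⟨m, hm, rfl⟩
    exact hTn.conj_mem m (hMT hm) q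
  have hKn : (M ⊓ M.map (cj q)).Normal := by
    apply normal_of_map_cj
    intro g
    rw [Subgroup.map_inf_eq _ _ _ (cj_injective g)]
    rcases F4 g with ⟨h1, h2⟩ | ⟨h1, h2⟩
    · rw [h1, h2]
    · rw [h1, h2, inf_comm]
  have hLn : (M ⊔ M.map (cj q)).Normal := by
    apply normal_of_map_cj
    intro g
    rw [Subgroup.map_sup]
    rcases F4 g with ⟨h1, h2⟩ | ⟨h1, h2⟩
    · rw [h1, h2]
    · rw [h1, h2, sup_comm]
  by_cases hK : M ⊓ M.map (cj q) = ⊥
  · -- the product of the two conjugates has order `|M| ^ 2`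
    exfalso
    have hL : M ⊔ M.map (cj q) ≠ ⊥ := by
      intro h
      apply hM
      rw [eq_bot_iff, ← h]
      exact le_sup_left
    have hUL : U ⊔ (M ⊔ M.map (cj q)) = ⊤ := (hdich _ hLn).resolve_left hL
    obtain ⟨n, hn⟩ := IsPGroup.iff_card.mp (isPGroup_quotient_of_sup_eq_top U _ hU hUL)
    have hcardG : Nat.card G = Nat.card (G ⧸ (M ⊔ M.map (cj q))) * Nat.card ↥(M ⊔ M.map (cj q)) :=
      Subgroup.card_eq_card_quotient_mul_card_subgroup _
    have hpL : p ∣ Nat.card ↥(M ⊔ M.map (cj q)) := by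
      rw [hcardG, hn] at hpd
      exact (Nat.Coprime.pow_right n hp2').dvd_of_dvd_mul_left hpd
    have hnormMq : M ≤ Subgroup.normalizer (M.map (cj q) : Subgroup G) := by
      intro m hm
      rw [Subgroup.mem_normalizer_iff_map_conj_eq]
      exact F2 m (hMT hm)
    have hcardL : Nat.card ↥(M ⊔ M.map (cj q)) = Nat.card M * Nat.card M := by
      rw [card_sup_of_disjoint M _ hnormMq hK, Subgroup.card_map_of_injective (cj_injective q)]
    have hpM : p ∣ Nat.card M := by
      rw [hcardL] at hpL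
      rcases (Nat.Prime.dvd_mul hp).mp hpL with h | h <;> exact h
    apply hpsq
    calc p ^ 2 = p * p := pow_two p
      _ ∣ Nat.card M * Nat.card M := Nat.mul_dvd_mul hpM hpM
      _ = Nat.card ↥(M ⊔ M.map (cj q)) := hcardL.symm
      _ ∣ Nat.card G := Subgroup.card_subgroup_dvd_card _
  · -- the quotient by the core is a nilpotent group with cyclic abelianisation
    have hUK : U ⊔ (M ⊓ M.map (cj q)) = ⊤ := (hdich _ hKn).resolve_left hK
    have hP2 : IsPGroup 2 (G ⧸ (M ⊓ M.map (cj q))) := isPGroup_quotient_of_sup_eq_top U _ hU hUK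
    have : Fact (Nat.Prime 2) := ⟨Nat.prime_two⟩
    have hnil : Group.IsNilpotent (G ⧸ (M ⊓ M.map (cj q))) := hP2.isNilpotent
    have hcycG : IsCyclic (Abelianization G) := by
      apply isCyclic_of_prime_card (p := 2)
      rw [← hidx, Subgroup.index_eq_card]
      rfl
    let f : G →* Abelianization (G ⧸ (M ⊓ M.map (cj q))) :=
      (Abelianization.of).comp (QuotientGroup.mk' (M ⊓ M.map (cj q)))
    have hsurj : Function.Surjective (Abelianization.lift f) := by
      intro y
      obtain ⟨x, rfl⟩ := QuotientGroup.mk_surjective y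
      obtain ⟨g, rfl⟩ := QuotientGroup.mk_surjective x
      exact ⟨Abelianization.of g, by rw [Abelianization.lift_apply_of]; rfl⟩
    have hcycP : IsCyclic (Abelianization (G ⧸ (M ⊓ M.map (cj q)))) :=
      isCyclic_of_surjective (Abelianization.lift f) hsurj
    have hbot : commutator (G ⧸ (M ⊓ M.map (cj q))) = ⊥ :=
      commutator_eq_bot_of_isCyclic_quotient hcycP
    have hcomm : IsMulCommutative (G ⧸ (M ⊓ M.map (cj q))) := by
      refine ⟨⟨fun x y => ?_⟩⟩
      have h1 : ⁅x, y⁆ ∈ commutator (G ⧸ (M ⊓ M.map (cj q))) :=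
        Subgroup.commutator_mem_commutator (Subgroup.mem_top x) (Subgroup.mem_top y)
      rw [hbot, Subgroup.mem_bot, commutatorElement_eq_one_iff_mul_comm] at h1
      exact h1
    have hle : commutator G ≤ M ⊓ M.map (cj q) :=
      Subgroup.Normal.quotient_commutative_iff_commutator_le.mp hcomm
    exact le_antisymm hMT (hle.trans inf_le_left)

/-- TITS-[ABS] -/
theorem isSimpleGroup_commutator_of_index_two {G : Type*} [Group G] [Finite G]
    (U : Subgroup G) (hU : IsPGroup 2 U)
    (hdich : ∀ X : Subgroup G, X.Normal → X = ⊥ ∨ U ⊔ X = ⊤)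
    (hidx : (commutator G).index = 2)
    (p : ℕ) (hp : p.Prime) (hp2 : p ≠ 2) (hpd : p ∣ Nat.card G) (hpsq : ¬ p ^ 2 ∣ Nat.card G) :
    IsSimpleGroup ↥(commutator G) := by
  have hp2' : Nat.Coprime p 2 := (Nat.coprime_primes hp Nat.prime_two).mpr hp2
  have hnt : Nontrivial ↥(commutator G) := by
    have h1 : Nat.card ↥(commutator G) * (commutator G).index = Nat.card G :=
      Subgroup.card_mul_index _
    rw [hidx] at h1
    have h2 : p ∣ Nat.card ↥(commutator G) := by
      rw [← h1] at hpd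
      exact hp2'.dvd_of_dvd_mul_right hpd
    have h3 : 0 < Nat.card ↥(commutator G) := Nat.card_pos
    have h4 := Nat.le_of_dvd h3 h2
    have h5 := hp.two_le
    exact Finite.one_lt_card_iff_nontrivial.mp (by omega)
  refine { toNontrivial := hnt, eq_bot_or_eq_top_of_normal := ?_ }
  intro M' hM'n
  by_cases hM' : M' = ⊥
  · exact Or.inl hM'
  · right
    have hMT : M'.map (commutator G).subtype ≤ commutator G := Subgroup.map_subtype_le M'
    have hnorm : ∀ t ∈ commutator G, ∀ m ∈ M'.map (commutator G).subtype,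
        t * m * t⁻¹ ∈ M'.map (commutator G).subtype := by
      rintro t ht m ⟨m', hm', rfl⟩
      exact ⟨⟨t, ht⟩ * m' * ⟨t, ht⟩⁻¹, hM'n.conj_mem m' hm' ⟨t, ht⟩, rfl⟩
    have hM : M'.map (commutator G).subtype ≠ ⊥ := by
      intro h
      exact hM' ((Subgroup.map_eq_bot_iff_of_injective M' (commutator G).subtype_injective).mp h)
    have heq := eq_commutator_of_normalized U hU hdich hidx p hp hp2 hpd hpsq _ hMT hnorm hM
    rw [eq_top_iff]
    intro x _
    have hx : (x : G) ∈ M'.map (commutator G).subtype := by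
      rw [heq]
      exact x.2
    obtain ⟨m', hm', hmx⟩ := hx
    have : m' = x := Subtype.ext hmx
    rw [← this]
    exact hm'

end Cfsg.Agent.Lib.Helper9.TitsAbs
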