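import Mathlib
import Cfsg.Prelude.Def_GeometricClasses
import Cfsg.Agent.Lib.Helper99.TWDefs

/-!
# S5707 module [UNIQ] (helper99 #4584)

A quadratic form (in the weak sense used here: `Q (c • v) = c² Q v`, polar form given by the Gram
matrix) is determined by its polar form and its values on the standard basis.
-/

set_option autoImplicit false

namespace Cfsg.Agent.Lib.Helper9.TW

open Cfsg.Agent.Lib.Helper99.TW Matrix

section general

variable {F : Type*} [Field F] {ι : Type*} [Fintype ι]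

theorem mulVec_dotProduct_eq (A : Matrix ι ι F) (x z : ι → F) :
    (A *ᵥ x) ⬝ᵥ z = x ⬝ᵥ (Aᵀ *ᵥ z) := by
  rw [dotProduct_comm, Matrix.dotProduct_mulVec, ← Matrix.mulVec_transpose, dotProduct_comm]

theorem dot_conj (A M : Matrix ι ι F) (x y : ι → F) :
    (A *ᵥ x) ⬝ᵥ (M *ᵥ (A *ᵥ y)) = x ⬝ᵥ ((Aᵀ * M * A) *ᵥ y) := by
  rw [mulVec_dotProduct_eq, Matrix.mulVec_mulVec, Matrix.mulVec_mulVec, Matrix.mul_assoc]

theorem eq_of_forall_dot [DecidableEq ι] (M N : Matrix ι ι F)
    (h : ∀ x y : ι → F, x ⬝ᵥ (M *ᵥ y) = x ⬝ᵥ (N *ᵥ y)) : M = N := by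
  ext a b
  have := h (Pi.single a 1) (Pi.single b 1)
  simpa using this

end general

section uniq

variable {F : Type*} [Field F] {k t : ℕ}

theorem mem_isometryGroup_iff (Q : (Idx k t → F) → F) (g : GL (Idx k t) F) :
    g ∈ Cfsg.isometryGroup F Q ↔
      ∀ u : Idx k t → F, Q ((g : Matrix (Idx k t) (Idx k t) F) *ᵥ u) = Q u := by
  constructor
  · intro h u
    exact h u u
  · intro h u _
    exact h u

theorem gram_of_mem_isometryGroup (Q : (Idx k t → F) → F) (c : F)
    (hpol : ∀ x y, QuadraticMap.polar Q x y = x ⬝ᵥ (gram k t c *ᵥ y))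
    (g : GL (Idx k t) F) (hg : g ∈ Cfsg.isometryGroup F Q) :
    (g : Matrix (Idx k t) (Idx k t) F)ᵀ * gram k t c * (g : Matrix (Idx k t) (Idx k t) F) =
      gram k t c := by
  rw [mem_isometryGroup_iff] at hg
  apply eq_of_forall_dot
  intro x y
  rw [← dot_conj, ← hpol, ← hpol]
  unfold QuadraticMap.polar
  rw [← Matrix.mulVec_add, hg, hg, hg]

theorem Q_zero (Q : (Idx k t → F) → F)
    (hsm : ∀ (c : F) (v : Idx k t → F), Q (c • v) = c ^ 2 * Q v) : Q 0 = 0 := by
  have := hsm 0 0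
  rw [zero_smul] at this
  rw [this]
  ring

theorem polar_sum_right (Q : (Idx k t → F) → F) (c : F)
    (hpol : ∀ x y, QuadraticMap.polar Q x y = x ⬝ᵥ (gram k t c *ᵥ y))
    {κ : Type*} (s : Finset κ) (x : Idx k t → F) (u : κ → Idx k t → F) :
    QuadraticMap.polar Q x (∑ i ∈ s, u i) = ∑ i ∈ s, QuadraticMap.polar Q x (u i) := by
  rw [hpol, Matrix.mulVec_sum, dotProduct_sum]
  exact Finset.sum_congr rfl fun i _ => (hpol x (u i)).symm

theorem Q_add (Q : (Idx k t → F) → F) (x y : Idx k t → F) :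
    Q (x + y) = Q x + Q y + QuadraticMap.polar Q x y := by
  unfold QuadraticMap.polar
  ring

theorem Q_sum_eq_zero (Q : (Idx k t → F) → F)
    (hsm : ∀ (c : F) (v : Idx k t → F), Q (c • v) = c ^ 2 * Q v) (c : F)
    (hpol : ∀ x y, QuadraticMap.polar Q x y = x ⬝ᵥ (gram k t c *ᵥ y))
    {κ : Type*} (s : Finset κ) (u : κ → Idx k t → F) (h0 : ∀ i ∈ s, Q (u i) = 0)
    (h1 : ∀ i ∈ s, ∀ j ∈ s, i ≠ j → QuadraticMap.polar Q (u i) (u j) = 0) :
    Q (∑ i ∈ s, u i) = 0 := by
  classical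
  induction s using Finset.induction_on with
  | empty => rw [Finset.sum_empty]; exact Q_zero Q hsm
  | insert a s ha ih =>
    rw [Finset.sum_insert ha, Q_add Q, h0 a (Finset.mem_insert_self a s),
      ih (fun i hi => h0 i (Finset.mem_insert_of_mem hi))
        (fun i hi j hj hij => h1 i (Finset.mem_insert_of_mem hi) j (Finset.mem_insert_of_mem hj)
          hij),
      polar_sum_right Q c hpol]
    rw [Finset.sum_eq_zero]
    · ring
    · intro j hj
      apply h1 a (Finset.mem_insert_self a s) j (Finset.mem_insert_of_mem hj)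
      rintro rfl
      exact ha hj

theorem mem_isometryGroup_of (Q : (Idx k t → F) → F)
    (hsm : ∀ (c : F) (v : Idx k t → F), Q (c • v) = c ^ 2 * Q v) (c : F)
    (hpol : ∀ x y, QuadraticMap.polar Q x y = x ⬝ᵥ (gram k t c *ᵥ y))
    (hb : ∀ a : Idx k t, Q (Pi.single a 1) = 0) (g : GL (Idx k t) F)
    (hG : (g : Matrix (Idx k t) (Idx k t) F)ᵀ * gram k t c *
      (g : Matrix (Idx k t) (Idx k t) F) = gram k t c)
    (hgb : ∀ a : Idx k t, Q ((g : Matrix (Idx k t) (Idx k t) F) *ᵥ Pi.single a 1) = 0) :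
    g ∈ Cfsg.isometryGroup F Q := by
  classical
  rw [mem_isometryGroup_iff]
  set A : Matrix (Idx k t) (Idx k t) F := (g : Matrix (Idx k t) (Idx k t) F) with hA
  -- equal polars
  have hpolg : ∀ x y : Idx k t → F,
      QuadraticMap.polar Q (A *ᵥ x) (A *ᵥ y) = QuadraticMap.polar Q x y := by
    intro x y
    rw [hpol, hpol, dot_conj, hG]
  -- additivity of the defect over finite sums
  have hadd : ∀ (s : Finset (Idx k t)) (v : Idx k t → Idx k t → F),
      Q (A *ᵥ ∑ a ∈ s, v a) - Q (∑ a ∈ s, v a) = ∑ a ∈ s, (Q (A *ᵥ v a) - Q (v a)) := by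
    intro s v
    induction s using Finset.induction_on with
    | empty =>
      rw [Finset.sum_empty, Finset.sum_empty, Matrix.mulVec_zero, sub_self]
    | insert a s ha ih =>
      rw [Finset.sum_insert ha, Finset.sum_insert ha, Matrix.mulVec_add, Q_add Q (A *ᵥ v a),
        Q_add Q (v a),
        hpolg, ← ih]
      ring
  intro u
  have hu : u = ∑ a, (u a) • (Pi.single a 1 : Idx k t → F) := by
    ext b
    simp [Finset.sum_apply, Pi.single_apply]
  have hterm : ∀ a : Idx k t, Q (A *ᵥ ((u a) • (Pi.single a 1 : Idx k t → F))) -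
      Q ((u a) • (Pi.single a 1 : Idx k t → F)) = 0 := by
    intro a
    rw [Matrix.mulVec_smul, hsm, hsm, hgb a, hb a]
    ring
  have h := hadd Finset.univ (fun a => (u a) • (Pi.single a 1 : Idx k t → F))
  rw [Finset.sum_congr rfl (fun a _ => hterm a), Finset.sum_const_zero, ← hu] at h
  exact sub_eq_zero.mp h

end uniq

end Cfsg.Agent.Lib.Helper9.TW
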