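import Mathlib
import Cfsg.Agent.Lib.Helper64.PFElevenDefs
import Cfsg.Agent.Lib.Helper78.CharValues
import Cfsg.Agent.Lib.Helper81.IrrTwist

/-!
# PF section 11 end game, module [GAL-A] (helper9, for helper64)

The Dade map commutes with field automorphisms of `ℂ` and with complex scalars; the inner product
of two generalized characters is Galois-equivariant.
-/

set_option autoImplicit false
set_option linter.unusedSectionVars false

namespace Cfsg.Agent.Lib.Helper9.PF11

open Cfsg Cfsg.Agent.Lib.Helper24.PFCyc Cfsg.Agent.Lib.Helper4.PF Cfsg.Agent.Lib.Helper64.PF11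
open scoped ComplexConjugate

universe u

variable {G : Type u} [Group G] [Fintype G]

/-! ### MODULE [GAL-A] -/

theorem tau_gal (M : Subgroup G) (σ : ℂ ≃+* ℂ) (α : ↥M → ℂ) :
    tauM M (fun m => σ (α m)) = fun g => σ (tauM M α g) := by
  funext g
  unfold tauM dadeIsometry
  split_ifs with h
  · rfl
  · exact (map_zero σ).symm

theorem tau_smul (M : Subgroup G) (c : ℂ) (α : ↥M → ℂ) :
    tauM M (c • α) = c • tauM M α := by
  funext g
  unfold tauM dadeIsometry
  simp only [Pi.smul_apply, smul_eq_mul]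
  split_ifs with h
  · rfl
  · exact (mul_zero c).symm

/-- For a generalized character, `conj (Y g) = Y g⁻¹`. -/
theorem IsGeneralizedCharacter.conj_eq {Y : G → ℂ} (hY : IsGeneralizedCharacter G Y) (g : G) :
    conj (Y g) = Y g⁻¹ := by
  obtain ⟨χ, ψ, hχ, hψ, rfl⟩ := hY
  simp only [Pi.sub_apply, map_sub]
  rw [Cfsg.Agent.Lib.Helper78.IsCharacter.inv hχ g, Cfsg.Agent.Lib.Helper78.IsCharacter.inv hψ g]

/-- A Galois conjugate of a generalized character is a generalized character. -/
theorem IsGeneralizedCharacter.galois {Y : G → ℂ} (hY : IsGeneralizedCharacter G Y)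
    (σ : ℂ ≃+* ℂ) : IsGeneralizedCharacter G (fun g => σ (Y g)) := by
  obtain ⟨χ, ψ, hχ, hψ, rfl⟩ := hY
  refine ⟨fun g => σ (χ g), fun g => σ (ψ g),
    Cfsg.Agent.Lib.Helper81.isCharacter_galois hχ (σ : ℂ →+* ℂ),
    Cfsg.Agent.Lib.Helper81.isCharacter_galois hψ (σ : ℂ →+* ℂ), ?_⟩
  funext g
  simp only [Pi.sub_apply, map_sub]

theorem classInner_gal (X Y : G → ℂ) (hX : IsGeneralizedCharacter G X)
    (hY : IsGeneralizedCharacter G Y) (σ : ℂ ≃+* ℂ) :
    classInner (fun g => σ (X g)) (fun g => σ (Y g)) = σ (classInner X Y) := by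
  unfold classInner
  rw [map_mul, map_inv₀, map_natCast, map_sum]
  congr 1
  apply Finset.sum_congr rfl
  intro g _
  rw [map_mul]
  congr 1
  have h1 := IsGeneralizedCharacter.conj_eq (IsGeneralizedCharacter.galois hY σ) g
  have h2 := IsGeneralizedCharacter.conj_eq hY g
  rw [h2]
  exact h1

end Cfsg.Agent.Lib.Helper9.PF11
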