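import Mathlib
import Cfsg.Agent.Lib.Helper64.PFElevenDefs
import Cfsg.Agent.Lib.Helper26.IrrFacts
import Cfsg.Agent.Lib.Helper74.PFTwelveA
import Cfsg.Agent.Lib.Helper9.PFElevenGalA

/-!
# PF section 11 end game, module [HR] (helper9, for helper64)

anchor + bridge0 give `⟨χ, τ(d ζ - μ_ψ)⟩ = d`.
-/

set_option autoImplicit false
set_option linter.unusedSectionVars false
set_option linter.unusedVariables false

namespace Cfsg.Agent.Lib.Helper9.PF11

open Cfsg Cfsg.Agent.Lib.Helper24.PFCyc Cfsg.Agent.Lib.Helper4.PF Cfsg.Agent.Lib.Helper64.PF11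
open Cfsg.Agent.Lib.Helper26
open scoped ComplexConjugate

universe u

variable {G : Type u} [Group G] [Fintype G] {M W₁ U W₂ : Subgroup G} [Fintype M]
  {mu : WChar W₁ W₂ → (↥M → ℂ)} {dl : WChar W₁ W₂ → ℂ} {η : WChar W₁ W₂ → (G → ℂ)}
  {d : ℕ} {δ : ℂ} {n : ℤ}

theorem tauM_sub (M : Subgroup G) (α β : ↥M → ℂ) :
    tauM M (α - β) = tauM M α - tauM M β :=
  Cfsg.Agent.Lib.Helper74.PF12.dade_sub (litA0 M) M (supportR M) α β

theorem tauM_add (M : Subgroup G) (α β : ↥M → ℂ) :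
    tauM M (α + β) = tauM M α + tauM M β :=
  Cfsg.Agent.Lib.Helper74.PF12.dade_add (litA0 M) M (supportR M) α β

/-! ### MODULE [HR] -/

theorem hr_of_anchor (F : Frame M W₁ U W₂ mu dl η d δ n)
    (ζ : ↥M → ℂ) (χ : G → ℂ) (hχn : classInner χ χ = 1)
    (hχη : ∀ ω, classInner χ (η ω) = 0)
    (hbridge : tauM M (muSum mu 1 - ζ) = etaSum η 1 - χ)
    (ψ : WChar W₁ W₂) (hψ : TrivOn W₁ ψ) (hψ1 : ψ ≠ 1)
    (hanchor : tauM M ((d : ℂ) • muSum mu 1 - muSum mu ψ) =
      (d : ℂ) • etaSum η 1 - δ • etaSum η ψ) :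
    classInner χ (tauM M ((d : ℂ) • ζ - muSum mu ψ)) = (d : ℂ) := by
  have hdecomp : (d : ℂ) • ζ - muSum mu ψ =
      ((d : ℂ) • muSum mu 1 - muSum mu ψ) - (d : ℂ) • (muSum mu 1 - ζ) := by
    funext m
    simp only [Pi.sub_apply, Pi.smul_apply, smul_eq_mul]
    ring
  have hτ : tauM M ((d : ℂ) • ζ - muSum mu ψ) = (d : ℂ) • χ - δ • etaSum η ψ := by
    rw [hdecomp, tauM_sub, tau_smul,
      hanchor, hbridge]
    funext g
    simp only [Pi.sub_apply, Pi.smul_apply, smul_eq_mul]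
    ring
  have h0 : classInner χ (etaSum η ψ) = 0 := by
    unfold etaSum
    rw [classInner_sum_right]
    apply Finset.sum_eq_zero
    intro φ _
    exact hχη _
  rw [hτ, classInner_sub_right, classInner_smul_right, classInner_smul_right, hχn, h0]
  simp

end Cfsg.Agent.Lib.Helper9.PF11
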