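import Mathlib
import Cfsg.Agent.Lib.Helper64.PFElevenDefs
import Cfsg.Agent.Lib.Helper26.IrrFacts
import Cfsg.Agent.Lib.Helper25.PFCycEta
import Cfsg.Agent.Lib.Helper75.GaloisPow
import Cfsg.Agent.Lib.Helper9.PFCycMuConst
import Cfsg.Agent.Lib.Helper9.PFElevenGalA

/-!
# PF section 11 end game, module [E-COEF] (helper9, for helper64)

A Galois-invariant generalized character `E` has coefficients `⟨E, η_ω⟩` that are constant on the
`φ ≠ 1` (trivial on `W₂`) and on the `ψ ≠ 1` (trivial on `W₁`).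
-/

set_option autoImplicit false
set_option linter.unusedSectionVars false
set_option linter.unusedVariables false

namespace Cfsg.Agent.Lib.Helper9.PF11

open Cfsg Cfsg.Agent.Lib.Helper24.PFCyc Cfsg.Agent.Lib.Helper4.PF Cfsg.Agent.Lib.Helper64.PF11
open Cfsg.Agent.Lib.Helper26 Cfsg.Agent.Lib.Helper9.PFCyc
open scoped ComplexConjugate

universe u

variable {G : Type u} [Group G] [Fintype G] {M W₁ U W₂ : Subgroup G} [Fintype M]
  {mu : WChar W₁ W₂ → (↥M → ℂ)} {dl : WChar W₁ W₂ → ℂ} {η : WChar W₁ W₂ → (G → ℂ)}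
  {d : ℕ} {δ : ℂ} {n : ℤ}

/-- Galois is transitive on the nonprincipal characters of `W` trivial on `X`, when the characters
of `W` are determined by their restrictions to `X` and `Y` and `Y` has prime order. -/
theorem exists_galChar_eq_of_prime (X Y : Subgroup G) (hYW : Y ≤ W₁ ⊔ W₂)
    (hext : ∀ ω ω' : WChar W₁ W₂, (∀ w : ↥(W₁ ⊔ W₂), (w : G) ∈ X → ω w = ω' w) →
      (∀ w : ↥(W₁ ⊔ W₂), (w : G) ∈ Y → ω w = ω' w) → ω = ω')
    (hp : (Nat.card Y).Prime) (χ χ' : WChar W₁ W₂) (hχ : TrivOn X χ) (hχ' : TrivOn X χ')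
    (hχ1 : χ ≠ 1) (hχ'1 : χ' ≠ 1) : ∃ σ : ℂ ≃+* ℂ, galChar σ χ = χ' := by
  set p := Nat.card Y with hpdef
  have : NeZero p := ⟨hp.ne_zero⟩
  have hY : Y ≠ ⊥ := by
    intro h
    rw [hpdef, h, Subgroup.card_bot] at hp
    exact Nat.not_prime_one hp
  obtain ⟨w₂, hw₂1⟩ := (Subgroup.ne_bot_iff_exists_ne_one.mp hY)
  have hw₂' : (w₂ : G) ∈ Y := w₂.2
  have hw₂ne : (w₂ : G) ≠ 1 := fun h1 => hw₂1 (Subtype.ext h1)
  have hYz : Y = Subgroup.zpowers (w₂ : G) := by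
    have hfin : Finite Y := Nat.finite_of_card_ne_zero (by rw [← hpdef]; exact hp.ne_zero)
    have hord : orderOf (w₂ : G) = p := by
      have h1 : orderOf (w₂ : G) ∣ p := by
        have := Subgroup.orderOf_dvd_natCard Y hw₂'
        rwa [← hpdef] at this
      rcases (Nat.dvd_prime hp).mp h1 with h | h
      · exact absurd (orderOf_eq_one_iff.mp h) hw₂ne
      · exact h
    symm
    apply Subgroup.eq_of_le_of_card_ge
    · rw [Subgroup.zpowers_le]; exact hw₂'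
    · rw [Nat.card_zpowers, hord]
  set b : ↥(W₁ ⊔ W₂) := ⟨(w₂ : G), hYW hw₂'⟩ with hb
  have hbpow : b ^ p = 1 := by
    apply Subtype.ext
    have : ((b ^ p : ↥(W₁ ⊔ W₂)) : G) = (w₂ : G) ^ p := by simp [hb]
    rw [this]
    have h1 : w₂ ^ p = 1 := by rw [hpdef]; exact pow_card_eq_one'
    have := congrArg Subtype.val h1
    simpa using this
  have hmemz : ∀ w : ↥(W₁ ⊔ W₂), (w : G) ∈ Y → w ∈ Subgroup.zpowers b := by
    intro w hw
    have hw' : (w : G) ∈ Subgroup.zpowers (w₂ : G) := hYz ▸ hw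
    obtain ⟨j, hj⟩ := Subgroup.mem_zpowers_iff.mp hw'
    rw [Subgroup.mem_zpowers_iff]
    refine ⟨j, ?_⟩
    apply Subtype.ext
    rw [← hj]
    simp [hb]
  have htriv : ∀ ω : WChar W₁ W₂, TrivOn X ω → ω b = 1 → ω = 1 := by
    intro ω hω hωb
    apply hext
    · intro w hw
      rw [hω w hw]; rfl
    · intro w hw
      obtain ⟨j, hj⟩ := Subgroup.mem_zpowers_iff.mp (hmemz w hw)
      rw [← hj, map_zpow, hωb, one_zpow]; rfl
  set ζ : ℂ := ((χ b : ℂˣ) : ℂ) with hζ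
  set ξ : ℂ := ((χ' b : ℂˣ) : ℂ) with hξ
  have hζp : ζ ^ p = 1 := by
    rw [hζ, ← Units.val_pow_eq_pow_val, ← map_pow, hbpow, map_one]; rfl
  have hξp : ξ ^ p = 1 := by
    rw [hξ, ← Units.val_pow_eq_pow_val, ← map_pow, hbpow, map_one]; rfl
  have hζ1 : ζ ≠ 1 := by
    intro h1
    apply hχ1
    apply htriv χ hχ
    apply Units.ext
    rw [← hζ, h1]; rfl
  have hξ1 : ξ ≠ 1 := by
    intro h1
    apply hχ'1
    apply htriv χ' hχ'
    apply Units.ext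
    rw [← hξ, h1]; rfl
  have hprim : IsPrimitiveRoot ζ p := by
    rw [IsPrimitiveRoot.iff_orderOf]
    have h1 : orderOf ζ ∣ p := orderOf_dvd_of_pow_eq_one hζp
    rcases (Nat.dvd_prime hp).mp h1 with h | h
    · exact absurd (orderOf_eq_one_iff.mp h) hζ1
    · exact h
  obtain ⟨k, hkp, hk⟩ := hprim.eq_pow_of_pow_eq_one hξp
  have hk0 : k ≠ 0 := by
    intro h0
    rw [h0, pow_zero] at hk
    exact hξ1 hk.symm
  have hcop : k.Coprime p := by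
    rw [Nat.coprime_comm]
    apply (Nat.Prime.coprime_iff_not_dvd hp).mpr
    intro hdvd
    have := Nat.le_of_dvd (Nat.pos_of_ne_zero hk0) hdvd
    omega
  obtain ⟨σ, hσ⟩ := Cfsg.Agent.Lib.Helper75.exists_ringEquiv_pow p hp.pos k hcop
  refine ⟨σ, ?_⟩
  apply hext
  · intro w hw
    rw [(hχ.galChar σ) w hw, hχ' w hw]
  · intro w hw
    have hE : Subgroup.zpowers b ≤ MonoidHom.eqLocus (galChar σ χ) χ' := by
      rw [Subgroup.zpowers_le]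
      show galChar σ χ b = χ' b
      apply Units.ext
      rw [galChar_apply, ← hζ, ← hξ, hσ ζ hζp, hk]
    exact hE (hmemz w hw)

/-! ### MODULE [E-COEF] -/

theorem E_coeff (F : Frame M W₁ U W₂ mu dl η d δ n) (E : G → ℂ)
    (hE : IsGeneralizedCharacter G E) (hσ : ∀ σ : ℂ ≃+* ℂ, (fun x => σ (E x)) = E) :
    ∃ A B : ℤ,
      (∀ φ : WChar W₁ W₂, φ ≠ 1 → TrivOn W₂ φ → classInner E (η φ) = (A : ℂ)) ∧
      (∀ ψ : WChar W₁ W₂, ψ ≠ 1 → TrivOn W₁ ψ → classInner E (η ψ) = (B : ℂ)) := by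
  have hW := F.hP.selfNormalizing
  have hoddW : Odd (Nat.card ↥(W₁ ⊔ W₂)) :=
    F.hodd.of_dvd_nat (Subgroup.card_subgroup_dvd_card _)
  have hηgen : ∀ ω, IsGeneralizedCharacter G (η ω) := by
    intro ω
    rcases F.hη.irr_or_neg ω with h | h
    · exact isGeneralizedCharacter_of_isCharacter (IrrFacts.irr_isCharacter h)
    · have := gen_neg (isGeneralizedCharacter_of_isCharacter (IrrFacts.irr_isCharacter h))
      rwa [neg_neg] at this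
  -- Galois invariance of the coefficients
  have hinv : ∀ (σ : ℂ ≃+* ℂ) (ω : WChar W₁ W₂),
      classInner E (η (galChar σ ω)) = classInner E (η ω) := by
    intro σ ω
    rw [Cfsg.Agent.Lib.Helper25.PFCyc.eta_galChar hW hoddW η F.hη σ ω]
    have h1 : classInner E (fun g => σ (η ω g)) =
        classInner (fun g => σ (E g)) (fun g => σ (η ω g)) := by rw [hσ σ]
    rw [h1, classInner_gal E (η ω) hE (hηgen ω) σ]
    obtain ⟨m, hm⟩ := Cfsg.Agent.Lib.Helper25.PFCyc.eta_inner_int η F.hη E hE ω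
    rw [hm, map_intCast]
  have hextL : ∀ ω ω' : WChar W₁ W₂, (∀ w : ↥(W₁ ⊔ W₂), (w : G) ∈ W₂ → ω w = ω' w) →
      (∀ w : ↥(W₁ ⊔ W₂), (w : G) ∈ W₁ → ω w = ω' w) → ω = ω' :=
    fun ω ω' h2 h1 => wchar_ext_of_eq_on ω ω' h1 h2
  have hextR : ∀ ω ω' : WChar W₁ W₂, (∀ w : ↥(W₁ ⊔ W₂), (w : G) ∈ W₁ → ω w = ω' w) →
      (∀ w : ↥(W₁ ⊔ W₂), (w : G) ∈ W₂ → ω w = ω' w) → ω = ω' :=
    fun ω ω' h1 h2 => wchar_ext_of_eq_on ω ω' h1 h2
  -- the constant on the `φ`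
  have hA : ∃ A : ℤ, ∀ φ : WChar W₁ W₂, φ ≠ 1 → TrivOn W₂ φ → classInner E (η φ) = (A : ℂ) := by
    by_cases hex : ∃ φ₀ : WChar W₁ W₂, φ₀ ≠ 1 ∧ TrivOn W₂ φ₀
    · obtain ⟨φ₀, hφ₀1, hφ₀⟩ := hex
      obtain ⟨A, hA⟩ := Cfsg.Agent.Lib.Helper25.PFCyc.eta_inner_int η F.hη E hE φ₀
      refine ⟨A, fun φ hφ1 hφ => ?_⟩
      obtain ⟨σ, hσφ⟩ := exists_galChar_eq_of_prime W₂ W₁ le_sup_left hextL F.hq φ₀ φ hφ₀ hφ
        hφ₀1 hφ1
      rw [← hσφ, hinv σ φ₀, hA]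
    · exact ⟨0, fun φ hφ1 hφ => absurd ⟨φ, hφ1, hφ⟩ hex⟩
  have hB : ∃ B : ℤ, ∀ ψ : WChar W₁ W₂, ψ ≠ 1 → TrivOn W₁ ψ → classInner E (η ψ) = (B : ℂ) := by
    by_cases hex : ∃ ψ₀ : WChar W₁ W₂, ψ₀ ≠ 1 ∧ TrivOn W₁ ψ₀
    · obtain ⟨ψ₀, hψ₀1, hψ₀⟩ := hex
      obtain ⟨B, hB⟩ := Cfsg.Agent.Lib.Helper25.PFCyc.eta_inner_int η F.hη E hE ψ₀
      refine ⟨B, fun ψ hψ1 hψ => ?_⟩
      obtain ⟨σ, hσψ⟩ := exists_galChar_eq_of_prime W₁ W₂ le_sup_right hextR F.hp ψ₀ ψ hψ₀ hψ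
        hψ₀1 hψ1
      rw [← hσψ, hinv σ ψ₀, hB]
    · exact ⟨0, fun ψ hψ1 hψ => absurd ⟨ψ, hψ1, hψ⟩ hex⟩
  obtain ⟨A, hA⟩ := hA
  obtain ⟨B, hB⟩ := hB
  exact ⟨A, B, hA, hB⟩

end Cfsg.Agent.Lib.Helper9.PF11
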