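import Mathlib
import Cfsg.Prelude.Def_Transfer
import Cfsg.Agent.S0012
import Cfsg.Agent.Lib.Helper96.ElemAb

/-!
A criterion for a finite `p`-group to be extraspecial (all primes), in terms of elements,
and its transport along a group isomorphism.
-/

set_option autoImplicit false

namespace Cfsg.Agent.Lib.Helper9

open Cfsg

/-- Criterion for a finite `p`-group to be extraspecial: centre of order `p`, commutators and
`p`-th powers central, non-abelian. -/
theorem isExtraspecial_of_center_card {P : Type*} [Group P] [Finite P] (p : ℕ) [hp : Fact p.Prime]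
    (hP : IsPGroup p P) (hZ : Nat.card (Subgroup.center P) = p)
    (hcomm : ∀ a b : P, a * b * a⁻¹ * b⁻¹ ∈ Subgroup.center P)
    (hpow : ∀ a : P, a ^ p ∈ Subgroup.center P)
    (hna : ∃ a b : P, a * b ≠ b * a) : Cfsg.IsExtraspecial p P := by
  have hle : commutator P ≤ Subgroup.center P := by
    rw [commutator_def, Subgroup.commutator_le]
    intro a _ b _
    rw [commutatorElement_def]
    exact hcomm a b
  have hcommC : commutator P = Subgroup.center P := by
    have hdvd : Nat.card (commutator P) ∣ p := hZ ▸ Subgroup.card_dvd_of_le hle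
    rcases (Nat.dvd_prime hp.out).mp hdvd with h1 | h1
    · exfalso
      obtain ⟨a, b, hab⟩ := hna
      apply hab
      have hbot : commutator P = ⊥ := Subgroup.eq_bot_of_card_eq _ h1
      have hmem : a * b * a⁻¹ * b⁻¹ ∈ commutator P := by
        rw [← commutatorElement_def, commutator_def]
        exact Subgroup.commutator_mem_commutator (Subgroup.mem_top a) (Subgroup.mem_top b)
      rw [hbot, Subgroup.mem_bot] at hmem
      calc a * b = (a * b * a⁻¹ * b⁻¹) * (b * a) := by group
        _ = b * a := by rw [hmem, one_mul]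
    · exact Subgroup.eq_of_le_of_card_ge hle (by rw [hZ, h1])
  have hfrat : frattini P = Subgroup.center P := by
    apply le_antisymm
    · have hq : frattini (P ⧸ Subgroup.center P) = ⊥ := by
        apply Cfsg.Agent.Lib.Helper96.frattini_eq_bot_of_elemAb p
        · intro a b
          obtain ⟨a, rfl⟩ := QuotientGroup.mk_surjective a
          obtain ⟨b, rfl⟩ := QuotientGroup.mk_surjective b
          rw [← QuotientGroup.mk_mul, ← QuotientGroup.mk_mul, QuotientGroup.eq]
          have e : (a * b)⁻¹ * (b * a) = b⁻¹ * a⁻¹ * b⁻¹⁻¹ * a⁻¹⁻¹ := by group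
          rw [e]
          exact hcomm b⁻¹ a⁻¹
        · intro x
          obtain ⟨a, rfl⟩ := QuotientGroup.mk_surjective x
          rw [← QuotientGroup.mk_pow, QuotientGroup.eq_one_iff]
          exact hpow a
      have hle' := frattini_le_comap_frattini_of_surjective
        (QuotientGroup.mk'_surjective (Subgroup.center P))
      rw [hq] at hle'
      intro x hx
      have h1 := hle' hx
      rw [Subgroup.mem_comap, Subgroup.mem_bot] at h1
      exact (QuotientGroup.eq_one_iff x).mp h1
    · rw [← hcommC]; exact (Cfsg.Agent.S0012.result p hP).1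
  exact ⟨⟨hP, hfrat, hcommC⟩, hZ⟩

/-- A group isomorphism preserves membership in the centre. -/
theorem map_mem_center_iff {P Q : Type*} [Group P] [Group Q] (e : P ≃* Q) (x : P) :
    e x ∈ Subgroup.center Q ↔ x ∈ Subgroup.center P := by
  rw [Subgroup.mem_center_iff, Subgroup.mem_center_iff]
  constructor
  · intro h g
    apply e.injective
    rw [map_mul, map_mul]
    exact h (e g)
  · intro h g
    obtain ⟨g, rfl⟩ := e.surjective g
    rw [← map_mul, ← map_mul, h g]

/-- The criterion `isExtraspecial_of_center_card`, transported along an isomorphism. -/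
theorem isExtraspecial_of_equiv {P Q : Type*} [Group P] [Group Q] [Finite P] (e : P ≃* Q)
    (p : ℕ) [hp : Fact p.Prime]
    (hP : IsPGroup p P) (hZ : Nat.card (Subgroup.center P) = p)
    (hcomm : ∀ a b : P, a * b * a⁻¹ * b⁻¹ ∈ Subgroup.center P)
    (hpow : ∀ a : P, a ^ p ∈ Subgroup.center P)
    (hna : ∃ a b : P, a * b ≠ b * a) : Cfsg.IsExtraspecial p Q := by
  have : Finite Q := Finite.of_equiv P e.toEquiv
  apply isExtraspecial_of_center_card p (hP.of_equiv e)
  · rw [← Nat.card_congr (Subgroup.centerCongr e).toEquiv, hZ]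
  · intro a b
    obtain ⟨a, rfl⟩ := e.surjective a
    obtain ⟨b, rfl⟩ := e.surjective b
    rw [← map_inv, ← map_inv, ← map_mul, ← map_mul, ← map_mul, map_mem_center_iff]
    exact hcomm a b
  · intro a
    obtain ⟨a, rfl⟩ := e.surjective a
    rw [← map_pow, map_mem_center_iff]
    exact hpow a
  · obtain ⟨a, b, hab⟩ := hna
    refine ⟨e a, e b, fun h => hab (e.injective ?_)⟩
    rw [map_mul, map_mul, h]

end Cfsg.Agent.Lib.Helper9
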