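import Cfsg.Agent.Lib.Helper29.M22B.Defs
import Cfsg.Agent.Lib.Helper7.M22Norm11

/-!
# Project M22B, module [CN]: centralizers of `n5P` and `s11P` in `M22`

Pure group theory from `Helper7.card_N20`, `Helper7.card_N55`, `m4_conj_n5`, `n5_conj_s11`.
-/

set_option autoImplicit false

namespace Cfsg.Agent.Lib.Helper29.M22B
open Cfsg Cfsg.Agent.Lib.Helper7 Cfsg.Agent.Lib.Helper92 Cfsg.Agent.Lib.Helper92.SylM22

/-- If the centralizer of `x` has as many elements as `⟨x⟩`, it is `⟨x⟩`. -/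
theorem cn_mem_zpowers_of_card {G' : Type*} [Group G'] [Finite G'] (x : G')
    (h : Nat.card (Subgroup.centralizer ({x} : Set G')) = orderOf x) (g : G')
    (hg : g * x = x * g) : g ∈ Subgroup.zpowers x := by
  have hle : Subgroup.zpowers x ≤ Subgroup.centralizer ({x} : Set G') := by
    rw [Subgroup.zpowers_le]
    exact Subgroup.mem_centralizer_singleton_iff.mpr rfl
  have heq : Subgroup.zpowers x = Subgroup.centralizer ({x} : Set G') :=
    Subgroup.eq_of_le_of_card_ge hle (by rw [h, Nat.card_zpowers])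
  rw [heq]
  exact Subgroup.mem_centralizer_singleton_iff.mpr hg

/-- An element conjugating `x` to `x ^ k` with `x ^ (k - 1) ≠ 1` does not commute with `x`. -/
theorem cn_not_commute {G' : Type*} [Group G'] {m x : G'} {k : ℕ} (hk : 1 ≤ k)
    (h : m * x * m⁻¹ = x ^ k) (hne : ¬ orderOf x ∣ k - 1) : ¬ (x * m = m * x) := by
  intro hc
  apply hne
  rw [orderOf_dvd_iff_pow_eq_one]
  have h1 : m * x * m⁻¹ = x := by rw [← hc, mul_inv_cancel_right]
  rw [h1] at h
  have h2 : x ^ k = x ^ (k - 1) * x := by rw [← pow_succ, Nat.sub_add_cancel hk]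
  rw [h2] at h
  exact (mul_eq_right.mp h.symm)

/-- The square of a conjugator. -/
theorem cn_conj_sq {G' : Type*} [Group G'] {m x : G'} {k : ℕ} (h : m * x * m⁻¹ = x ^ k) :
    m ^ 2 * x * (m ^ 2)⁻¹ = x ^ (k * k) := by
  have h1 : m ^ 2 * x * (m ^ 2)⁻¹ = m * (m * x * m⁻¹) * m⁻¹ := by
    rw [pow_two, mul_inv_rev]; group
  rw [h1, h, ← conj_pow, h, ← pow_mul]

/-- The centralizer of `n5P` in `N20` is `⟨n5P⟩`. -/
theorem cn_card_centralizer_n5 :
    Nat.card (Subgroup.centralizer ({(⟨n5P, n5_mem_N20⟩ : N20)} : Set N20)) = 5 := by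
  set x : N20 := ⟨n5P, n5_mem_N20⟩ with hx
  set m : N20 := ⟨m4P, m4_mem_N20⟩ with hm
  set C := Subgroup.centralizer ({x} : Set N20) with hC
  have hox : orderOf x = 5 := by rw [hx, Subgroup.orderOf_mk, orderOf_n5]
  have hconj : m * x * m⁻¹ = x ^ 2 := Subtype.ext m4_conj_n5
  have hdvd : Nat.card C ∣ 20 := card_N20 ▸ Subgroup.card_subgroup_dvd_card C
  have hxC : x ∈ C := Subgroup.mem_centralizer_singleton_iff.mpr rfl
  have h5 : 5 ∣ Nat.card C := by
    have := orderOf_dvd_natCard (⟨x, hxC⟩ : C)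
    rwa [Subgroup.orderOf_mk, hox] at this
  have hm1 : m ∉ C := by
    intro hmC
    exact cn_not_commute (by norm_num) hconj (by rw [hox]; norm_num)
      (Subgroup.mem_centralizer_singleton_iff.mp hmC).symm
  have hm2 : m ^ 2 ∉ C := by
    intro hmC
    exact cn_not_commute (by norm_num) (cn_conj_sq hconj) (by rw [hox]; norm_num)
      (Subgroup.mem_centralizer_singleton_iff.mp hmC).symm
  have hpos : 0 < Nat.card C := Nat.card_pos
  have hle : Nat.card C ≤ 20 := Nat.le_of_dvd (by norm_num) hdvd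
  obtain ⟨c, hc⟩ := h5
  have hc4 : c = 1 ∨ c = 2 ∨ c = 4 := by
    have hc' : c ∣ 4 := by
      have : 5 * c ∣ 5 * 4 := by rw [← hc]; exact hdvd
      exact Nat.dvd_of_mul_dvd_mul_left (by norm_num) this
    have hc4 : c ≤ 4 := Nat.le_of_dvd (by norm_num) hc'
    interval_cases c <;> simp_all
  rcases hc4 with rfl | rfl | rfl
  · simpa using hc
  · exfalso
    have hidx : C.index = 2 := by
      have := Subgroup.card_mul_index C
      rw [card_N20, hc] at this
      omega
    exact hm2 (Subgroup.sq_mem_of_index_two hidx m)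
  · exfalso
    have htop : C = ⊤ := by
      rw [← Subgroup.card_eq_iff_eq_top, hc, card_N20]
    exact hm1 (htop ▸ Subgroup.mem_top m)

/-- The centralizer of `s11P` in `N55` is `⟨s11P⟩`. -/
theorem cn_card_centralizer_s11 :
    Nat.card (Subgroup.centralizer ({(⟨s11P, s11_mem_N55⟩ : N55)} : Set N55)) = 11 := by
  set x : N55 := ⟨s11P, s11_mem_N55⟩ with hx
  set m : N55 := ⟨n5P, n5_mem_N55⟩ with hm
  set C := Subgroup.centralizer ({x} : Set N55) with hC
  have hox : orderOf x = 11 := by rw [hx, Subgroup.orderOf_mk, orderOf_s11]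
  have hconj : m * x * m⁻¹ = x ^ 3 := Subtype.ext n5_conj_s11
  have hdvd : Nat.card C ∣ 55 := card_N55 ▸ Subgroup.card_subgroup_dvd_card C
  have hxC : x ∈ C := Subgroup.mem_centralizer_singleton_iff.mpr rfl
  have h11 : 11 ∣ Nat.card C := by
    have := orderOf_dvd_natCard (⟨x, hxC⟩ : C)
    rwa [Subgroup.orderOf_mk, hox] at this
  have hm1 : m ∉ C := by
    intro hmC
    exact cn_not_commute (by norm_num) hconj (by rw [hox]; norm_num)
      (Subgroup.mem_centralizer_singleton_iff.mp hmC).symm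
  obtain ⟨c, hc⟩ := h11
  have hc5 : c = 1 ∨ c = 5 := by
    have hc' : c ∣ 5 := by
      have : 11 * c ∣ 11 * 5 := by rw [← hc]; exact hdvd
      exact Nat.dvd_of_mul_dvd_mul_left (by norm_num) this
    have hc5 : c ≤ 5 := Nat.le_of_dvd (by norm_num) hc'
    interval_cases c <;> simp_all
  rcases hc5 with rfl | rfl
  · simpa using hc
  · exfalso
    have htop : C = ⊤ := by
      rw [← Subgroup.card_eq_iff_eq_top, hc, card_N55]
    exact hm1 (htop ▸ Subgroup.mem_top m)

/-- [C5] from `Helper7.card_N20` (`N20` = normalizer of `⟨n5P⟩` in `Gst 2 = M22`, Frobenius `5:4`). -/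
theorem centralizer_n5 (g : Equiv.Perm GolayPt) (hg : g ∈ Spor.M22) (hc : g * n5P = n5P * g) :
    g ∈ Subgroup.zpowers n5P := by
  have hgN : g ∈ N20 := by
    unfold N20
    rw [Subgroup.mem_inf]
    refine ⟨mem_normalizer_zpowers_of_conj (k := 1) ?_, Gst_two_eq ▸ hg⟩
    rw [hc, mul_inv_cancel_right, pow_one]
  have h := cn_mem_zpowers_of_card (⟨n5P, n5_mem_N20⟩ : N20)
    (by rw [cn_card_centralizer_n5, Subgroup.orderOf_mk, orderOf_n5]) ⟨g, hgN⟩ (Subtype.ext hc)
  obtain ⟨k, hk⟩ := Subgroup.mem_zpowers_iff.mp h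
  refine Subgroup.mem_zpowers_iff.mpr ⟨k, ?_⟩
  have := congrArg Subtype.val hk
  simpa using this

/-- [C11] from `Helper7.card_N55`. -/
theorem centralizer_s11 (g : Equiv.Perm GolayPt) (hg : g ∈ Spor.M22) (hc : g * s11P = s11P * g) :
    g ∈ Subgroup.zpowers s11P := by
  have hgN : g ∈ N55 := by
    unfold N55
    rw [Subgroup.mem_inf]
    refine ⟨mem_normalizer_zpowers_of_conj (k := 1) ?_, Gst_two_eq ▸ hg⟩
    rw [hc, mul_inv_cancel_right, pow_one]
  have h := cn_mem_zpowers_of_card (⟨s11P, s11_mem_N55⟩ : N55)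
    (by rw [cn_card_centralizer_s11, Subgroup.orderOf_mk, orderOf_s11]) ⟨g, hgN⟩ (Subtype.ext hc)
  obtain ⟨k, hk⟩ := Subgroup.mem_zpowers_iff.mp h
  refine Subgroup.mem_zpowers_iff.mpr ⟨k, ?_⟩
  have := congrArg Subtype.val hk
  simpa using this

/-- [NR11] from `Helper7.card_N55` (odd order): `s11P` is not conjugate to its inverse in `M22`. -/
theorem s11_not_conj_inv (h : Equiv.Perm GolayPt) (hh : h ∈ Spor.M22) :
    h * s11P * h⁻¹ ≠ s11P⁻¹ := by
  intro hinv
  have h10 : s11P⁻¹ = s11P ^ 10 := by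
    rw [inv_eq_iff_mul_eq_one, ← pow_succ']
    have := pow_orderOf_eq_one s11P
    rwa [orderOf_s11] at this
  have hhN : h ∈ N55 := by
    unfold N55
    rw [Subgroup.mem_inf]
    exact ⟨mem_normalizer_zpowers_of_conj (k := 10) (by rw [hinv, h10]), Gst_two_eq ▸ hh⟩
  -- `h ^ 55 = 1`
  have h55 : h ^ 55 = 1 := by
    have := orderOf_dvd_natCard (⟨h, hhN⟩ : N55)
    rw [Subgroup.orderOf_mk, card_N55] at this
    exact orderOf_dvd_iff_pow_eq_one.mp this
  -- `h ^ 2` commutes with `s11P`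
  have hsq : Commute (h ^ 2) s11P := by
    have h1 : h ^ 2 * s11P * (h ^ 2)⁻¹ = s11P := by
      have : h ^ 2 * s11P * (h ^ 2)⁻¹ = h * (h * s11P * h⁻¹) * h⁻¹ := by
        rw [pow_two, mul_inv_rev]; group
      rw [this, hinv, ← conj_inv, hinv, inv_inv]
    exact mul_inv_eq_iff_eq_mul.mp h1
  have hcomm : Commute h s11P := by
    have h56 : (h ^ 2) ^ 28 = h := by
      rw [← pow_mul]
      calc h ^ (2 * 28) = h ^ 55 * h := by rw [← pow_succ]
        _ = h := by rw [h55, one_mul]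
    rw [← h56]
    exact hsq.pow_left 28
  have hself : s11P = s11P⁻¹ := by
    rw [← hinv, hcomm.eq, mul_inv_cancel_right]
  have hsq1 : s11P ^ 2 = 1 := by
    rw [pow_two]
    nth_rewrite 2 [hself]
    exact mul_inv_cancel _
  have := orderOf_dvd_of_pow_eq_one hsq1
  rw [orderOf_s11] at this
  omega

end Cfsg.Agent.Lib.Helper29.M22B
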