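import Cfsg.Agent.Lib.Helper89.M24CentA
import Cfsg.Agent.Lib.Helper92.SylM22

/-!
# Project M22B (route B), module [E16]

For the involution `z0 = zA` of `M22` (it fixes the standard octad `octO` pointwise), the pointwise
stabilizer `E` of `octO` in `M24` lies in `C_{M22}(z0)`, is normal there, is a `2`-group and is
self-centralizing: the hypotheses `z0 hconj E hEn hE2 hcE` of `Helper82.OneBlock.sameBlock_443520`.
-/

set_option autoImplicit false

namespace Cfsg.Agent.Lib.Helper9.M22BE16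

open Cfsg Cfsg.Agent.Lib.Helper7 Cfsg.Agent.Lib.Helper92 Cfsg.Agent.Lib.Helper92.SylM22
  Cfsg.Agent.Lib.Helper89.M24CentA

/-- Elements of the pointwise stabilizer of an octad commute. -/
theorem fix_comm {o : Finset GolayPt} (ho : o ∈ octads) {a b : Equiv.Perm GolayPt}
    (ha : a ∈ fixM24 o) (hb : b ∈ fixM24 o) : a * b = b * a := by
  have h1 := (fixM24_octad ho).2 a ha
  have h2 := (fixM24_octad ho).2 b hb
  have h3 := (fixM24_octad ho).2 (a * b) ((fixM24 o).mul_mem ha hb)
  have ha' : a⁻¹ = a := inv_eq_of_mul_eq_one_left h1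
  have hb' : b⁻¹ = b := inv_eq_of_mul_eq_one_left h2
  have hab : (a * b)⁻¹ = a * b := inv_eq_of_mul_eq_one_left h3
  calc a * b = (a * b)⁻¹ := hab.symm
    _ = b⁻¹ * a⁻¹ := mul_inv_rev a b
    _ = b * a := by rw [ha', hb']

theorem pt23_mem : pt 23 ∈ setOf octO := by
  rw [mem_setOf, idx_pt (by norm_num)]; decide

theorem pt0_mem : pt 0 ∈ setOf octO := by
  rw [mem_setOf, idx_pt (by norm_num)]; decide

/-- The pointwise stabilizer of `octO` lies in `M22`. -/
theorem fix_le_M22 : fixM24 (setOf octO) ≤ Spor.M22 := by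
  intro g hg
  obtain ⟨h1, h2⟩ := mem_fixM24.mp hg
  exact mem_M22.mpr ⟨h1, h2 _ pt23_mem, h2 _ pt0_mem⟩

/-- A second octad, disjoint from `octO` and not containing `pt 4`. -/
def oct2 : ℕ := 337856

theorem oct2_mem : setOf oct2 ∈ octads := setOf_mem_octads (by decide +kernel)

theorem oct2_disj : ∀ i < 24, oct2.testBit i = true → octO.testBit i = false := by decide

theorem notMem_octO_of_mem_oct2 {p : GolayPt} (hp : p ∈ setOf oct2) : p ∉ setOf octO := by
  intro h
  have h1 := mem_setOf.mp hp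
  have h2 := mem_setOf.mp h
  have := oct2_disj (idx p) (idx_lt p) h1
  rw [h2] at this
  exact absurd this (by decide)

theorem pt4_notMem_oct2 : pt 4 ∉ setOf oct2 := by
  intro h
  have := mem_setOf.mp h
  rw [idx_pt (by norm_num)] at this
  exact absurd this (by decide)

/-- The involution `z0`. -/
noncomputable def z0 : ↥Spor.M22 := ⟨zA, fix_le_M22 zA_spec.1⟩

theorem orderOf_z0 : orderOf z0 = 2 := by
  have : Fact (Nat.Prime 2) := ⟨Nat.prime_two⟩
  apply orderOf_eq_prime
  · apply Subtype.ext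
    rw [pow_two]
    exact zA_spec.2.2
  · intro h
    exact zA_ne_one (congrArg Subtype.val h)

/-- An element commuting with `zA` preserves `octO`. -/
theorem apply_mem_iff {c : Equiv.Perm GolayPt} (hc : c * zA = zA * c) (p : GolayPt) :
    c p ∈ setOf octO ↔ p ∈ setOf octO := by
  have h1 : c (zA p) = zA (c p) := by
    rw [← Equiv.Perm.mul_apply, hc, Equiv.Perm.mul_apply]
  constructor
  · intro h
    have h2 := (zA_fix_iff (c p)).mpr h
    rw [← h1] at h2
    exact (zA_fix_iff p).mp (c.injective h2)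
  · intro h
    have h2 := (zA_fix_iff p).mpr h
    apply (zA_fix_iff (c p)).mp
    rw [← h1, h2]

/-- The subgroup `E` of `C_{M22}(z0)`. -/
noncomputable def E16 : Subgroup (Subgroup.centralizer ({z0} : Set ↥Spor.M22)) :=
  (fixM24 (setOf octO)).comap
    ((Spor.M22.subtype).comp (Subgroup.centralizer ({z0} : Set ↥Spor.M22)).subtype)

theorem mem_E16 (c : Subgroup.centralizer ({z0} : Set ↥Spor.M22)) :
    c ∈ E16 ↔ ((c : ↥Spor.M22) : Equiv.Perm GolayPt) ∈ fixM24 (setOf octO) := Iff.rfl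

/-- Elements of the centralizer commute with `zA` as permutations. -/
theorem cent_comm (c : Subgroup.centralizer ({z0} : Set ↥Spor.M22)) :
    ((c : ↥Spor.M22) : Equiv.Perm GolayPt) * zA = zA * ((c : ↥Spor.M22) : Equiv.Perm GolayPt) := by
  have h := Subgroup.mem_centralizer_singleton_iff.mp c.2
  exact congrArg Subtype.val h

theorem E16_normal : E16.Normal := by
  constructor
  intro n hn g
  rw [mem_E16] at hn ⊢
  obtain ⟨hn1, hn2⟩ := mem_fixM24.mp hn
  have hg24 : ((g : ↥Spor.M22) : Equiv.Perm GolayPt) ∈ M24 := (mem_M22.mp (g : ↥Spor.M22).2).1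
  rw [mem_fixM24]
  refine ⟨?_, ?_⟩
  · show ((g : ↥Spor.M22) : Equiv.Perm GolayPt) * ((n : ↥Spor.M22) : Equiv.Perm GolayPt) *
      ((g : ↥Spor.M22) : Equiv.Perm GolayPt)⁻¹ ∈ M24
    exact M24.mul_mem (M24.mul_mem hg24 hn1) (M24.inv_mem hg24)
  · intro p hp
    show ((g : ↥Spor.M22) : Equiv.Perm GolayPt) (((n : ↥Spor.M22) : Equiv.Perm GolayPt)
      (((g : ↥Spor.M22) : Equiv.Perm GolayPt)⁻¹ p)) = p
    have hq : ((g : ↥Spor.M22) : Equiv.Perm GolayPt)⁻¹ p ∈ setOf octO := by
      rw [← apply_mem_iff (cent_comm g)]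
      simpa using hp
    rw [hn2 _ hq]
    simp

theorem E16_isPGroup : IsPGroup 2 E16 := by
  intro e
  refine ⟨1, ?_⟩
  have he := (mem_E16 e.1).mp e.2
  have h := (fixM24_octad octO_mem).2 _ he
  apply Subtype.ext
  apply Subtype.ext
  apply Subtype.ext
  rw [pow_one, pow_two]
  exact h

/-- Every element of the pointwise stabilizer gives an element of `E16`. -/
theorem exists_E16_of_mem {f : Equiv.Perm GolayPt} (hf : f ∈ fixM24 (setOf octO)) :
    ∃ e : Subgroup.centralizer ({z0} : Set ↥Spor.M22), e ∈ E16 ∧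
      ((e : ↥Spor.M22) : Equiv.Perm GolayPt) = f := by
  have hfz : (⟨f, fix_le_M22 hf⟩ : ↥Spor.M22) ∈ Subgroup.centralizer ({z0} : Set ↥Spor.M22) := by
    rw [Subgroup.mem_centralizer_singleton_iff]
    apply Subtype.ext
    exact fix_comm octO_mem hf zA_spec.1
  exact ⟨⟨⟨f, fix_le_M22 hf⟩, hfz⟩, hf, rfl⟩

theorem E16_selfCentralizing :
    Subgroup.centralizer (E16 : Set (Subgroup.centralizer ({z0} : Set ↥Spor.M22))) ≤ E16 := by
  intro h hh
  rw [Subgroup.mem_centralizer_iff] at hh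
  set h' : Equiv.Perm GolayPt := ((h : ↥Spor.M22) : Equiv.Perm GolayPt) with hh'
  have hh24 : h' ∈ M24 := (mem_M22.mp (h : ↥Spor.M22).2).1
  -- `h'` commutes with the pointwise stabilizer
  have hcomm : ∀ f ∈ fixM24 (setOf octO), f * h' = h' * f := by
    intro f hf
    obtain ⟨e, he, hef⟩ := exists_E16_of_mem hf
    have := hh e he
    have h2 := congrArg (fun x : Subgroup.centralizer ({z0} : Set ↥Spor.M22) =>
      ((x : ↥Spor.M22) : Equiv.Perm GolayPt)) this
    simp only [Subgroup.coe_mul] at h2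
    rw [hef] at h2
    exact h2
  -- move `h' (pt 4)` back to `pt 4`
  have hq : h' (pt 4) ∉ setOf octO := by
    rw [apply_mem_iff (cent_comm h)]
    exact pt4_notMem
  obtain ⟨e, he, heq⟩ := exists_fixM24_map octO_mem pt4_notMem hq
  set k := e * h' with hk
  have hk4 : k (pt 4) = pt 4 := by rw [hk, Equiv.Perm.mul_apply, heq]
  have hk24 : k ∈ M24 := M24.mul_mem (mem_fixM24.mp he).1 hh24
  have hkcomm : ∀ f ∈ fixM24 (setOf octO), f * k = k * f := by
    intro f hf
    rw [hk, ← mul_assoc, fix_comm octO_mem hf he, mul_assoc, hcomm f hf, mul_assoc]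
  -- `k` fixes every point outside `octO`
  have hkfix : ∀ p, p ∉ setOf octO → k p = p := by
    intro p hp
    obtain ⟨f, hf, hfp⟩ := exists_fixM24_map octO_mem hp pt4_notMem
    have := congrArg (fun x : Equiv.Perm GolayPt => x (pt 4)) (hkcomm f hf)
    simp only [Equiv.Perm.mul_apply] at this
    rw [hk4, hfp] at this
    exact this.symm
  have hk2 : k ∈ fixM24 (setOf oct2) :=
    mem_fixM24.mpr ⟨hk24, fun p hp => hkfix p (notMem_octO_of_mem_oct2 hp)⟩
  have hk1 : k = 1 := eq_one_of_mem_fixM24 oct2_mem pt4_notMem_oct2 hk2 hk4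
  have hhe : h' = e⁻¹ := by
    rw [hk] at hk1
    exact eq_inv_of_mul_eq_one_right hk1
  rw [mem_E16, ← hh', hhe]
  exact (fixM24 (setOf octO)).inv_mem he

/-- [E16] the hypotheses `z0 hconj E hEn hE2 hcE` of `sameBlock_443520` for `M22`. -/
theorem exists_E16 : ∃ z : ↥Spor.M22, orderOf z = 2 ∧
    (∀ x : ↥Spor.M22, orderOf x = 2 → IsConj x z) ∧
    ∃ E : Subgroup (Subgroup.centralizer ({z} : Set ↥Spor.M22)), E.Normal ∧ IsPGroup 2 E ∧
      Subgroup.centralizer (E : Set (Subgroup.centralizer ({z} : Set ↥Spor.M22))) ≤ E :=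
  ⟨z0, orderOf_z0, fun x hx => isConj_M22 x z0 hx orderOf_z0, E16, E16_normal, E16_isPGroup,
    E16_selfCentralizing⟩

end Cfsg.Agent.Lib.Helper9.M22BE16
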