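/-
helper9: module BP-[L2-GI-PRIM] of project BP (helper92): in Green's indecomposability theorem (index `p`, idempotent
form) the idempotent `c'` of `A^S` with `Tr_S^Q(c') = c` and `c' · ᵗc' = 0` (`t ∈ Q ∖ S`) is automatically primitive in
`A^S` when `c` is primitive in `A^Q`.  Direct argument: on the corner of `c'` the trace is multiplicative, so an
idempotent `f ≤ c'` of `A^S` gives the idempotent `Tr f ≤ c` of `A^Q`, and `f = f · Tr f`.
-/
import Cfsg.Agent.Lib.Helper92.BPGAlg
import Cfsg.Agent.Lib.Helper9.BPTr2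

set_option autoImplicit false
set_option linter.style.haveILetI false
set_option linter.unusedVariables false
set_option linter.unusedSectionVars false

namespace Cfsg.Agent.Lib.Helper9.BP

open Cfsg.Agent.Lib.Helper92.BP

section

variable {R : Type*} [CommRing R] {G : Type*} [Group G]

/-- [L2-TR1] : the relative trace of a fixed point of `S` is a fixed point of `Q` -/
theorem relTr_mem_fixedAlg' [Finite G] {S Q : Subgroup G} {a : MonoidAlgebra R G} (ha : a ∈ fixedAlg R S) :
    relTr R S Q a ∈ fixedAlg R Q := by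
  classical
  letI : Fintype (Q ⧸ S.subgroupOf Q) := Fintype.ofFinite _
  rw [mem_fixedAlg_iff']
  intro q hq
  have h2 : conj R q (relTr R S Q a) = ∑ x : Q ⧸ S.subgroupOf Q, conj R (q * ((Quotient.out x : Q) : G)) a := by
    rw [relTr_eq_sum, conj_sum']
    exact Finset.sum_congr rfl fun x _ => conj_conj' _ _ a
  rw [h2]
  symm
  apply relTr_eq_sum_of_reps' ha (fun x : Q ⧸ S.subgroupOf Q => q * ((Quotient.out x : Q) : G))
    (fun x => Q.mul_mem hq (Quotient.out x : Q).2)
  · intro q' hq'
    have key : ∀ x : Q ⧸ S.subgroupOf Q, (q * ((Quotient.out x : Q) : G))⁻¹ * q' ∈ S ↔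
        ((Quotient.out x : Q) : G)⁻¹ * (q⁻¹ * q') ∈ S := by
      intro x
      rw [mul_inv_rev, mul_assoc]
    obtain ⟨x, hx, hux⟩ := out_reps_existsUnique S Q (q⁻¹ * q') (Q.mul_mem (Q.inv_mem hq) hq')
    exact ⟨x, (key x).2 hx, fun x' hx' => hux x' ((key x').1 hx')⟩

theorem relTr_sub' [Finite G] (S Q : Subgroup G) (a b : MonoidAlgebra R G) :
    relTr R S Q (a - b) = relTr R S Q a - relTr R S Q b := by
  rw [eq_sub_iff_add_eq, ← relTr_add', sub_add_cancel]

/-- On the corner of `c'` the product with a trace is the plain product. -/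
theorem mul_relTr_of_orth [Finite G] {S Q : Subgroup G} {c' x y : MonoidAlgebra R G}
    (horth : ∀ t ∈ Q, t ∉ S → c' * conj R t c' = 0) (hx : x * c' = x) (hy : c' * y = y)
    (hyS : y ∈ fixedAlg R S) : x * relTr R S Q y = x * y := by
  classical
  letI : Fintype (Q ⧸ S.subgroupOf Q) := Fintype.ofFinite _
  rw [relTr_eq_sum, Finset.mul_sum]
  rw [Finset.sum_eq_single (QuotientGroup.mk (1 : Q) : Q ⧸ S.subgroupOf Q)]
  · have h1 : ((Quotient.out (QuotientGroup.mk (1 : Q) : Q ⧸ S.subgroupOf Q) : Q) : G) ∈ S := by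
      have := (out_reps S Q 1 Q.one_mem (QuotientGroup.mk (1 : Q))).2 rfl
      rw [mul_one] at this
      exact (S.inv_mem_iff).1 this
    rw [conj_eq_of_mem hyS h1]
  · intro z _ hz
    have hzS : ((Quotient.out z : Q) : G) ∉ S := by
      intro hmem
      apply hz
      apply (out_reps S Q 1 Q.one_mem z).1
      rw [mul_one]
      exact S.inv_mem hmem
    have h0 := horth _ (Quotient.out z : Q).2 hzS
    calc x * conj R ((Quotient.out z : Q) : G) y
        = x * c' * conj R ((Quotient.out z : Q) : G) (c' * y) := by rw [hx, hy]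
      _ = x * (c' * conj R ((Quotient.out z : Q) : G) c') * conj R ((Quotient.out z : Q) : G) y := by
          rw [conj_mul']; simp only [mul_assoc]
      _ = 0 := by rw [h0, mul_zero, zero_mul]
  · intro h
    exact (h (Finset.mem_univ _)).elim

/-- On the corner of `c'` the relative trace is multiplicative. -/
theorem relTr_mul_relTr_of_orth [Finite G] {S Q : Subgroup G} {c' x y : MonoidAlgebra R G}
    (horth : ∀ t ∈ Q, t ∉ S → c' * conj R t c' = 0) (hx : x * c' = x) (hy : c' * y = y)
    (hyS : y ∈ fixedAlg R S) : relTr R S Q x * relTr R S Q y = relTr R S Q (x * y) := by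
  rw [relTr_mul' S Q (relTr_mem_fixedAlg' hyS), mul_relTr_of_orth horth hx hy hyS]

end

section

variable {R : Type*} [CommRing R] [IsDomain R] [IsLocalRing R] {G : Type*} [Group G]

/-- BP-[L2-GI-PRIM] : in `green_index_p` the idempotent `c'` is automatically primitive in `A^S` -/
theorem isPrimIn_of_green [Finite G] (hR : MonicSplits R) {p : ℕ} [Fact p.Prime]
    {S Q : Subgroup G} (hSQ : S ≤ Q)
    (hn : (S.subgroupOf Q).Normal) (hidx : S.relIndex Q = p) {c c' : MonoidAlgebra R G}
    (hc : IsPrimIn R (fixedAlg R Q) c) (hc' : c' ∈ fixedAlg R S) (hi : IsIdempotentElem c')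
    (htr : relTr R S Q c' = c) (horth : ∀ t ∈ Q, t ∉ S → c' * conj R t c' = 0) :
    IsPrimIn R (fixedAlg R S) c' := by
  obtain ⟨hcQ, hcidem, hcne, hcprim⟩ := hc
  have hi' : c' * c' = c' := hi
  refine ⟨hc', ?_, ?_, ?_⟩
  · exact Subtype.ext hi
  · intro h0
    apply hcne
    apply Subtype.ext
    have h1 : c' = 0 := congrArg Subtype.val h0
    show c = 0
    rw [← htr, h1, relTr_zero']
  · rintro ⟨f, hfS⟩ ⟨hfi, hcf, hfc⟩
    have hfi' : f * f = f := congrArg Subtype.val hfi
    have hcf' : c' * f = f := congrArg Subtype.val hcf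
    have hfc' : f * c' = f := congrArg Subtype.val hfc
    -- the idempotent `Tr f` of `A^Q` below `c`
    have hTf : relTr R S Q f ∈ fixedAlg R Q := relTr_mem_fixedAlg' hfS
    have e1 : relTr R S Q f * relTr R S Q f = relTr R S Q f := by
      rw [relTr_mul_relTr_of_orth horth hfc' hcf' hfS, hfi']
    have e2 : c * relTr R S Q f = relTr R S Q f := by
      rw [← htr, relTr_mul_relTr_of_orth horth hi' hcf' hfS, hcf']
    have e3 : relTr R S Q f * c = relTr R S Q f := by
      rw [← htr, relTr_mul_relTr_of_orth horth hfc' hi' hc', hfc']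
    have e4 : f * relTr R S Q f = f := by
      rw [mul_relTr_of_orth horth hfc' hcf' hfS, hfi']
    rcases hcprim ⟨relTr R S Q f, hTf⟩ ⟨Subtype.ext e1, Subtype.ext e2, Subtype.ext e3⟩ with h | h
    · left
      apply Subtype.ext
      have h' : relTr R S Q f = 0 := congrArg Subtype.val h
      show f = 0
      rw [← e4, h', mul_zero]
    · right
      apply Subtype.ext
      have h' : relTr R S Q f = c := congrArg Subtype.val h
      show f = c'
      -- the complement
      have g1 : (c' - f) * c' = c' - f := by rw [sub_mul, hi', hfc']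
      have g2 : c' * (c' - f) = c' - f := by rw [mul_sub, hi', hcf']
      have g3 : c' - f ∈ fixedAlg R S := (fixedAlg R S).sub_mem hc' hfS
      have g4 : (c' - f) * (c' - f) = c' - f := by
        rw [mul_sub, g1, sub_mul, hcf', hfi', sub_self, sub_zero]
      have g5 : relTr R S Q (c' - f) = 0 := by rw [relTr_sub', htr, h', sub_self]
      have g6 : (c' - f) * relTr R S Q (c' - f) = c' - f := by
        rw [mul_relTr_of_orth horth g1 g2 g3, g4]
      rw [g5, mul_zero] at g6
      exact (sub_eq_zero.1 g6.symm).symm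

end

end Cfsg.Agent.Lib.Helper9.BP
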