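/-
helper9: module BP-[L2-NONLOCAL] of project BP (helper92): a primitive idempotent of `A^Q` (`Q` a `p`-subgroup) killed
by the Brauer map `Br_Q` is a relative trace from a normal subgroup of index `p` of `Q`.  From the description of the
kernel of `Br_Q` ([L2-BR4], taken here as the hypothesis `hBR4`), Rosenberg's lemma in `A^Q`, Nakayama (`𝔪 A^Q`
contains no idempotent), and transitivity of the trace.
-/
import Cfsg.Agent.Lib.Helper92.BPGAlg
import Cfsg.Agent.Lib.Helper9.BPTr2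
import Cfsg.Agent.Lib.Helper9.BPBr3
import Cfsg.Agent.Lib.Helper9.BPGiPrim
import Cfsg.Agent.Lib.Helper80.BPUnit
import Cfsg.Agent.Lib.Helper80.BPCrt
import Cfsg.Agent.Lib.Helper11.BPLocalMain
import Cfsg.Agent.Lib.Helper23.BPFixedFin
import Cfsg.Agent.Lib.Helper44.BPBr4

set_option autoImplicit false
set_option linter.style.haveILetI false
set_option linter.unusedVariables false
set_option linter.unusedSectionVars false

namespace Cfsg.Agent.Lib.Helper9.BP

open Cfsg.Agent.Lib.Helper92.BP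

section

variable {G : Type*} [Group G]

/-- A proper subgroup of a finite `p`-group `Q` lies in a normal subgroup of index `p` of `Q`. -/
theorem exists_normal_index_p [Finite G] {p : ℕ} [Fact p.Prime] {S Q : Subgroup G} (hQ : IsPGroup p Q)
    (hSQ : S < Q) :
    ∃ S₁ : Subgroup G, S ≤ S₁ ∧ S₁ ≤ Q ∧ (S₁.subgroupOf Q).Normal ∧ S₁.relIndex Q = p := by
  have hp : p.Prime := Fact.out
  obtain ⟨m, hm⟩ := IsPGroup.iff_card.1 hQ
  obtain ⟨n, hn⟩ := IsPGroup.iff_card.1 (hQ.to_subgroup (S.subgroupOf Q))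
  have hdvd : p ∣ (S.subgroupOf Q).index := dvd_relIndex_of_lt hQ hSQ
  have hmul : (S.subgroupOf Q).index * Nat.card (S.subgroupOf Q) = Nat.card Q :=
    Subgroup.index_mul_card (S.subgroupOf Q)
  have hnm : n + 1 ≤ m := by
    have h1 : p ^ (n + 1) ∣ p ^ m := by
      rw [← hm, ← hmul, hn, pow_succ, mul_comm]
      exact mul_dvd_mul_right hdvd _
    exact (Nat.pow_dvd_pow_iff_le_right hp.one_lt).1 h1
  obtain ⟨K, hK, hHK⟩ := Sylow.exists_subgroup_card_pow_prime_le p
    (show p ^ (m - 1) ∣ Nat.card Q by rw [hm]; exact pow_dvd_pow p (Nat.sub_le m 1))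
    (S.subgroupOf Q) hn (show n ≤ m - 1 by omega)
  have hKidx : K.index = p := by
    have h2 : K.index * Nat.card K = Nat.card Q := Subgroup.index_mul_card K
    rw [hK, hm] at h2
    have h3 : p ^ m = p * p ^ (m - 1) := by
      rw [← pow_succ']
      congr 1
      omega
    rw [h3] at h2
    exact Nat.eq_of_mul_eq_mul_right (pow_pos hp.pos _) h2
  have hKn : K.Normal := by
    apply Subgroup.normal_of_index_eq_minFac_card
    rw [hKidx, hm, Nat.pow_minFac (by omega), hp.minFac_eq]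
  have hcomap : (K.map Q.subtype).subgroupOf Q = K :=
    Subgroup.comap_map_eq_self_of_injective Q.subtype_injective K
  refine ⟨K.map Q.subtype, ?_, ?_, ?_, ?_⟩
  · intro s hs
    exact ⟨⟨s, hSQ.le hs⟩, hHK (Subgroup.mem_subgroupOf.2 hs), rfl⟩
  · rintro _ ⟨x, -, rfl⟩
    exact x.2
  · rw [hcomap]; exact hKn
  · unfold Subgroup.relIndex
    rw [hcomap, hKidx]

end

section

variable {R : Type*} [CommRing R] [IsDomain R] [IsLocalRing R] {G : Type*} [Group G]

/-- the ideal `𝔪 A^Q` in the form used in [L2-BR4] -/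
noncomputable def mIdeal (R : Type*) [CommRing R] [IsLocalRing R] {G : Type*} [Group G] (Q : Subgroup G) :
    Ideal (fixedAlg R Q) :=
  Ideal.span {y : fixedAlg R Q | ∃ r ∈ IsLocalRing.maximalIdeal R, ∃ y' : fixedAlg R Q, y = r • y'}

theorem mIdeal_isTwoSided (Q : Subgroup G) : (mIdeal R Q).IsTwoSided := by
  refine ⟨fun {x} b hx => ?_⟩
  unfold mIdeal at hx ⊢
  induction hx using Submodule.span_induction with
  | mem y hy =>
    obtain ⟨r, hr, y', rfl⟩ := hy
    apply Ideal.subset_span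
    exact ⟨r, hr, y' * b, smul_mul_assoc r y' b⟩
  | zero => rw [zero_mul]; exact Submodule.zero_mem _
  | add y z _ _ hy hz => rw [add_mul]; exact Submodule.add_mem _ hy hz
  | smul a y _ hy =>
    rw [smul_eq_mul, mul_assoc]
    exact Ideal.mul_mem_left _ a hy

theorem mIdeal_le (Q : Subgroup G) {x : fixedAlg R Q} (hx : x ∈ mIdeal R Q) :
    x ∈ (IsLocalRing.maximalIdeal R • ⊤ : Submodule R (fixedAlg R Q)) := by
  unfold mIdeal at hx
  induction hx using Submodule.span_induction with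
  | mem y hy =>
    obtain ⟨r, hr, y', rfl⟩ := hy
    exact Submodule.smul_mem_smul hr trivial
  | zero => exact Submodule.zero_mem _
  | add y z _ _ hy hz => exact Submodule.add_mem _ hy hz
  | smul a y _ hy =>
    rw [smul_eq_mul]
    exact Cfsg.Agent.Lib.Helper80.BP.mΛ_mul_left hy a

/-- BP-[L2-NONLOCAL], from the statement of [L2-BR4] -/
theorem exists_mem_trSet_of_br_eq_zero_of [Finite G] (hR : MonicSplits R) {p : ℕ} [Fact p.Prime]
    [CharP (IsLocalRing.ResidueField R) p] {Q : Subgroup G} (hQ : IsPGroup p Q)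
    (hBR4 : ∀ x : fixedAlg R Q, br R Q (x : MonoidAlgebra R G) = 0 →
      x ∈ (⨆ S ∈ {S : Subgroup G | S < Q}, trIdeal R S Q) ⊔
        Ideal.span {y : fixedAlg R Q | ∃ r ∈ IsLocalRing.maximalIdeal R, ∃ y' : fixedAlg R Q,
          y = r • y'})
    {c : MonoidAlgebra R G} (hc : IsPrimIn R (fixedAlg R Q) c) (hbr : br R Q c = 0) :
    ∃ S : Subgroup G, S ≤ Q ∧ (S.subgroupOf Q).Normal ∧ S.relIndex Q = p ∧ c ∈ trSet R S Q := by
  classical
  obtain ⟨hcQ, hprim⟩ := hc
  haveI : Module.Finite R (fixedAlg R Q) := Cfsg.Agent.Lib.Helper23.BP.finite_fixedAlg Q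
  have hmem := hBR4 ⟨c, hcQ⟩ hbr
  letI : Fintype (Option {S : Subgroup G // S < Q}) := Fintype.ofFinite _
  let I : Option {S : Subgroup G // S < Q} → Ideal (fixedAlg R Q) := fun i =>
    match i with
    | none => mIdeal R Q
    | some S => trIdeal R S.1 Q
  have hI : ∀ i, (I i).IsTwoSided := by
    intro i
    cases i with
    | none => exact mIdeal_isTwoSided Q
    | some S => exact trIdeal_isTwoSided S.2.le
  have hle : (⨆ S ∈ {S : Subgroup G | S < Q}, trIdeal R S Q) ⊔
      Ideal.span {y : fixedAlg R Q | ∃ r ∈ IsLocalRing.maximalIdeal R, ∃ y' : fixedAlg R Q, y = r • y'} ≤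
      ⨆ i ∈ (Finset.univ : Finset (Option {S : Subgroup G // S < Q})), I i := by
    apply sup_le
    · exact iSup₂_le fun S hS => le_iSup₂_of_le (some ⟨S, hS⟩) (Finset.mem_univ _) le_rfl
    · exact le_iSup₂_of_le none (Finset.mem_univ _) le_rfl
  obtain ⟨i, -, hi⟩ := Cfsg.Agent.Lib.Helper11.BP.rosenberg_of_crt
    (fun he x hx => Cfsg.Agent.Lib.Helper80.BP.corner_crt hR he x hx) hprim Finset.univ I hI (hle hmem)
  cases i with
  | none =>
    exfalso
    exact hprim.2.1 (Cfsg.Agent.Lib.Helper80.BP.idem_eq_zero_of_mem (R := R) _ hprim.1 (mIdeal_le Q hi))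
  | some S =>
    obtain ⟨S, hS⟩ := S
    obtain ⟨a, ha, hac⟩ := (mem_trIdeal_iff hS.le _).1 hi
    obtain ⟨S₁, hSS₁, hS₁Q, hn, hidx⟩ := exists_normal_index_p hQ hS
    refine ⟨S₁, hS₁Q, hn, hidx, relTr R S S₁ a, relTr_mem_fixedAlg' ha, ?_⟩
    rw [relTr_trans hSS₁ hS₁Q ha]
    exact hac

/-- BP-[L2-NONLOCAL] : a primitive idempotent of `A^Q` killed by `Br_Q` is a relative trace from a
maximal subgroup -/
theorem exists_mem_trSet_of_br_eq_zero [Finite G] (hR : MonicSplits R) {p : ℕ} [Fact p.Prime]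
    [CharP (IsLocalRing.ResidueField R) p] {Q : Subgroup G} (hQ : IsPGroup p Q)
    {c : MonoidAlgebra R G} (hc : IsPrimIn R (fixedAlg R Q) c) (hbr : br R Q c = 0) :
    ∃ S : Subgroup G, S ≤ Q ∧ (S.subgroupOf Q).Normal ∧ S.relIndex Q = p ∧ c ∈ trSet R S Q :=
  exists_mem_trSet_of_br_eq_zero_of hR hQ
    (fun x hx => Cfsg.Agent.Lib.Helper44.BP.mem_sup_of_br_eq_zero hQ x hx) hc hbr

end

end Cfsg.Agent.Lib.Helper9.BP
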