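import Mathlib
import Cfsg.Agent.Lib.Helper9.NPCLemmas

/-!
More lemmas on normal `p`-complements: lifting from quotients `G ⧸ N` when `N` is central of
order `p` (smallest prime) or `N ≤ Φ(P)` (via Tate's theorem `S0081`), and the criterion
"focal subgroup inside `Φ(P)`".
-/

set_option autoImplicit false

namespace Cfsg.Agent.Lib.Helper9

open Cfsg

variable {G : Type*} [Group G]

/-- For the smallest prime `p`, a subgroup of order `p` is centralized by its normalizer. -/
theorem normalizer_le_centralizer_of_card_prime [Finite G] {p : ℕ} [hp : Fact p.Prime]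
    (hmin : ∀ q : ℕ, q.Prime → q ∣ Nat.card G → p ≤ q) (A : Subgroup G) (hA : Nat.card A = p) :
    Subgroup.normalizer (A : Set G) ≤ Subgroup.centralizer (A : Set G) := by
  intro g hg
  have hcyc : IsCyclic A := isCyclic_of_prime_card hA
  set α : MulAut A := A.normalizerMonoidHom ⟨g, hg⟩ with hα
  have h1 : orderOf α ∣ orderOf g := by
    have : orderOf α ∣ orderOf (⟨g, hg⟩ : Subgroup.normalizer (A : Set G)) :=
      orderOf_map_dvd _ _
    rwa [Subgroup.orderOf_mk] at this
  have h2 : orderOf α ∣ Nat.card (MulAut A) := orderOf_dvd_natCard α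
  have hα1 : orderOf α = 1 := by
    by_contra hne
    obtain ⟨q, hq, hqα⟩ := Nat.exists_prime_and_dvd hne
    have hqG : q ∣ Nat.card G := (hqα.trans h1).trans (orderOf_dvd_natCard g)
    have hpq : p ≤ q := hmin q hq hqG
    have hqaut : q ∣ Nat.card (MulAut A) := hqα.trans h2
    rw [hcyc.card_mulAut, hA, Nat.totient_prime hp.out] at hqaut
    have : q ≤ p - 1 := Nat.le_of_dvd (Nat.sub_pos_of_lt hp.out.one_lt) hqaut
    have := hp.out.one_lt
    omega
  have hα' : α = 1 := orderOf_eq_one_iff.mp hα1
  have hker : (⟨g, hg⟩ : Subgroup.normalizer (A : Set G)) ∈ A.normalizerMonoidHom.ker := by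
    rw [MonoidHom.mem_ker]; exact hα'
  rw [Subgroup.normalizerMonoidHom_ker] at hker
  exact Subgroup.mem_subgroupOf.mp hker

/-- Preimage of a normal `p`-complement of `G ⧸ N`. -/
theorem exists_comap_of_hasNormalPComplement_quotient [Finite G] {p : ℕ} [hp : Fact p.Prime]
    (N : Subgroup G) [N.Normal] (h : HasNormalPComplement p (G ⧸ N)) :
    ∃ K : Subgroup G, K.Normal ∧ N ≤ K ∧ (∃ k : ℕ, K.index = p ^ k) ∧
      (N.relIndex K).Coprime p ∧
      ∀ x ∈ K, (∃ k : ℕ, orderOf x = p ^ k) → x ∈ N := by
  obtain ⟨Kb, hKbn, hKbc, k, hKbi⟩ := exists_normal_coprime_of_hasNormalPComplement h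
  set K : Subgroup G := Kb.comap (QuotientGroup.mk' N) with hK
  have hKn : K.Normal := hKbn.comap _
  have hNK : N ≤ K := by
    intro x hx
    rw [hK, Subgroup.mem_comap]
    have : (QuotientGroup.mk' N) x = 1 := (QuotientGroup.eq_one_iff x).mpr hx
    rw [this]; exact Subgroup.one_mem _
  have hidx : K.index = p ^ k := by
    rw [hK, Subgroup.index_comap_of_surjective _ (QuotientGroup.mk'_surjective N), hKbi]
  have hmem : ∀ x ∈ K, (∃ k : ℕ, orderOf x = p ^ k) → x ∈ N := by
    intro x hx ⟨j, hj⟩
    rw [← QuotientGroup.eq_one_iff]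
    have hxb : (QuotientGroup.mk' N) x ∈ Kb := hx
    have h1 : orderOf ((QuotientGroup.mk' N) x) ∣ p ^ j := by
      rw [← hj]; exact orderOf_map_dvd _ x
    have h2 : orderOf ((QuotientGroup.mk' N) x) ∣ Nat.card Kb :=
      Subgroup.orderOf_dvd_natCard Kb hxb
    have h3 : orderOf ((QuotientGroup.mk' N) x) ∣ Nat.gcd (p ^ j) (Nat.card Kb) :=
      Nat.dvd_gcd h1 h2
    have h4 : Nat.gcd (p ^ j) (Nat.card Kb) = 1 := Nat.Coprime.pow_left j hKbc.symm
    rw [h4, Nat.dvd_one] at h3
    exact orderOf_eq_one_iff.mp h3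
  refine ⟨K, hKn, hNK, ⟨k, hidx⟩, ?_, hmem⟩
  · -- relIndex N K is coprime to p: otherwise Cauchy gives a p-element of K/N ... use Sylow
    rw [Nat.coprime_comm, Nat.Prime.coprime_iff_not_dvd hp.out]
    intro hdvd
    -- a Sylow p-subgroup Q of K: all its elements lie in N, so Q ≤ N.subgroupOf K, index coprime
    obtain ⟨Q⟩ : Nonempty (Sylow p K) := inferInstance
    have hQN : (Q : Subgroup K) ≤ N.subgroupOf K := by
      intro y hy
      rw [Subgroup.mem_subgroupOf]
      apply hmem _ y.2
      obtain ⟨j, hj⟩ := (Q.isPGroup' ⟨y, hy⟩)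
      have hy' : y ^ p ^ j = 1 := by
        have := congrArg Subtype.val hj
        simpa using this
      obtain ⟨i, _, hi⟩ := (Nat.dvd_prime_pow hp.out).mp (orderOf_dvd_of_pow_eq_one hy')
      exact ⟨i, by rw [← hi, Subgroup.orderOf_coe]⟩
    have h5 : (N.subgroupOf K).index ∣ (Q : Subgroup K).index := Subgroup.index_dvd_of_le hQN
    exact Q.not_dvd_index (hdvd.trans h5)

/-- If `N ⊴ G` has order `p` (the smallest prime) and `G ⧸ N` has a normal `p`-complement,
so does `G`. -/
theorem hasNormalPComplement_of_quotient_of_card_prime [Finite G] {p : ℕ} [hp : Fact p.Prime]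
    (hmin : ∀ q : ℕ, q.Prime → q ∣ Nat.card G → p ≤ q) (N : Subgroup G) [hN : N.Normal]
    (hNc : Nat.card N = p) (h : HasNormalPComplement p (G ⧸ N)) : HasNormalPComplement p G := by
  obtain ⟨K, hKn, hNK, ⟨k, hidx⟩, hcop, _⟩ := exists_comap_of_hasNormalPComplement_quotient N h
  have hKq : IsPGroup p (G ⧸ K) := by
    apply IsPGroup.of_card (n := k)
    rw [← Subgroup.index_eq_card, hidx]
  apply hasNormalPComplement_of_normal_of_isPGroup_quotient K hKq
  -- N is central in G
  have hcent : N ≤ Subgroup.center G := by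
    have h1 := normalizer_le_centralizer_of_card_prime hmin N hNc
    rw [Subgroup.normalizer_eq_top] at h1
    intro x hx
    rw [Subgroup.mem_center_iff]
    intro g
    have := Subgroup.mem_centralizer_iff.mp (h1 (Subgroup.mem_top g)) x hx
    exact this.symm
  -- N.subgroupOf K is a central Sylow p-subgroup of K
  have hNp : IsPGroup p (N.subgroupOf K) := by
    have : IsPGroup p N := IsPGroup.of_card (n := 1) (by rw [hNc, pow_one])
    exact this.comap_subtype
  have hidx : ¬ p ∣ (N.subgroupOf K).index := by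
    rw [← Nat.Prime.coprime_iff_not_dvd hp.out, Nat.coprime_comm]
    exact hcop
  set Q : Sylow p K := hNp.toSylow hidx with hQ
  have hQc : (Q : Subgroup K) ≤ Subgroup.center K := by
    intro y hy
    rw [Subgroup.mem_center_iff]
    intro g
    have hyN : (y : G) ∈ N := Subgroup.mem_subgroupOf.mp hy
    have := Subgroup.mem_center_iff.mp (hcent hyN) (g : G)
    exact Subtype.ext this
  obtain ⟨C, hCn, hC⟩ := Cfsg.Agent.Lib.Helper34.exists_normal_complement_of_sylow_le_center Q hQc
  exact ⟨Q, C, hCn, hC⟩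

/-- If `N ⊴ G` lies in `Φ(P)` for a Sylow `p`-subgroup `P` and `G ⧸ N` has a normal
`p`-complement, so does `G` (Tate). -/
theorem hasNormalPComplement_of_quotient_of_le_frattini [Finite G] {p : ℕ} [hp : Fact p.Prime]
    (P : Sylow p G) (N : Subgroup G) [hN : N.Normal]
    (hNP : N ≤ (frattini P).map (P : Subgroup G).subtype)
    (h : HasNormalPComplement p (G ⧸ N)) : HasNormalPComplement p G := by
  obtain ⟨K, hKn, _, ⟨k, hidx⟩, _, hmem⟩ := exists_comap_of_hasNormalPComplement_quotient N h
  have hKq : IsPGroup p (G ⧸ K) := by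
    apply IsPGroup.of_card (n := k)
    rw [← Subgroup.index_eq_card, hidx]
  apply hasNormalPComplement_of_normal_of_isPGroup_quotient K hKq
  apply Cfsg.Agent.S0081.result P K
  intro x hx
  apply hNP
  apply hmem x hx.1
  obtain ⟨j, hj⟩ := P.isPGroup' ⟨x, hx.2⟩
  have hx' : x ^ p ^ j = 1 := by
    have := congrArg Subtype.val hj
    simpa using this
  obtain ⟨i, _, hi⟩ := (Nat.dvd_prime_pow hp.out).mp (orderOf_dvd_of_pow_eq_one hx')
  exact ⟨i, hi⟩

/-- If the focal subgroup of a Sylow `p`-subgroup `P` lies in `Φ(P)` then `G` has a normal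
`p`-complement (focal subgroup theorem + Tate). -/
theorem hasNormalPComplement_of_focalSubgroup_le_frattini [Finite G] {p : ℕ} [hp : Fact p.Prime]
    (P : Sylow p G)
    (h : (P : Subgroup G).focalSubgroup ≤ (frattini P).map (P : Subgroup G).subtype) :
    HasNormalPComplement p G := by
  set K : Subgroup G := (P : Subgroup G).transferFocal.ker with hK
  have hKq : IsPGroup p (G ⧸ K) := by
    have e := Subgroup.transferFocal.quotientKerMulEquivQuotientFocalSubroupOf P
    exact (P.2.to_quotient (P : Subgroup G).focalSubgroupOf).of_equiv e.symm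
  apply hasNormalPComplement_of_normal_of_isPGroup_quotient K hKq
  apply Cfsg.Agent.S0081.result P K
  rw [hK, Subgroup.ker_transferFocal_inf_eq_focalSubgroup]
  exact h

end Cfsg.Agent.Lib.Helper9
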