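import Mathlib
import Cfsg.Agent.Lib.Helper9.SmallOrderSieveA

/-!
# Two more tests for the small-order sieve (for S0496)

* Sylow intersection: if `n_p ≢ 1 (mod p²)` two Sylow `p`-subgroups meet in a subgroup `D` of index `p`,
  and `N_G(D)` is a proper subgroup with at least `p + 1` Sylow `p`-subgroups.
* parity: if `|P| = p` is odd and `n_p - 1 < 4p` then `C_G(P)` has odd order.
-/

set_option autoImplicit false
set_option linter.unusedSectionVars false
set_option linter.style.haveILetI false
set_option linter.unusedVariables false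

namespace Cfsg.Agent.Lib.Helper9.Sieve

open Cfsg.Agent.Lib.Helper17 Subgroup MulAction

variable {G : Type*} [Group G] [Finite G] [IsSimpleGroup G]

/-- `k` has a divisor `e ≡ 1 (mod p)`, `e ≥ p + 1`. -/
def hasSyl (k p : ℕ) : Bool :=
  (List.range (k + 1)).any (fun e => decide (k % e = 0) && decide (e % p = 1) && decide (p + 1 ≤ e))

/-- Sylow intersection test: every possible index `j` of the normalizer of the intersection is excluded. -/
def interExcl (n p m : ℕ) : Bool :=
  (List.range (m + 1)).all (fun j =>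
    !(decide (m % j = 0) && decide (j ≠ 1) && hasSyl (m / j) p) || idxExcl n j)

theorem false_of_interExcl (hG : ¬ IsMulCommutative G) {n p a m : ℕ} [hp : Fact p.Prime]
    (hn : Nat.card G = n) (hnm : n = p ^ a * m) (hpm : ¬ p ∣ m) (ha : 2 ≤ a)
    (hmod : Nat.card (Sylow p G) % p ^ 2 ≠ 1) (hex : interExcl n p m = true) : False := by
  have hp1 : 1 < p := hp.out.one_lt
  have hnot : ¬ Nat.card (Sylow p G) ≡ 1 [MOD p ^ 2] := by
    intro h
    apply hmod
    have h2 : 1 < p ^ 2 := Nat.one_lt_pow (by norm_num) hp1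
    rw [Nat.ModEq, Nat.mod_eq_of_lt h2] at h
    exact h
  obtain ⟨P, R, hne, hPN, hRN, hcard⟩ := exists_sylow_pair_normalizing_inter hnot
  set D : Subgroup G := (P : Subgroup G) ⊓ (R : Subgroup G) with hD
  set M : Subgroup G := normalizer (D : Set G) with hM
  have hPcard : Nat.card (P : Subgroup G) = p ^ a := sylow_card_of_card_eq P (hn.trans hnm) hpm
  have hmpos : 0 < m := by
    rcases Nat.eq_zero_or_pos m with h | h
    · exact absurd (h ▸ dvd_zero p) hpm
    · exact h
  -- `D` is a nontrivial proper subgroup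
  have hDcard : Nat.card D * p = p ^ a := by rw [hcard, hPcard]
  have hDne : D ≠ ⊥ := by
    intro h
    rw [h, Subgroup.card_bot, one_mul] at hDcard
    have : p ^ 1 < p ^ a := Nat.pow_lt_pow_right hp1 (by omega)
    rw [pow_one] at this
    omega
  have hDtop : D ≠ ⊤ := by
    intro h
    have h1 : (P : Subgroup G) = ⊤ := by
      rw [eq_top_iff, ← h]
      exact inf_le_left
    have h2 : Nat.card D = Nat.card (P : Subgroup G) := by rw [h, h1]
    rw [h2, hPcard] at hDcard
    have : 0 < p ^ a := pow_pos hp.out.pos a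
    nlinarith
  have hMtop : M ≠ ⊤ := by
    intro h
    have hn' : D.Normal := normalizer_eq_top_iff.mp h
    rcases hn'.eq_bot_or_eq_top with h1 | h1
    · exact hDne h1
    · exact hDtop h1
  -- the Sylow count of `M`
  have he1 := card_sylow_subgroup_mul_card_dvd M P hPN
  have he2 := succ_le_card_sylow_subgroup M P R hne hPN hRN
  have he3 : Nat.card (Sylow p M) % p = 1 := by
    have h3 : Nat.card (Sylow p M) % p = 1 % p := card_sylow_modEq_one p M
    rwa [Nat.mod_eq_of_lt hp1] at h3
  rw [hPcard] at he1
  obtain ⟨c, hc⟩ := he1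
  have hidx := M.index_mul_card
  rw [hn, hnm, hc] at hidx
  -- `m = j * e * c`
  have hm : m = M.index * (Nat.card (Sylow p M) * c) := by
    have h1 : p ^ a * (M.index * (Nat.card (Sylow p M) * c)) = p ^ a * m := by
      rw [← hidx]; ring
    exact (Nat.eq_of_mul_eq_mul_left (pow_pos hp.out.pos a) h1).symm
  have hjpos : 0 < M.index := Nat.pos_of_ne_zero Subgroup.index_ne_zero_of_finite
  have hj1 : M.index ≠ 1 := fun h => hMtop (Subgroup.index_eq_one.mp h)
  have hjm : M.index ≤ m := Nat.le_of_dvd hmpos ⟨_, hm⟩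
  have hdiv : m / M.index = Nat.card (Sylow p M) * c := by
    rw [hm, Nat.mul_div_cancel_left _ hjpos]
  have hcpos : 0 < c := by
    rcases Nat.eq_zero_or_pos c with h | h
    · rw [h, mul_zero, mul_zero] at hm
      omega
    · exact h
  have hepos : 0 < Nat.card (Sylow p M) := Nat.card_pos
  -- evaluate the test at `j = M.index`
  unfold interExcl at hex
  rw [List.all_eq_true] at hex
  have hj := hex M.index (List.mem_range.mpr (by omega))
  have hsyl : hasSyl (m / M.index) p = true := by
    unfold hasSyl
    rw [List.any_eq_true]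
    refine ⟨Nat.card (Sylow p M), List.mem_range.mpr ?_, ?_⟩
    · rw [hdiv]
      have : Nat.card (Sylow p M) * 1 ≤ Nat.card (Sylow p M) * c := Nat.mul_le_mul_left _ hcpos
      omega
    · simp only [Bool.and_eq_true, decide_eq_true_eq]
      refine ⟨⟨?_, he3⟩, he2⟩
      rw [hdiv]
      exact Nat.mul_mod_right _ _
  have hcond : (decide (m % M.index = 0) && decide (M.index ≠ 1) && hasSyl (m / M.index) p) = true := by
    simp only [Bool.and_eq_true, decide_eq_true_eq]
    exact ⟨⟨Nat.mod_eq_zero_of_dvd ⟨_, hm⟩, hj1⟩, hsyl⟩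
  rw [hcond, Bool.not_true, Bool.false_or] at hj
  have := idxExcl_sound hG M hMtop
  rw [hn] at this
  rw [this] at hj
  exact Bool.false_ne_true hj

/-- The fixed cosets of an involution centralizing a Sylow subgroup `P` of prime order `p`, on the cosets
of `N_G(P)`: their number is `≡ 1 (mod p)`. -/
theorem card_fixedBy_mod {p : ℕ} [hp : Fact p.Prime] (P : Sylow p G)
    (hP : Nat.card (P : Subgroup G) = p) (t : G)
    (ht : t ∈ centralizer ((P : Subgroup G) : Set G)) :
    Nat.card (fixedBy (G ⧸ normalizer ((P : Subgroup G) : Set G)) t) % p = 1 := by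
  set H : Subgroup G := normalizer ((P : Subgroup G) : Set G) with hH
  have htH : t ∈ H := centralizer_le_normalizer _ ht
  -- the sub-action of `P` on the fixed cosets of `t`
  let S : SubMulAction (P : Subgroup G) (G ⧸ H) :=
    { carrier := fixedBy (G ⧸ H) t
      smul_mem' := by
        intro x q hq
        rw [MulAction.mem_fixedBy] at hq ⊢
        have hx : (x : G) * t = t * (x : G) := (mem_centralizer_iff.mp ht) x x.2
        show t • ((x : G) • q) = (x : G) • q
        rw [smul_smul, ← hx, ← smul_smul, hq] }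
  have h1 := P.isPGroup'.card_modEq_card_fixedPoints S
  -- the fixed points of `P` on `S`
  obtain ⟨y, hy⟩ := exists_prime_orderOf_dvd_card' (G := (P : Subgroup G)) p (by rw [hP])
  have hy' : orderOf (y : G) = p := by rw [Subgroup.orderOf_coe, hy]
  have hone := card_fixedBy_normalizer_eq_one P hP (y : G) hy'
  have hfix : Nat.card (MulAction.fixedPoints (P : Subgroup G) S) = 1 := by
    rw [Nat.card_eq_one_iff_unique]
    constructor
    · constructor
      rintro ⟨⟨q1, hq1⟩, h1⟩ ⟨⟨q2, hq2⟩, h2⟩
      have e1 : (y : G) • q1 = q1 := by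
        have := h1 y
        exact congrArg Subtype.val this
      have e2 : (y : G) • q2 = q2 := by
        have := h2 y
        exact congrArg Subtype.val this
      have hs : Subsingleton (fixedBy (G ⧸ H) (y : G)) := (Nat.card_eq_one_iff_unique.mp hone).1
      have := Subsingleton.elim (⟨q1, e1⟩ : fixedBy (G ⧸ H) (y : G)) ⟨q2, e2⟩
      have e3 : q1 = q2 := congrArg Subtype.val this
      subst e3
      rfl
    · refine ⟨⟨⟨((1 : G) : G ⧸ H), ?_⟩, ?_⟩⟩
      · show ((1 : G) : G ⧸ H) ∈ fixedBy (G ⧸ H) t
        rw [MulAction.mem_fixedBy, MulAction.Quotient.smul_coe, QuotientGroup.eq]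
        simpa using H.inv_mem htH
      · intro x
        apply Subtype.ext
        show (x : G) • ((1 : G) : G ⧸ H) = ((1 : G) : G ⧸ H)
        rw [MulAction.Quotient.smul_coe, QuotientGroup.eq]
        have hxH : (x : G) ∈ H := le_normalizer x.2
        simpa using H.inv_mem hxH
  rw [hfix] at h1
  have h2 : Nat.card S = Nat.card (fixedBy (G ⧸ H) t) := rfl
  rw [h2, Nat.ModEq, Nat.mod_eq_of_lt hp.out.one_lt] at h1
  exact h1

/-- If `|P| = p` is odd and `n_p - 1 < 4 p`, no involution centralizes `P`. -/
theorem odd_card_centralizer (hG : ¬ IsMulCommutative G) {p : ℕ} [hp : Fact p.Prime] (hp2 : p ≠ 2)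
    (P : Sylow p G) (hP : Nat.card (P : Subgroup G) = p) (h1 : Nat.card (Sylow p G) ≠ 1)
    (hlt : Nat.card (Sylow p G) - 1 < 4 * p) :
    ¬ 2 ∣ Nat.card (centralizer ((P : Subgroup G) : Set G)) := by
  intro h2
  haveI : Fact (Nat.Prime 2) := ⟨Nat.prime_two⟩
  obtain ⟨t', ht'⟩ := exists_prime_orderOf_dvd_card' (G := centralizer ((P : Subgroup G) : Set G)) 2 h2
  set t : G := (t' : G) with htdef
  have ht : orderOf t = 2 := by rw [htdef, Subgroup.orderOf_coe, ht']
  have htC : t ∈ centralizer ((P : Subgroup G) : Set G) := t'.2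
  set H : Subgroup G := normalizer ((P : Subgroup G) : Set G) with hH
  have hHtop : H ≠ ⊤ := normalizer_ne_top hG P h1
  have hidx : H.index = Nat.card (Sylow p G) := by
    have : Nat.card (Sylow p G) = (normalizer ((P : Subgroup G) : Set G)).index :=
      P.card_eq_index_normalizer
    rw [this]
  have ht2 : t ^ 2 = 1 := by rw [← ht]; exact pow_orderOf_eq_one t
  have ht1 : t ≠ 1 := by
    intro h
    rw [h, orderOf_one] at ht
    omega
  have ha := four_dvd_index_sub_card_fixedBy_of_simple hG H t ht2
  have hb := card_fixedBy_mod P hP t htC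
  have hd1 : Nat.card (Sylow p G) % p = 1 := by
    have h3 : Nat.card (Sylow p G) % p = 1 % p := card_sylow_modEq_one p G
    rwa [Nat.mod_eq_of_lt hp.out.one_lt] at h3
  -- `f ≤ d`
  have hle : Nat.card (fixedBy (G ⧸ H) t) ≤ H.index := by
    rw [Subgroup.index]
    exact Nat.card_le_card_of_injective Subtype.val Subtype.val_injective
  -- `f ≠ d`
  have hne : Nat.card (fixedBy (G ⧸ H) t) ≠ H.index := by
    intro heq
    have hall : ∀ q : G ⧸ H, t • q = q := by
      have hfin : Finite (G ⧸ H) := inferInstance
      have hsurj : Function.Surjective (Subtype.val : fixedBy (G ⧸ H) t → G ⧸ H) := by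
        have hinj : Function.Injective (Subtype.val : fixedBy (G ⧸ H) t → G ⧸ H) :=
          Subtype.val_injective
        exact (Nat.bijective_iff_injective_and_card _).mpr ⟨hinj, by rw [heq, Subgroup.index]⟩ |>.2
      intro q
      obtain ⟨⟨q', hq'⟩, rfl⟩ := hsurj q
      exact hq'
    have hcore : t ∈ H.normalCore := by
      rw [Subgroup.normalCore_eq_ker, MonoidHom.mem_ker]
      ext q
      exact hall q
    have hcn : H.normalCore.Normal := inferInstance
    rcases hcn.eq_bot_or_eq_top with h | h
    · rw [h, Subgroup.mem_bot] at hcore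
      exact ht1 hcore
    · apply hHtop
      rw [eq_top_iff, ← h]
      exact Subgroup.normalCore_le H
  rw [hidx] at ha hle hne
  -- arithmetic
  set f := Nat.card (fixedBy (G ⧸ H) t) with hf
  set d := Nat.card (Sylow p G) with hd
  have hpd : p ∣ d - f := by
    have : (d - f) % p = 0 := by
      have e1 : d = f + (d - f) := by omega
      have e2 : d % p = (f % p + (d - f) % p) % p := by
        conv_lhs => rw [e1]
        exact Nat.add_mod _ _ _
      rw [hd1, hb] at e2
      have hlt' : (d - f) % p < p := Nat.mod_lt _ hp.out.pos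
      have hp1 := hp.out.one_lt
      by_contra hne0
      have : (1 + (d - f) % p) % p = 1 + (d - f) % p ∨ (1 + (d - f) % p) = p := by
        rcases Nat.lt_or_ge (1 + (d - f) % p) p with h | h
        · left; exact Nat.mod_eq_of_lt h
        · right; omega
      rcases this with h | h
      · rw [h] at e2; omega
      · rw [h, Nat.mod_self] at e2; omega
    exact Nat.dvd_of_mod_eq_zero this
  have hcop : Nat.Coprime 4 p := by
    have : Nat.Coprime 2 p := (Nat.coprime_primes Nat.prime_two hp.out).mpr (Ne.symm hp2)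
    have h4 : (4 : ℕ) = 2 ^ 2 := by norm_num
    rw [h4]
    exact Nat.Coprime.pow_left 2 this
  have h4p : 4 * p ∣ d - f := hcop.mul_dvd_of_dvd_of_dvd ha hpd
  have hpos : 0 < d - f := by omega
  have := Nat.le_of_dvd hpos h4p
  have hf1 : 1 ≤ f := by
    rcases Nat.eq_zero_or_pos f with h | h
    · rw [h, Nat.zero_mod] at hb; omega
    · exact h
  omega

/-- Centralizer test: no odd `c ∣ u` with `u / c ∣ p - 1`. -/
def centExcl (p u : ℕ) : Bool :=
  (List.range (u + 1)).all (fun c =>
    !(decide (u % c = 0) && decide (c % 2 = 1) && decide ((p - 1) % (u / c) = 0)))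

theorem false_of_centExcl (hG : ¬ IsMulCommutative G) {n p m : ℕ} [hp : Fact p.Prime]
    (hp2 : p ≠ 2) (hn : Nat.card G = n) (hnm : n = p ^ 1 * m) (hpm : ¬ p ∣ m)
    (hd : Nat.card (Sylow p G) ∣ m) (h1 : Nat.card (Sylow p G) ≠ 1)
    (hlt : Nat.card (Sylow p G) - 1 < 4 * p)
    (hex : centExcl p (m / Nat.card (Sylow p G)) = true) : False := by
  obtain ⟨P⟩ := (Sylow.nonempty : Nonempty (Sylow p G))
  have hP : Nat.card (P : Subgroup G) = p := by
    have := sylow_card_of_card_eq P (hn.trans hnm) hpm
    rwa [pow_one] at this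
  have hodd := odd_card_centralizer hG hp2 P hP h1 hlt
  set u := m / Nat.card (Sylow p G) with hu
  have hN : Nat.card (normalizer ((P : Subgroup G) : Set G)) = p * u := by
    have := card_normalizer_eq hn hnm hd P
    rwa [pow_one] at this
  have hc : IsCyclic (P : Subgroup G) := isCyclic_of_prime_card hP
  have hcomm : IsMulCommutative (P : Subgroup G) := ⟨⟨IsCyclic.commGroup.mul_comm⟩⟩
  have hPC : (P : Subgroup G) ≤ centralizer ((P : Subgroup G) : Set G) := Subgroup.le_centralizer _
  have hCN : centralizer ((P : Subgroup G) : Set G) ≤ normalizer ((P : Subgroup G) : Set G) :=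
    centralizer_le_normalizer _
  have he := relIndex_cent_norm_dvd_pred_of_card_prime P hP
  have hmul := card_mul_relIndex_of_le hCN
  rw [hN] at hmul
  obtain ⟨c, hc'⟩ := Subgroup.card_dvd_of_le hPC
  rw [hP] at hc'
  set e := (centralizer ((P : Subgroup G) : Set G)).relIndex (normalizer ((P : Subgroup G) : Set G))
    with he'
  have hce : c * e = u := by
    rw [hc'] at hmul
    have : p * (c * e) = p * u := by rw [← hmul]; ring
    exact Nat.eq_of_mul_eq_mul_left hp.out.pos this
  have hcodd : c % 2 = 1 := by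
    rcases Nat.mod_two_eq_zero_or_one c with h | h
    · exfalso
      apply hodd
      rw [hc']
      exact Dvd.dvd.mul_left (Nat.dvd_of_mod_eq_zero h) p
    · exact h
  have hmpos : 0 < m := by
    rcases Nat.eq_zero_or_pos m with h | h
    · exact absurd (h ▸ dvd_zero p) hpm
    · exact h
  have hupos : 0 < u := by
    rw [hu]
    exact Nat.div_pos (Nat.le_of_dvd hmpos hd) Nat.card_pos
  have hcpos : 0 < c := by
    rcases Nat.eq_zero_or_pos c with h | h
    · rw [h, zero_mul] at hce; omega
    · exact h
  have hepos : 0 < e := by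
    rcases Nat.eq_zero_or_pos e with h | h
    · rw [h, mul_zero] at hce; omega
    · exact h
  unfold centExcl at hex
  rw [List.all_eq_true] at hex
  have hcu : c ≤ u := Nat.le_of_dvd hupos ⟨e, hce.symm⟩
  have hj := hex c (List.mem_range.mpr (by omega))
  have hdiv : u / c = e := by
    rw [← hce, Nat.mul_div_cancel_left _ hcpos]
  have hcond : (decide (u % c = 0) && decide (c % 2 = 1) && decide ((p - 1) % (u / c) = 0)) = true := by
    simp only [Bool.and_eq_true, decide_eq_true_eq]
    refine ⟨⟨?_, hcodd⟩, ?_⟩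
    · rw [← hce]; exact Nat.mul_mod_right _ _
    · rw [hdiv]; exact Nat.mod_eq_zero_of_dvd he
  rw [hcond] at hj
  exact Bool.false_ne_true hj

end Cfsg.Agent.Lib.Helper9.Sieve
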