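import Mathlib
import Cfsg.Agent.Lib.Helper9.SmallOrderSieveB
import Cfsg.Agent.S0144
import Cfsg.Agent.S0992
import Cfsg.Agent.S0493

/-!
# The certificate checker of the small-order sieve and its soundness (for S0496)

A certificate for an order `n` is a tuple `(kind, p, a, q, b)`:
* kind 0: `n = p^a * q^b` with `p`, `q` prime (Burnside);
* kind 1: `n ≡ 2 (mod 4)`;
* kind 2: `n ≡ 4 (mod 8)`, `3 ∤ n` (Sylow 2-subgroup of order 4);
* kind 3: `n = p^a * m` (`m` stored in the `q` slot), all possible Sylow numbers are excluded;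
* kind 4: `n` is one of the listed orders (the six orders of simple groups and the hard orders).
-/

set_option autoImplicit false
set_option linter.unusedSectionVars false
set_option linter.style.haveILetI false
set_option linter.unusedVariables false

namespace Cfsg.Agent.Lib.Helper9.Sieve

open Cfsg.Agent.Lib.Helper17 Subgroup MulAction

variable {G : Type*} [Group G] [Finite G] [IsSimpleGroup G]

/-- A kernel-friendly primality test. -/
def isPrimeB (p : ℕ) : Bool :=
  decide (2 ≤ p) && (List.range p).all (fun d => decide (d < 2) || decide (p % d ≠ 0))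

theorem prime_of_isPrimeB {p : ℕ} (h : isPrimeB p = true) : p.Prime := by
  unfold isPrimeB at h
  rw [Bool.and_eq_true, decide_eq_true_eq, List.all_eq_true] at h
  obtain ⟨h2, hall⟩ := h
  rw [Nat.prime_def_lt]
  refine ⟨h2, fun m hm hdvd => ?_⟩
  have := hall m (List.mem_range.mpr hm)
  rw [Bool.or_eq_true, decide_eq_true_eq, decide_eq_true_eq] at this
  rcases this with h | h
  · have hm0 : m ≠ 0 := by
      rintro rfl
      rw [zero_dvd_iff] at hdvd
      omega
    omega
  · exact absurd (Nat.mod_eq_zero_of_dvd hdvd) h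

/-- `true` means: the value `d` for the number of Sylow `p`-subgroups is impossible. -/
def excl (n p a m d : ℕ) : Bool :=
  idxExcl n d
  || (decide (a = 1) && decide (Nat.gcd (m / d) (p - 1) = 1))
  || (decide (a = 1) && decide (p ≠ 2) && decide (p ≤ d) && decide (d < 2 * p) && decide (d - p ≤ 16) &&
      decide ((p * (p - 1) * (d - p).factorial) % (2 * (p ^ 1 * (m / d))) ≠ 0))
  || (decide (2 ≤ a) && decide (d % p ^ 2 ≠ 1) && interExcl n p m)
  || (decide (a = 1) && decide (p ≠ 2) && decide (d - 1 < 4 * p) && centExcl p (m / d))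

/-- The Sylow certificate for the prime `p`, `n = p^a * m`. -/
def checkSyl (n p a m : ℕ) : Bool :=
  isPrimeB p && decide (0 < a) && decide (n = p ^ a * m) && decide (m % p ≠ 0) && decide (m ≠ 1) &&
    (List.range (m + 1)).all (fun d =>
      !(decide (m % d = 0) && decide (d % p = 1) && decide (d ≠ 1)) || excl n p a m d)

theorem false_of_checkSyl (hG : ¬ IsMulCommutative G) {n p a m : ℕ} (hn : Nat.card G = n)
    (h : checkSyl n p a m = true) : False := by
  unfold checkSyl at h
  simp only [Bool.and_eq_true, decide_eq_true_eq] at h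
  obtain ⟨⟨⟨⟨⟨hp, ha⟩, hnm⟩, hpm'⟩, hm1⟩, hall⟩ := h
  haveI : Fact p.Prime := ⟨prime_of_isPrimeB hp⟩
  have hpm : ¬ p ∣ m := fun hd => hpm' (Nat.mod_eq_zero_of_dvd hd)
  have hmpos : 0 < m := by
    rcases Nat.eq_zero_or_pos m with h0 | h0
    · exact absurd (h0 ▸ dvd_zero p) hpm
    · exact h0
  obtain ⟨hd, hdp, hd1⟩ := sylow_facts hG hn hnm hpm ha hm1
  rw [List.all_eq_true] at hall
  have hdm : Nat.card (Sylow p G) ≤ m := Nat.le_of_dvd hmpos hd
  have hx := hall _ (List.mem_range.mpr (Nat.lt_succ_of_le hdm))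
  have hcond : (decide (m % Nat.card (Sylow p G) = 0) && decide (Nat.card (Sylow p G) % p = 1) &&
      decide (Nat.card (Sylow p G) ≠ 1)) = true := by
    simp only [Bool.and_eq_true, decide_eq_true_eq]
    exact ⟨⟨Nat.mod_eq_zero_of_dvd hd, hdp⟩, hd1⟩
  rw [hcond, Bool.not_true, Bool.false_or] at hx
  unfold excl at hx
  simp only [Bool.or_eq_true, Bool.and_eq_true, decide_eq_true_eq] at hx
  rcases hx with (((h1 | h2) | h3) | h4) | h5
  · have := idxExcl_card_sylow (p := p) hG hd1
    rw [hn] at this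
    rw [this] at h1
    exact Bool.false_ne_true h1
  · obtain ⟨ha1, hg⟩ := h2
    subst ha1
    exact false_of_gcd_eq_one hG hn hnm hpm hd hg
  · obtain ⟨⟨⟨⟨⟨ha1, hp2⟩, hle⟩, hlt⟩, -⟩, hnd⟩ := h3
    subst ha1
    exact false_of_alt_normalizer hG hp2 hn hnm hd hd1 hle hlt hnd
  · obtain ⟨⟨ha2, hmod⟩, hex⟩ := h4
    exact false_of_interExcl hG hn hnm hpm ha2 hmod hex
  · obtain ⟨⟨⟨ha1, hp2⟩, hlt⟩, hex⟩ := h5
    subst ha1
    exact false_of_centExcl hG hp2 hn hnm hpm hd hd1 hlt hex

/-- The orders that the sieve does not treat: the six orders of simple groups, and six hard orders. -/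
def listed : List ℕ := [60, 168, 360, 504, 660, 1092, 612, 720, 756, 1008, 1040, 1080]

/-- The certificate checker. -/
def checkCert (n : ℕ) (c : ℕ × ℕ × ℕ × ℕ × ℕ) : Bool :=
  if c.1 = 0 then isPrimeB c.2.1 && isPrimeB c.2.2.2.1 && decide (n = c.2.1 ^ c.2.2.1 * c.2.2.2.1 ^ c.2.2.2.2)
  else if c.1 = 1 then decide (n % 4 = 2)
  else if c.1 = 2 then decide (n % 8 = 4) && decide (n % 3 ≠ 0)
  else if c.1 = 3 then checkSyl n c.2.1 c.2.2.1 c.2.2.2.1
  else if c.1 = 4 then decide (n ∈ listed)
  else false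

theorem mem_listed_of_checkCert (hG : ¬ IsMulCommutative G) {n : ℕ} (hn : Nat.card G = n)
    (c : ℕ × ℕ × ℕ × ℕ × ℕ) (h : checkCert n c = true) : n ∈ listed := by
  unfold checkCert at h
  split_ifs at h with h0 h1 h2 h3 h4
  · -- two primes
    exfalso
    simp only [Bool.and_eq_true, decide_eq_true_eq] at h
    obtain ⟨⟨hp, hq⟩, hnpq⟩ := h
    have hs : Group.IsSolvable G :=
      Cfsg.Agent.S0144.result _ _ _ _ (prime_of_isPrimeB hp) (prime_of_isPrimeB hq) (hn.trans hnpq)
    exact hG ⟨⟨IsSimpleGroup.comm_iff_isSolvable.mpr hs⟩⟩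
  · exfalso
    rw [decide_eq_true_eq] at h
    exact Cfsg.Agent.S0493.false_of_card_mod_four hG (by rw [hn]; exact h)
  · exfalso
    simp only [Bool.and_eq_true, decide_eq_true_eq] at h
    obtain ⟨h8, h3'⟩ := h
    haveI : Fact (Nat.Prime 2) := ⟨Nat.prime_two⟩
    obtain ⟨T⟩ := (Sylow.nonempty : Nonempty (Sylow 2 G))
    have heven : Even (Nat.card G) := by
      rw [hn, Nat.even_iff]; omega
    have hn8 : ¬ 8 ∣ Nat.card G := by
      rw [hn]; intro hd; have := Nat.mod_eq_zero_of_dvd hd; omega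
    obtain ⟨-, hrel⟩ := Cfsg.Agent.S0992.result hG heven hn8 T
    have h3 : 3 ∣ Nat.card G := by
      rw [← hrel]
      exact (Subgroup.relIndex_dvd_card _ _).trans (Subgroup.card_subgroup_dvd_card _)
    rw [hn] at h3
    exact h3' (Nat.mod_eq_zero_of_dvd h3)
  · exact (false_of_checkSyl hG hn h).elim
  · rw [decide_eq_true_eq] at h
    exact h

end Cfsg.Agent.Lib.Helper9.Sieve
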