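import Mathlib
import Cfsg.Prelude.Def_SolvableStructure
import Cfsg.Agent.Lib.Helper9.SS

set_option autoImplicit false

namespace Cfsg.Agent.Lib.Helper9

universe u

variable {G : Type u} [Group G]

/-- Every subgroup of a cyclic normal subgroup is normal. -/
theorem normal_of_le_of_isCyclic_normal (C : Subgroup G) [hC : C.Normal] [IsCyclic C]
    (D : Subgroup G) (hD : D ≤ C) : D.Normal := by
  constructor
  intro d hd g
  obtain ⟨m, hm⟩ := MonoidHom.map_cyclic (MulAut.conjNormal g : MulAut C).toMonoidHom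
  have h1 := hm ⟨d, hD hd⟩
  have h2 : g * d * g⁻¹ = d ^ m := by
    have := congrArg (Subtype.val) h1
    simpa using this
  rw [h2]
  exact D.zpow_mem hd m

/-- A nontrivial finite group has a subgroup of prime order. -/
theorem exists_zpowers_prime_card (C : Subgroup G) [Finite C] (hC : C ≠ ⊥) :
    ∃ x ∈ C, (Nat.card (Subgroup.zpowers x)).Prime := by
  have h1 : Nat.card C ≠ 1 := by
    intro h
    exact hC (Subgroup.card_eq_one.1 h)
  haveI : Fact (Nat.card C).minFac.Prime := ⟨Nat.minFac_prime h1⟩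
  obtain ⟨x, hx⟩ := exists_prime_orderOf_dvd_card' (G := C) (Nat.card C).minFac
    (Nat.minFac_dvd _)
  refine ⟨x, x.2, ?_⟩
  rw [Nat.card_zpowers, Subgroup.orderOf_coe, hx]
  exact Nat.minFac_prime h1

theorem exists_normal_prime_card_le_aux [Finite G] {M : Subgroup G}
    (h : SSChain (⊥ : Subgroup G) M) :
    ∀ N : Subgroup G, N.Normal → N ⊓ M ≠ ⊥ →
      ∃ D : Subgroup G, D ≤ N ⊓ M ∧ D.Normal ∧ (Nat.card D).Prime := by
  induction h with
  | refl hN => intro N _ h; simp at h
  | @step M g h hn ih =>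
    intro N hN hne
    by_cases h0 : N ⊓ M = ⊥
    · have hM : M.Normal := h.normal_right
      have hCn : (N ⊓ (M ⊔ Subgroup.zpowers g)).Normal := Subgroup.normal_inf_normal _ _
      obtain ⟨c, hc, hC⟩ := exists_eq_inf_sup_zpowers M g (N ⊓ (M ⊔ Subgroup.zpowers g))
        inf_le_right
      have h1 : N ⊓ (M ⊔ Subgroup.zpowers g) ⊓ M = ⊥ := by
        apply le_antisymm _ bot_le
        rw [← h0]
        exact le_inf (inf_le_left.trans inf_le_left) inf_le_right
      rw [h1, bot_sup_eq] at hC
      haveI : IsCyclic (N ⊓ (M ⊔ Subgroup.zpowers g) : Subgroup G) := by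
        rw [hC]; infer_instance
      obtain ⟨x, hx, hp⟩ := exists_zpowers_prime_card _ hne
      exact ⟨Subgroup.zpowers x, (Subgroup.zpowers_le).2 hx,
        normal_of_le_of_isCyclic_normal _ _ ((Subgroup.zpowers_le).2 hx), hp⟩
    · obtain ⟨D, hD, hDn, hDp⟩ := ih N hN h0
      exact ⟨D, hD.trans (inf_le_inf_left _ le_sup_left), hDn, hDp⟩

/-- In a finite supersolvable group every nontrivial normal subgroup contains a normal subgroup
of prime order. -/
theorem exists_normal_prime_card_le [Finite G] (hG : Cfsg.IsSupersolvable G)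
    (N : Subgroup G) [hN : N.Normal] (hne : N ≠ ⊥) :
    ∃ D : Subgroup G, D ≤ N ∧ D.Normal ∧ (Nat.card D).Prime := by
  obtain ⟨D, hD, h⟩ := exists_normal_prime_card_le_aux (ssChain_of_isSupersolvable hG) N hN
    (by simpa using hne)
  exact ⟨D, hD.trans inf_le_left, h⟩

theorem exists_normal_prime_card [Finite G] [Nontrivial G] (hG : Cfsg.IsSupersolvable G) :
    ∃ D : Subgroup G, D.Normal ∧ (Nat.card D).Prime := by
  obtain ⟨D, -, h⟩ := exists_normal_prime_card_le hG ⊤ top_ne_bot
  exact ⟨D, h⟩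

end Cfsg.Agent.Lib.Helper9
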