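import Mathlib
import Cfsg.Prelude.Def_SolvableStructure

set_option autoImplicit false

namespace Cfsg.Agent.Lib.Helper9

universe u

theorem clt_of_mulEquiv {G H : Type*} [Group G] [Group H] (e : G ≃* H)
    (h : Cfsg.HasSubgroupOfEveryOrder G) : Cfsg.HasSubgroupOfEveryOrder H := by
  intro d hd
  rw [← Nat.card_congr e.toEquiv] at hd
  obtain ⟨K, hK⟩ := h d hd
  exact ⟨K.map e.toMonoidHom, by rw [Subgroup.card_map_of_injective e.injective, hK]⟩

theorem clt_top {G : Type*} [Group G] (h : ∀ H : Subgroup G, Cfsg.HasSubgroupOfEveryOrder H) :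
    Cfsg.HasSubgroupOfEveryOrder G :=
  clt_of_mulEquiv Subgroup.topEquiv (h ⊤)

theorem clt_hereditary {G : Type*} [Group G]
    (h : ∀ H : Subgroup G, Cfsg.HasSubgroupOfEveryOrder H) (M : Subgroup G) :
    ∀ H : Subgroup M, Cfsg.HasSubgroupOfEveryOrder H := fun H =>
  clt_of_mulEquiv (Subgroup.equivMapOfInjective H M.subtype M.subtype_injective).symm
    (h (H.map M.subtype))

/-- A group with subgroups of every order has a normal subgroup of index the smallest prime divisor
of its order. -/
theorem exists_normal_index_minFac {G : Type*} [Group G] [Finite G] [Nontrivial G]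
    (hG : Cfsg.HasSubgroupOfEveryOrder G) :
    ∃ M : Subgroup G, M.Normal ∧ M.index = (Nat.card G).minFac := by
  have hn1 : Nat.card G ≠ 1 := (Finite.one_lt_card (α := G)).ne'
  have hq : (Nat.card G).minFac.Prime := Nat.minFac_prime hn1
  have hqd : (Nat.card G).minFac ∣ Nat.card G := Nat.minFac_dvd _
  obtain ⟨M, hM⟩ := hG (Nat.card G / (Nat.card G).minFac) (Nat.div_dvd_of_dvd hqd)
  have hidx : M.index = (Nat.card G).minFac := by
    have h1 := Subgroup.index_mul_card M
    rw [hM] at h1
    have h2 : (Nat.card G).minFac * (Nat.card G / (Nat.card G).minFac) = Nat.card G :=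
      Nat.mul_div_cancel' hqd
    have hpos : 0 < Nat.card G / (Nat.card G).minFac :=
      Nat.div_pos (Nat.le_of_dvd Nat.card_pos hqd) hq.pos
    exact Nat.eq_of_mul_eq_mul_right hpos (h1.trans h2.symm)
  exact ⟨M, Subgroup.normal_of_index_eq_minFac_card hidx, hidx⟩

theorem sylow_normal_of_hereditary_clt : ∀ (n : ℕ) (G : Type u) [Group G] [Finite G],
    Nat.card G = n → (∀ H : Subgroup G, Cfsg.HasSubgroupOfEveryOrder H) → ∀ (p : ℕ) [Fact p.Prime],
    (∀ q : ℕ, q.Prime → q ∣ Nat.card G → q ≤ p) → ∀ P : Sylow p G, (P : Subgroup G).Normal := by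
  intro n
  induction n using Nat.strong_induction_on with
  | _ n ih =>
    intro G _ _ hcard h p hp hmax P
    rcases subsingleton_or_nontrivial G with hs | hnt
    · have : (P : Subgroup G) = ⊤ := Subsingleton.elim _ _
      rw [this]; infer_instance
    have hn1 : Nat.card G ≠ 1 := (Finite.one_lt_card (α := G)).ne'
    have hq : (Nat.card G).minFac.Prime := Nat.minFac_prime hn1
    have hqd : (Nat.card G).minFac ∣ Nat.card G := Nat.minFac_dvd _
    obtain ⟨M, hMn, hidx⟩ := exists_normal_index_minFac (clt_top h)
    by_cases hpq : p = (Nat.card G).minFac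
    · have hpg : IsPGroup p G := by
        have h0 : Nat.card G ≠ 0 := Nat.card_pos.ne'
        have h1 : Nat.card G = p ^ (Nat.card G).primeFactorsList.length := by
          apply Nat.eq_prime_pow_of_unique_prime_dvd h0
          intro d hd hdvd
          apply le_antisymm (hmax d hd hdvd)
          rw [hpq]
          exact Nat.minFac_le_of_dvd hd.two_le hdvd
        exact IsPGroup.of_card h1
      have : (⊤ : Subgroup G) = P := P.is_maximal' (hpg.to_subgroup ⊤) le_top
      rw [← this]; infer_instance
    · have hcardG : (Nat.card G).minFac * Nat.card M = Nat.card G := by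
        rw [← hidx]; exact Subgroup.index_mul_card M
      have hlt : Nat.card M < n := by
        rw [← hcard, ← hcardG]
        have hpos : 0 < Nat.card M := Nat.card_pos
        have := hq.one_lt
        nlinarith
      have hmaxM : ∀ r : ℕ, r.Prime → r ∣ Nat.card M → r ≤ p := fun r hr hrd =>
        hmax r hr (hrd.trans (Subgroup.card_subgroup_dvd_card M))
      let PM : Sylow p M := default
      have hPMn : (PM : Subgroup M).Normal :=
        ih _ hlt M rfl (clt_hereditary h M) p hmaxM PM
      haveI hchar : (PM : Subgroup M).Characteristic := Sylow.characteristic_of_normal PM hPMn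
      have hQn : ((PM : Subgroup M).map M.subtype).Normal := inferInstance
      have hfac : (Nat.card M).factorization p = (Nat.card G).factorization p := by
        rw [← hcardG, Nat.factorization_mul hq.ne_zero Nat.card_pos.ne']
        simp [Nat.Prime.factorization hq, Finsupp.single_apply, Ne.symm hpq]
      have hQcard : Nat.card ((PM : Subgroup M).map M.subtype) =
          p ^ (Nat.card G).factorization p := by
        rw [Subgroup.card_map_of_injective M.subtype_injective, Sylow.card_eq_multiplicity, hfac]
      let Q' : Sylow p G := Sylow.ofCard _ hQcard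
      have hQ'n : (Q' : Subgroup G).Normal := by
        rw [Sylow.coe_ofCard]; exact hQn
      haveI := Sylow.unique_of_normal Q' hQ'n
      have : P = Q' := Subsingleton.elim _ _
      rw [this]; exact hQ'n

end Cfsg.Agent.Lib.Helper9
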