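/-
helper9: module E67-[EMBTAB] of helper35's project E67 (S1079, S2105, S2106): the sub-root-systems `E6 ⊂ E8` and
`E7 ⊂ E8` on the first six / seven fundamental roots are embeddings of data (`Emb`): the maps `jE6`, `jE7` are compatible
with negation, fundamental roots and the commutator formulas (same structure constants).  One Boolean check on the
packed tables of the two data.
-/
import Cfsg.Agent.Lib.Helper35.E67Defs
import Cfsg.Agent.Lib.Helper18.ChevDataAll
import Cfsg.Agent.Lib.Helper18.BN1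

set_option autoImplicit false

namespace Cfsg.Agent.Lib.Helper9.E67

open Cfsg Cfsg.Lie Cfsg.Agent.Lib.Helper35.E67 Cfsg.Agent.Lib.Helper18

/-- the commutator formula of the datum, read off the packed tables -/
theorem ct_eq {D : ChevalleyDatum} (C : ChevData.{0} D) {r s : ℕ} (hr : r < D.nroots) (hs : s < D.nroots) :
    C.T.commTermsFast r s = D.commTerms r s := by
  rw [C.T.commTermsFast_eq, C.T.commTermsF_eq D C.hag C.hin r s hr hs]

/-- Table check for `Emb`. -/
def embOK (T₀ T₁ : FastDatum) (s₀ s₁ jL : List ℕ) : Bool :=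
  ((List.range T₀.nroots).all fun r =>
      decide (jL.getD r 0 < T₁.nroots) && (jL.getD (T₀.neg r) 0 == T₁.neg (jL.getD r 0))) &&
    ((List.range T₀.rank).all fun i => jL.getD (s₀.getD i 0) 0 == s₁.getD i 0) &&
    ((List.range T₀.nroots).all fun r => (List.range T₀.nroots).all fun s =>
      s == r || s == T₀.neg r ||
        ((jL.getD s 0 != jL.getD r 0) && (jL.getD s 0 != T₁.neg (jL.getD r 0)) &&
          (T₁.commTermsFast (jL.getD r 0) (jL.getD s 0) ==
            (T₀.commTermsFast r s).map fun c => (jL.getD c.1 0, c.2))))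

theorem emb_of_ok {D₀ D₁ : ChevalleyDatum} (C₀ : ChevData.{0} D₀) (C₁ : ChevData.{0} D₁) (jL : List ℕ)
    (hrk : D₀.rank ≤ D₁.rank) (h : embOK C₀.T C₁.T C₀.simples C₁.simples jL = true) :
    Emb D₀ D₁ (fun r => jL.getD r 0) := by
  unfold embOK at h
  rw [Bool.and_eq_true, Bool.and_eq_true, List.all_eq_true, List.all_eq_true, List.all_eq_true] at h
  obtain ⟨⟨h1, h2⟩, h3⟩ := h
  have hn₀ := C₀.nroots_eq
  have hn₁ := C₁.nroots_eq
  have hlt : ∀ r, r < D₀.nroots → jL.getD r 0 < D₁.nroots := by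
    intro r hr
    have := h1 r (List.mem_range.2 (hn₀ ▸ hr))
    rw [Bool.and_eq_true, decide_eq_true_eq] at this
    exact hn₁ ▸ this.1
  refine ⟨hrk, hlt, ?_, ?_, ?_, ?_⟩
  · intro r hr
    have := h1 r (List.mem_range.2 (hn₀ ▸ hr))
    rw [Bool.and_eq_true, beq_iff_eq] at this
    show jL.getD (D₀.neg r) 0 = D₁.neg (jL.getD r 0)
    rw [C₀.neg_eq r hr, C₁.neg_eq _ (hlt r hr)]
    exact this.2
  · intro i hi
    have := h2 i (List.mem_range.2 (by rw [C₀.rank_eq]; exact hi))
    rw [beq_iff_eq] at this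
    show jL.getD (D₀.simple i) 0 = D₁.simple i
    rw [C₀.hsimple i hi, C₁.hsimple i (lt_of_lt_of_le hi hrk)]
    exact this
  · intro r s hr hs hsr hsn
    have a1 := h3 r (List.mem_range.2 (hn₀ ▸ hr))
    rw [List.all_eq_true] at a1
    have a2 := a1 s (List.mem_range.2 (hn₀ ▸ hs))
    simp only [Bool.or_eq_true, Bool.and_eq_true, beq_iff_eq, bne_iff_ne, ne_eq] at a2
    rcases a2 with (a2 | a2) | a2
    · exact (hsr a2).elim
    · exact (hsn (by rw [C₀.neg_eq r hr]; exact a2)).elim
    · refine ⟨a2.1.1, ?_⟩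
      show jL.getD s 0 ≠ D₁.neg (jL.getD r 0)
      rw [C₁.neg_eq _ (hlt r hr)]
      exact a2.1.2
  · intro r s hr hs hsr hsn
    have a1 := h3 r (List.mem_range.2 (hn₀ ▸ hr))
    rw [List.all_eq_true] at a1
    have a2 := a1 s (List.mem_range.2 (hn₀ ▸ hs))
    simp only [Bool.or_eq_true, Bool.and_eq_true, beq_iff_eq, bne_iff_ne, ne_eq] at a2
    rcases a2 with (a2 | a2) | a2
    · exact (hsr a2).elim
    · exact (hsn (by rw [C₀.neg_eq r hr]; exact a2)).elim
    · show D₁.commTerms (jL.getD r 0) (jL.getD s 0) = (D₀.commTerms r s).map fun c => (jL.getD c.1 0, c.2)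
      rw [← ct_eq C₁ (hlt r hr) (hlt s hs), ← ct_eq C₀ hr hs]
      exact a2.2

set_option maxRecDepth 1000000 in
theorem embOK_E6 : embOK fastE6 fastE8 simples_E6 simples_E8 jE6L = true := by decide +kernel

set_option maxRecDepth 1000000 in
theorem embOK_E7 : embOK fastE7 fastE8 simples_E7 simples_E8 jE7L = true := by decide +kernel

theorem emb_E6 : Emb chevE6 chevE8 jE6 :=
  emb_of_ok chevData_E6.{0} chevData_E8.{0} jE6L (by decide) embOK_E6

theorem emb_E7 : Emb chevE7 chevE8 jE7 :=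
  emb_of_ok chevData_E7.{0} chevData_E8.{0} jE7L (by decide) embOK_E7

end Cfsg.Agent.Lib.Helper9.E67
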