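/-
helper9: module E67-[HPINJ] of helper35's project E67 (S1079, S2105, S2106): if the Steinberg group of `D₀` maps to the
matrix group of `D₁ ∈ {G2, F4, E8}` along an embedding of data, then the products `∏ h̄_{p_i}(t_i)` in the Steinberg group
determine the parameters `t_i` (the image is the torus of `D₁`, on which the parameters are independent because the
Cartan matrix is unimodular).
-/
import Cfsg.Agent.Lib.Helper35.E67Defs
import Cfsg.Agent.Lib.Helper35.StMain3
import Cfsg.Agent.Lib.Helper35.StCover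
import Cfsg.Agent.Lib.Helper18.TorusHom
import Cfsg.Agent.Lib.Helper13.StTorus

set_option autoImplicit false

namespace Cfsg.Agent.Lib.Helper9.E67

open Cfsg Cfsg.Lie Cfsg.Agent.Lib.Helper35.St Cfsg.Agent.Lib.Helper35.E67 Cfsg.Agent.Lib.Helper18

universe u

variable {K : Type u} [Field K] {D₀ D₁ : ChevalleyDatum} {j : ℕ → ℕ}

/-- For G2, F4, E8 the torus homomorphism is injective. -/
theorem ker_torusHom_eq_bot {D : ChevalleyDatum} (hD' : D ∈ [chevG2, chevF4, chevE8]) :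
    (torusHom D K).ker = ⊥ := by
  have hD := Cfsg.Agent.Lib.Helper13.St.mem_seven hD'
  obtain ⟨m, hm⟩ := Cfsg.Agent.Lib.Helper13.St.exists_rootComb hD'
  rw [eq_bot_iff]
  intro c hc
  rw [ker_torusHom D m hm (fun j => simple_lt' D hD j j.2), MonoidHom.mem_ker, mpowHom_apply] at hc
  exact Subgroup.mem_bot.2 (Cfsg.Agent.Lib.Helper13.St.cartan_mpow_eq_one hD' c hc)

/-- the image of `h̄_{p_i}(t)` -/
theorem map_hbar (hD₀ : D₀ ∈ [chevG2, chevB2, chevD4, chevF4, chevE6, chevE7, chevE8]) (h : Emb D₀ D₁ j)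
    (ι : D₀.SteinbergGroup K →* GL D₁.Idx K)
    (hι : ∀ r, r < D₀.nroots → ∀ t : K,
      ((ι (D₀.stGen K r t) : GL D₁.Idx K) : Matrix D₁.Idx D₁.Idx K) = D₁.x K (j r) t)
    (i : ℕ) (hi : i < D₀.rank) (t : K) :
    ((ι ((stModel (K := K) hD₀).hbar (D₀.simple i) t) : GL D₁.Idx K) : Matrix D₁.Idx D₁.Idx K)
      = D₁.wordMat K (D₁.hWord (D₁.simple i) t) := by
  have tf := tf_main hD₀
  have hplt : D₀.simple i < D₀.nroots := tf.pos_lt _ (tf.simple_pos i hi)
  have hnplt : D₀.neg (D₀.simple i) < D₀.nroots := tf.neg_lt _ hplt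
  have e1 := hι _ hplt
  have e2 := hι _ hnplt
  rw [h.neg _ hplt, h.simple i hi] at e2
  rw [h.simple i hi] at e1
  have hX : (stModel (K := K) hD₀).X = D₀.stGen K := rfl
  unfold Model.hbar Model.nbar ChevalleyDatum.hWord ChevalleyDatum.nWord ChevalleyDatum.wordMat
  simp only [hX, map_mul, Units.val_mul, e1, e2, List.cons_append, List.nil_append, List.map_cons,
    List.map_nil, List.prod_cons, List.prod_nil, mul_one, mul_assoc]

/-- the image of `∏ h̄_{p_i}(t_i)` -/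
theorem map_hprod (hD₀ : D₀ ∈ [chevG2, chevB2, chevD4, chevF4, chevE6, chevE7, chevE8]) (h : Emb D₀ D₁ j)
    (ι : D₀.SteinbergGroup K →* GL D₁.Idx K)
    (hι : ∀ r, r < D₀.nroots → ∀ t : K,
      ((ι (D₀.stGen K r t) : GL D₁.Idx K) : Matrix D₁.Idx D₁.Idx K) = D₁.x K (j r) t)
    (t : ℕ → K) :
    ((ι ((stModel (K := K) hD₀).hprod t) : GL D₁.Idx K) : Matrix D₁.Idx D₁.Idx K)
      = D₁.wordMat K ((List.range D₀.rank).flatMap fun i => D₁.hWord (D₁.simple i) (t i)) := by
  rw [Cfsg.Agent.Lib.Helper18.wordMat_flatMap]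
  unfold Model.hprod
  have key : ∀ l : List ℕ, (∀ i ∈ l, i < D₀.rank) →
      ((ι ((l.map fun i => (stModel (K := K) hD₀).hbar (D₀.simple i) (t i)).prod) : GL D₁.Idx K) :
          Matrix D₁.Idx D₁.Idx K)
        = (l.map fun i => D₁.wordMat K (D₁.hWord (D₁.simple i) (t i))).prod := by
    intro l hl
    induction l with
    | nil => simp
    | cons a l ih =>
      rw [List.map_cons, List.prod_cons, map_mul, Units.val_mul, List.map_cons, List.prod_cons,
        map_hbar hD₀ h ι hι a (hl a List.mem_cons_self), ih fun i hi => hl i (List.mem_cons_of_mem _ hi)]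
  exact key _ fun i hi => List.mem_range.mp hi

/-- trailing factors equal to one can be dropped -/
theorem wordMat_range_le (D : ChevalleyDatum) (f : ℕ → List (ℕ × K)) (a b : ℕ) (hab : a ≤ b)
    (h1 : ∀ i, a ≤ i → i < b → D.wordMat K (f i) = 1) :
    D.wordMat K ((List.range b).flatMap f) = D.wordMat K ((List.range a).flatMap f) := by
  induction b, hab using Nat.le_induction with
  | base => rfl
  | succ b hb ih =>
    rw [List.range_succ, List.flatMap_append, Cfsg.Agent.Lib.Helper18.wordMat_append,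
      ih fun i hi hib => h1 i hi (Nat.lt_succ_of_lt hib)]
    have : D.wordMat K ([b].flatMap f) = 1 := by
      rw [List.flatMap_singleton]
      exact h1 b hb (Nat.lt_succ_self b)
    rw [this, mul_one]

/-- pad a tuple of parameters by ones -/
def pad (l : ℕ) (c : ℕ → K) : ℕ → K := fun i => if i < l then c i else 1

theorem pad_of_lt (l : ℕ) (c : ℕ → K) (i : ℕ) (hi : i < l) : pad l c i = c i := if_pos hi

theorem pad_of_ge (l : ℕ) (c : ℕ → K) (i : ℕ) (hi : l ≤ i) : pad l c i = 1 := if_neg (not_lt.2 hi)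

theorem pad_ne_zero (l : ℕ) (c : ℕ → K) (hc : ∀ i, i < l → c i ≠ 0) (i : ℕ) : pad l c i ≠ 0 := by
  unfold pad
  split_ifs with hi
  · exact hc i hi
  · exact one_ne_zero

/-- the short torus word is the torus word of the padded parameters -/
theorem wordMat_pad (hD₁ : D₁ ∈ [chevG2, chevB2, chevD4, chevF4, chevE6, chevE7, chevE8]) (hrk : D₀.rank ≤ D₁.rank)
    (c : ℕ → K) :
    D₁.wordMat K ((List.range D₀.rank).flatMap fun i => D₁.hWord (D₁.simple i) (c i))
      = D₁.wordMat K (torusWord D₁ (pad D₀.rank c)) := by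
  unfold torusWord
  rw [wordMat_range_le D₁ (fun i => D₁.hWord (D₁.simple i) (pad D₀.rank c i)) D₀.rank D₁.rank hrk]
  · rw [Cfsg.Agent.Lib.Helper18.wordMat_flatMap, Cfsg.Agent.Lib.Helper18.wordMat_flatMap]
    congr 1
    apply List.map_congr_left
    intro i hi
    rw [pad_of_lt _ _ _ (List.mem_range.mp hi)]
  · intro i hi hib
    show D₁.wordMat K (D₁.hWord (D₁.simple i) (pad D₀.rank c i)) = 1
    rw [pad_of_ge _ _ _ hi]
    exact hMat_one D₁ hD₁ (D₁.simple i) (simple_lt' D₁ hD₁ i hib)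

/-- the unit tuple of the padded parameters -/
noncomputable def padU (l l' : ℕ) (c : ℕ → K) (hc : ∀ i, i < l → c i ≠ 0) : Fin l' → Kˣ :=
  fun i => Units.mk0 (pad l c i.1) (pad_ne_zero l c hc i.1)

/-- the image of `∏ h̄_{p_i}(t_i)` is a torus element -/
theorem map_hprod_eq_torusHom (hD₀ : D₀ ∈ [chevG2, chevB2, chevD4, chevF4, chevE6, chevE7, chevE8])
    (hD₁ : D₁ ∈ [chevG2, chevB2, chevD4, chevF4, chevE6, chevE7, chevE8]) (h : Emb D₀ D₁ j)
    (ι : D₀.SteinbergGroup K →* GL D₁.Idx K)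
    (hι : ∀ r, r < D₀.nroots → ∀ t : K,
      ((ι (D₀.stGen K r t) : GL D₁.Idx K) : Matrix D₁.Idx D₁.Idx K) = D₁.x K (j r) t)
    (t : ℕ → K) (ht : ∀ i, i < D₀.rank → t i ≠ 0) :
    ι ((stModel (K := K) hD₀).hprod t) = torusHom D₁ K (padU D₀.rank D₁.rank t ht) := by
  apply Units.ext
  rw [map_hprod hD₀ h ι hι t, wordMat_pad hD₁ h.rank_le t,
    wordMat_torusWord D₁ (fun i hi c hc => Cfsg.Agent.S1033.result D₁ hD₁ i hi c hc) (pad D₀.rank t)
      (fun i _ => pad_ne_zero _ _ ht i), coe_torusHom]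
  congr 1
  apply torusFun_congr
  intro i hi
  rw [extC_of_lt D₁.rank _ i hi]
  rfl

/-- E67-[HPINJ] -/
theorem hprod_injective (hD₀ : D₀ ∈ [chevG2, chevB2, chevD4, chevF4, chevE6, chevE7, chevE8])
    (hD₁' : D₁ ∈ [chevG2, chevF4, chevE8]) (h : Emb D₀ D₁ j) (ι : D₀.SteinbergGroup K →* GL D₁.Idx K)
    (hι : ∀ r, r < D₀.nroots → ∀ t : K,
      ((ι (D₀.stGen K r t) : GL D₁.Idx K) : Matrix D₁.Idx D₁.Idx K) = D₁.x K (j r) t)
    (t t' : ℕ → K) (ht : ∀ i, i < D₀.rank → t i ≠ 0) (ht' : ∀ i, i < D₀.rank → t' i ≠ 0)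
    (heq : (stModel (K := K) hD₀).hprod t = (stModel (K := K) hD₀).hprod t') : ∀ i, i < D₀.rank → t i = t' i := by
  have hD₁ := Cfsg.Agent.Lib.Helper13.St.mem_seven hD₁'
  have e : torusHom D₁ K (padU D₀.rank D₁.rank t ht) = torusHom D₁ K (padU D₀.rank D₁.rank t' ht') := by
    rw [← map_hprod_eq_torusHom hD₀ hD₁ h ι hι t ht, ← map_hprod_eq_torusHom hD₀ hD₁ h ι hι t' ht', heq]
  have hinj : Function.Injective (torusHom D₁ K) := (MonoidHom.ker_eq_bot_iff _).1 (ker_torusHom_eq_bot hD₁')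
  have e2 := hinj e
  intro i hi
  have e3 := congrFun e2 ⟨i, lt_of_lt_of_le hi h.rank_le⟩
  have e4 := congrArg (fun u : Kˣ => (u : K)) e3
  simp only [padU, Units.val_mk0] at e4
  rwa [pad_of_lt _ _ _ hi, pad_of_lt _ _ _ hi] at e4

end Cfsg.Agent.Lib.Helper9.E67
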