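/-
helper9: module STEIN-[T-PAIR] of helper35's project STEIN (S2107): for the simply-laced data `E6`, `E7`, `E8` every
commutator formula is empty or a single term with coefficient `± 1` (`SL0`), and for `a = c + d` the root `a`
commutes with `c` and `d` and the structure constants are antisymmetric (`SLTop`).  One Boolean check on the packed
tables.
-/
import Cfsg.Agent.Lib.Helper35.SteinDefs
import Cfsg.Agent.Lib.Helper35.SteinTabs
import Cfsg.Agent.Lib.Helper18.ChevDataAll
import Cfsg.Agent.Lib.Helper18.BN1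

set_option autoImplicit false

namespace Cfsg.Agent.Lib.Helper9.Stein

open Cfsg.Lie Cfsg.Agent.Lib.Helper35.St Cfsg.Agent.Lib.Helper60.St3 Cfsg.Agent.Lib.Helper35.Stein
  Cfsg.Agent.Lib.Helper18

/-- the commutator formula of the datum, read off the packed tables -/
theorem ct_eq {D : ChevalleyDatum} (C : ChevData.{0} D) {r s : ℕ} (hr : r < D.nroots) (hs : s < D.nroots) :
    C.T.commTermsFast r s = D.commTerms r s := by
  rw [C.T.commTermsFast_eq, C.T.commTermsF_eq D C.hag C.hin r s hr hs]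

/-- the check at the pair `(r, s)` with formula `L` -/
def pairChk (T : FastDatum) (r s : ℕ) (L : List (ℕ × ℤ × ℕ × ℕ)) : Bool :=
  (L == []) ||
    ((L == [((L.headD (0, 0, 0, 0)).1, (L.headD (0, 0, 0, 0)).2.1, 1, 1)]) &&
      decide ((L.headD (0, 0, 0, 0)).1 < T.nroots) &&
      ((L.headD (0, 0, 0, 0)).2.1 == 1 || (L.headD (0, 0, 0, 0)).2.1 == -1) &&
      (r != (L.headD (0, 0, 0, 0)).1) && (r != T.neg (L.headD (0, 0, 0, 0)).1) &&
      (T.commTermsFast (L.headD (0, 0, 0, 0)).1 r == []) &&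
      (s != (L.headD (0, 0, 0, 0)).1) && (s != T.neg (L.headD (0, 0, 0, 0)).1) &&
      (T.commTermsFast (L.headD (0, 0, 0, 0)).1 s == []) &&
      (T.commTermsFast s r == [((L.headD (0, 0, 0, 0)).1, -(L.headD (0, 0, 0, 0)).2.1, 1, 1)]))

/-- Table check for `SL0` and `SLTop`. -/
def pairOK (T : FastDatum) : Bool :=
  (List.range T.nroots).all fun r => (List.range T.nroots).all fun s =>
    s == r || s == T.neg r || pairChk T r s (T.commTermsFast r s)

theorem pairOK_spec {T : FastDatum} (h : pairOK T = true) (r s : ℕ) (hr : r < T.nroots) (hs : s < T.nroots)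
    (hsr : s ≠ r) (hsn : s ≠ T.neg r) :
    T.commTermsFast r s = [] ∨ ∃ (a : ℕ) (C : ℤ), T.commTermsFast r s = [(a, C, 1, 1)] ∧ a < T.nroots ∧
      (C = 1 ∨ C = -1) ∧ r ≠ a ∧ r ≠ T.neg a ∧ T.commTermsFast a r = [] ∧ s ≠ a ∧ s ≠ T.neg a ∧
      T.commTermsFast a s = [] ∧ T.commTermsFast s r = [(a, -C, 1, 1)] := by
  unfold pairOK at h
  rw [List.all_eq_true] at h
  have h1 := h r (List.mem_range.2 hr)
  rw [List.all_eq_true] at h1
  have h2 := h1 s (List.mem_range.2 hs)
  unfold pairChk at h2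
  simp only [Bool.or_eq_true, Bool.and_eq_true, beq_iff_eq, bne_iff_ne, ne_eq, decide_eq_true_eq] at h2
  rcases h2 with (h2 | h2) | h2
  · exact (hsr h2).elim
  · exact (hsn h2).elim
  · rcases h2 with h2 | ⟨⟨⟨⟨⟨⟨⟨⟨⟨e1, e2⟩, e3⟩, e4⟩, e5⟩, e6⟩, e7⟩, e8⟩, e9⟩, e10⟩
    · exact Or.inl h2
    · exact Or.inr ⟨_, _, e1, e2, e3, e4, e5, e6, e7, e8, e9, e10⟩

theorem neg_symm' {T : FastDatum} {c d : ℕ} (hc : c < T.nroots) (hd : d < T.nroots) (h : d ≠ T.neg c) :
    c ≠ T.neg d := by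
  unfold FastDatum.neg at h ⊢
  omega

theorem sl0_of_ok {D : ChevalleyDatum} (C : ChevData.{0} D) (h : pairOK C.T = true) : SL0 D := by
  intro r s hr hs hsr hsn
  have hn := C.nroots_eq
  have hr' : r < C.T.nroots := hn ▸ hr
  have hs' : s < C.T.nroots := hn ▸ hs
  have hsn' : s ≠ C.T.neg r := by rw [← C.neg_eq r hr]; exact hsn
  rcases pairOK_spec h r s hr' hs' hsr hsn' with h0 | ⟨a, c, e1, e2, e3, -⟩
  · left
    rw [← ct_eq C hr hs]
    exact h0
  · right
    refine ⟨a, c, hr, hs, hn ▸ e2, hsr, hsn, e3, ?_⟩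
    rw [← ct_eq C hr hs]
    exact e1

theorem slTop_of_ok {D : ChevalleyDatum} (C : ChevData.{0} D) (h : pairOK C.T = true) : SLTop D := by
  rintro c d a k ⟨hc, hd, ha, hdc, hdn, hk, hct⟩
  have hn := C.nroots_eq
  have hc' : c < C.T.nroots := hn ▸ hc
  have hd' : d < C.T.nroots := hn ▸ hd
  have hdn' : d ≠ C.T.neg c := by rw [← C.neg_eq c hc]; exact hdn
  rw [← ct_eq C hc hd] at hct
  rcases pairOK_spec h c d hc' hd' hdc hdn' with h0 | ⟨a', k', e1, e2, e3, e4, e5, e6, e7, e8, e9, e10⟩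
  · rw [h0] at hct
    exact (List.cons_ne_nil _ _ hct.symm).elim
  · rw [e1] at hct
    have hak : a' = a ∧ k' = k := by
      have := List.head_eq_of_cons_eq hct
      exact ⟨congrArg Prod.fst this, congrArg (fun x => x.2.1) this⟩
    obtain ⟨rfl, rfl⟩ := hak
    refine ⟨⟨hc, e4, ?_, ?_⟩, ⟨hd, e7, ?_, ?_⟩, hd, hc, ha, Ne.symm hdc, ?_, ?_, ?_⟩
    · rw [C.neg_eq a' ha]; exact e5
    · rw [← ct_eq C ha hc]; exact e6
    · rw [C.neg_eq a' ha]; exact e8
    · rw [← ct_eq C ha hd]; exact e9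
    · rw [C.neg_eq d hd]; exact neg_symm' hc' hd' hdn'
    · rcases hk with rfl | rfl
      · right; rfl
      · left; rfl
    · rw [← ct_eq C hd hc]; exact e10

set_option maxRecDepth 1000000 in
theorem pairOK_E6 : pairOK fastE6 = true := by decide +kernel

set_option maxRecDepth 1000000 in
theorem pairOK_E7 : pairOK fastE7 = true := by decide +kernel

set_option maxRecDepth 1000000 in
theorem pairOK_E8 : pairOK fastE8 = true := by decide +kernel

theorem sl0_of_mem {D : ChevalleyDatum} (hD : D ∈ [chevE6, chevE7, chevE8]) : SL0 D := by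
  simp only [List.mem_cons, List.not_mem_nil, or_false] at hD
  rcases hD with rfl | rfl | rfl
  · exact sl0_of_ok chevData_E6.{0} pairOK_E6
  · exact sl0_of_ok chevData_E7.{0} pairOK_E7
  · exact sl0_of_ok chevData_E8.{0} pairOK_E8

theorem slTop_of_mem {D : ChevalleyDatum} (hD : D ∈ [chevE6, chevE7, chevE8]) : SLTop D := by
  simp only [List.mem_cons, List.not_mem_nil, or_false] at hD
  rcases hD with rfl | rfl | rfl
  · exact slTop_of_ok chevData_E6.{0} pairOK_E6
  · exact slTop_of_ok chevData_E7.{0} pairOK_E7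
  · exact slTop_of_ok chevData_E8.{0} pairOK_E8

end Cfsg.Agent.Lib.Helper9.Stein
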