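/-
helper9: module STEIN-[T-COM] of helper35's project STEIN (S2107): for the simply-laced data `E6`, `E7`, `E8`, whenever
the roots `a`, `b` commute (`b ≠ ± a`, `a + b` not a root) there is a decomposition `a = c + d` with `c` and `d` both
commuting with `b` (`ComCert`).  One Boolean check on the packed tables, with the witness tables `covE6`, `covE7`,
`covE8`.
-/
import Cfsg.Agent.Lib.Helper35.SteinDefs
import Cfsg.Agent.Lib.Helper35.SteinTabs
import Cfsg.Agent.Lib.Helper18.ChevDataAll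
import Cfsg.Agent.Lib.Helper18.BN1
import Cfsg.Agent.Lib.Helper9.SteinTPair

set_option autoImplicit false

namespace Cfsg.Agent.Lib.Helper9.Stein

open Cfsg.Lie Cfsg.Agent.Lib.Helper35.St Cfsg.Agent.Lib.Helper60.St3 Cfsg.Agent.Lib.Helper35.Stein
  Cfsg.Agent.Lib.Helper18

/-- the check at the pair `(a, b)` for the candidate decomposition `a = c + d`, with `L` the formula of `(c, d)` -/
def comChk1 (T : FastDatum) (a b c d : ℕ) (L : List (ℕ × ℤ × ℕ × ℕ)) : Bool :=
  decide (c < T.nroots) && decide (d < T.nroots) && (d != c) && (d != T.neg c) &&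
    (L == [(a, (L.headD (0, 0, 0, 0)).2.1, 1, 1)]) &&
    ((L.headD (0, 0, 0, 0)).2.1 == 1 || (L.headD (0, 0, 0, 0)).2.1 == -1) &&
    (c != b) && (c != T.neg b) && (T.commTermsFast b c == []) &&
    (d != b) && (d != T.neg b) && (T.commTermsFast b d == [])

/-- the check at the pair `(a, b)`: some candidate `c` of the table works, with `d = a - c` -/
def comChk (T : FastDatum) (cov : List (List ℕ)) (a b : ℕ) : Bool :=
  (cov.getD a []).any fun c =>
    forceNat ((T.commTermsFast a (T.neg c)).headD (0, 0, 0, 0)).1 fun d =>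
      comChk1 T a b c d (T.commTermsFast c d)

/-- Table check for `ComCert`. -/
def comOK (T : FastDatum) (cov : List (List ℕ)) : Bool :=
  (List.range T.nroots).all fun a => (List.range T.nroots).all fun b =>
    b == a || b == T.neg a || !(T.commTermsFast a b == []) || comChk T cov a b

theorem comOK_spec {T : FastDatum} {cov : List (List ℕ)} (h : comOK T cov = true) (a b : ℕ) (ha : a < T.nroots)
    (hb : b < T.nroots) (hba : b ≠ a) (hbn : b ≠ T.neg a) (hab : T.commTermsFast a b = []) :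
    ∃ (c d : ℕ) (C : ℤ), c < T.nroots ∧ d < T.nroots ∧ d ≠ c ∧ d ≠ T.neg c ∧ (C = 1 ∨ C = -1) ∧
      T.commTermsFast c d = [(a, C, 1, 1)] ∧ c ≠ b ∧ c ≠ T.neg b ∧ T.commTermsFast b c = [] ∧
      d ≠ b ∧ d ≠ T.neg b ∧ T.commTermsFast b d = [] := by
  unfold comOK at h
  rw [List.all_eq_true] at h
  have h1 := h a (List.mem_range.2 ha)
  rw [List.all_eq_true] at h1
  have h2 := h1 b (List.mem_range.2 hb)
  simp only [Bool.or_eq_true, beq_iff_eq, Bool.not_eq_true', beq_eq_false_iff_ne, ne_eq] at h2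
  rcases h2 with ((h2 | h2) | h2) | h2
  · exact (hba h2).elim
  · exact (hbn h2).elim
  · exact (h2 hab).elim
  · unfold comChk at h2
    rw [List.any_eq_true] at h2
    obtain ⟨c, -, hc⟩ := h2
    rw [forceNat_eq] at hc
    unfold comChk1 at hc
    simp only [Bool.or_eq_true, Bool.and_eq_true, beq_iff_eq, bne_iff_ne, ne_eq, decide_eq_true_eq] at hc
    obtain ⟨⟨⟨⟨⟨⟨⟨⟨⟨⟨⟨e1, e2⟩, e3⟩, e4⟩, e5⟩, e6⟩, e7⟩, e8⟩, e9⟩, e10⟩, e11⟩, e12⟩ := hc
    exact ⟨c, _, _, e1, e2, e3, e4, e6, e5, e7, e8, e9, e10, e11, e12⟩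

theorem comCert_of_ok {D : ChevalleyDatum} (C : ChevData.{0} D) {cov : List (List ℕ)} (h : comOK C.T cov = true) :
    ComCert D := by
  rintro a b ha ⟨hb, hba, hbn, hab⟩
  have hn := C.nroots_eq
  have ha' : a < C.T.nroots := hn ▸ ha
  have hb' : b < C.T.nroots := hn ▸ hb
  have hbn' : b ≠ C.T.neg a := by rw [← C.neg_eq a ha]; exact hbn
  rw [← ct_eq C ha hb] at hab
  obtain ⟨c, d, k, e1, e2, e3, e4, e5, e6, e7, e8, e9, e10, e11, e12⟩ := comOK_spec h a b ha' hb' hba hbn' hab
  have hc : c < D.nroots := hn ▸ e1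
  have hd : d < D.nroots := hn ▸ e2
  refine ⟨c, d, k, ⟨hc, hd, ha, e3, ?_, e5, ?_⟩, ⟨hc, e7, ?_, ?_⟩, ⟨hd, e10, ?_, ?_⟩⟩
  · rw [C.neg_eq c hc]; exact e4
  · rw [← ct_eq C hc hd]; exact e6
  · rw [C.neg_eq b hb]; exact e8
  · rw [← ct_eq C hb hc]; exact e9
  · rw [C.neg_eq b hb]; exact e11
  · rw [← ct_eq C hb hd]; exact e12

set_option maxRecDepth 1000000 in
theorem comOK_E6 : comOK fastE6 covE6 = true := by decide +kernel

set_option maxRecDepth 1000000 in
theorem comOK_E7 : comOK fastE7 covE7 = true := by decide +kernel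

set_option maxRecDepth 1000000 in
theorem comOK_E8 : comOK fastE8 covE8 = true := by decide +kernel

theorem comCert_of_mem {D : ChevalleyDatum} (hD : D ∈ [chevE6, chevE7, chevE8]) : ComCert D := by
  simp only [List.mem_cons, List.not_mem_nil, or_false] at hD
  rcases hD with rfl | rfl | rfl
  · exact comCert_of_ok chevData_E6.{0} comOK_E6
  · exact comCert_of_ok chevData_E7.{0} comOK_E7
  · exact comCert_of_ok chevData_E8.{0} comOK_E8

end Cfsg.Agent.Lib.Helper9.Stein
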