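/-
helper9: module STEIN-[T-HUB] of helper35's project STEIN (S2107): for the simply-laced data `E6`, `E7`, `E8` every
root `ζ` has a hub decomposition `ζ = c₀ + d₀`, a third decomposition, and every decomposition of `ζ` is the hub, its
swap, or linked to one of them by a chain of type `A₃` with the sign identity (`HubCert`).  Two Boolean checks on the
packed tables, with the witness tables `hubE*`, `thirdE*`.
-/
import Cfsg.Agent.Lib.Helper35.SteinDefs
import Cfsg.Agent.Lib.Helper35.SteinTabs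
import Cfsg.Agent.Lib.Helper18.ChevDataAll
import Cfsg.Agent.Lib.Helper18.BN1
import Cfsg.Agent.Lib.Helper9.SteinTPair

set_option autoImplicit false

namespace Cfsg.Agent.Lib.Helper9.Stein

open Cfsg.Lie Cfsg.Agent.Lib.Helper35.St Cfsg.Agent.Lib.Helper60.St3 Cfsg.Agent.Lib.Helper35.Stein
  Cfsg.Agent.Lib.Helper18

/-! ### The table versions of `IsSum`, `ComPair`, `Link` -/

/-- `IsSum` on the packed tables -/
def IsSumF (T : FastDatum) (c d a : ℕ) (C : ℤ) : Prop :=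
  c < T.nroots ∧ d < T.nroots ∧ a < T.nroots ∧ d ≠ c ∧ d ≠ T.neg c ∧ (C = 1 ∨ C = -1) ∧
    T.commTermsFast c d = [(a, C, 1, 1)]

/-- `ComPair` on the packed tables -/
def ComPairF (T : FastDatum) (a b : ℕ) : Prop :=
  b < T.nroots ∧ b ≠ a ∧ b ≠ T.neg a ∧ T.commTermsFast a b = []

/-- `Link` on the packed tables -/
def LinkF (T : FastDatum) (c d c' d' ζ : ℕ) : Prop :=
  ∃ (β : ℕ) (C C' C₁ C₂ : ℤ), IsSumF T c d ζ C ∧ IsSumF T c' d' ζ C' ∧ IsSumF T c' β c C₁ ∧ IsSumF T β d d' C₂ ∧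
    ComPairF T d c' ∧ ComPairF T d' c ∧ C * C₁ * C₂ * C' = 1

theorem isSum_of_F {D : ChevalleyDatum} (C : ChevData.{0} D) {c d a : ℕ} {k : ℤ} (h : IsSumF C.T c d a k) :
    IsSum D c d a k := by
  obtain ⟨h1, h2, h3, h4, h5, h6, h7⟩ := h
  have hn := C.nroots_eq
  have hc : c < D.nroots := hn ▸ h1
  have hd : d < D.nroots := hn ▸ h2
  refine ⟨hc, hd, hn ▸ h3, h4, ?_, h6, ?_⟩
  · rw [C.neg_eq c hc]; exact h5
  · rw [← ct_eq C hc hd]; exact h7

theorem isSumF_of {D : ChevalleyDatum} (C : ChevData.{0} D) {c d a : ℕ} {k : ℤ} (h : IsSum D c d a k) :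
    IsSumF C.T c d a k := by
  obtain ⟨h1, h2, h3, h4, h5, h6, h7⟩ := h
  have hn := C.nroots_eq
  refine ⟨hn ▸ h1, hn ▸ h2, hn ▸ h3, h4, ?_, h6, ?_⟩
  · rw [← C.neg_eq c h1]; exact h5
  · rw [ct_eq C h1 h2]; exact h7

theorem comPair_of_F {D : ChevalleyDatum} (C : ChevData.{0} D) {a b : ℕ} (ha : a < C.T.nroots)
    (h : ComPairF C.T a b) : ComPair D a b := by
  obtain ⟨h1, h2, h3, h4⟩ := h
  have hn := C.nroots_eq
  have ha' : a < D.nroots := hn ▸ ha
  have hb : b < D.nroots := hn ▸ h1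
  refine ⟨hb, h2, ?_, ?_⟩
  · rw [C.neg_eq a ha']; exact h3
  · rw [← ct_eq C ha' hb]; exact h4

theorem link_of_F {D : ChevalleyDatum} (C : ChevData.{0} D) {c d c' d' ζ : ℕ} (h : LinkF C.T c d c' d' ζ) :
    Link D c d c' d' ζ := by
  obtain ⟨β, k, k', k₁, k₂, h1, h2, h3, h4, h5, h6, h7⟩ := h
  exact ⟨β, k, k', k₁, k₂, isSum_of_F C h1, isSum_of_F C h2, isSum_of_F C h3, isSum_of_F C h4,
    comPair_of_F C h1.2.1 h5, comPair_of_F C h2.2.1 h6, h7⟩

/-! ### The Boolean functions -/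

/-- `a - c`: the root of the formula of `(a, -c)` -/
def subR (T : FastDatum) (a c : ℕ) : ℕ := ((T.commTermsFast a (T.neg c)).headD (0, 0, 0, 0)).1

/-- the structure constant of `c + d = a` read off the formula `L` of `(c, d)`, or `0` if `IsSumF` fails -/
def sumC1 (T : FastDatum) (c d a : ℕ) (L : List (ℕ × ℤ × ℕ × ℕ)) : ℤ :=
  if c < T.nroots ∧ d < T.nroots ∧ a < T.nroots ∧ d ≠ c ∧ d ≠ T.neg c ∧
      ((L.headD (0, 0, 0, 0)).2.1 = 1 ∨ (L.headD (0, 0, 0, 0)).2.1 = -1) ∧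
      L = [(a, (L.headD (0, 0, 0, 0)).2.1, 1, 1)]
  then (L.headD (0, 0, 0, 0)).2.1 else 0

/-- the structure constant of `c + d = a`, or `0` if `IsSumF` fails -/
def sumC (T : FastDatum) (c d a : ℕ) : ℤ := sumC1 T c d a (T.commTermsFast c d)

theorem sumC_spec {T : FastDatum} {c d a : ℕ} (h : sumC T c d a ≠ 0) : IsSumF T c d a (sumC T c d a) := by
  unfold sumC sumC1 at h ⊢
  split_ifs at h ⊢ with h1
  · exact ⟨h1.1, h1.2.1, h1.2.2.1, h1.2.2.2.1, h1.2.2.2.2.1, h1.2.2.2.2.2.1, h1.2.2.2.2.2.2⟩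
  · exact (h rfl).elim

theorem sumC_eq {T : FastDatum} {c d a : ℕ} {k : ℤ} (h : IsSumF T c d a k) : sumC T c d a = k := by
  obtain ⟨h1, h2, h3, h4, h5, h6, h7⟩ := h
  unfold sumC sumC1
  rw [h7]
  exact if_pos ⟨h1, h2, h3, h4, h5, h6, rfl⟩

/-- Boolean `ComPairF` -/
def comPairB (T : FastDatum) (a b : ℕ) : Bool :=
  decide (b < T.nroots) && (b != a) && (b != T.neg a) && (T.commTermsFast a b == [])

theorem comPairB_spec {T : FastDatum} {a b : ℕ} (h : comPairB T a b = true) : ComPairF T a b := by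
  unfold comPairB at h
  simp only [Bool.and_eq_true, beq_iff_eq, bne_iff_ne, ne_eq, decide_eq_true_eq] at h
  obtain ⟨⟨⟨h1, h2⟩, h3⟩, h4⟩ := h
  exact ⟨h1, h2, h3, h4⟩

/-- Boolean `LinkF`, with `β = c - c'` -/
def linkOK (T : FastDatum) (c d c' d' ζ : ℕ) : Bool :=
  forceNat (subR T c c') fun β =>
    comPairB T d c' && comPairB T d' c &&
      (sumC T c d ζ * sumC T c' β c * sumC T β d d' * sumC T c' d' ζ == 1)

theorem linkOK_spec {T : FastDatum} {c d c' d' ζ : ℕ} (h : linkOK T c d c' d' ζ = true) :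
    LinkF T c d c' d' ζ := by
  unfold linkOK at h
  rw [forceNat_eq] at h
  simp only [Bool.and_eq_true, beq_iff_eq] at h
  obtain ⟨⟨h1, h2⟩, h3⟩ := h
  have n1 : sumC T c d ζ ≠ 0 := by
    intro h0; rw [h0] at h3; simp at h3
  have n2 : sumC T c' (subR T c c') c ≠ 0 := by
    intro h0; rw [h0] at h3; simp at h3
  have n3 : sumC T (subR T c c') d d' ≠ 0 := by
    intro h0; rw [h0] at h3; simp at h3
  have n4 : sumC T c' d' ζ ≠ 0 := by
    intro h0; rw [h0] at h3; simp at h3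
  exact ⟨subR T c c', _, _, _, _, sumC_spec n1, sumC_spec n4, sumC_spec n2, sumC_spec n3, comPairB_spec h1,
    comPairB_spec h2, h3⟩

/-- first check, at the root `ζ`: the hub decomposition and the third decomposition -/
def hubChk (T : FastDatum) (hub third : List ℕ) (ζ : ℕ) : Bool :=
  forceNat (hub.getD ζ 0) fun c₀ => forceNat (subR T ζ c₀) fun d₀ =>
    forceNat (third.getD ζ 0) fun c => forceNat (subR T ζ c) fun d =>
      (sumC T c₀ d₀ ζ != 0) && (sumC T c d ζ != 0) && !(c == c₀ && d == d₀) && !(c == d₀ && d == c₀)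

/-- second check, at the pair `(c, d)` with formula `L` -/
def pairHubChk (T : FastDatum) (hub : List ℕ) (c d : ℕ) (L : List (ℕ × ℤ × ℕ × ℕ)) : Bool :=
  (L == []) || forceNat (L.headD (0, 0, 0, 0)).1 fun ζ =>
    forceNat (hub.getD ζ 0) fun c₀ => forceNat (subR T ζ c₀) fun d₀ =>
      (sumC T c d ζ == 0) || (c == c₀ && d == d₀) || (c == d₀ && d == c₀) ||
        linkOK T c d c₀ d₀ ζ || linkOK T c d d₀ c₀ ζ

/-- Table check for `HubCert`. -/
def hubOK (T : FastDatum) (hub third : List ℕ) : Bool :=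
  ((List.range T.nroots).all fun ζ => hubChk T hub third ζ) &&
    ((List.range T.nroots).all fun c => (List.range T.nroots).all fun d =>
      pairHubChk T hub c d (T.commTermsFast c d))

theorem hubOK_spec1 {T : FastDatum} {hub third : List ℕ} (h : hubOK T hub third = true) (ζ : ℕ)
    (hζ : ζ < T.nroots) :
    sumC T (hub.getD ζ 0) (subR T ζ (hub.getD ζ 0)) ζ ≠ 0 ∧
      sumC T (third.getD ζ 0) (subR T ζ (third.getD ζ 0)) ζ ≠ 0 ∧
      ¬ (third.getD ζ 0 = hub.getD ζ 0 ∧ subR T ζ (third.getD ζ 0) = subR T ζ (hub.getD ζ 0)) ∧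
      ¬ (third.getD ζ 0 = subR T ζ (hub.getD ζ 0) ∧ subR T ζ (third.getD ζ 0) = hub.getD ζ 0) := by
  unfold hubOK at h
  rw [Bool.and_eq_true, List.all_eq_true] at h
  have h1 := h.1 ζ (List.mem_range.2 hζ)
  unfold hubChk at h1
  rw [forceNat_eq, forceNat_eq, forceNat_eq, forceNat_eq] at h1
  simp only [Bool.and_eq_true, bne_iff_ne, ne_eq, Bool.not_eq_true', Bool.and_eq_false_iff, beq_eq_false_iff_ne]
    at h1
  obtain ⟨⟨⟨e1, e2⟩, e3⟩, e4⟩ := h1
  refine ⟨e1, e2, ?_, ?_⟩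
  · rintro ⟨a1, a2⟩
    rcases e3 with e3 | e3
    · exact e3 a1
    · exact e3 a2
  · rintro ⟨a1, a2⟩
    rcases e4 with e4 | e4
    · exact e4 a1
    · exact e4 a2

theorem hubOK_spec2 {T : FastDatum} {hub third : List ℕ} (h : hubOK T hub third = true) (c d ζ : ℕ) (k : ℤ)
    (hs : IsSumF T c d ζ k) :
    (c = hub.getD ζ 0 ∧ d = subR T ζ (hub.getD ζ 0)) ∨ (c = subR T ζ (hub.getD ζ 0) ∧ d = hub.getD ζ 0) ∨
      LinkF T c d (hub.getD ζ 0) (subR T ζ (hub.getD ζ 0)) ζ ∨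
      LinkF T c d (subR T ζ (hub.getD ζ 0)) (hub.getD ζ 0) ζ := by
  unfold hubOK at h
  rw [Bool.and_eq_true, List.all_eq_true, List.all_eq_true] at h
  have h1 := h.2 c (List.mem_range.2 hs.1)
  rw [List.all_eq_true] at h1
  have h2 := h1 d (List.mem_range.2 hs.2.1)
  have hk : sumC T c d ζ = k := sumC_eq hs
  have hk0 : k ≠ 0 := by
    rcases hs.2.2.2.2.2.1 with rfl | rfl <;> decide
  unfold pairHubChk at h2
  rw [hs.2.2.2.2.2.2] at h2
  simp only [List.headD_cons] at h2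
  rw [forceNat_eq, forceNat_eq, forceNat_eq, hk] at h2
  simp only [Bool.or_eq_true, Bool.and_eq_true, beq_iff_eq] at h2
  rcases h2 with h2 | h2
  · exact (List.cons_ne_nil _ _ h2).elim
  · rcases h2 with (((h2 | h2) | h2) | h2) | h2
    · exact (hk0 h2).elim
    · exact Or.inl h2
    · exact Or.inr (Or.inl h2)
    · exact Or.inr (Or.inr (Or.inl (linkOK_spec h2)))
    · exact Or.inr (Or.inr (Or.inr (linkOK_spec h2)))

theorem hubCert_of_ok {D : ChevalleyDatum} (C : ChevData.{0} D) {hub third : List ℕ}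
    (h : hubOK C.T hub third = true) : HubCert D := by
  intro ζ hζ
  have hn := C.nroots_eq
  have hζ' : ζ < C.T.nroots := hn ▸ hζ
  obtain ⟨e1, e2, e3, e4⟩ := hubOK_spec1 h ζ hζ'
  refine ⟨hub.getD ζ 0, subR C.T ζ (hub.getD ζ 0), _, isSum_of_F C (sumC_spec e1),
    ⟨third.getD ζ 0, subR C.T ζ (third.getD ζ 0), _, isSum_of_F C (sumC_spec e2), e3, e4⟩, ?_⟩
  intro c d k hs
  rcases hubOK_spec2 h c d ζ k (isSumF_of C hs) with h1 | h1 | h1 | h1
  · exact Or.inl h1
  · exact Or.inr (Or.inl h1)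
  · exact Or.inr (Or.inr (Or.inl (link_of_F C h1)))
  · exact Or.inr (Or.inr (Or.inr (link_of_F C h1)))

set_option maxRecDepth 1000000 in
theorem hubOK_E6 : hubOK fastE6 hubE6 thirdE6 = true := by decide +kernel

set_option maxRecDepth 1000000 in
theorem hubOK_E7 : hubOK fastE7 hubE7 thirdE7 = true := by decide +kernel

set_option maxRecDepth 1000000 in
theorem hubOK_E8 : hubOK fastE8 hubE8 thirdE8 = true := by decide +kernel

theorem hubCert_of_mem {D : ChevalleyDatum} (hD : D ∈ [chevE6, chevE7, chevE8]) : HubCert D := by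
  simp only [List.mem_cons, List.not_mem_nil, or_false] at hD
  rcases hD with rfl | rfl | rfl
  · exact hubCert_of_ok chevData_E6.{0} hubOK_E6
  · exact hubCert_of_ok chevData_E7.{0} hubOK_E7
  · exact hubCert_of_ok chevData_E8.{0} hubOK_E8

end Cfsg.Agent.Lib.Helper9.Stein
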