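/-
helper9: module S5634-[GL-STEP] of helper43's project S5634: the inductive step of the GL-theorem.  The statements
of the modules [GL-L3], [STAR], [GL-L4], [GL-L5] are explicit hypotheses (`StGLL3`, `StStar`, `StGLL4`, `StGLL5`:
the skeleton statements, over `Fin n`), to be discharged at the assembly.
-/
import Mathlib
import Cfsg.Agent.Lib.Helper43.MonoStar

set_option autoImplicit false

namespace Cfsg.Agent.Lib.Helper9.Mono

open Matrix Cfsg.Geo Cfsg.Agent.Lib.Helper93 Cfsg.Agent.Lib.Helper43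

variable {F : Type*} [Field F]

/-- the statement of [GL-L3] `gl_star_self` -/
def StGLL3 (F : Type*) [Field F] : Prop :=
  ∀ {k : ℕ} (_ : ∃ μ : Fˣ, μ ≠ 1) {Y : Subgroup (GL (Fin (k + 1)) F)}
    (_ : GLHyp Y) (i₀ : Fin (k + 1))
    (_ : ∀ C : GL (Fin k) F, embSA i₀ C ∈ Y → C ∈ Mono (Fin k) F)
    {h : GL (Fin (k + 1)) F} (_ : h ∈ Y)
    (_ : ∀ a, (h : Matrix (Fin (k + 1)) (Fin (k + 1)) F) (i₀.succAbove a) i₀ = 0),
    h ∈ Mono (Fin (k + 1)) F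

/-- the statement of [STAR] `star_of_self` (index type `Fin n`) -/
def StStar (F : Type*) [Field F] : Prop :=
  ∀ {n : ℕ} {Y : Subgroup (GL (Fin n) F)} (_ : Mono (Fin n) F ⊓ specialLinear (Fin n) F ≤ Y)
    (_ : ∀ (i₀ : Fin n) (h : GL (Fin n) F), h ∈ Y →
      (∀ r, r ≠ i₀ → (h : Matrix (Fin n) (Fin n) F) r i₀ = 0) → h ∈ Mono (Fin n) F), ColStar Y

/-- the statement of [GL-L4] `gl_zero_entry_mono` (index type `Fin n`) -/
def StGLL4 (F : Type*) [Field F] [Fintype F] : Prop :=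
  ∀ {n : ℕ} (_ : 4 ≤ Fintype.card F) {Y : Subgroup (GL (Fin n) F)}
    (_ : ∀ d : Fin n → Fˣ, dg d ∈ Y) (_ : ColStar Y) {g : GL (Fin n) F} (_ : g ∈ Y) {l i : Fin n}
    (_ : (g : Matrix (Fin n) (Fin n) F) l i = 0), g ∈ Mono (Fin n) F

/-- the statement of [GL-L5] `gl_finish` (index type `Fin n`) -/
def StGLL5 (F : Type*) [Field F] [Fintype F] : Prop :=
  ∀ {n : ℕ} (_ : 5 ≤ Fintype.card F) (_ : 3 ≤ Fintype.card (Fin n))
    {Y : Subgroup (GL (Fin n) F)} (_ : ∀ d : Fin n → Fˣ, dg d ∈ Y)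
    (_ : ∀ g ∈ Y, (∃ l i, (g : Matrix (Fin n) (Fin n) F) l i = 0) → g ∈ Mono (Fin n) F),
    Y ≤ Mono (Fin n) F

theorem exists_unit_ne_one [Fintype F] (hq : 3 ≤ Fintype.card F) : ∃ μ : Fˣ, μ ≠ 1 := by
  classical
  have h1 : Fintype.card Fˣ = Fintype.card F - 1 := Fintype.card_units F
  have h2 : 1 < Fintype.card Fˣ := by omega
  have := Fintype.one_lt_card_iff_nontrivial.mp h2
  exact exists_ne 1

/-- [GL-STEP], with the statements of its dependencies as hypotheses -/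
theorem gl_step_of_sections [Fintype F] (hL3 : StGLL3 F) (hStar : StStar F) (hL4 : StGLL4 F) (hL5 : StGLL5 F)
    (hq : 5 ≤ Fintype.card F) {k : ℕ} (hk : 2 ≤ k)
    {Y : Subgroup (GL (Fin (k + 1)) F)} (hY : GLHyp Y)
    (hsec : ∀ i₀ : Fin (k + 1), ∀ C : GL (Fin k) F, embSA i₀ C ∈ Y → C ∈ Mono (Fin k) F) :
    Y ≤ Mono (Fin (k + 1)) F := by
  have hD : ∀ d : Fin (k + 1) → Fˣ, dg d ∈ Y := fun d => hY.mono_le (dg_mem_Mono d)
  have hμ : ∃ μ : Fˣ, μ ≠ 1 := exists_unit_ne_one (by omega)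
  have hself : ∀ (i₀ : Fin (k + 1)) (h : GL (Fin (k + 1)) F), h ∈ Y →
      (∀ r, r ≠ i₀ → (h : Matrix (Fin (k + 1)) (Fin (k + 1)) F) r i₀ = 0) → h ∈ Mono (Fin (k + 1)) F :=
    fun i₀ h hh hc => hL3 hμ hY i₀ (hsec i₀) hh (fun a => hc _ (Fin.succAbove_ne i₀ a))
  have hstar : ColStar Y := hStar (inf_le_left.trans hY.mono_le) hself
  have hzero : ∀ g ∈ Y, (∃ l i, (g : Matrix (Fin (k + 1)) (Fin (k + 1)) F) l i = 0) →
      g ∈ Mono (Fin (k + 1)) F := by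
    rintro g hg ⟨l, i, h0⟩
    exact hL4 (by omega) hD hstar hg h0
  exact hL5 hq (by rw [Fintype.card_fin]; omega) hD hzero

end Cfsg.Agent.Lib.Helper9.Mono
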