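/-
helper9: module S5634-[SL-L4] of helper43's project S5634: an element of `M` with two zeros in one column is
monomial.  The statement of the module [SL-R2] `bihom_split` is an explicit hypothesis (`StSLR2`), to be discharged
at the assembly.
-/
import Mathlib
import Cfsg.Agent.Lib.Helper43.MonoStar

set_option autoImplicit false

namespace Cfsg.Agent.Lib.Helper9.Mono

open Matrix Cfsg.Geo Cfsg.Agent.Lib.Helper93 Cfsg.Agent.Lib.Helper43

variable {ι : Type} [Fintype ι] [DecidableEq ι] {F : Type*} [Field F]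

/-- the statement of [SL-R2] `bihom_split` -/
def StSLR2 (ι : Type) [Fintype ι] [DecidableEq ι] (F : Type*) [Field F] : Prop :=
  ∀ {μ : Fˣ} (_ : μ ≠ 1) (_ : μ ^ 2 ≠ 1) (_ : μ ^ 3 ≠ 1) {l l' : ι} (_ : l ≠ l') (g : GL ι F)
    (_ : g⁻¹ * dg2 l l' μ * g ∈ Mono ι F) (j : ι),
    (∀ r, r ≠ l → r ≠ l' → (g : Matrix ι ι F) r j = 0) ∨
      ((g : Matrix ι ι F) l j = 0 ∧ (g : Matrix ι ι F) l' j = 0)

/-- a unit of order at least 4 in a field with at least 5 elements -/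
theorem exists_unit_pow_ne_one [Fintype F] (hq : 5 ≤ Fintype.card F) :
    ∃ μ : Fˣ, μ ≠ 1 ∧ μ ^ 2 ≠ 1 ∧ μ ^ 3 ≠ 1 := by
  classical
  obtain ⟨μ, hμ⟩ := IsCyclic.exists_generator (α := Fˣ)
  have ho : orderOf μ = Nat.card Fˣ := orderOf_eq_card_of_forall_mem_zpowers hμ
  have hc : Fintype.card Fˣ = Fintype.card F - 1 := Fintype.card_units F
  have h4 : 4 ≤ orderOf μ := by
    rw [ho, Nat.card_eq_fintype_card, hc]
    omega
  refine ⟨μ, ?_, ?_, ?_⟩
  · intro h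
    rw [h, orderOf_one] at h4
    omega
  · exact pow_ne_one_of_lt_orderOf (by norm_num) (by omega)
  · exact pow_ne_one_of_lt_orderOf (by norm_num) (by omega)

/-- if a column of `g ∈ M` vanishes at `p ≠ p'`, every column of `g` is supported inside `{p, p'}` or vanishes
at `p` and `p'` -/
theorem col_split (hR2 : StSLR2 ι F) {μ : Fˣ} (h1 : μ ≠ 1) (h2 : μ ^ 2 ≠ 1) (h3 : μ ^ 3 ≠ 1)
    {M : Subgroup (GL ι F)} (hT : ∀ d : ι → Fˣ, ∏ i, d i = 1 → dg d ∈ M) (hstar : ColStar M)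
    {g : GL ι F} (hg : g ∈ M) {p p' j₁ : ι} (hpp : p ≠ p') (hp : (g : Matrix ι ι F) p j₁ = 0)
    (hp' : (g : Matrix ι ι F) p' j₁ = 0) (j : ι) :
    (∀ r, r ≠ p → r ≠ p' → (g : Matrix ι ι F) r j = 0) ∨
      ((g : Matrix ι ι F) p j = 0 ∧ (g : Matrix ι ι F) p' j = 0) := by
  have hdM : dg2 p p' μ ∈ M := by
    rw [dg2_eq]
    apply hT
    simp only [Pi.mul_apply]
    rw [Finset.prod_mul_distrib, Finset.prod_update_of_mem (Finset.mem_univ p),
      Finset.prod_update_of_mem (Finset.mem_univ p')]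
    simp
  have hhM : g⁻¹ * dg2 p p' μ * g ∈ M := M.mul_mem (M.mul_mem (M.inv_mem hg) hdM) hg
  have hcol : ∀ r, ((g⁻¹ * dg2 p p' μ * g : GL ι F) : Matrix ι ι F) r j₁ = if r = j₁ then 1 else 0 := by
    intro r
    rw [dg2_eq, mul_dg_mul_apply]
    have hterm : ∀ s ∈ Finset.univ, ((g⁻¹ : GL ι F) : Matrix ι ι F) r s *
        (((Function.update (1 : ι → Fˣ) p μ * Function.update (1 : ι → Fˣ) p' μ⁻¹) s : Fˣ) : F) *
        (g : Matrix ι ι F) s j₁ = ((g⁻¹ : GL ι F) : Matrix ι ι F) r s * (g : Matrix ι ι F) s j₁ := by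
      intro s _
      by_cases hsp : s = p
      · rw [hsp, hp, mul_zero, mul_zero]
      · by_cases hsp' : s = p'
        · rw [hsp', hp', mul_zero, mul_zero]
        · rw [Pi.mul_apply, Function.update_of_ne hsp, Function.update_of_ne hsp']
          simp
    rw [Finset.sum_congr rfl hterm, ← Matrix.mul_apply, ← Units.val_mul, inv_mul_cancel, Units.val_one,
      Matrix.one_apply]
  have hmono : g⁻¹ * dg2 p p' μ * g ∈ Mono ι F :=
    hstar _ hhM j₁ j₁ (fun r hr => by rw [hcol, if_neg hr])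
  exact hR2 h1 h2 h3 hpp g hmono j

/-- [SL-L4], with the statement of [SL-R2] as a hypothesis -/
theorem sl_two_zeros_mono [Fintype F] (hR2 : StSLR2 ι F) (hq : 5 ≤ Fintype.card F)
    (hcard : 5 ≤ Fintype.card ι)
    {M : Subgroup (GL ι F)} (hT : ∀ d : ι → Fˣ, ∏ i, d i = 1 → dg d ∈ M) (hstar : ColStar M)
    {g : GL ι F} (hg : g ∈ M) {i l l' : ι} (hll : l ≠ l') (h0 : (g : Matrix ι ι F) l i = 0)
    (h0' : (g : Matrix ι ι F) l' i = 0) : g ∈ Mono ι F := by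
  classical
  obtain ⟨μ, h1, h2, h3⟩ := exists_unit_pow_ne_one (F := F) hq
  -- a column supported inside `{l, l'}`
  obtain ⟨j₁, hj₁⟩ := exists_ne_zero_row g l
  have hj₁W : ∀ r, r ≠ l → r ≠ l' → (g : Matrix ι ι F) r j₁ = 0 := by
    rcases col_split hR2 h1 h2 h3 hT hstar hg hll h0 h0' j₁ with h | h
    · exact h
    · exact absurd h.1 hj₁
  -- a non-zero entry of column `i`
  obtain ⟨w₁, hw₁⟩ := exists_ne_zero_col g i
  have hw₁l : w₁ ≠ l := fun h => hw₁ (h ▸ h0)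
  have hw₁l' : w₁ ≠ l' := fun h => hw₁ (h ▸ h0')
  -- two more indices
  have hcard2 : 1 < (Finset.univ \ {l, l', w₁} : Finset ι).card := by
    have hle := Finset.le_card_sdiff ({l, l', w₁} : Finset ι) Finset.univ
    have h3' : ({l, l', w₁} : Finset ι).card ≤ 3 := Finset.card_le_three
    rw [Finset.card_univ] at hle
    omega
  obtain ⟨w₂, hw₂, w₃, hw₃, h23⟩ := Finset.one_lt_card.mp hcard2
  simp only [Finset.mem_sdiff, Finset.mem_univ, Finset.mem_insert, Finset.mem_singleton, true_and,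
    not_or] at hw₂ hw₃
  obtain ⟨hw₂l, hw₂l', hw₂1⟩ := hw₂
  obtain ⟨hw₃l, hw₃l', hw₃1⟩ := hw₃
  have k2 : ∀ r, r ≠ w₁ → r ≠ w₂ → (g : Matrix ι ι F) r i = 0 := by
    rcases col_split hR2 h1 h2 h3 hT hstar hg (p := w₁) (p' := w₂) (j₁ := j₁) (Ne.symm hw₂1)
      (hj₁W w₁ hw₁l hw₁l') (hj₁W w₂ hw₂l hw₂l') i with h | h
    · exact h
    · exact absurd h.1 hw₁
  have k3 : ∀ r, r ≠ w₁ → r ≠ w₃ → (g : Matrix ι ι F) r i = 0 := by
    rcases col_split hR2 h1 h2 h3 hT hstar hg (p := w₁) (p' := w₃) (j₁ := j₁) (Ne.symm hw₃1)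
      (hj₁W w₁ hw₁l hw₁l') (hj₁W w₃ hw₃l hw₃l') i with h | h
    · exact h
    · exact absurd h.1 hw₁
  apply hstar g hg i w₁
  intro r hr
  by_cases hr2 : r = w₂
  · exact k3 r hr (by rw [hr2]; exact h23)
  · exact k2 r hr hr2

end Cfsg.Agent.Lib.Helper9.Mono
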