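/-
helper9: module S2244-[QUOT] of helper5's project S2244 (weakly closed subgroups of `U`): an element of `A` all of
whose coordinates vanish lies in `⁅A, U⁆`, when `A` is generated modulo `⁅A, U⁆` by the one-parameter subgroups
`e i` and the coordinates `χ i` are additive and dual to the `e i`.
-/
import Mathlib

set_option autoImplicit false

namespace Cfsg.Agent.Lib.Helper9.WC

open scoped commutatorElement

theorem mem_commutator_of_coord_eq_zero {G : Type*} [Group G] {K : Type*} [AddCommGroup K]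
    {ι : Type*} [Fintype ι] [DecidableEq ι]
    (U A : Subgroup G) (hAU : A ≤ U) (hUA : U ≤ Subgroup.normalizer (A : Set G))
    (e : ι → K → G) (he_add : ∀ i s t, e i (s + t) = e i s * e i t) (he_mem : ∀ i t, e i t ∈ A)
    (χ : ι → G → K) (hχ_mul : ∀ i, ∀ u ∈ U, ∀ v ∈ U, χ i (u * v) = χ i u + χ i v)
    (hχ_e : ∀ i j t, χ i (e j t) = if i = j then t else 0)
    (hgen : A ≤ ⁅A, U⁆ ⊔ Subgroup.closure {g | ∃ i t, g = e i t})
    (u : G) (hu : u ∈ A) (h0 : ∀ i, χ i u = 0) : u ∈ ⁅A, U⁆ := by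
  classical
  -- `C = ⁅A, U⁆ ≤ A`
  have hCA : ⁅A, U⁆ ≤ A := by
    rw [Subgroup.commutator_le]
    intro a ha v hv
    have h1 : v * a⁻¹ * v⁻¹ ∈ A :=
      (Subgroup.mem_normalizer_iff.mp (hUA hv) a⁻¹).mp (A.inv_mem ha)
    have h2 : ⁅a, v⁆ = a * (v * a⁻¹ * v⁻¹) := by
      rw [commutatorElement_def]
      group
    rw [h2]
    exact A.mul_mem ha h1
  have hCU : ⁅A, U⁆ ≤ U := hCA.trans hAU
  -- `χ i` is additive on `U`
  have hχ_one : ∀ i, χ i 1 = 0 := by
    intro i
    have := hχ_mul i 1 U.one_mem 1 U.one_mem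
    rw [mul_one] at this
    exact left_eq_add.mp this
  have hχ_inv : ∀ i, ∀ v ∈ U, χ i v⁻¹ = -χ i v := by
    intro i v hv
    have := hχ_mul i v hv v⁻¹ (U.inv_mem hv)
    rw [mul_inv_cancel, hχ_one] at this
    exact (neg_eq_of_add_eq_zero_right this.symm).symm
  -- the kernel of `χ i` in `U`
  let N : ι → Subgroup G := fun i =>
    { carrier := {g | g ∈ U ∧ χ i g = 0}
      mul_mem' := fun {a b} ha hb => ⟨U.mul_mem ha.1 hb.1, by rw [hχ_mul i a ha.1 b hb.1, ha.2, hb.2, add_zero]⟩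
      one_mem' := ⟨U.one_mem, hχ_one i⟩
      inv_mem' := fun {a} ha => ⟨U.inv_mem ha.1, by rw [hχ_inv i a ha.1, ha.2, neg_zero]⟩ }
  have hCN : ∀ i, ⁅A, U⁆ ≤ N i := by
    intro i
    rw [Subgroup.commutator_le]
    intro a ha v hv
    have haU := hAU ha
    refine ⟨hCU (Subgroup.commutator_mem_commutator ha hv), ?_⟩
    rw [commutatorElement_def, hχ_mul i _ (U.mul_mem (U.mul_mem haU hv) (U.inv_mem haU)) _ (U.inv_mem hv),
      hχ_mul i _ (U.mul_mem haU hv) _ (U.inv_mem haU), hχ_mul i _ haU _ hv, hχ_inv i a haU, hχ_inv i v hv]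
    abel
  have hχC : ∀ i, ∀ c ∈ ⁅A, U⁆, χ i c = 0 := fun i c hc => (hCN i hc).2
  -- `C` is normal in `A`
  have hCn : (⁅A, U⁆.subgroupOf A).Normal := by
    refine ⟨fun c hc a => ?_⟩
    rw [Subgroup.mem_subgroupOf] at hc ⊢
    have h1 : ((a * c * a⁻¹ : A) : G) = ⁅(a : G), (c : G)⁆ * c := by
      rw [commutatorElement_def]
      push_cast
      group
    rw [h1]
    exact Subgroup.mul_mem _ (Subgroup.commutator_mem_commutator a.2 (hCU hc)) hc
  -- the quotient is commutative
  have hcomm : ∀ x y : A ⧸ ⁅A, U⁆.subgroupOf A, x * y = y * x := by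
    intro x y
    obtain ⟨a, rfl⟩ := QuotientGroup.mk_surjective x
    obtain ⟨b, rfl⟩ := QuotientGroup.mk_surjective y
    rw [← QuotientGroup.mk_mul, ← QuotientGroup.mk_mul, QuotientGroup.eq, Subgroup.mem_subgroupOf]
    have h1 : (((a * b)⁻¹ * (b * a) : A) : G) = ⁅(b : G)⁻¹, (a : G)⁻¹⁆ := by
      rw [commutatorElement_def]
      push_cast
      group
    rw [h1]
    exact Subgroup.commutator_mem_commutator (A.inv_mem b.2) (U.inv_mem (hAU a.2))
  let _ : CommGroup (A ⧸ ⁅A, U⁆.subgroupOf A) :=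
    { (inferInstance : Group (A ⧸ ⁅A, U⁆.subgroupOf A)) with mul_comm := hcomm }
  -- the images of the one-parameter subgroups
  let eb : ι → K → A ⧸ ⁅A, U⁆.subgroupOf A := fun i t => QuotientGroup.mk ⟨e i t, he_mem i t⟩
  have heb_add : ∀ i s t, eb i (s + t) = eb i s * eb i t := by
    intro i s t
    show (QuotientGroup.mk _ : A ⧸ ⁅A, U⁆.subgroupOf A) = QuotientGroup.mk _ * QuotientGroup.mk _
    rw [← QuotientGroup.mk_mul]
    congr 1
    exact Subtype.ext (he_add i s t)
  have heb_zero : ∀ i, eb i 0 = 1 := by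
    intro i
    have := heb_add i 0 0
    rw [add_zero] at this
    exact left_eq_mul.mp this
  have heb_neg : ∀ i t, eb i (-t) = (eb i t)⁻¹ := by
    intro i t
    have := heb_add i t (-t)
    rw [add_neg_cancel, heb_zero] at this
    exact eq_inv_of_mul_eq_one_right this.symm
  -- the subgroup of products `∏ i, eb i (t i)`
  let R : Subgroup (A ⧸ ⁅A, U⁆.subgroupOf A) :=
    { carrier := {x | ∃ t : ι → K, x = ∏ i, eb i (t i)}
      mul_mem' := by
        rintro _ _ ⟨t, rfl⟩ ⟨t', rfl⟩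
        refine ⟨t + t', ?_⟩
        rw [← Finset.prod_mul_distrib]
        exact Finset.prod_congr rfl (fun i _ => (heb_add i (t i) (t' i)).symm)
      one_mem' := ⟨0, by
        rw [Finset.prod_eq_one]
        intro i _
        exact heb_zero i⟩
      inv_mem' := by
        rintro _ ⟨t, rfl⟩
        refine ⟨-t, ?_⟩
        rw [← Finset.prod_inv_distrib]
        exact Finset.prod_congr rfl (fun i _ => (heb_neg i (t i)).symm) }
  -- every element of `A` maps into `R`
  have hS : A ≤ (R.comap (QuotientGroup.mk' (⁅A, U⁆.subgroupOf A))).map A.subtype := by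
    refine hgen.trans (sup_le ?_ ?_)
    · intro c hc
      refine ⟨⟨c, hCA hc⟩, ?_, rfl⟩
      show QuotientGroup.mk' (⁅A, U⁆.subgroupOf A) ⟨c, hCA hc⟩ ∈ R
      have : QuotientGroup.mk' (⁅A, U⁆.subgroupOf A) ⟨c, hCA hc⟩ = 1 := by
        rw [QuotientGroup.mk'_apply, QuotientGroup.eq_one_iff, Subgroup.mem_subgroupOf]
        exact hc
      rw [this]
      exact R.one_mem
    · rw [Subgroup.closure_le]
      rintro g ⟨i, t, rfl⟩
      refine ⟨⟨e i t, he_mem i t⟩, ?_, rfl⟩
      show QuotientGroup.mk' (⁅A, U⁆.subgroupOf A) ⟨e i t, he_mem i t⟩ ∈ R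
      refine ⟨Pi.single i t, ?_⟩
      rw [Finset.prod_eq_single i]
      · rw [Pi.single_eq_same]
        rfl
      · intro j _ hj
        rw [Pi.single_eq_of_ne hj]
        exact heb_zero j
      · intro h
        exact absurd (Finset.mem_univ i) h
  -- the coordinates on the quotient
  let φ : ι → (A →* Multiplicative K) := fun j =>
    { toFun := fun a => Multiplicative.ofAdd (χ j (a : G))
      map_one' := by
        show Multiplicative.ofAdd (χ j 1) = 1
        rw [hχ_one]
        rfl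
      map_mul' := fun a b => by
        show Multiplicative.ofAdd (χ j ((a : G) * b)) = _
        rw [hχ_mul j _ (hAU a.2) _ (hAU b.2)]
        rfl }
  have hφker : ∀ j, ⁅A, U⁆.subgroupOf A ≤ (φ j).ker := by
    intro j c hc
    rw [Subgroup.mem_subgroupOf] at hc
    rw [MonoidHom.mem_ker]
    show Multiplicative.ofAdd (χ j (c : G)) = 1
    rw [hχC j _ hc]
    rfl
  let φb : ι → ((A ⧸ ⁅A, U⁆.subgroupOf A) →* Multiplicative K) := fun j =>
    QuotientGroup.lift _ (φ j) (hφker j)
  have hφb_eb : ∀ j i t, φb j (eb i t) = Multiplicative.ofAdd (if j = i then t else 0) := by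
    intro j i t
    show Multiplicative.ofAdd (χ j (e i t)) = _
    rw [hχ_e]
  have hφb_prod : ∀ j (t : ι → K), φb j (∏ i, eb i (t i)) = Multiplicative.ofAdd (t j) := by
    intro j t
    rw [map_prod]
    simp only [hφb_eb]
    rw [← ofAdd_sum, Finset.sum_ite_eq Finset.univ j t, if_pos (Finset.mem_univ j)]
  -- conclusion
  obtain ⟨a, ha, hau⟩ := hS hu
  obtain ⟨t, ht⟩ : QuotientGroup.mk' (⁅A, U⁆.subgroupOf A) a ∈ R := ha
  have hau' : (a : G) = u := hau
  have ht0 : t = 0 := by
    funext j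
    have h1 := hφb_prod j t
    rw [← ht] at h1
    have h2 : φb j (QuotientGroup.mk' (⁅A, U⁆.subgroupOf A) a) = Multiplicative.ofAdd (χ j (a : G)) := rfl
    rw [h2, hau', h0 j] at h1
    exact (Multiplicative.ofAdd.injective h1).symm
  have h1 : QuotientGroup.mk' (⁅A, U⁆.subgroupOf A) a = 1 := by
    rw [ht, ht0, Finset.prod_eq_one]
    intro i _
    exact heb_zero i
  rw [QuotientGroup.mk'_apply, QuotientGroup.eq_one_iff, Subgroup.mem_subgroupOf, hau'] at h1
  exact h1

end Cfsg.Agent.Lib.Helper9.WC
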