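/-
helper9: module STR-[RANGE] of helper69's project STR (S2159): the range of a homomorphism from the automorphism
group to the permutations of the nodes, reading off the permutation of the fundamental root subgroups and taking
values in the diagram symmetries, has 1 or 2 elements, or 6 elements and is not abelian (type `D4`).
-/
import Cfsg.Agent.Lib.Helper69.Aut.StrDefs
import Cfsg.Agent.Lib.Helper91.OutPiE6
import Cfsg.Agent.Lib.Helper91.OutPiE7
import Cfsg.Agent.Lib.Helper91.OutPiE8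
import Cfsg.Agent.S1081

set_option autoImplicit false

namespace Cfsg.Agent.Lib.Helper9.Aut

open Cfsg Cfsg.Lie Cfsg.Agent.Lib.Helper18 Cfsg.Agent.Lib.Helper91.ChevGen Cfsg.Agent.Lib.Helper69.Aut

universe u

variable {F : Type u} [Field F] {D : ChevalleyDatum}

/-- A subgroup all of whose elements are `1` or `ρ` has one or two elements. -/
theorem card_one_or_two {G : Type*} [Group G] (H : Subgroup G) (ρ : G) (h : ∀ π ∈ H, π = 1 ∨ π = ρ) :
    Nat.card H = 1 ∨ Nat.card H = 2 := by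
  classical
  have hinj : Function.Injective (fun π : H => decide ((π : G) = 1)) := by
    intro a b hab
    simp only [decide_eq_decide] at hab
    apply Subtype.ext
    by_cases ha : (a : G) = 1
    · rw [ha, hab.mp ha]
    · have hb : (b : G) ≠ 1 := fun hb => ha (hab.mpr hb)
      rcases h a a.2 with h1 | h1
      · exact absurd h1 ha
      · rcases h b b.2 with h2 | h2
        · exact absurd h2 hb
        · rw [h1, h2]
  have hfin : Finite H := Finite.of_injective _ hinj
  have h2 : Nat.card H ≤ 2 := by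
    have := Nat.card_le_card_of_injective _ hinj
    simpa using this
  have h1 : 0 < Nat.card H := Nat.card_pos
  omega

theorem b2_perm_cases : ∀ π : Equiv.Perm (Fin chevB2.rank),
    π = 1 ∨ π = Equiv.swap ⟨0, by decide⟩ ⟨1, by decide⟩ := by
  decide

theorem g2_perm_cases : ∀ π : Equiv.Perm (Fin chevG2.rank),
    π = 1 ∨ π = Equiv.swap ⟨0, by decide⟩ ⟨1, by decide⟩ := by
  decide

set_option maxRecDepth 100000 in
theorem f4_perm_cases : ∀ π : Equiv.Perm (Fin chevF4.rank), chevF4.IsDiagramSymmetry π →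
    π = 1 ∨ π = Fin.revPerm := by
  unfold ChevalleyDatum.IsDiagramSymmetry
  decide

/-- The triality permutation of the nodes of `D4`. -/
def d4Tri : Equiv.Perm (Fin chevD4.rank) :=
  Equiv.swap ⟨0, by decide⟩ ⟨2, by decide⟩ * Equiv.swap ⟨2, by decide⟩ ⟨3, by decide⟩

/-- A transposition of two outer nodes of `D4`. -/
def d4Swap : Equiv.Perm (Fin chevD4.rank) := Equiv.swap ⟨0, by decide⟩ ⟨2, by decide⟩

theorem d4Tri_tab : ∀ i : Fin chevD4.rank, ((d4Tri i : Fin chevD4.rank) : ℕ) = [2, 1, 3, 0].getD i.val 0 := by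
  decide

theorem d4Swap_tab : ∀ i : Fin chevD4.rank, ((d4Swap i : Fin chevD4.rank) : ℕ) = [2, 1, 0, 3].getD i.val 0 := by
  decide

/-- The six symmetries of the diagram of `D4`. -/
def d4Syms : Finset (Equiv.Perm (Fin chevD4.rank)) :=
  {1, d4Tri, d4Tri * d4Tri, d4Swap, d4Swap * d4Tri, d4Swap * d4Tri * d4Tri}

set_option maxRecDepth 100000 in
theorem d4_perm_cases : ∀ π : Equiv.Perm (Fin chevD4.rank), chevD4.IsDiagramSymmetry π → π ∈ d4Syms := by
  unfold ChevalleyDatum.IsDiagramSymmetry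
  decide

theorem d4_facts : d4Tri ^ 3 = 1 ∧ d4Tri ≠ 1 ∧ d4Swap ^ 2 = 1 ∧ d4Swap ≠ 1 ∧
    d4Tri * d4Swap ≠ d4Swap * d4Tri := by
  decide

theorem d4_card_le (H : Subgroup (Equiv.Perm (Fin chevD4.rank)))
    (hH : ∀ π ∈ H, chevD4.IsDiagramSymmetry π) : Nat.card H ≤ 6 := by
  have hsub : (H : Set (Equiv.Perm (Fin chevD4.rank))) ⊆ (d4Syms : Set _) :=
    fun π hπ => d4_perm_cases π (hH π hπ)
  calc Nat.card H = (H : Set (Equiv.Perm (Fin chevD4.rank))).ncard := Nat.card_coe_set_eq _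
    _ ≤ (d4Syms : Set (Equiv.Perm (Fin chevD4.rank))).ncard := Set.ncard_le_ncard hsub (Finset.finite_toSet _)
    _ = d4Syms.card := Set.ncard_coe_finset _
    _ ≤ 6 := Finset.card_le_six

theorem d4_card_eq (H : Subgroup (Equiv.Perm (Fin chevD4.rank)))
    (hH : ∀ π ∈ H, chevD4.IsDiagramSymmetry π) (h3 : d4Tri ∈ H) (h2 : d4Swap ∈ H) : Nat.card H = 6 := by
  have hle := d4_card_le H hH
  have o3 : orderOf d4Tri = 3 := orderOf_eq_prime d4_facts.1 d4_facts.2.1
  have o2 : orderOf d4Swap = 2 := orderOf_eq_prime d4_facts.2.2.1 d4_facts.2.2.2.1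
  have d3 : 3 ∣ Nat.card H := o3 ▸ Subgroup.orderOf_dvd_natCard H h3
  have d2 : 2 ∣ Nat.card H := o2 ▸ Subgroup.orderOf_dvd_natCard H h2
  have hpos : 0 < Nat.card H := Nat.card_pos
  omega

/-- An automorphism moving the fundamental root elements and their negatives along the list `l`, without
change of the parameter, has the root map along the permutation with table `l`. -/
theorem rootPerm_of_graph (hD : D ∈ [chevG2, chevB2, chevD4, chevF4, chevE6, chevE7, chevE8])
    (α : ↥(D.group F) ≃* ↥(D.group F)) (l : List ℕ) (π : Equiv.Perm (Fin D.rank))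
    (hπ : ∀ i : Fin D.rank, ((π i : Fin D.rank) : ℕ) = l.getD i.val 0)
    (hα : ∀ (g : ↥(D.group F)) (i : ℕ) (t : F), i < D.rank →
      (((g : GL D.Idx F) : Matrix D.Idx D.Idx F) = D.x F (D.simple i) t →
        ((α g : GL D.Idx F) : Matrix D.Idx D.Idx F) = D.x F (D.simple (l.getD i 0)) t) ∧
      (((g : GL D.Idx F) : Matrix D.Idx D.Idx F) = D.x F (D.neg (D.simple i)) t →
        ((α g : GL D.Idx F) : Matrix D.Idx D.Idx F) = D.x F (D.neg (D.simple (l.getD i 0))) t)) :
    RootPerm hD α π := by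
  refine ⟨fun _ t => t, fun _ t => t, fun i t => ?_, fun i t => ?_⟩
  · apply eq_xS
    rw [hπ i]
    exact (hα _ i.val t i.2).1 (by rw [coe_xS, coe_xG])
  · apply eq_xS
    rw [hπ i]
    exact (hα _ i.val t i.2).2 (by rw [coe_xS, coe_xG])

theorem card_range_outPerm [Finite F] (hD : D ∈ [chevG2, chevB2, chevD4, chevF4, chevE6, chevE7, chevE8])
    (P : MulAut ↥(D.group F) →* Equiv.Perm (Fin D.rank))
    (h1 : ∀ θ π, RootPerm hD θ π → P θ = π) (h2 : ∀ θ, D.IsDiagramSymmetry (P θ)) :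
    Nat.card ↥P.range = 1 ∨ Nat.card ↥P.range = 2 ∨
      (Nat.card ↥P.range = 6 ∧ ∃ a b, P a * P b ≠ P b * P a) := by
  have hmem : ∀ π ∈ P.range, D.IsDiagramSymmetry π := by
    rintro π ⟨θ, rfl⟩
    exact h2 θ
  have small : ∀ ρ : Equiv.Perm (Fin D.rank), (∀ π, D.IsDiagramSymmetry π → π = 1 ∨ π = ρ) →
      (Nat.card ↥P.range = 1 ∨ Nat.card ↥P.range = 2 ∨
        (Nat.card ↥P.range = 6 ∧ ∃ a b, P a * P b ≠ P b * P a)) := by
    intro ρ hρ
    rcases card_one_or_two P.range ρ (fun π hπ => hρ π (hmem π hπ)) with h | h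
    · exact Or.inl h
    · exact Or.inr (Or.inl h)
  have hD' := hD
  simp only [List.mem_cons, List.not_mem_nil, or_false] at hD'
  rcases hD' with rfl | rfl | rfl | rfl | rfl | rfl | rfl
  · exact small _ (fun π _ => g2_perm_cases π)
  · exact small _ (fun π _ => b2_perm_cases π)
  · right; right
    obtain ⟨α₃, hα₃⟩ := Cfsg.Agent.S1081.result (F := F) (chevD4, [2, 1, 3, 0]) (by simp)
    obtain ⟨α₂, hα₂⟩ := Cfsg.Agent.S1081.graph_aut_exists (F := F) hD chevData_D4.{u} graphData_D4_2103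
      graphData_D4_2103_ok (by decide +kernel)
    have e₃ : P α₃ = d4Tri := h1 α₃ d4Tri (rootPerm_of_graph hD α₃ [2, 1, 3, 0] d4Tri d4Tri_tab hα₃)
    have e₂ : P α₂ = d4Swap := h1 α₂ d4Swap (rootPerm_of_graph hD α₂ [2, 1, 0, 3] d4Swap d4Swap_tab hα₂)
    refine ⟨d4_card_eq P.range hmem ⟨α₃, e₃⟩ ⟨α₂, e₂⟩, α₃, α₂, ?_⟩
    rw [e₃, e₂]
    exact d4_facts.2.2.2.2
  · exact small _ f4_perm_cases
  · exact small _ Cfsg.Agent.Lib.Helper91.Aut.e6_symm_cases
  · exact small 1 (fun π h => Or.inl (Cfsg.Agent.Lib.Helper91.Aut.e7_symm_eq_one π h))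
  · exact small 1 (fun π h => Or.inl (Cfsg.Agent.Lib.Helper91.Aut.e8_symm_eq_one π h))

end Cfsg.Agent.Lib.Helper9.Aut
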