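import Mathlib
import Cfsg.Agent.Lib.Helper82.ChainDefs

/-!
# S4651 module [COMB-U]: the sign-reversing involution on `u`-stable `p`-chains

For a nontrivial `p`-element `u`, the alternating sum over the `u`-stable chains `s` of
nontrivial `p`-subgroups of `g (chainStab s ⊓ C_G(u))` vanishes.  The involution is
`s ↦ s Δ {Q⁻ ⊔ ⟨u⟩}` where `Q⁻` is the join of the members of `s` not containing `⟨u⟩`.
-/

set_option autoImplicit false

open Cfsg Cfsg.Agent.Lib.Helper82

namespace Cfsg.Agent.Lib.Helper9.S4651CombU

/-- The join of a finite chain is `⊥` or a member. -/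
theorem sup_id_eq_bot_or_mem {α : Type*} [SemilatticeSup α] [OrderBot α] (t : Finset α)
    (h : ∀ a ∈ t, ∀ b ∈ t, a ≤ b ∨ b ≤ a) : t.sup id = ⊥ ∨ t.sup id ∈ t := by
  classical
  induction t using Finset.induction_on with
  | empty => left; simp
  | insert a t ha ih =>
    have h' : ∀ x ∈ t, ∀ y ∈ t, x ≤ y ∨ y ≤ x := fun x hx y hy =>
      h x (Finset.mem_insert_of_mem hx) y (Finset.mem_insert_of_mem hy)
    rw [Finset.sup_insert]
    right
    rcases ih h' with h0 | hm
    · rw [h0]; simp
    · rcases h a (Finset.mem_insert_self a t) _ (Finset.mem_insert_of_mem hm) with hab | hba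
      · rw [id, sup_eq_right.mpr hab]; exact Finset.mem_insert_of_mem hm
      · rw [id, sup_eq_left.mpr hba]; exact Finset.mem_insert_self a t

variable {G : Type*} [Group G]

/-- An element normalizing `A` and `B` normalizes `A ⊔ B`. -/
theorem mem_normalizer_sup {A B : Subgroup G} {x : G}
    (hA : x ∈ Subgroup.normalizer (A : Set G)) (hB : x ∈ Subgroup.normalizer (B : Set G)) :
    x ∈ Subgroup.normalizer ((A ⊔ B : Subgroup G) : Set G) := by
  rw [Subgroup.mem_normalizer_iff_map_conj_eq] at hA hB ⊢
  rw [Subgroup.map_sup, hA, hB]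

open scoped Classical

/-- The members of `s` that do not contain `U`. -/
noncomputable def lowPart (U : Subgroup G) (s : Finset (Subgroup G)) : Finset (Subgroup G) :=
  s.filter (fun Q => ¬ U ≤ Q)

/-- The pivot `Q⁻ ⊔ U`. -/
noncomputable def pivot (U : Subgroup G) (s : Finset (Subgroup G)) : Subgroup G :=
  (lowPart U s).sup id ⊔ U

/-- The involution `s ↦ s Δ {pivot}`. -/
noncomputable def flip (U : Subgroup G) (s : Finset (Subgroup G)) : Finset (Subgroup G) :=
  if pivot U s ∈ s then s.erase (pivot U s) else insert (pivot U s) s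

theorem le_pivot (U : Subgroup G) (s : Finset (Subgroup G)) : U ≤ pivot U s := le_sup_right

theorem lowPart_insert {U P : Subgroup G} (hU : U ≤ P) (s : Finset (Subgroup G)) :
    lowPart U (insert P s) = lowPart U s := by
  classical
  unfold lowPart
  rw [Finset.filter_insert, if_neg (not_not.mpr hU)]

theorem lowPart_erase {U P : Subgroup G} (hU : U ≤ P) (s : Finset (Subgroup G)) :
    lowPart U (s.erase P) = lowPart U s := by
  classical
  unfold lowPart
  rw [Finset.filter_erase, Finset.erase_eq_of_notMem]
  intro h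
  exact (Finset.mem_filter.mp h).2 hU

theorem flip_of_mem {U : Subgroup G} {s : Finset (Subgroup G)} (h : pivot U s ∈ s) :
    flip U s = s.erase (pivot U s) := if_pos h

theorem flip_of_notMem {U : Subgroup G} {s : Finset (Subgroup G)} (h : pivot U s ∉ s) :
    flip U s = insert (pivot U s) s := if_neg h

theorem pivot_erase (U : Subgroup G) (s : Finset (Subgroup G)) :
    pivot U (s.erase (pivot U s)) = pivot U s := by
  show (lowPart U (s.erase (pivot U s))).sup id ⊔ U = (lowPart U s).sup id ⊔ U
  rw [lowPart_erase (le_pivot U s)]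

theorem pivot_insert (U : Subgroup G) (s : Finset (Subgroup G)) :
    pivot U (insert (pivot U s) s) = pivot U s := by
  show (lowPart U (insert (pivot U s) s)).sup id ⊔ U = (lowPart U s).sup id ⊔ U
  rw [lowPart_insert (le_pivot U s)]

theorem pivot_flip (U : Subgroup G) (s : Finset (Subgroup G)) :
    pivot U (flip U s) = pivot U s := by
  by_cases h : pivot U s ∈ s
  · rw [flip_of_mem h, pivot_erase]
  · rw [flip_of_notMem h, pivot_insert]

theorem flip_flip (U : Subgroup G) (s : Finset (Subgroup G)) : flip U (flip U s) = s := by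
  have hp := pivot_flip U s
  by_cases h : pivot U s ∈ s
  · have h1 : flip U s = s.erase (pivot U s) := flip_of_mem h
    have h2 : pivot U (flip U s) ∉ flip U s := by
      rw [hp, h1]; exact Finset.notMem_erase _ _
    rw [flip_of_notMem h2, hp, h1, Finset.insert_erase h]
  · have h1 : flip U s = insert (pivot U s) s := flip_of_notMem h
    have h2 : pivot U (flip U s) ∈ flip U s := by
      rw [hp, h1]; exact Finset.mem_insert_self _ _
    rw [flip_of_mem h2, hp, h1, Finset.erase_insert h]

theorem flip_ne (U : Subgroup G) (s : Finset (Subgroup G)) : flip U s ≠ s := by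
  intro he
  by_cases h : pivot U s ∈ s
  · have h1 : flip U s = s.erase (pivot U s) := flip_of_mem h
    have : pivot U s ∉ flip U s := by rw [h1]; exact Finset.notMem_erase _ _
    rw [he] at this
    exact this h
  · have h1 : flip U s = insert (pivot U s) s := flip_of_notMem h
    have : pivot U s ∈ flip U s := by rw [h1]; exact Finset.mem_insert_self _ _
    rw [he] at this
    exact h this

theorem neg_one_pow_card_flip (U : Subgroup G) (s : Finset (Subgroup G)) :
    (-1 : ℤ) ^ (flip U s).card = - (-1 : ℤ) ^ s.card := by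
  classical
  by_cases h : pivot U s ∈ s
  · have h1 : flip U s = s.erase (pivot U s) := flip_of_mem h
    have h2 : s.card = (s.erase (pivot U s)).card + 1 := (Finset.card_erase_add_one h).symm
    rw [h1, h2, pow_succ]; ring
  · have h1 : flip U s = insert (pivot U s) s := flip_of_notMem h
    rw [h1, Finset.card_insert_of_notMem h, pow_succ]; ring

theorem chainStab_insert (P : Subgroup G) (s : Finset (Subgroup G)) :
    chainStab (insert P s) = Subgroup.normalizer (P : Set G) ⊓ chainStab s := by
  classical
  unfold chainStab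
  rw [Finset.iInf_insert]

theorem chainStab_anti {s t : Finset (Subgroup G)} (h : s ⊆ t) : chainStab t ≤ chainStab s := by
  unfold chainStab
  refine le_iInf₂ fun Q hQ => ?_
  exact iInf₂_le Q (h hQ)

theorem mem_chainStab {s : Finset (Subgroup G)} {x : G} :
    x ∈ chainStab s ↔ ∀ Q ∈ s, x ∈ Subgroup.normalizer (Q : Set G) := by
  unfold chainStab
  simp [Subgroup.mem_iInf]

theorem isPChain_subset {p : ℕ} {s t : Finset (Subgroup G)} (h : s ⊆ t) (ht : IsPChain p t) :
    IsPChain p s :=
  ⟨fun Q hQ R hR => ht.1 Q (h hQ) R (h hR), fun Q hQ => ht.2 Q (h hQ)⟩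

/-- The main step: inserting the pivot keeps us in the index set and does not change the
value of `g`. -/
theorem insert_step (p : ℕ) [Fact p.Prime] (u : G) (hu1 : u ≠ 1)
    (hu : ∃ k : ℕ, orderOf u = p ^ k) (t : Finset (Subgroup G)) (ht : IsPChain p t)
    (hut : u ∈ chainStab t) :
    IsPChain p (insert (pivot (Subgroup.zpowers u) t) t) ∧
      u ∈ chainStab (insert (pivot (Subgroup.zpowers u) t) t) ∧
      chainStab (insert (pivot (Subgroup.zpowers u) t) t) ⊓
          Subgroup.centralizer ({u} : Set G) =
        chainStab t ⊓ Subgroup.centralizer ({u} : Set G) := by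
  classical
  set U := Subgroup.zpowers u with hU
  set Qm := (lowPart U t).sup id with hQm
  have hP : pivot U t = Qm ⊔ U := rfl
  have huU : u ∈ U := Subgroup.mem_zpowers u
  have hUbot : U ≠ ⊥ := by
    intro h
    rw [h, Subgroup.mem_bot] at huU
    exact hu1 huU
  have hUp : IsPGroup p U := by
    obtain ⟨k, hk⟩ := hu
    exact IsPGroup.of_card (n := k) (by rw [hU, Nat.card_zpowers, hk])
  -- Qm is ⊥ or a member of t
  have hlow_sub : lowPart U t ⊆ t := Finset.filter_subset _ _
  have hQm_cases : Qm = ⊥ ∨ Qm ∈ lowPart U t :=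
    sup_id_eq_bot_or_mem (lowPart U t)
      (fun a ha b hb => ht.1 a (hlow_sub ha) b (hlow_sub hb))
  -- anything in chainStab t normalizes Qm
  have hnormQm : ∀ x ∈ chainStab t, x ∈ Subgroup.normalizer (Qm : Set G) := by
    intro x hx
    rcases hQm_cases with h0 | hm
    · rw [h0, Subgroup.mem_normalizer_iff]
      intro y
      simp [Subgroup.mem_bot]
    · exact mem_chainStab.mp hx Qm (hlow_sub hm)
  have hQmp : IsPGroup p Qm := by
    rcases hQm_cases with h0 | hm
    · rw [h0]; exact IsPGroup.of_bot
    · exact (ht.2 Qm (hlow_sub hm)).2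
  have hU_le_NQm : U ≤ Subgroup.normalizer (Qm : Set G) := by
    rw [hU, Subgroup.zpowers_le]
    exact hnormQm u hut
  have hPp : IsPGroup p (pivot U t) := by
    rw [hP, sup_comm]
    exact IsPGroup.to_sup_of_normal_right' hUp hQmp hU_le_NQm
  have hPbot : pivot U t ≠ ⊥ := by
    intro h
    exact hUbot (le_bot_iff.mp (h ▸ le_pivot U t))
  -- comparability
  have hcomp : ∀ Q ∈ t, Q ≤ pivot U t ∨ pivot U t ≤ Q := by
    intro Q hQ
    by_cases hUQ : U ≤ Q
    · right
      rw [hP]
      refine sup_le (Finset.sup_le fun Q' hQ' => ?_) hUQ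
      have hQ'' := Finset.mem_filter.mp hQ'
      rcases ht.1 Q hQ Q' hQ''.1 with h1 | h1
      · exact absurd (hUQ.trans h1) hQ''.2
      · exact h1
    · left
      rw [hP]
      refine le_trans ?_ le_sup_left
      exact Finset.le_sup (f := id) (Finset.mem_filter.mpr ⟨hQ, hUQ⟩)
  -- x ∈ chainStab t, x centralizes u → x normalizes the pivot
  have hnormP : ∀ x ∈ chainStab t, x ∈ Subgroup.normalizer (U : Set G) →
      x ∈ Subgroup.normalizer (pivot U t : Set G) := by
    intro x hx hxU
    rw [hP]
    exact mem_normalizer_sup (hnormQm x hx) hxU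
  have hcentU : Subgroup.centralizer ({u} : Set G) ≤ Subgroup.normalizer (U : Set G) := by
    have : Subgroup.centralizer ({u} : Set G) = Subgroup.centralizer (U : Set G) := by
      rw [hU, Subgroup.zpowers_eq_closure, Subgroup.centralizer_closure]
    rw [this]
    exact Subgroup.centralizer_le_normalizer _
  refine ⟨⟨?_, ?_⟩, ?_, ?_⟩
  · intro Q hQ R hR
    rcases Finset.mem_insert.mp hQ with rfl | hQ
    · rcases Finset.mem_insert.mp hR with rfl | hR
      · exact Or.inl le_rfl
      · exact (hcomp R hR).symm
    · rcases Finset.mem_insert.mp hR with rfl | hR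
      · exact hcomp Q hQ
      · exact ht.1 Q hQ R hR
  · intro Q hQ
    rcases Finset.mem_insert.mp hQ with rfl | hQ
    · exact ⟨hPbot, hPp⟩
    · exact ht.2 Q hQ
  · rw [chainStab_insert]
    exact ⟨hnormP u hut (Subgroup.le_normalizer huU), hut⟩
  · rw [chainStab_insert]
    apply le_antisymm
    · exact inf_le_inf_right _ inf_le_right
    · intro x hx
      exact ⟨⟨hnormP x hx.1 (hcentU hx.2), hx.1⟩, hx.2⟩

theorem sum_fixed_chains_eq_zero {G : Type*} [Group G] [Finite G] (p : ℕ) [Fact p.Prime] (u : G)
    (hu1 : u ≠ 1) (hu : ∃ k : ℕ, orderOf u = p ^ k) (g : Subgroup G → ℤ) :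
    ∑ᶠ s ∈ {s : Finset (Subgroup G) | IsPChain p s ∧ u ∈ chainStab s},
      (-1 : ℤ) ^ s.card * g (chainStab s ⊓ Subgroup.centralizer ({u} : Set G)) = 0 := by
  classical
  set U := Subgroup.zpowers u with hU
  set S : Set (Finset (Subgroup G)) := {s | IsPChain p s ∧ u ∈ chainStab s} with hS
  have hfin : S.Finite := Set.toFinite S
  rw [finsum_mem_eq_finite_toFinset_sum _ hfin]
  -- flip preserves S and the g-value
  have key : ∀ s ∈ S, flip U s ∈ S ∧
      g (chainStab (flip U s) ⊓ Subgroup.centralizer ({u} : Set G)) =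
        g (chainStab s ⊓ Subgroup.centralizer ({u} : Set G)) := by
    intro s hs
    by_cases h : pivot U s ∈ s
    · have h1 : flip U s = s.erase (pivot U s) := flip_of_mem h
      have hsub : s.erase (pivot U s) ⊆ s := Finset.erase_subset _ _
      have ht : IsPChain p (s.erase (pivot U s)) := isPChain_subset hsub hs.1
      have hut : u ∈ chainStab (s.erase (pivot U s)) := chainStab_anti hsub hs.2
      have hpt : pivot U (s.erase (pivot U s)) = pivot U s := by
        rw [← h1]; exact pivot_flip U s
      have := insert_step p u hu1 hu _ ht hut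
      rw [← hU, hpt, Finset.insert_erase h] at this
      rw [h1]
      exact ⟨⟨ht, hut⟩, by rw [this.2.2]⟩
    · have h1 : flip U s = insert (pivot U s) s := flip_of_notMem h
      have := insert_step p u hu1 hu s hs.1 hs.2
      rw [← hU] at this
      rw [h1]
      exact ⟨⟨this.1, this.2.1⟩, by rw [this.2.2]⟩
  refine Finset.sum_involution (fun s _ => flip U s) ?_ ?_ ?_ ?_
  · intro s hs
    have hs' : s ∈ S := (Set.Finite.mem_toFinset hfin).mp hs
    rw [(key s hs').2, neg_one_pow_card_flip]
    ring
  · intro s _ _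
    exact flip_ne U s
  · intro s hs
    have hs' : s ∈ S := (Set.Finite.mem_toFinset hfin).mp hs
    exact (Set.Finite.mem_toFinset hfin).mpr (key s hs').1
  · intro s _
    exact flip_flip U s

end Cfsg.Agent.Lib.Helper9.S4651CombU
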