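import Cfsg.Agent.Lib.Helper9.M22BE16

/-!
# The analogue of M22B-[E16] for any group between `fixM24 octO` and `M24` (for S5006)

Let `fixM24 (setOf octO) ≤ K ≤ M24` (e.g. `K = M24`, `M23`, `M22`).  For the involution `z0 = zA` of `K`
(class `2A`: it fixes the standard octad `octO` pointwise), the pointwise stabilizer `E` of `octO` in
`M24` lies in `C_K(z0)`, is normal there, is a `2`-group and is self-centralizing: for `K = M24` this
is one half of the hypothesis `hinv` of `Helper82.OneBlock.sameBlock_244823040`.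
-/

set_option autoImplicit false

namespace Cfsg.Agent.Lib.Helper9.M24BE16

open Cfsg Cfsg.Agent.Lib.Helper7 Cfsg.Agent.Lib.Helper92 Cfsg.Agent.Lib.Helper92.SylM22
  Cfsg.Agent.Lib.Helper89.M24CentA Cfsg.Agent.Lib.Helper9.M22BE16

variable (K : Subgroup (Equiv.Perm GolayPt)) (hK : K ≤ M24) (hF : fixM24 (setOf octO) ≤ K)

/-- The involution `z0` of `K`. -/
noncomputable def zK (hF : fixM24 (setOf octO) ≤ K) : ↥K := ⟨zA, hF zA_spec.1⟩

theorem orderOf_zK : orderOf (zK K hF) = 2 := by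
  have : Fact (Nat.Prime 2) := ⟨Nat.prime_two⟩
  apply orderOf_eq_prime
  · apply Subtype.ext
    rw [pow_two]
    exact zA_spec.2.2
  · intro h
    exact zA_ne_one (congrArg Subtype.val h)

/-- The subgroup `E` of `C_K(z0)`. -/
noncomputable def EK : Subgroup (Subgroup.centralizer ({zK K hF} : Set ↥K)) :=
  (fixM24 (setOf octO)).comap
    ((K.subtype).comp (Subgroup.centralizer ({zK K hF} : Set ↥K)).subtype)

theorem mem_EK (c : Subgroup.centralizer ({zK K hF} : Set ↥K)) :
    c ∈ EK K hF ↔ ((c : ↥K) : Equiv.Perm GolayPt) ∈ fixM24 (setOf octO) := Iff.rfl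

/-- Elements of the centralizer commute with `zA` as permutations. -/
theorem centK_comm (c : Subgroup.centralizer ({zK K hF} : Set ↥K)) :
    ((c : ↥K) : Equiv.Perm GolayPt) * zA = zA * ((c : ↥K) : Equiv.Perm GolayPt) := by
  have h := Subgroup.mem_centralizer_singleton_iff.mp c.2
  exact congrArg Subtype.val h

include hK in
theorem EK_normal : (EK K hF).Normal := by
  constructor
  intro n hn g
  rw [mem_EK] at hn ⊢
  obtain ⟨hn1, hn2⟩ := mem_fixM24.mp hn
  have hg24 : ((g : ↥K) : Equiv.Perm GolayPt) ∈ M24 := hK (g : ↥K).2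
  rw [mem_fixM24]
  refine ⟨?_, ?_⟩
  · show ((g : ↥K) : Equiv.Perm GolayPt) * ((n : ↥K) : Equiv.Perm GolayPt) *
      ((g : ↥K) : Equiv.Perm GolayPt)⁻¹ ∈ M24
    exact M24.mul_mem (M24.mul_mem hg24 hn1) (M24.inv_mem hg24)
  · intro p hp
    show ((g : ↥K) : Equiv.Perm GolayPt) (((n : ↥K) : Equiv.Perm GolayPt)
      (((g : ↥K) : Equiv.Perm GolayPt)⁻¹ p)) = p
    have hq : ((g : ↥K) : Equiv.Perm GolayPt)⁻¹ p ∈ setOf octO := by
      rw [← apply_mem_iff (centK_comm K hF g)]
      simpa using hp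
    rw [hn2 _ hq]
    simp

theorem EK_isPGroup : IsPGroup 2 (EK K hF) := by
  intro e
  refine ⟨1, ?_⟩
  have he := (mem_EK K hF e.1).mp e.2
  have h := (fixM24_octad octO_mem).2 _ he
  apply Subtype.ext
  apply Subtype.ext
  apply Subtype.ext
  rw [pow_one, pow_two]
  exact h

/-- Every element of the pointwise stabilizer gives an element of `EK`. -/
theorem exists_EK_of_mem {f : Equiv.Perm GolayPt} (hf : f ∈ fixM24 (setOf octO)) :
    ∃ e : Subgroup.centralizer ({zK K hF} : Set ↥K), e ∈ EK K hF ∧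
      ((e : ↥K) : Equiv.Perm GolayPt) = f := by
  have hfz : (⟨f, hF hf⟩ : ↥K) ∈ Subgroup.centralizer ({zK K hF} : Set ↥K) := by
    rw [Subgroup.mem_centralizer_singleton_iff]
    apply Subtype.ext
    exact fix_comm octO_mem hf zA_spec.1
  exact ⟨⟨⟨f, hF hf⟩, hfz⟩, hf, rfl⟩

include hK in
theorem EK_selfCentralizing :
    Subgroup.centralizer (EK K hF : Set (Subgroup.centralizer ({zK K hF} : Set ↥K))) ≤ EK K hF := by
  intro h hh
  rw [Subgroup.mem_centralizer_iff] at hh
  set h' : Equiv.Perm GolayPt := ((h : ↥K) : Equiv.Perm GolayPt) with hh'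
  have hh24 : h' ∈ M24 := hK (h : ↥K).2
  -- `h'` commutes with the pointwise stabilizer
  have hcomm : ∀ f ∈ fixM24 (setOf octO), f * h' = h' * f := by
    intro f hf
    obtain ⟨e, he, hef⟩ := exists_EK_of_mem K hF hf
    have := hh e he
    have h2 := congrArg (fun x : Subgroup.centralizer ({zK K hF} : Set ↥K) =>
      ((x : ↥K) : Equiv.Perm GolayPt)) this
    simp only [Subgroup.coe_mul] at h2
    rw [hef] at h2
    exact h2
  -- move `h' (pt 4)` back to `pt 4`
  have hq : h' (pt 4) ∉ setOf octO := by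
    rw [apply_mem_iff (centK_comm K hF h)]
    exact pt4_notMem
  obtain ⟨e, he, heq⟩ := exists_fixM24_map octO_mem pt4_notMem hq
  set k := e * h' with hk
  have hk4 : k (pt 4) = pt 4 := by rw [hk, Equiv.Perm.mul_apply, heq]
  have hk24 : k ∈ M24 := M24.mul_mem (mem_fixM24.mp he).1 hh24
  have hkcomm : ∀ f ∈ fixM24 (setOf octO), f * k = k * f := by
    intro f hf
    rw [hk, ← mul_assoc, fix_comm octO_mem hf he, mul_assoc, hcomm f hf, mul_assoc]
  -- `k` fixes every point outside `octO`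
  have hkfix : ∀ p, p ∉ setOf octO → k p = p := by
    intro p hp
    obtain ⟨f, hf, hfp⟩ := exists_fixM24_map octO_mem hp pt4_notMem
    have := congrArg (fun x : Equiv.Perm GolayPt => x (pt 4)) (hkcomm f hf)
    simp only [Equiv.Perm.mul_apply] at this
    rw [hk4, hfp] at this
    exact this.symm
  have hk2 : k ∈ fixM24 (setOf oct2) :=
    mem_fixM24.mpr ⟨hk24, fun p hp => hkfix p (notMem_octO_of_mem_oct2 hp)⟩
  have hk1 : k = 1 := eq_one_of_mem_fixM24 oct2_mem pt4_notMem_oct2 hk2 hk4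
  have hhe : h' = e⁻¹ := by
    rw [hk] at hk1
    exact eq_inv_of_mul_eq_one_right hk1
  rw [mem_EK, ← hh', hhe]
  exact (fixM24 (setOf octO)).inv_mem he

/-! ### The case `K = M24` -/

theorem fix_le_M24 : fixM24 (setOf octO) ≤ M24 := fun _ hg => (mem_fixM24.mp hg).1

/-- The `2A` involution of `M24`. -/
noncomputable def z24 : ↥M24 := zK M24 fix_le_M24

theorem coe_z24 : ((z24 : ↥M24) : Equiv.Perm GolayPt) = zA := rfl

theorem orderOf_z24 : orderOf z24 = 2 := orderOf_zK M24 fix_le_M24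

/-- The normal self-centralizing `2`-subgroup of `C_{M24}(z24)`. -/
theorem exists_E16_M24 : ∃ E : Subgroup (Subgroup.centralizer ({z24} : Set ↥M24)), E.Normal ∧
    IsPGroup 2 E ∧ Subgroup.centralizer (E : Set (Subgroup.centralizer ({z24} : Set ↥M24))) ≤ E :=
  ⟨EK M24 fix_le_M24, EK_normal M24 le_rfl fix_le_M24, EK_isPGroup M24 fix_le_M24,
    EK_selfCentralizing M24 le_rfl fix_le_M24⟩

/-- The `hinv` clause of `sameBlock_244823040` for every involution of `M24` conjugate to `zA`. -/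
theorem hinv_of_isConj_z24 (z : ↥M24) (hz : IsConj z z24) :
    ∃ x : ↥M24, ∃ E : Subgroup (Subgroup.centralizer ({x * z * x⁻¹} : Set ↥M24)), E.Normal ∧
      IsPGroup 2 E ∧
      Subgroup.centralizer (E : Set (Subgroup.centralizer ({x * z * x⁻¹} : Set ↥M24))) ≤ E := by
  obtain ⟨x, hx⟩ := isConj_iff.mp hz
  refine ⟨x, ?_⟩
  rw [hx]
  exact exists_E16_M24

end Cfsg.Agent.Lib.Helper9.M24BE16
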