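import Mathlib

/-!
# Appendix C, TI variant: finite field facts
-/

set_option autoImplicit false
set_option linter.unusedSectionVars false

namespace Cfsg.Agent.Lib.Helper9.AppC

variable {F : Type*} [Field F] [Fintype F]

theorem charP_of_card {p q : ℕ} (hp : p.Prime) (hF : Fintype.card F = p ^ q) : CharP F p := by
  have h0 : ((p ^ q : ℕ) : F) = 0 := by rw [← hF]; exact FiniteField.cast_card_eq_zero F
  have h1 : (p : F) = 0 := by
    rw [Nat.cast_pow] at h0
    exact pow_eq_zero_iff (n := q) (by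
      rintro rfl
      rw [pow_zero] at hF
      have := Fintype.one_lt_card (α := F)
      omega) |>.mp h0
  have h2 : ringChar F = p := CharP.ringChar_of_prime_eq_zero hp h1
  exact ringChar.of_eq h2

/-- Elements fixed by Frobenius are natural number casts. -/
theorem exists_natCast_of_pow_eq_self {p : ℕ} [Fact p.Prime] [CharP F p] {x : F} (hx : x ^ p = x) :
    ∃ k : ℕ, (k : F) = x := by
  have h1 : x ∈ (⊥ : Subfield F) := (Subfield.mem_bot_iff_pow_eq_self F p).mpr hx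
  rw [← ZMod.fieldRange_castHom_eq_bot p] at h1
  obtain ⟨z, rfl⟩ := h1
  refine ⟨z.val, ?_⟩
  simp

theorem units_pow_card_sub_one {p q : ℕ} (hF : Fintype.card F = p ^ q) (b : Fˣ) :
    b ^ (p ^ q - 1) = 1 := by
  classical
  have h1 : Fintype.card Fˣ = p ^ q - 1 := by rw [Fintype.card_units, hF]
  rw [← h1]; exact pow_card_eq_one

/-- Decomposition `F^× = F_p^× × F^1`. -/
theorem exists_decomp {p q n : ℕ} (hp : p.Prime) (hF : Fintype.card F = p ^ q)
    (hn : n * (p - 1) = p ^ q - 1) (hcop : Nat.Coprime n (p - 1)) {b : F} (hb : b ≠ 0) :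
    ∃ κ g : F, κ ^ p = κ ∧ κ ≠ 0 ∧ g ^ n = 1 ∧ b = κ * g := by
  set bu : Fˣ := Units.mk0 b hb with hbu
  have hN : bu ^ (p ^ q - 1) = 1 := units_pow_card_sub_one hF bu
  have hbez := Nat.gcd_eq_gcd_ab n (p - 1)
  rw [hcop] at hbez
  set x := Nat.gcdA n (p - 1) with hx
  set y := Nat.gcdB n (p - 1) with hy
  set κu : Fˣ := bu ^ ((n : ℤ) * x) with hκ
  set gu : Fˣ := bu ^ (((p - 1 : ℕ) : ℤ) * y) with hg
  have e1 : bu = κu * gu := by
    rw [hκ, hg, ← zpow_add, ← hbez]; simp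
  have hNz : bu ^ (((p ^ q - 1 : ℕ)) : ℤ) = 1 := by rw [zpow_natCast]; exact hN
  have e2 : κu ^ (p - 1) = 1 := by
    rw [hκ, ← zpow_natCast, ← zpow_mul]
    have : (n : ℤ) * x * ((p - 1 : ℕ) : ℤ) = ((p ^ q - 1 : ℕ) : ℤ) * x := by
      rw [← hn]; push_cast; ring
    rw [this, zpow_mul, hNz, one_zpow]
  have e3 : gu ^ n = 1 := by
    rw [hg, ← zpow_natCast, ← zpow_mul]
    have : ((p - 1 : ℕ) : ℤ) * y * (n : ℤ) = ((p ^ q - 1 : ℕ) : ℤ) * y := by
      rw [← hn]; push_cast; ring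
    rw [this, zpow_mul, hNz, one_zpow]
  refine ⟨(κu : F), (gu : F), ?_, κu.ne_zero, ?_, ?_⟩
  · have hp1 : p = (p - 1) + 1 := by have := hp.one_lt; omega
    rw [hp1, pow_succ, ← Units.val_pow_eq_pow_val, e2]; simp
  · rw [← Units.val_pow_eq_pow_val, e3]; simp
  · have := congrArg (fun u : Fˣ => (u : F)) e1
    simpa [hbu] using this

/-- `F_p^× ∩ F^1 = 1`. -/
theorem eq_one_of_pow_eq_self_of_pow_eq_one {p n : ℕ} (hp : p.Prime) (hcop : Nat.Coprime n (p - 1))
    {κ : F} (h0 : κ ≠ 0) (h1 : κ ^ p = κ) (h2 : κ ^ n = 1) : κ = 1 := by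
  have hp1 : p = (p - 1) + 1 := by have := hp.one_lt; omega
  have h3 : κ ^ (p - 1) = 1 := by
    rw [hp1, pow_succ] at h1
    have : κ ^ (p - 1) * κ = 1 * κ := by rw [one_mul]; exact h1
    exact mul_right_cancel₀ h0 this
  have hg := pow_gcd_eq_one.mpr ⟨h2, h3⟩
  rwa [hcop, pow_one] at hg

/-- A set of `n` distinct `n`-th roots of unity contains all of them. -/
theorem mem_of_pow_eq_one {n : ℕ} (hn : 0 < n) (S : Finset F) (hS : ∀ x ∈ S, x ^ n = 1)
    (hcard : S.card = n) {g : F} (hg : g ^ n = 1) : g ∈ S := by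
  classical
  have h1 : S ⊆ Polynomial.nthRootsFinset n (1 : F) := by
    intro x hx
    rw [Polynomial.mem_nthRootsFinset hn]
    exact hS x hx
  have h2 : (Polynomial.nthRootsFinset n (1 : F)).card ≤ n := by
    unfold Polynomial.nthRootsFinset
    calc (Polynomial.nthRoots n (1 : F)).toFinset.card ≤ Multiset.card (Polynomial.nthRoots n (1 : F)) :=
          Multiset.toFinset_card_le _
      _ ≤ n := Polynomial.card_nthRoots n 1
  have h3 : S = Polynomial.nthRootsFinset n (1 : F) :=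
    Finset.eq_of_subset_of_card_le h1 (by rw [hcard]; exact h2)
  rw [h3, Polynomial.mem_nthRootsFinset hn]
  exact hg

end Cfsg.Agent.Lib.Helper9.AppC
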