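import Mathlib

/-!
# Appendix C (Bender–Glauberman), TI variant: the group `K = ⟨s, t⟩`

`Q` abelian, `s` normalizes `Q`, `t * s⁻¹ ∈ Q`.  Hexagon identities.
-/

set_option autoImplicit false

namespace Cfsg.Agent.Lib.Helper9.AppC

variable {G : Type*} [Group G]

/-- The K-setup: `Q` abelian, `s` normalizes `Q`, `t * s⁻¹ ∈ Q`. -/
structure KSetup (Q : Subgroup G) (s t : G) : Prop where
  comm : ∀ a ∈ Q, ∀ b ∈ Q, a * b = b * a
  snorm : s ∈ Subgroup.normalizer (Q : Set G)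
  hc : t * s⁻¹ ∈ Q

namespace KSetup

variable {Q : Subgroup G} {s t : G}

theorem act_mem (h : KSetup Q s t) (i : ℤ) {x : G} (hx : x ∈ Q) : s ^ i * x * (s ^ i)⁻¹ ∈ Q := by
  have h1 := Subgroup.zpow_mem _ h.snorm i
  exact (Subgroup.mem_set_normalizer_iff.mp h1 x).mp hx

theorem act_mem' (h : KSetup Q s t) (i : ℤ) {x : G} (hx : x ∈ Q) : s ^ i * x * s ^ (-i) ∈ Q := by
  rw [zpow_neg]; exact h.act_mem i hx

theorem cc_mem (h : KSetup Q s t) (i : ℤ) : t ^ i * s ^ (-i) ∈ Q := by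
  induction i using Int.induction_on with
  | zero => simp
  | succ i ih =>
    have h1 : t ^ ((i : ℤ) + 1) * s ^ (-((i : ℤ) + 1))
        = (t ^ (i : ℤ) * s ^ (-(i : ℤ))) * (s ^ (i : ℤ) * (t * s⁻¹) * (s ^ (i : ℤ))⁻¹) := by group
    rw [h1]
    exact Q.mul_mem ih (h.act_mem _ h.hc)
  | pred i ih =>
    have h0 : t⁻¹ * s ∈ Q := by
      have h2 : s ^ (-1 : ℤ) * (t * s⁻¹) * (s ^ (-1 : ℤ))⁻¹ ∈ Q := h.act_mem _ h.hc
      have h3 : t⁻¹ * s = (s ^ (-1 : ℤ) * (t * s⁻¹) * (s ^ (-1 : ℤ))⁻¹)⁻¹ := by group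
      rw [h3]; exact Q.inv_mem h2
    have h1 : t ^ (-(i : ℤ) - 1) * s ^ (-(-(i : ℤ) - 1))
        = (t ^ (-(i : ℤ)) * s ^ (-(-(i : ℤ)))) * (s ^ (-(i : ℤ)) * (t⁻¹ * s) * (s ^ (-(i : ℤ)))⁻¹) := by
      group
    rw [h1]
    exact Q.mul_mem ih (h.act_mem _ h0)

theorem dd_mem (h : KSetup Q s t) (j : ℤ) : s ^ (-j) * t ^ j ∈ Q := by
  have h1 : s ^ (-j) * t ^ j = s ^ (-j) * (t ^ j * s ^ (-j)) * (s ^ (-j))⁻¹ := by group
  rw [h1]; exact h.act_mem _ (h.cc_mem j)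

/-- The hexagon identity. -/
theorem hexagon (h : KSetup Q s t) (i j : ℤ) :
    t ^ i * s ^ (-(i + j)) * t ^ j = s ^ (-j) * t ^ (i + j) * s ^ (-i) := by
  have hcomm := h.comm _ (h.cc_mem i) _ (h.dd_mem j)
  calc t ^ i * s ^ (-(i + j)) * t ^ j = (t ^ i * s ^ (-i)) * (s ^ (-j) * t ^ j) := by group
    _ = (s ^ (-j) * t ^ j) * (t ^ i * s ^ (-i)) := hcomm
    _ = s ^ (-j) * t ^ (i + j) * s ^ (-i) := by group

/-- Standard triangle: `s^(c-b) = S_c^(-b) * S_b^c`. -/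
theorem R_id (h : KSetup Q s t) (b c : ℤ) :
    s ^ (c - b) = (t ^ c * s ^ (-b) * t ^ (-c)) * (t ^ b * s ^ c * t ^ (-b)) := by
  have hx := h.hexagon (-c) b
  calc s ^ (c - b) = t ^ c * (t ^ (-c) * s ^ (-(-c + b)) * t ^ b) * t ^ (-b) := by group
    _ = t ^ c * (s ^ (-b) * t ^ (-c + b) * s ^ (-(-c))) * t ^ (-b) := by rw [hx]
    _ = (t ^ c * s ^ (-b) * t ^ (-c)) * (t ^ b * s ^ c * t ^ (-b)) := by group

end KSetup

end Cfsg.Agent.Lib.Helper9.AppC
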