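import Cfsg.Agent.Lib.Helper9.AppCK

/-!
# Appendix C, TI variant: norm map on `Q`, unique conjugator, the relation (**)
-/

set_option autoImplicit false
set_option linter.style.haveILetI false

namespace Cfsg.Agent.Lib.Helper9.AppC

variable {G : Type*} [Group G]

namespace KSetup

variable {Q : Subgroup G} {s t : G}

/-- Commutative group structure on `Q`. -/
@[reducible] def commGroupQ (h : KSetup Q s t) : CommGroup ↥Q :=
  { (inferInstance : Group ↥Q) with
    mul_comm := fun a b => Subtype.ext (h.comm a a.2 b b.2) }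

/-- Conjugation by `s` on `Q`. -/
def phi (h : KSetup Q s t) : ↥Q →* ↥Q where
  toFun x := ⟨s * x * s⁻¹, by simpa using h.act_mem 1 x.2⟩
  map_one' := by ext; simp
  map_mul' a b := by ext; simp [mul_assoc]

@[simp] theorem phi_coe (h : KSetup Q s t) (x : ↥Q) : ((h.phi x : ↥Q) : G) = s * x * s⁻¹ := rfl

theorem phi_iter_coe (h : KSetup Q s t) (i : ℕ) (x : ↥Q) :
    (((h.phi)^[i] x : ↥Q) : G) = s ^ i * x * (s ^ i)⁻¹ := by
  induction i with
  | zero => simp
  | succ i ih =>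
    rw [Function.iterate_succ_apply', phi_coe, ih]
    rw [pow_succ']; group

theorem phi_iter_mul (h : KSetup Q s t) (i : ℕ) (x y : ↥Q) :
    (h.phi)^[i] (x * y) = (h.phi)^[i] x * (h.phi)^[i] y := by
  induction i with
  | zero => simp
  | succ i ih => simp only [Function.iterate_succ_apply', ih, map_mul]

theorem phi_iter_inv (h : KSetup Q s t) (i : ℕ) (x : ↥Q) :
    (h.phi)^[i] (x⁻¹) = ((h.phi)^[i] x)⁻¹ := by
  induction i with
  | zero => simp
  | succ i ih => simp only [Function.iterate_succ_apply', ih, map_inv]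

theorem phi_iter_p (h : KSetup Q s t) {p : ℕ} (hsp : s ^ p = 1) (x : ↥Q) : (h.phi)^[p] x = x := by
  apply Subtype.ext; rw [phi_iter_coe, hsp]; simp

/-- The norm map. -/
noncomputable def Nrm (h : KSetup Q s t) (p : ℕ) (x : ↥Q) : ↥Q :=
  letI := h.commGroupQ
  ∏ i ∈ Finset.range p, (h.phi)^[i] x

theorem Nrm_mul (h : KSetup Q s t) (p : ℕ) (x y : ↥Q) : h.Nrm p (x * y) = h.Nrm p x * h.Nrm p y := by
  letI := h.commGroupQ
  unfold Nrm
  rw [← Finset.prod_mul_distrib]
  exact Finset.prod_congr rfl (fun i _ => h.phi_iter_mul i x y)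

theorem Nrm_inv (h : KSetup Q s t) (p : ℕ) (x : ↥Q) : h.Nrm p (x⁻¹) = (h.Nrm p x)⁻¹ := by
  letI := h.commGroupQ
  unfold Nrm
  rw [← Finset.prod_inv_distrib]
  exact Finset.prod_congr rfl (fun i _ => h.phi_iter_inv i x)

theorem Nrm_phi (h : KSetup Q s t) {p : ℕ} (hsp : s ^ p = 1) (x : ↥Q) :
    h.Nrm p (h.phi x) = h.Nrm p x := by
  letI := h.commGroupQ
  unfold Nrm
  have h1 : ∀ i, (h.phi)^[i] (h.phi x) = (h.phi)^[i + 1] x := fun i => by
    rw [Function.iterate_succ_apply]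
  simp only [h1]
  have h2 := Finset.prod_range_succ' (fun i => (h.phi)^[i] x) p
  have h3 := Finset.prod_range_succ (fun i => (h.phi)^[i] x) p
  rw [h3] at h2
  simp only [Function.iterate_zero, id_eq] at h2
  rw [h.phi_iter_p hsp] at h2
  exact (mul_right_cancel h2).symm

theorem Nrm_phi_iter (h : KSetup Q s t) {p : ℕ} (hsp : s ^ p = 1) (i : ℕ) (x : ↥Q) :
    h.Nrm p ((h.phi)^[i] x) = h.Nrm p x := by
  induction i with
  | zero => simp
  | succ i ih => rw [Function.iterate_succ_apply', h.Nrm_phi hsp, ih]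

theorem Nrm_of_fixed (h : KSetup Q s t) (p : ℕ) (x : ↥Q) (hx : h.phi x = x) : h.Nrm p x = x ^ p := by
  letI := h.commGroupQ
  unfold Nrm
  have h1 : ∀ i, (h.phi)^[i] x = x := fun i => Function.iterate_fixed hx i
  simp only [h1, Finset.prod_const, Finset.card_range]

/-- `cc k = t^k s^(-k)` as an element of `Q`. -/
def ccQ (h : KSetup Q s t) (k : ℕ) : ↥Q := ⟨t ^ (k : ℤ) * s ^ (-(k : ℤ)), h.cc_mem k⟩

theorem ccQ_coe (h : KSetup Q s t) (k : ℕ) : (h.ccQ k : G) = t ^ k * (s ^ k)⁻¹ := by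
  simp [ccQ, zpow_neg]

theorem ccQ_succ (h : KSetup Q s t) (k : ℕ) : h.ccQ (k + 1) = h.ccQ k * (h.phi)^[k] (h.ccQ 1) := by
  apply Subtype.ext
  rw [Subgroup.coe_mul, phi_iter_coe, ccQ_coe, ccQ_coe, ccQ_coe]
  rw [pow_succ, pow_succ']; group

theorem prod_phi_cc (h : KSetup Q s t) (n : ℕ) :
    letI := h.commGroupQ
    ∏ i ∈ Finset.range n, (h.phi)^[i] (h.ccQ 1) = h.ccQ n := by
  letI := h.commGroupQ
  induction n with
  | zero => simp [ccQ]; rfl
  | succ n ih => rw [Finset.prod_range_succ, ih]; exact (h.ccQ_succ n).symm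

theorem Nrm_cc_one (h : KSetup Q s t) {p : ℕ} (hsp : s ^ p = 1) (htp : t ^ p = 1) :
    h.Nrm p (h.ccQ 1) = 1 := by
  unfold Nrm
  rw [h.prod_phi_cc p]
  apply Subtype.ext
  rw [ccQ_coe, hsp, htp]; simp

theorem Nrm_cc (h : KSetup Q s t) {p : ℕ} (hsp : s ^ p = 1) (htp : t ^ p = 1) (k : ℕ) :
    h.Nrm p (h.ccQ k) = 1 := by
  induction k with
  | zero =>
    have : h.ccQ 0 = 1 := by apply Subtype.ext; simp [ccQ]
    rw [this]
    have := h.Nrm_mul p 1 1
    rw [mul_one] at this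
    exact (mul_eq_left.mp this.symm)
  | succ k ih =>
    rw [h.ccQ_succ, h.Nrm_mul, ih, h.Nrm_phi_iter hsp, h.Nrm_cc_one hsp htp, mul_one]

/-- Unique conjugator: elements of `Q` of norm one conjugating `s` to the same element are equal. -/
theorem unique_conj (h : KSetup Q s t) {p : ℕ} (hQp : (Nat.card Q).Coprime p) [Finite Q]
    (x x' : ↥Q) (hx : h.Nrm p x = 1) (hx' : h.Nrm p x' = 1)
    (he : (x : G) * s * (x : G)⁻¹ = (x' : G) * s * (x' : G)⁻¹) : x = x' := by
  set n : ↥Q := x⁻¹ * x' with hn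
  have hfix : h.phi n = n := by
    apply Subtype.ext
    rw [phi_coe, hn, Subgroup.coe_mul, Subgroup.coe_inv]
    have e2 : s * ((x : G)⁻¹ * x') = ((x : G)⁻¹ * x') * s := by
      have : (x : G)⁻¹ * ((x' : G) * s * (x' : G)⁻¹) * x' = (x : G)⁻¹ * x' * s := by group
      rw [← he] at this
      rw [← this]; group
    calc s * ((x : G)⁻¹ * x') * s⁻¹ = ((x : G)⁻¹ * x' * s) * s⁻¹ := by rw [e2]
      _ = (x : G)⁻¹ * x' := by group
  have hN : h.Nrm p n = 1 := by rw [hn, h.Nrm_mul, h.Nrm_inv, hx, hx']; simp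
  rw [h.Nrm_of_fixed p n hfix] at hN
  have h1 : orderOf n ∣ p := orderOf_dvd_of_pow_eq_one hN
  have h2 : orderOf n ∣ Nat.card Q := orderOf_dvd_natCard n
  have h3 : orderOf n ∣ 1 := by
    have := Nat.dvd_gcd h2 h1
    rwa [hQp] at this
  have h4 : n = 1 := orderOf_eq_one_iff.mp (Nat.dvd_one.mp h3)
  rw [hn, inv_mul_eq_one] at h4
  exact h4

end KSetup

end Cfsg.Agent.Lib.Helper9.AppC
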