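import Cfsg.Agent.Lib.Helper9.AppCK2

/-!
# Appendix C, TI variant: duality, the relation (**), the subgroup `M1`
-/

set_option autoImplicit false
set_option linter.style.haveILetI false

namespace Cfsg.Agent.Lib.Helper9.AppC

variable {G : Type*} [Group G]

namespace KSetup

variable {Q : Subgroup G} {s t : G}

/-- Duality `[t, s^k] = [t^k, s]`. -/
theorem dual (h : KSetup Q s t) (k : ℕ) :
    t * s ^ k * t⁻¹ * (s ^ k)⁻¹ = t ^ k * s * (t ^ k)⁻¹ * s⁻¹ := by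
  obtain ⟨a, ha⟩ : ∃ a, a = t * s⁻¹ := ⟨_, rfl⟩
  obtain ⟨x, hx⟩ : ∃ x, x = t ^ k * (s ^ k)⁻¹ := ⟨_, rfl⟩
  obtain ⟨b, hb⟩ : ∃ b, b = s * x * s⁻¹ := ⟨_, rfl⟩
  obtain ⟨d, hd⟩ : ∃ d, d = s ^ k * a * (s ^ k)⁻¹ := ⟨_, rfl⟩
  have haQ : a ∈ Q := ha ▸ h.hc
  have hxQ : x ∈ Q := by
    have := h.cc_mem k
    rw [zpow_neg, zpow_natCast, zpow_natCast] at this
    exact hx ▸ this
  have hbQ : b ∈ Q := by
    have := h.act_mem 1 hxQ
    rw [zpow_one] at this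
    exact hb ▸ this
  have hdQ : d ∈ Q := by
    have := h.act_mem k haQ
    rw [zpow_natCast] at this
    exact hd ▸ this
  have e : a * b = x * d := by rw [ha, hb, hd, hx, ha]; group
  have hbd : d * b⁻¹ = b⁻¹ * d := h.comm _ hdQ _ (Q.inv_mem hbQ)
  have key : a * d⁻¹ = x * b⁻¹ := by
    calc a * d⁻¹ = (a * b) * (b⁻¹ * d⁻¹) := by group
      _ = (x * d) * (b⁻¹ * d⁻¹) := by rw [e]
      _ = x * (d * b⁻¹) * d⁻¹ := by group
      _ = x * (b⁻¹ * d) * d⁻¹ := by rw [hbd]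
      _ = x * b⁻¹ := by group
  calc t * s ^ k * t⁻¹ * (s ^ k)⁻¹ = a * d⁻¹ := by rw [hd, ha]; group
    _ = x * b⁻¹ := key
    _ = t ^ k * s * (t ^ k)⁻¹ * s⁻¹ := by rw [hb, hx]; group

/-- The K-triangle relation on lines `(1, -1, 0)` forces `cc k1 = φ^(k1-1) (cc k2)`. -/
theorem relation_imp (h : KSetup Q s t) {p : ℕ} (hsp : s ^ p = 1) (htp : t ^ p = 1)
    (hQp : (Nat.card Q).Coprime p) [Finite Q] (k1 k2 : ℕ) (hk1 : 1 ≤ k1)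
    (hR : (t * s ^ k1 * t⁻¹) * (t⁻¹ * s ^ k2 * t) = s ^ (k1 + k2)) :
    t ^ k1 * (s ^ k1)⁻¹ = s ^ (k1 - 1) * (t ^ k2 * (s ^ k2)⁻¹) * (s ^ (k1 - 1))⁻¹ := by
  have hST : s ^ (k2 + 1) = (t ^ k2 * s * (t ^ k2)⁻¹) * (t⁻¹ * s ^ k2 * t) := by
    have h1 := h.R_id (-1) k2
    have e1 : s ^ ((k2 : ℤ) - -1) = s ^ (k2 + 1) := by
      rw [sub_neg_eq_add, ← Nat.cast_one (R := ℤ), ← Nat.cast_add, zpow_natCast]
    rw [e1] at h1
    rw [h1]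
    simp only [neg_neg, zpow_one, zpow_neg, zpow_natCast]
  have hdag : t * s ^ k1 * t⁻¹ = s ^ (k1 - 1) * (t ^ k2 * s * (t ^ k2)⁻¹) := by
    have e1 : t⁻¹ * s ^ k2 * t = (t ^ k2 * s * (t ^ k2)⁻¹)⁻¹ * s ^ (k2 + 1) := by rw [hST]; group
    have e2 : t * s ^ k1 * t⁻¹ = s ^ (k1 + k2) * (t⁻¹ * s ^ k2 * t)⁻¹ := by rw [← hR]; group
    rw [e2, e1]
    have e3 : k1 + k2 = (k1 - 1) + (k2 + 1) := by omega
    rw [e3, pow_add]; group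
  have d1 := h.dual k1
  have hk : s ^ k1 = s ^ (k1 - 1) * s := by rw [← pow_succ]; congr 1; omega
  have hdd : t ^ k1 * s * (t ^ k1)⁻¹
      = s ^ (k1 - 1) * (t ^ k2 * s * (t ^ k2)⁻¹) * (s ^ (k1 - 1))⁻¹ := by
    have e4 : t ^ k1 * s * (t ^ k1)⁻¹ = (t * s ^ k1 * t⁻¹ * (s ^ k1)⁻¹) * s := by rw [d1]; group
    rw [e4, hdag, hk]; group
  -- unique conjugator
  have huc := h.unique_conj hQp (h.ccQ k1) ((h.phi)^[k1 - 1] (h.ccQ k2)) (h.Nrm_cc hsp htp k1)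
    (by rw [h.Nrm_phi_iter hsp]; exact h.Nrm_cc hsp htp k2)
    (by
      rw [phi_iter_coe, ccQ_coe, ccQ_coe]
      have l1 : t ^ k1 * (s ^ k1)⁻¹ * s * (t ^ k1 * (s ^ k1)⁻¹)⁻¹ = t ^ k1 * s * (t ^ k1)⁻¹ := by group
      have l2 : s ^ (k1 - 1) * (t ^ k2 * (s ^ k2)⁻¹) * (s ^ (k1 - 1))⁻¹ * s
          * (s ^ (k1 - 1) * (t ^ k2 * (s ^ k2)⁻¹) * (s ^ (k1 - 1))⁻¹)⁻¹
          = s ^ (k1 - 1) * (t ^ k2 * s * (t ^ k2)⁻¹) * (s ^ (k1 - 1))⁻¹ := by group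
      rw [l1, l2, hdd])
  have := congrArg (fun x : ↥Q => (x : G)) huc
  simp only [phi_iter_coe, ccQ_coe] at this
  exact this

/-- `m1 = [t, s]`. -/
def m1 (s t : G) : G := t * s * t⁻¹ * s⁻¹

theorem m1_eq (s t : G) : m1 s t = (t * s⁻¹) * (s * (t * s⁻¹)⁻¹ * s⁻¹) := by unfold m1; group

theorem m1_mem (h : KSetup Q s t) : m1 s t ∈ Q := by
  rw [m1_eq]
  refine Q.mul_mem h.hc ?_
  have := h.act_mem 1 (Q.inv_mem h.hc)
  rwa [zpow_one] at this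

/-- The subgroup generated by the `s`-conjugates of `m1`. -/
def M1 (s t : G) : Subgroup G :=
  Subgroup.closure (Set.range fun i : ℤ => s ^ i * m1 s t * s ^ (-i))

theorem M1_le (h : KSetup Q s t) : M1 s t ≤ Q := by
  unfold M1
  rw [Subgroup.closure_le]
  rintro _ ⟨i, rfl⟩
  exact h.act_mem' i h.m1_mem

theorem m1_mem_M1 (s t : G) : m1 s t ∈ M1 s t :=
  Subgroup.subset_closure ⟨0, by simp⟩

theorem zpow_conj_M1 (s t : G) (j : ℤ) {x : G} (hx : x ∈ M1 s t) : s ^ j * x * s ^ (-j) ∈ M1 s t := by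
  unfold M1 at hx ⊢
  induction hx using Subgroup.closure_induction with
  | mem y hy =>
    obtain ⟨i, rfl⟩ := hy
    refine Subgroup.subset_closure ⟨j + i, ?_⟩
    simp only []
    group
  | one => simp
  | mul a b _ _ ha hb =>
    have : s ^ j * (a * b) * s ^ (-j) = (s ^ j * a * s ^ (-j)) * (s ^ j * b * s ^ (-j)) := by group
    rw [this]; exact Subgroup.mul_mem _ ha hb
  | inv a _ ha =>
    have : s ^ j * a⁻¹ * s ^ (-j) = (s ^ j * a * s ^ (-j))⁻¹ := by group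
    rw [this]; exact Subgroup.inv_mem _ ha

theorem s_conj_M1 (s t : G) {x : G} (hx : x ∈ M1 s t) : s * x * s⁻¹ ∈ M1 s t := by
  have := zpow_conj_M1 s t 1 hx
  simpa using this

theorem sinv_conj_M1 (s t : G) {x : G} (hx : x ∈ M1 s t) : s⁻¹ * x * s ∈ M1 s t := by
  have := zpow_conj_M1 s t (-1) hx
  simpa using this

/-- `t` acts on `Q` as `s` does. -/
theorem t_conj (h : KSetup Q s t) {x : G} (hx : x ∈ Q) : t * x * t⁻¹ = s * x * s⁻¹ := by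
  have h1 : s * x * s⁻¹ ∈ Q := by
    have := h.act_mem 1 hx
    rwa [zpow_one] at this
  have h2 := h.comm _ h.hc _ h1
  calc t * x * t⁻¹ = (t * s⁻¹) * (s * x * s⁻¹) * (t * s⁻¹)⁻¹ := by group
    _ = (s * x * s⁻¹) * (t * s⁻¹) * (t * s⁻¹)⁻¹ := by rw [h2]
    _ = s * x * s⁻¹ := by group

theorem tinv_conj (h : KSetup Q s t) {x : G} (hx : x ∈ Q) : t⁻¹ * x * t = s⁻¹ * x * s := by
  have h2 := h.comm _ h.hc _ hx
  calc t⁻¹ * x * t = s⁻¹ * ((t * s⁻¹)⁻¹ * (x * (t * s⁻¹))) * s := by group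
    _ = s⁻¹ * ((t * s⁻¹)⁻¹ * ((t * s⁻¹) * x)) * s := by rw [h2]
    _ = s⁻¹ * x * s := by group

theorem t_conj_M1 (h : KSetup Q s t) {x : G} (hx : x ∈ M1 s t) : t * x * t⁻¹ ∈ M1 s t := by
  rw [h.t_conj (h.M1_le hx)]; exact s_conj_M1 s t hx

theorem tinv_conj_M1 (h : KSetup Q s t) {x : G} (hx : x ∈ M1 s t) : t⁻¹ * x * t ∈ M1 s t := by
  rw [h.tinv_conj (h.M1_le hx)]; exact sinv_conj_M1 s t hx

/-- The norm-one subgroup of `Q`. -/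
def normOne (h : KSetup Q s t) (p : ℕ) : Subgroup G where
  carrier := {x | ∃ hx : x ∈ Q, h.Nrm p ⟨x, hx⟩ = 1}
  one_mem' := by
    refine ⟨Q.one_mem, ?_⟩
    have := h.Nrm_mul p 1 1
    rw [mul_one] at this
    exact mul_eq_left.mp this.symm
  mul_mem' := by
    rintro a b ⟨ha, ha'⟩ ⟨hb, hb'⟩
    refine ⟨Q.mul_mem ha hb, ?_⟩
    have : (⟨a * b, Q.mul_mem ha hb⟩ : ↥Q) = ⟨a, ha⟩ * ⟨b, hb⟩ := rfl
    rw [this, h.Nrm_mul, ha', hb', mul_one]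
  inv_mem' := by
    rintro a ⟨ha, ha'⟩
    refine ⟨Q.inv_mem ha, ?_⟩
    have : (⟨a⁻¹, Q.inv_mem ha⟩ : ↥Q) = (⟨a, ha⟩ : ↥Q)⁻¹ := rfl
    rw [this, h.Nrm_inv, ha', inv_one]

theorem M1_le_normOne (h : KSetup Q s t) {p : ℕ} (hsp : s ^ p = 1) : M1 s t ≤ h.normOne p := by
  unfold M1
  rw [Subgroup.closure_le]
  rintro _ ⟨i, rfl⟩
  refine ⟨h.act_mem' i h.m1_mem, ?_⟩
  -- norm of m1 is one
  have hm : h.Nrm p ⟨m1 s t, h.m1_mem⟩ = 1 := by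
    have e : (⟨m1 s t, h.m1_mem⟩ : ↥Q) = (⟨t * s⁻¹, h.hc⟩ : ↥Q) * (h.phi ⟨t * s⁻¹, h.hc⟩)⁻¹ := by
      apply Subtype.ext
      simp only [Subgroup.coe_mul, Subgroup.coe_inv, phi_coe]
      unfold m1; group
    rw [e, h.Nrm_mul, h.Nrm_inv, h.Nrm_phi hsp]; simp
  -- the conjugate by s^i: apply phi^[n] for a suitable n to get back to m1
  obtain ⟨n, hn⟩ : ∃ n : ℕ, (h.phi)^[n] ⟨s ^ i * m1 s t * s ^ (-i), h.act_mem' i h.m1_mem⟩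
      = ⟨m1 s t, h.m1_mem⟩ ∨ (h.phi)^[n] ⟨m1 s t, h.m1_mem⟩
      = ⟨s ^ i * m1 s t * s ^ (-i), h.act_mem' i h.m1_mem⟩ := by
    rcases Int.eq_nat_or_neg i with ⟨n, rfl | rfl⟩
    · refine ⟨n, Or.inr ?_⟩
      apply Subtype.ext
      rw [phi_iter_coe]
      simp only [zpow_natCast, zpow_neg]
    · refine ⟨n, Or.inl ?_⟩
      apply Subtype.ext
      rw [phi_iter_coe]
      simp only [zpow_natCast, zpow_neg, inv_inv]
      group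
  rcases hn with hn | hn
  · rw [← h.Nrm_phi_iter hsp n, hn, hm]
  · rw [← hn, h.Nrm_phi_iter hsp n, hm]

/-- `s` acts fixed-point-freely on `M1`. -/
theorem fixfree (h : KSetup Q s t) {p : ℕ} (hsp : s ^ p = 1)
    (hQp : (Nat.card Q).Coprime p) [Finite Q] {x : G} (hx : x ∈ M1 s t) (hfix : s * x * s⁻¹ = x) :
    x = 1 := by
  obtain ⟨hxQ, hN⟩ := h.M1_le_normOne hsp hx
  have h1 : h.Nrm p (1 : ↥Q) = 1 := (h.normOne p).one_mem.2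
  have := h.unique_conj hQp 1 ⟨x, hxQ⟩ h1 hN (by
    simp only [Subgroup.coe_one, one_mul, inv_one, mul_one]
    calc s = (s * x * s⁻¹) * s * x⁻¹ := by group
      _ = x * s * x⁻¹ := by rw [hfix])
  have := congrArg (fun x : ↥Q => (x : G)) this
  simpa using this.symm

end KSetup

end Cfsg.Agent.Lib.Helper9.AppC
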