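import Cfsg.Agent.Lib.Helper9.AppCK3
import Cfsg.Agent.Lib.Helper9.AppCField

/-!
# Appendix C (S1472): hypotheses `Hyp0` and basic consequences; `Hyp` = `Hyp0` + TI
-/

set_option autoImplicit false
set_option linter.unusedSectionVars false
set_option linter.style.haveILetI false
set_option warning.simp.varHead false
set_option linter.unusedVariables false

namespace Cfsg.Agent.Lib.Helper9.AppC

variable {G : Type*} [Group G]

/-- The hypotheses of B&G Theorem C (as in the frozen statement S1472), `p` odd, without any extra hypothesis. -/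
structure Hyp0 (p q : ℕ) (F : Type*) [Field F] [Fintype F] (P U Q : Subgroup G) (f ψ : G → F)
    (y : G) : Prop where
  hp : p.Prime
  hq : q.Prime
  hp2 : p ≠ 2
  hA : Nat.Coprime ((p ^ q - 1) / (p - 1)) (p - 1)
  hF : Fintype.card F = p ^ q
  hf : Set.BijOn f (P : Set G) Set.univ
  hfadd : ∀ x ∈ P, ∀ z ∈ P, f (x * z) = f x + f z
  hUP : U ≤ Subgroup.normalizer (P : Set G)
  hψ : ∀ u ∈ U, ψ u ≠ 0 ∧ ∀ x ∈ P, f (u * x * u⁻¹) = ψ u * f x
  hψmul : ∀ u ∈ U, ∀ v ∈ U, ψ (u * v) = ψ u * ψ v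
  hψinj : Set.InjOn ψ (U : Set G)
  hUcard : Nat.card U * (p - 1) = p ^ q - 1
  hQ : ∀ a ∈ Q, ∀ b ∈ Q, a * b = b * a
  hQp : (Nat.card Q).Coprime p
  hP0Q : ∀ x ∈ P, f x ^ p = f x → x ∈ Subgroup.normalizer (Q : Set G)
  hy : y ∈ Q
  hP0U : ∀ x ∈ P, f x ^ p = f x → y * x * y⁻¹ ∈ Subgroup.normalizer (U : Set G)

namespace Hyp0

variable {p q : ℕ} {F : Type*} [Field F] [Fintype F] {P U Q : Subgroup G} {f ψ : G → F} {y : G}

theorem f_inj (h : Hyp0 p q F P U Q f ψ y) {x z : G} (hx : x ∈ P) (hz : z ∈ P) (e : f x = f z) :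
    x = z := h.hf.injOn hx hz e

theorem f_one (h : Hyp0 p q F P U Q f ψ y) : f 1 = 0 := by
  have := h.hfadd 1 P.one_mem 1 P.one_mem
  rw [mul_one] at this
  exact left_eq_add.mp this

theorem f_inv (h : Hyp0 p q F P U Q f ψ y) {x : G} (hx : x ∈ P) : f x⁻¹ = - f x := by
  have := h.hfadd x hx x⁻¹ (P.inv_mem hx)
  rw [mul_inv_cancel, h.f_one] at this
  exact eq_neg_of_add_eq_zero_right this.symm

theorem P_comm (h : Hyp0 p q F P U Q f ψ y) {x z : G} (hx : x ∈ P) (hz : z ∈ P) : x * z = z * x :=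
  h.f_inj (P.mul_mem hx hz) (P.mul_mem hz hx) (by rw [h.hfadd x hx z hz, h.hfadd z hz x hx, add_comm])

theorem f_pow (h : Hyp0 p q F P U Q f ψ y) {x : G} (hx : x ∈ P) (k : ℕ) : f (x ^ k) = k * f x := by
  induction k with
  | zero => simp [h.f_one]
  | succ k ih => rw [pow_succ, h.hfadd _ (P.pow_mem hx k) _ hx, ih]; push_cast; ring

theorem charP (h : Hyp0 p q F P U Q f ψ y) : CharP F p := charP_of_card h.hp h.hF

theorem pow_p (h : Hyp0 p q F P U Q f ψ y) {x : G} (hx : x ∈ P) : x ^ p = 1 := by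
  haveI := h.charP
  apply h.f_inj (P.pow_mem hx p) P.one_mem
  rw [h.f_pow hx, h.f_one, CharP.cast_eq_zero, zero_mul]

/-- The element of `P` with a given coordinate. -/
noncomputable def el (h : Hyp0 p q F P U Q f ψ y) (b : F) : G :=
  Classical.choose (h.hf.surjOn (Set.mem_univ b))

theorem el_mem (h : Hyp0 p q F P U Q f ψ y) (b : F) : h.el b ∈ P :=
  (Classical.choose_spec (h.hf.surjOn (Set.mem_univ b))).1

@[simp] theorem f_el (h : Hyp0 p q F P U Q f ψ y) (b : F) : f (h.el b) = b :=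
  (Classical.choose_spec (h.hf.surjOn (Set.mem_univ b))).2

theorem eq_el (h : Hyp0 p q F P U Q f ψ y) {x : G} (hx : x ∈ P) : x = h.el (f x) :=
  h.f_inj hx (h.el_mem _) (by simp)

theorem eq_one_of_f_eq_zero (h : Hyp0 p q F P U Q f ψ y) {x : G} (hx : x ∈ P) (e : f x = 0) : x = 1 :=
  h.f_inj hx P.one_mem (by rw [e, h.f_one])

/-- The distinguished element `s` with `f s = 1`. -/
noncomputable def s (h : Hyp0 p q F P U Q f ψ y) : G := h.el 1

theorem s_mem (h : Hyp0 p q F P U Q f ψ y) : h.s ∈ P := h.el_mem 1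

@[simp] theorem f_s (h : Hyp0 p q F P U Q f ψ y) : f h.s = 1 := h.f_el 1

theorem s_ne_one (h : Hyp0 p q F P U Q f ψ y) : h.s ≠ 1 := by
  intro e
  have := h.f_s
  rw [e, h.f_one] at this
  exact zero_ne_one this

theorem s_pow_p (h : Hyp0 p q F P U Q f ψ y) : h.s ^ p = 1 := h.pow_p h.s_mem

theorem f_s_pow (h : Hyp0 p q F P U Q f ψ y) (k : ℕ) : f (h.s ^ k) = k := by
  rw [h.f_pow h.s_mem, h.f_s, mul_one]

/-- Elements of `P` with Frobenius-fixed coordinate are powers of `s`. -/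
theorem eq_s_pow (h : Hyp0 p q F P U Q f ψ y) {x : G} (hx : x ∈ P) (e : f x ^ p = f x) :
    ∃ k : ℕ, x = h.s ^ k := by
  haveI : Fact p.Prime := ⟨h.hp⟩
  haveI := h.charP
  obtain ⟨k, hk⟩ := exists_natCast_of_pow_eq_self (p := p) e
  exact ⟨k, h.f_inj hx (P.pow_mem h.s_mem k) (by rw [h.f_s_pow, hk])⟩

theorem conj_mem (h : Hyp0 p q F P U Q f ψ y) {u x : G} (hu : u ∈ U) (hx : x ∈ P) :
    u * x * u⁻¹ ∈ P := (Subgroup.mem_set_normalizer_iff.mp (h.hUP hu) x).mp hx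

theorem ψ_one (h : Hyp0 p q F P U Q f ψ y) : ψ 1 = 1 := by
  have h1 := h.hψmul 1 U.one_mem 1 U.one_mem
  rw [mul_one] at h1
  have h2 := (h.hψ 1 U.one_mem).1
  exact (mul_eq_left₀ h2).mp h1.symm

theorem ψ_inv (h : Hyp0 p q F P U Q f ψ y) {u : G} (hu : u ∈ U) : ψ u⁻¹ = (ψ u)⁻¹ := by
  have h1 := h.hψmul u hu u⁻¹ (U.inv_mem hu)
  rw [mul_inv_cancel, h.ψ_one] at h1
  exact eq_inv_of_mul_eq_one_right h1.symm

theorem inf_eq_bot (h : Hyp0 p q F P U Q f ψ y) {x : G} (hxU : x ∈ U) (hxP : x ∈ P) : x = 1 := by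
  have h1 := (h.hψ x hxU).2 h.s h.s_mem
  have h2 : x * h.s * x⁻¹ = h.s := by rw [h.P_comm hxP h.s_mem]; group
  rw [h2, h.f_s, mul_one] at h1
  exact h.hψinj hxU U.one_mem (by rw [← h1, h.ψ_one])

theorem card_U_mul (h : Hyp0 p q F P U Q f ψ y) : Nat.card U * (p - 1) = p ^ q - 1 := h.hUcard

theorem coprime_card_U (h : Hyp0 p q F P U Q f ψ y) : Nat.Coprime (Nat.card U) (p - 1) := by
  have h1 : (p ^ q - 1) / (p - 1) = Nat.card U := by
    have hp1 : 0 < p - 1 := by have := h.hp.one_lt; omega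
    exact Nat.div_eq_of_eq_mul_left hp1 h.hUcard.symm
  have := h.hA
  rwa [h1] at this

theorem one_lt_card_U (h : Hyp0 p q F P U Q f ψ y) : 1 < Nat.card U := by
  have hp1 := h.hp.one_lt
  have hq1 := h.hq.one_lt
  have h1 : p ^ 2 ≤ p ^ q := Nat.pow_le_pow_right h.hp.pos hq1
  have h2 : p - 1 < p ^ q - 1 := by
    have h4 : p * 2 ≤ p ^ 2 := by rw [pow_two]; exact Nat.mul_le_mul_left p hp1
    omega
  by_contra hc
  rw [not_lt] at hc
  have h3 : Nat.card U * (p - 1) ≤ 1 * (p - 1) := Nat.mul_le_mul_right _ hc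
  rw [h.hUcard] at h3
  omega

theorem card_U_coprime_p (h : Hyp0 p q F P U Q f ψ y) : Nat.Coprime (Nat.card U) p := by
  have hp1 := h.hp.one_lt
  have h1 : Nat.card U ∣ p ^ q - 1 := ⟨p - 1, h.hUcard.symm⟩
  have h2 : Nat.Coprime (p ^ q - 1) p := by
    have hpos : 0 < p ^ q := Nat.pow_pos h.hp.pos
    have : Nat.Coprime (p ^ q - 1) (p ^ q) := by
      have h5 : p ^ q = (p ^ q - 1) + 1 := by omega
      rw [Nat.coprime_comm]
      conv_lhs => rw [h5]
      simp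
    exact Nat.Coprime.coprime_dvd_right (dvd_pow_self p h.hq.ne_zero) this
  exact Nat.Coprime.coprime_dvd_left h1 h2

theorem exists_ψ_ne_one (h : Hyp0 p q F P U Q f ψ y) [Finite G] : ∃ u ∈ U, ψ u ≠ 1 := by
  have h1 := h.one_lt_card_U
  haveI : Nontrivial U := Finite.one_lt_card_iff_nontrivial.mp h1
  obtain ⟨u, hu⟩ := exists_ne (1 : U)
  refine ⟨u, u.2, ?_⟩
  intro e
  apply hu
  apply Subtype.ext
  exact h.hψinj u.2 U.one_mem (by rw [e, Subgroup.coe_one, h.ψ_one])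

/-- An element of `P` centralized by `U` is trivial. -/
theorem eq_one_of_cent (h : Hyp0 p q F P U Q f ψ y) [Finite G] {x : G} (hx : x ∈ P)
    (hc : ∀ u ∈ U, u * x * u⁻¹ = x) : x = 1 := by
  obtain ⟨u, hu, hne⟩ := h.exists_ψ_ne_one
  have h1 := (h.hψ u hu).2 x hx
  rw [hc u hu] at h1
  have h2 : (ψ u - 1) * f x = 0 := by rw [sub_mul, one_mul, ← h1, sub_self]
  rcases mul_eq_zero.mp h2 with h3 | h3
  · exact absurd (sub_eq_zero.mp h3) hne
  · exact h.eq_one_of_f_eq_zero hx h3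

theorem pow_card_U (h : Hyp0 p q F P U Q f ψ y) {u : G} (hu : u ∈ U) : u ^ Nat.card U = 1 := by
  have := pow_card_eq_one' (G := U) (x := ⟨u, hu⟩)
  exact congrArg (fun x : U => (x : G)) this

end Hyp0

/-- `Hyp0` plus the TI hypothesis on `P`. -/
structure Hyp (p q : ℕ) (F : Type*) [Field F] [Fintype F] (P U Q : Subgroup G) (f ψ : G → F)
    (y : G) : Prop extends Hyp0 p q F P U Q f ψ y where
  hTI : ∀ z ∈ P, z ≠ 1 → ∀ g : G, g * z * g⁻¹ ∈ P → g ∈ Subgroup.normalizer (P : Set G)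

end Cfsg.Agent.Lib.Helper9.AppC
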