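import Cfsg.Agent.Lib.Helper9.AppCMain1

/-!
# Appendix C, TI variant: the element `t`, TI consequences, the H-lemma
-/

set_option autoImplicit false
set_option linter.unusedSectionVars false
set_option linter.style.haveILetI false
set_option linter.unusedVariables false

namespace Cfsg.Agent.Lib.Helper9.AppC

variable {G : Type*} [Group G]

/-- If `v` normalizes `N` and `n ∈ N` then `(n v)^k ∈ N v^k`. -/
theorem mul_pow_mem_of_normalizer {N : Subgroup G} {n v : G} (hn : n ∈ N)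
    (hv : v ∈ Subgroup.normalizer (N : Set G)) (k : ℕ) : (n * v) ^ k * (v ^ k)⁻¹ ∈ N := by
  induction k with
  | zero => simp
  | succ k ih =>
    have hvk : v ^ k ∈ Subgroup.normalizer (N : Set G) := Subgroup.pow_mem _ hv k
    have h1 : v ^ k * n * (v ^ k)⁻¹ ∈ N := (Subgroup.mem_set_normalizer_iff.mp hvk n).mp hn
    have e : (n * v) ^ (k + 1) * (v ^ (k + 1))⁻¹
        = ((n * v) ^ k * (v ^ k)⁻¹) * (v ^ k * n * (v ^ k)⁻¹) := by
      rw [pow_succ, pow_succ]; group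
    rw [e]; exact N.mul_mem ih h1

namespace Hyp0

variable {p q : ℕ} {F : Type*} [Field F] [Fintype F] {P U Q : Subgroup G} {f ψ : G → F} {y : G}

/-- `t = y s y⁻¹`. -/
noncomputable def t (h : Hyp0 p q F P U Q f ψ y) : G := y * h.s * y⁻¹

theorem t_zpow (h : Hyp0 p q F P U Q f ψ y) (i : ℤ) : h.t ^ i = y * h.s ^ i * y⁻¹ := by
  unfold t; rw [conj_zpow]

theorem t_pow (h : Hyp0 p q F P U Q f ψ y) (i : ℕ) : h.t ^ i = y * h.s ^ i * y⁻¹ := by
  unfold t; rw [conj_pow]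

theorem t_pow_p (h : Hyp0 p q F P U Q f ψ y) : h.t ^ p = 1 := by
  rw [h.t_pow, h.s_pow_p]; group

theorem f_s_pow_self (h : Hyp0 p q F P U Q f ψ y) : f h.s ^ p = f h.s := by rw [h.f_s, one_pow]

theorem s_norm_Q (h : Hyp0 p q F P U Q f ψ y) : h.s ∈ Subgroup.normalizer (Q : Set G) :=
  h.hP0Q h.s h.s_mem h.f_s_pow_self

theorem t_norm_U (h : Hyp0 p q F P U Q f ψ y) : h.t ∈ Subgroup.normalizer (U : Set G) :=
  h.hP0U h.s h.s_mem h.f_s_pow_self

theorem ksetup (h : Hyp0 p q F P U Q f ψ y) : KSetup Q h.s h.t := by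
  refine ⟨h.hQ, h.s_norm_Q, ?_⟩
  have h1 : h.s * y⁻¹ * h.s⁻¹ ∈ Q :=
    (Subgroup.mem_set_normalizer_iff.mp h.s_norm_Q y⁻¹).mp (Q.inv_mem h.hy)
  have e : h.t * h.s⁻¹ = y * (h.s * y⁻¹ * h.s⁻¹) := by unfold t; group
  rw [e]; exact Q.mul_mem h.hy h1

theorem conj_t_mem_U (h : Hyp0 p q F P U Q f ψ y) (i : ℤ) {u : G} (hu : u ∈ U) :
    h.t ^ i * u * h.t ^ (-i) ∈ U := by
  have h1 : h.t ^ i ∈ Subgroup.normalizer (U : Set G) := Subgroup.zpow_mem _ h.t_norm_U i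
  rw [zpow_neg]
  exact (Subgroup.mem_set_normalizer_iff.mp h1 u).mp hu

/-- An element of `P` normalizing `U` is trivial. -/
theorem eq_one_of_norm_U (h : Hyp0 p q F P U Q f ψ y) [Finite G] {x : G} (hx : x ∈ P)
    (hn : x ∈ Subgroup.normalizer (U : Set G)) : x = 1 := by
  apply h.eq_one_of_cent hx
  intro u hu
  have h1 : x * u * x⁻¹ ∈ U := (Subgroup.mem_set_normalizer_iff.mp hn u).mp hu
  have h2 : x * u * x⁻¹ * u⁻¹ ∈ U := U.mul_mem h1 (U.inv_mem hu)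
  have h3 : x * u * x⁻¹ * u⁻¹ ∈ P := by
    have e : x * u * x⁻¹ * u⁻¹ = x * (u * x⁻¹ * u⁻¹) := by group
    rw [e]; exact P.mul_mem hx (h.conj_mem hu (P.inv_mem hx))
  have h4 := h.inf_eq_bot h2 h3
  calc u * x * u⁻¹ = (x * u * x⁻¹ * u⁻¹)⁻¹ * x := by group
    _ = x := by rw [h4]; group

theorem t_ne_s (h : Hyp0 p q F P U Q f ψ y) [Finite G] : h.t ≠ h.s := by
  intro e
  have h1 := h.t_norm_U
  rw [e] at h1
  exact h.s_ne_one (h.eq_one_of_norm_U h.s_mem h1)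

/-- `P ∩ Q = 1`. -/
theorem eq_one_of_mem_P_Q (h : Hyp0 p q F P U Q f ψ y) [Finite G] {x : G} (hP : x ∈ P) (hQ : x ∈ Q) :
    x = 1 := by
  have h1 : orderOf x ∣ p := orderOf_dvd_of_pow_eq_one (h.pow_p hP)
  have h2 : orderOf x ∣ Nat.card Q := by
    have := orderOf_dvd_natCard (⟨x, hQ⟩ : Q)
    rwa [Subgroup.orderOf_mk] at this
  have h3 : orderOf x ∣ 1 := by
    have := Nat.dvd_gcd h2 h1
    rwa [h.hQp] at this
  exact orderOf_eq_one_iff.mp (Nat.dvd_one.mp h3)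

theorem t_conj_s_ne (h : Hyp0 p q F P U Q f ψ y) [Finite G] : h.t * h.s * h.t⁻¹ ≠ h.s := by
  intro e
  set c := h.t * h.s⁻¹ with hc
  have hcQ : c ∈ Q := h.ksetup.hc
  have e' : h.t * h.s = h.s * h.t := by
    calc h.t * h.s = (h.t * h.s * h.t⁻¹) * h.t := by group
      _ = h.s * h.t := by rw [e]
  have hcomm : Commute c h.s := by
    unfold Commute SemiconjBy
    calc c * h.s = h.t := by rw [hc]; group
      _ = (h.t * h.s) * h.s⁻¹ := by group
      _ = (h.s * h.t) * h.s⁻¹ := by rw [e']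
      _ = h.s * c := by rw [hc]; group
  have ht : h.t = c * h.s := by rw [hc]; group
  have h1 : h.t ^ p = c ^ p * h.s ^ p := by rw [ht, hcomm.mul_pow]
  rw [h.t_pow_p, h.s_pow_p, mul_one] at h1
  have h2 : orderOf c ∣ p := orderOf_dvd_of_pow_eq_one h1.symm
  have h3 : orderOf c ∣ Nat.card Q := by
    have := orderOf_dvd_natCard (⟨c, hcQ⟩ : Q)
    rwa [Subgroup.orderOf_mk] at this
  have h4 : orderOf c ∣ 1 := by
    have := Nat.dvd_gcd h3 h2
    rwa [h.hQp] at this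
  have h5 : c = 1 := orderOf_eq_one_iff.mp (Nat.dvd_one.mp h4)
  rw [h5, one_mul] at ht
  exact h.t_ne_s ht

theorem m1_ne_one (h : Hyp0 p q F P U Q f ψ y) [Finite G] : KSetup.m1 h.s h.t ≠ 1 := by
  intro e
  apply h.t_conj_s_ne
  unfold KSetup.m1 at e
  calc h.t * h.s * h.t⁻¹ = (h.t * h.s * h.t⁻¹ * h.s⁻¹) * h.s := by group
    _ = h.s := by rw [e, one_mul]

theorem t_not_norm_P (h : Hyp0 p q F P U Q f ψ y) [Finite G] :
    h.t ∉ Subgroup.normalizer (P : Set G) := by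
  intro hn
  have h1 : h.t * h.s * h.t⁻¹ ∈ P := (Subgroup.mem_set_normalizer_iff.mp hn h.s).mp h.s_mem
  have h2 : KSetup.m1 h.s h.t ∈ P := P.mul_mem h1 (P.inv_mem h.s_mem)
  exact h.m1_ne_one (h.eq_one_of_mem_P_Q h2 h.ksetup.m1_mem)

theorem tpow_not_norm_P (h : Hyp0 p q F P U Q f ψ y) [Finite G] (i : ℤ) (hi : ¬ (p : ℤ) ∣ i) :
    h.t ^ i ∉ Subgroup.normalizer (P : Set G) := by
  intro hn
  have hpp : Prime (p : ℤ) := Nat.prime_iff_prime_int.mp h.hp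
  have hco : IsCoprime (p : ℤ) i := (Prime.coprime_iff_not_dvd hpp).mpr hi
  obtain ⟨a, b, hab⟩ := hco
  have e : h.t = (h.t ^ i) ^ b := by
    have h1 : h.t ^ (a * (p : ℤ) + b * i) = h.t := by rw [hab, zpow_one]
    rw [zpow_add, mul_comm a, zpow_mul, zpow_natCast, h.t_pow_p, one_zpow, one_mul, mul_comm b,
      zpow_mul] at h1
    exact h1.symm
  apply h.t_not_norm_P
  rw [e]
  exact Subgroup.zpow_mem _ hn b
end Hyp0

namespace Hyp

variable {p q : ℕ} {F : Type*} [Field F] [Fintype F] {P U Q : Subgroup G} {f ψ : G → F} {y : G}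

/-- `P ∩ t^i P t^-i = 1` for `p ∤ i`. -/
theorem eq_one_of_conj_mem (h : Hyp p q F P U Q f ψ y) [Finite G] (i : ℤ) (hi : ¬ (p : ℤ) ∣ i)
    {z : G} (hz : z ∈ P) (hz' : h.t ^ i * z * h.t ^ (-i) ∈ P) : z = 1 := by
  by_contra hne
  apply h.tpow_not_norm_P i hi
  apply h.hTI z hz hne
  rwa [zpow_neg] at hz'

/-- The H-lemma: `H ∩ H^(t^i) = U` in the form needed. -/
theorem H_lemma (h : Hyp p q F P U Q f ψ y) [Finite G] (i : ℤ) (hi : ¬ (p : ℤ) ∣ i)
    {p1 pi0 u u' : G} (hp1 : p1 ∈ P) (hpi : pi0 ∈ P) (hu : u ∈ U) (hu' : u' ∈ U)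
    (e : p1 * u = (h.t ^ i * pi0 * h.t ^ (-i)) * u') : p1 = 1 := by
  set X := h.t ^ i * pi0 * h.t ^ (-i) with hX
  set v := u' * u⁻¹ with hv
  have hvU : v ∈ U := U.mul_mem hu' (U.inv_mem hu)
  have e1 : p1 = X * v := by rw [hv]; calc p1 = (p1 * u) * u⁻¹ := by group
    _ = X * (u' * u⁻¹) := by rw [e]; group
  -- the conjugate subgroup
  let N : Subgroup G := P.comap (MulAut.conj (h.t ^ (-i))).toMonoidHom
  have hmemN : ∀ g : G, g ∈ N ↔ h.t ^ (-i) * g * h.t ^ i ∈ P := by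
    intro g
    simp only [N, Subgroup.mem_comap, MulEquiv.coe_toMonoidHom, MulAut.conj_apply, zpow_neg, inv_inv]
  have hXN : X ∈ N := by
    rw [hmemN, hX]
    have : h.t ^ (-i) * (h.t ^ i * pi0 * h.t ^ (-i)) * h.t ^ i = pi0 := by group
    rw [this]; exact hpi
  have hvN : v ∈ Subgroup.normalizer (N : Set G) := by
    rw [Subgroup.mem_set_normalizer_iff]
    intro g
    simp only [SetLike.mem_coe]
    rw [hmemN, hmemN]
    have hw : h.t ^ (-i) * v * h.t ^ (- -i) ∈ U := h.conj_t_mem_U (-i) hvU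
    rw [neg_neg] at hw
    set w := h.t ^ (-i) * v * h.t ^ i with hw'
    have e2 : h.t ^ (-i) * (v * g * v⁻¹) * h.t ^ i = w * (h.t ^ (-i) * g * h.t ^ i) * w⁻¹ := by
      rw [hw']; group
    rw [e2]
    exact Subgroup.mem_set_normalizer_iff.mp (h.hUP hw) _
  have h2 := mul_pow_mem_of_normalizer hXN hvN p
  rw [← e1, h.pow_p hp1, one_mul] at h2
  have h3 : v ^ p ∈ N := by
    have := N.inv_mem h2
    rwa [inv_inv] at this
  rw [hmemN] at h3
  have h4 : h.t ^ (-i) * v ^ p * h.t ^ i ∈ U := by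
    have := h.conj_t_mem_U (-i) (U.pow_mem hvU p)
    rwa [neg_neg] at this
  have h5 := h.inf_eq_bot h4 h3
  have h6 : v ^ p = 1 := by
    calc v ^ p = h.t ^ i * (h.t ^ (-i) * v ^ p * h.t ^ i) * h.t ^ (-i) := by group
      _ = 1 := by rw [h5]; group
  have h7 : v = 1 := by
    have o1 : orderOf v ∣ p := orderOf_dvd_of_pow_eq_one h6
    have o2 : orderOf v ∣ Nat.card U := orderOf_dvd_of_pow_eq_one (h.pow_card_U hvU)
    have o3 : orderOf v ∣ 1 := by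
      have := Nat.dvd_gcd o2 o1
      rwa [h.card_U_coprime_p] at this
    exact orderOf_eq_one_iff.mp (Nat.dvd_one.mp o3)
  rw [h7, mul_one] at e1
  have h8 : pi0 = 1 := h.eq_one_of_conj_mem i hi hpi (by rw [← hX, ← e1]; exact hp1)
  rw [e1, hX, h8]; group

end Hyp

end Cfsg.Agent.Lib.Helper9.AppC
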