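import Cfsg.Agent.Lib.Helper9.AppCMain2
import Cfsg.Agent.Lib.Helper54.Hyperplane

/-!
# Appendix C, TI variant: the K-triangle lemma `KT`, Lemma N
-/

set_option autoImplicit false
set_option linter.unusedSectionVars false
set_option linter.style.haveILetI false
set_option linter.unusedVariables false

namespace Cfsg.Agent.Lib.Helper9.AppC

variable {G : Type*} [Group G]

/-- In a finite group, `g⁻¹ H g ≤ H` implies `g ∈ N(H)`. -/
theorem mem_normalizer_of_conj_mem [Finite G] (H : Subgroup G) (g : G)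
    (hg : ∀ x ∈ H, g⁻¹ * x * g ∈ H) : g ∈ Subgroup.normalizer (H : Set G) := by
  have hinj : Function.Injective (fun x : H => (⟨g⁻¹ * x * g, hg x x.2⟩ : H)) := by
    intro a b hab
    have := congrArg (fun x : H => (x : G)) hab
    simp only [mul_left_inj, mul_right_inj] at this
    exact Subtype.ext this
  have hsurj := Finite.surjective_of_injective hinj
  rw [Subgroup.mem_set_normalizer_iff'']
  intro x
  constructor
  · intro hx; exact hg x hx
  · intro hx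
    obtain ⟨z, hz⟩ := hsurj ⟨g⁻¹ * x * g, hx⟩
    have := congrArg (fun x : H => (x : G)) hz
    simp only [mul_left_inj, mul_right_inj] at this
    rw [← this]; exact z.2

namespace Hyp

variable {p q : ℕ} {F : Type*} [Field F] [Fintype F] {P U Q : Subgroup G} {f ψ : G → F} {y : G}

theorem P_le_normalizer (h : Hyp p q F P U Q f ψ y) : P ≤ Subgroup.normalizer (P : Set G) :=
  Subgroup.le_normalizer

theorem t_not_mem_P (h : Hyp p q F P U Q f ψ y) [Finite G] : h.t ∉ P :=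
  fun hm => h.t_not_norm_P (h.P_le_normalizer hm)

/-- The K-triangle lemma. -/
theorem KT (h : Hyp p q F P U Q f ψ y) [Finite G] (k1 k2 : ℕ) (hk2 : ¬ p ∣ k2)
    (hR : (h.t * h.s ^ k1 * h.t⁻¹) * (h.t⁻¹ * h.s ^ k2 * h.t) = h.s ^ (k1 + k2)) :
    h.s ^ k1 = h.s := by
  have hppos := h.hp.pos
  set k1' := k1 + p with hk1'
  have hs1 : h.s ^ k1' = h.s ^ k1 := by rw [hk1', pow_add, h.s_pow_p, mul_one]
  have hs2 : h.s ^ (k1' + k2) = h.s ^ (k1 + k2) := by
    rw [hk1', add_right_comm, pow_add, h.s_pow_p, mul_one]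
  have hR' : (h.t * h.s ^ k1' * h.t⁻¹) * (h.t⁻¹ * h.s ^ k2 * h.t) = h.s ^ (k1' + k2) := by
    rw [hs1, hs2]; exact hR
  haveI : Finite Q := inferInstance
  have E := h.ksetup.relation_imp h.s_pow_p h.t_pow_p h.hQp k1' k2 (by omega) hR'
  set x0 := h.s ^ (k1' - 1) with hx0
  have hx0P : x0 ∈ P := P.pow_mem h.s_mem _
  have hk : h.s ^ k1' = x0 * h.s := by rw [hx0, ← pow_succ]; congr 1; omega
  set Y := (h.s ^ k2)⁻¹ * h.s with hY
  have hYP : Y ∈ P := P.mul_mem (P.inv_mem (P.pow_mem h.s_mem _)) h.s_mem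
  set i : ℤ := -(k2 : ℤ) with hi
  have hip : ¬ (p : ℤ) ∣ i := by
    rw [hi, dvd_neg]
    exact_mod_cast hk2
  set X := h.t ^ i * x0 * h.t ^ (-i) with hX
  set T := h.t ^ ((k1' : ℤ) - k2) with hT
  have eT : T = X * Y := by
    have e1 : h.t ^ k1' = x0 * h.t ^ k2 * Y := by
      calc h.t ^ k1' = (h.t ^ k1' * (h.s ^ k1')⁻¹) * h.s ^ k1' := by group
        _ = (x0 * (h.t ^ k2 * (h.s ^ k2)⁻¹) * x0⁻¹) * (x0 * h.s) := by rw [E, hk]
        _ = x0 * h.t ^ k2 * Y := by rw [hY]; group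
    calc T = h.t ^ (-(k2 : ℤ)) * h.t ^ (k1' : ℤ) := by rw [hT, ← zpow_add]; congr 1; ring
      _ = h.t ^ (-(k2 : ℤ)) * (x0 * h.t ^ k2 * Y) := by rw [zpow_natCast, e1]
      _ = X * Y := by rw [hX, hi, neg_neg, zpow_natCast]; group
  -- Y is centralized by U
  have hYc : ∀ u ∈ U, u * Y * u⁻¹ = Y := by
    intro u hu
    have hu' : T * u * T⁻¹ ∈ U := by
      have := h.conj_t_mem_U ((k1' : ℤ) - k2) hu
      rwa [zpow_neg] at this
    set u' := T * u * T⁻¹ with hu'def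
    have hũ : h.t ^ (k2 : ℤ) * u' * h.t ^ (-(k2 : ℤ)) ∈ U := h.conj_t_mem_U _ hu'
    set ũ := h.t ^ (k2 : ℤ) * u' * h.t ^ (-(k2 : ℤ)) with hũdef
    set p1 := Y * (u * Y⁻¹ * u⁻¹) with hp1
    have hp1P : p1 ∈ P := P.mul_mem hYP (h.conj_mem hu (P.inv_mem hYP))
    set pi0 := x0⁻¹ * (ũ * x0 * ũ⁻¹) with hpi0
    have hpi0P : pi0 ∈ P := P.mul_mem (P.inv_mem hx0P) (h.conj_mem hũ hx0P)
    have e : p1 * u = (h.t ^ i * pi0 * h.t ^ (-i)) * u' := by
      have l1 : p1 * u = Y * u * Y⁻¹ := by rw [hp1]; group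
      have l2 : (h.t ^ i * pi0 * h.t ^ (-i)) * u' = X⁻¹ * u' * X := by
        rw [hpi0, hũdef, hX, hi, neg_neg]; group
      have l3 : Y * u * Y⁻¹ = X⁻¹ * u' * X := by
        rw [hu'def, eT]; group
      rw [l1, l2, l3]
    have h1 := h.H_lemma i hip hp1P hpi0P hu hu' e
    calc u * Y * u⁻¹ = (Y * (u * Y⁻¹ * u⁻¹))⁻¹ * Y := by group
      _ = Y := by rw [← hp1, h1]; group
  have hY1 : Y = 1 := h.eq_one_of_cent hYP hYc
  rw [hY1, mul_one] at eT
  -- T = x0
  have hTx0 : T = x0 := by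
    have e2 : x0 = h.t ^ (k2 : ℤ) * X * h.t ^ (-(k2 : ℤ)) := by rw [hX, hi, neg_neg]; group
    rw [e2, ← eT, hT, ← zpow_add, ← zpow_add]; congr 1; ring
  -- x0 = 1
  have hx01 : x0 = 1 := by
    by_contra hne
    set j : ℤ := (k1' : ℤ) - k2 with hj
    have hTj : T = y * h.s ^ j * y⁻¹ := by rw [hT, h.t_zpow]
    have hsj : h.s ^ j ∈ P := P.zpow_mem h.s_mem _
    have hsj1 : h.s ^ j ≠ 1 := by
      intro e1
      rw [e1] at hTj
      apply hne
      rw [← hTx0, hTj]; group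
    have hyn : y ∈ Subgroup.normalizer (P : Set G) := by
      apply h.hTI _ hsj hsj1
      rw [← hTj, hTx0]; exact hx0P
    apply h.t_not_mem_P
    unfold Hyp0.t
    exact (Subgroup.mem_set_normalizer_iff.mp hyn h.s).mp h.s_mem
  rw [← hs1, hk, hx01, one_mul]

theorem s_norm_M1 (h : Hyp p q F P U Q f ψ y) :
    h.s ∈ Subgroup.normalizer (KSetup.M1 h.s h.t : Set G) := by
  rw [Subgroup.mem_set_normalizer_iff]
  intro x
  constructor
  · intro hx; exact KSetup.s_conj_M1 _ _ hx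
  · intro hx
    have := KSetup.sinv_conj_M1 _ _ hx
    have e : h.s⁻¹ * (h.s * x * h.s⁻¹) * h.s = x := by group
    rwa [e] at this

theorem orderOf_s (h : Hyp p q F P U Q f ψ y) : orderOf h.s = p :=
  haveI : Fact p.Prime := ⟨h.hp⟩
  orderOf_eq_prime h.s_pow_p h.s_ne_one

/-- Lemma N: an element of `P` normalizing `M1` is a power of `s`. -/
theorem lemma_N (h : Hyp p q F P U Q f ψ y) [Finite G] {D : G} (hD : D ∈ P)
    (hDn : D ∈ Subgroup.normalizer (KSetup.M1 h.s h.t : Set G)) : D ∈ Subgroup.zpowers h.s := by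
  by_contra hnot
  haveI : Fact p.Prime := ⟨h.hp⟩
  set M := KSetup.M1 h.s h.t with hM
  set A : Subgroup G := Subgroup.closure {D, h.s} with hA
  have hAP : A ≤ P := by
    rw [hA, Subgroup.closure_le]
    intro x hx
    rcases hx with rfl | rfl
    · exact hD
    · exact h.s_mem
  have hAn : A ≤ Subgroup.normalizer (M : Set G) := by
    rw [hA, Subgroup.closure_le]
    intro x hx
    rcases hx with rfl | rfl
    · exact hDn
    · exact h.s_norm_M1
  have hMQ : M ≤ Q := h.ksetup.M1_le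
  have hMp : ¬ p ∣ Nat.card M := by
    intro hdvd
    have h1 : p ∣ Nat.card Q := dvd_trans hdvd (Subgroup.card_dvd_of_le hMQ)
    have h2 : p ∣ Nat.gcd (Nat.card Q) p := Nat.dvd_gcd h1 dvd_rfl
    rw [h.hQp] at h2
    exact h.hp.one_lt.ne' (Nat.dvd_one.mp h2)
  have hMbot : ¬ M ≤ ⊥ := by
    intro hle
    have := hle (KSetup.m1_mem_M1 h.s h.t)
    rw [Subgroup.mem_bot] at this
    exact h.m1_ne_one this
  obtain ⟨B, hBA, hcard, hBc⟩ := Cfsg.Agent.Lib.Helper54.exists_hyperplane_centralizer (p := p) A M ⊥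
    (fun x hx z hz => h.P_comm (hAP hx) (hAP hz)) (fun x hx => h.pow_p (hAP hx)) hMp hAn hMbot
  obtain ⟨r, hr, hr1⟩ := SetLike.not_le_iff_exists.mp hBc
  rw [Subgroup.mem_bot] at hr1
  obtain ⟨hrM, hrC⟩ := Subgroup.mem_inf.mp hr
  -- B is nontrivial
  have hBne : B ≠ ⊥ := by
    intro hB
    rw [hB, Subgroup.card_bot, mul_one] at hcard
    have hsA : Subgroup.zpowers h.s ≤ A := by
      rw [Subgroup.zpowers_le]; exact Subgroup.subset_closure (by simp)
    have hcz : Nat.card (Subgroup.zpowers h.s) = p := by rw [Nat.card_zpowers, h.orderOf_s]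
    have heq : Subgroup.zpowers h.s = A :=
      Subgroup.eq_of_le_of_card_ge hsA (by rw [hcz]; exact hcard)
    apply hnot
    rw [heq]; exact Subgroup.subset_closure (by simp)
  obtain ⟨z, hz1⟩ := (Subgroup.ne_bot_iff_exists_ne_one.mp hBne)
  have hzB' : (z : G) ∈ B := z.2
  have hzP : (z : G) ∈ P := hAP (hBA hzB')
  have hz1' : (z : G) ≠ 1 := fun e => hz1 (Subtype.ext e)
  have hcomm : (z : G) * r = r * z := (Subgroup.mem_centralizer_iff.mp hrC) z hzB'
  have hrn : r ∈ Subgroup.normalizer (P : Set G) := by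
    apply h.hTI z hzP hz1'
    have : r * z * r⁻¹ = z := by rw [← hcomm]; group
    rw [this]; exact hzP
  have h1 : r * h.s * r⁻¹ ∈ P := (Subgroup.mem_set_normalizer_iff.mp hrn h.s).mp h.s_mem
  have h2 : r * h.s * r⁻¹ * h.s⁻¹ ∈ P := P.mul_mem h1 (P.inv_mem h.s_mem)
  have h3 : r * h.s * r⁻¹ * h.s⁻¹ ∈ M := by
    have e : r * h.s * r⁻¹ * h.s⁻¹ = r * (h.s * r⁻¹ * h.s⁻¹) := by group
    rw [e]; exact M.mul_mem hrM (KSetup.s_conj_M1 _ _ (M.inv_mem hrM))
  have h4 := h.eq_one_of_mem_P_Q h2 (hMQ h3)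
  have h5 : h.s * r * h.s⁻¹ = r := by
    calc h.s * r * h.s⁻¹ = (r * h.s * r⁻¹ * h.s⁻¹)⁻¹ * r := by group
      _ = r := by rw [h4]; group
  haveI : Finite Q := inferInstance
  exact hr1 (h.ksetup.fixfree h.s_pow_p h.hQp hrM h5)

end Hyp

end Cfsg.Agent.Lib.Helper9.AppC
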