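import Cfsg.Agent.Lib.Helper9.AppCMain3

/-!
# Appendix C, TI variant: the normalizer trick and Lemma T
-/

set_option autoImplicit false
set_option linter.unusedSectionVars false
set_option linter.style.haveILetI false
set_option linter.unusedVariables false

namespace Cfsg.Agent.Lib.Helper9.AppC

variable {G : Type*} [Group G]

theorem e6_aux (t s3 sk : G) :
    t⁻¹ * (s3 * (t⁻¹ * sk * t)⁻¹) * t * (s3 * sk⁻¹)⁻¹
      = (t⁻¹ * s3 * t * s3⁻¹) * ((s3 * sk⁻¹) * ((t⁻¹ * (t⁻¹ * sk * t * sk⁻¹) * t)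
        * (t⁻¹ * sk * t * sk⁻¹))⁻¹ * (s3 * sk⁻¹)⁻¹) := by
  simp only [mul_assoc, mul_inv_rev, inv_inv, inv_mul_cancel_left, mul_inv_cancel_left]

namespace Hyp0

variable {p q : ℕ} {F : Type*} [Field F] [Fintype F] {P U Q : Subgroup G} {f ψ : G → F} {y : G}

theorem ψ_pow (h : Hyp0 p q F P U Q f ψ y) {u : G} (hu : u ∈ U) (k : ℕ) : ψ (u ^ k) = ψ u ^ k := by
  induction k with
  | zero => simp [h.ψ_one]
  | succ k ih => rw [pow_succ, h.hψmul _ (U.pow_mem hu k) _ hu, ih, pow_succ]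

theorem exists_ψ_eq (h : Hyp0 p q F P U Q f ψ y) [Finite G] {g : F} (hg : g ^ Nat.card U = 1) :
    ∃ v ∈ U, ψ v = g := by
  classical
  haveI : Fintype U := Fintype.ofFinite U
  set S : Finset F := Finset.univ.image (fun u : U => ψ u) with hSdef
  have hS : ∀ x ∈ S, x ^ Nat.card U = 1 := by
    intro x hx
    obtain ⟨u, _, rfl⟩ := Finset.mem_image.mp hx
    rw [← h.ψ_pow u.2, h.pow_card_U u.2, h.ψ_one]
  have hinj : Function.Injective (fun u : U => ψ u) := by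
    intro a b hab
    exact Subtype.ext (h.hψinj a.2 b.2 hab)
  have hcard : S.card = Nat.card U := by
    rw [hSdef, Finset.card_image_of_injective _ hinj, Finset.card_univ, Nat.card_eq_fintype_card]
  have := mem_of_pow_eq_one Nat.card_pos S hS hcard hg
  obtain ⟨u, _, hu⟩ := Finset.mem_image.mp this
  exact ⟨u, u.2, hu⟩

theorem s_pow_pred (h : Hyp0 p q F P U Q f ψ y) : h.s ^ (p - 1) = h.s⁻¹ := by
  have h1 : h.s ^ (p - 1) * h.s = 1 := by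
    rw [← pow_succ]
    have : p - 1 + 1 = p := by have := h.hp.pos; omega
    rw [this, h.s_pow_p]
  exact eq_inv_of_mul_eq_one_left h1

end Hyp0

namespace Hyp

variable {p q : ℕ} {F : Type*} [Field F] [Fintype F] {P U Q : Subgroup G} {f ψ : G → F} {y : G}

theorem C1 (h : Hyp p q F P U Q f ψ y) (k : ℕ) :
    h.t⁻¹ * h.s ^ k * h.t * (h.s ^ k)⁻¹ ∈ KSetup.M1 h.s h.t := by
  have hm' : h.t⁻¹ * h.s * h.t * h.s⁻¹ ∈ KSetup.M1 h.s h.t := by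
    have e : h.t⁻¹ * h.s * h.t * h.s⁻¹ = h.t⁻¹ * (KSetup.m1 h.s h.t)⁻¹ * h.t := by
      unfold KSetup.m1; group
    rw [e]
    exact h.ksetup.tinv_conj_M1 ((KSetup.M1 h.s h.t).inv_mem (KSetup.m1_mem_M1 _ _))
  have h1 := mul_pow_mem_of_normalizer hm' h.s_norm_M1 k
  have e2 : (h.t⁻¹ * h.s * h.t * h.s⁻¹ * h.s) ^ k = h.t⁻¹ * h.s ^ k * h.t := by
    have e3 : h.t⁻¹ * h.s * h.t * h.s⁻¹ * h.s = h.t⁻¹ * h.s * h.t⁻¹⁻¹ := by group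
    rw [e3, conj_pow, inv_inv]
  rwa [e2] at h1

/-- The normalizer trick. -/
theorem trick (h : Hyp p q F P U Q f ψ y) [Finite G] {a' D : G} (ha' : a' ∈ P) (hD : D ∈ P)
    (k : ℕ) (e : (h.t * a' * h.t⁻¹) * (h.t⁻¹ * h.s ^ k * h.t) = D) :
    D ∈ Subgroup.normalizer (KSetup.M1 h.s h.t : Set G) := by
  apply mem_normalizer_of_conj_mem
  obtain ⟨S1, hS1⟩ : ∃ S1, S1 = h.t * h.s * h.t⁻¹ := ⟨_, rfl⟩
  obtain ⟨A0, hA0⟩ : ∃ A0, A0 = h.t * a' * h.t⁻¹ := ⟨_, rfl⟩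
  obtain ⟨B0, hB0⟩ : ∃ B0, B0 = h.t⁻¹ * h.s ^ k * h.t := ⟨_, rfl⟩
  obtain ⟨b0, hb0⟩ : ∃ b0, b0 = B0 * (h.s ^ k)⁻¹ := ⟨_, rfl⟩
  have hb0M : b0 ∈ KSetup.M1 h.s h.t := by rw [hb0, hB0]; exact h.C1 k
  have hA0S1 : A0 * S1 = S1 * A0 := by
    rw [hA0, hS1]
    calc h.t * a' * h.t⁻¹ * (h.t * h.s * h.t⁻¹) = h.t * (a' * h.s) * h.t⁻¹ := by group
      _ = h.t * (h.s * a') * h.t⁻¹ := by rw [h.P_comm ha' h.s_mem]
      _ = h.t * h.s * h.t⁻¹ * (h.t * a' * h.t⁻¹) := by group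
  have hDe : D = A0 * B0 := by rw [hA0, hB0, e]
  have c1 : D⁻¹ * S1 * D = B0⁻¹ * S1 * B0 := by
    rw [hDe]
    calc (A0 * B0)⁻¹ * S1 * (A0 * B0) = B0⁻¹ * (A0⁻¹ * (S1 * A0)) * B0 := by group
      _ = B0⁻¹ * (A0⁻¹ * (A0 * S1)) * B0 := by rw [hA0S1]
      _ = B0⁻¹ * S1 * B0 := by group
  have c2 : D⁻¹ * h.s⁻¹ * D = h.s⁻¹ := by
    have := h.P_comm hD (P.inv_mem h.s_mem)
    calc D⁻¹ * h.s⁻¹ * D = D⁻¹ * (D * h.s⁻¹) := by rw [this]; group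
      _ = h.s⁻¹ := by group
  have key : D⁻¹ * KSetup.m1 h.s h.t * D ∈ KSetup.M1 h.s h.t := by
    have c3 : D⁻¹ * KSetup.m1 h.s h.t * D = (D⁻¹ * S1 * D) * (D⁻¹ * h.s⁻¹ * D) := by
      rw [hS1]; unfold KSetup.m1; group
    have c4 : B0⁻¹ * S1 * B0 * h.s⁻¹
        = h.s ^ (-(k : ℤ)) * (b0⁻¹ * KSetup.m1 h.s h.t * (h.s * b0 * h.s⁻¹)) * h.s ^ (-(-(k : ℤ))) := by
      rw [hb0, hS1]; unfold KSetup.m1
      rw [neg_neg, zpow_neg, zpow_natCast]; group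
    rw [c3, c1, c2, c4]
    apply KSetup.zpow_conj_M1
    exact Subgroup.mul_mem _ (Subgroup.mul_mem _ (Subgroup.inv_mem _ hb0M) (KSetup.m1_mem_M1 _ _))
      (KSetup.s_conj_M1 _ _ hb0M)
  intro x hx
  unfold KSetup.M1 at hx
  induction hx using Subgroup.closure_induction with
  | mem z hz =>
    obtain ⟨i, rfl⟩ := hz
    have hsi : D * h.s ^ i = h.s ^ i * D := h.P_comm hD (P.zpow_mem h.s_mem i)
    have e5 : D⁻¹ * (h.s ^ i * KSetup.m1 h.s h.t * h.s ^ (-i)) * D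
        = h.s ^ i * (D⁻¹ * KSetup.m1 h.s h.t * D) * h.s ^ (-i) := by
      have hsi' : D⁻¹ * h.s ^ i = h.s ^ i * D⁻¹ := by
        calc D⁻¹ * h.s ^ i = D⁻¹ * (h.s ^ i * D) * D⁻¹ := by group
          _ = D⁻¹ * (D * h.s ^ i) * D⁻¹ := by rw [hsi]
          _ = h.s ^ i * D⁻¹ := by group
      have hsi'' : h.s ^ (-i) * D = D * h.s ^ (-i) := (h.P_comm hD (P.zpow_mem h.s_mem (-i))).symm
      calc D⁻¹ * (h.s ^ i * KSetup.m1 h.s h.t * h.s ^ (-i)) * D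
          = (D⁻¹ * h.s ^ i) * KSetup.m1 h.s h.t * (h.s ^ (-i) * D) := by group
        _ = (h.s ^ i * D⁻¹) * KSetup.m1 h.s h.t * (D * h.s ^ (-i)) := by rw [hsi', hsi'']
        _ = h.s ^ i * (D⁻¹ * KSetup.m1 h.s h.t * D) * h.s ^ (-i) := by group
    rw [e5]
    exact KSetup.zpow_conj_M1 _ _ i key
  | one => simp
  | mul a b _ _ ha hb =>
    have : D⁻¹ * (a * b) * D = (D⁻¹ * a * D) * (D⁻¹ * b * D) := by group
    rw [this]; exact Subgroup.mul_mem _ ha hb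
  | inv a _ ha =>
    have : D⁻¹ * a⁻¹ * D = (D⁻¹ * a * D)⁻¹ := by group
    rw [this]; exact Subgroup.inv_mem _ ha

/-- Lemma T: a `P`-triangle on the lines `(1, -1, 0)` has its first vertex in `F^1`. -/
theorem lemma_T (h : Hyp p q F P U Q f ψ y) [Finite G] {a b c : G} (ha : a ∈ P) (hb : b ∈ P)
    (hc : c ∈ P) (hb1 : b ≠ 1) (e : (h.t * a * h.t⁻¹) * (h.t⁻¹ * b * h.t) = c) :
    ∃ u ∈ U, f a = ψ u := by
  haveI : Fact p.Prime := ⟨h.hp⟩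
  haveI := h.charP
  have hfb : f b ≠ 0 := fun e0 => hb1 (h.eq_one_of_f_eq_zero hb e0)
  obtain ⟨κ, g, hκp, hκ0, hg, hfbκ⟩ := exists_decomp h.hp h.hF h.hUcard h.coprime_card_U hfb
  obtain ⟨v, hv, hψv⟩ := h.exists_ψ_eq hg
  obtain ⟨k, hk⟩ := exists_natCast_of_pow_eq_self (p := p) hκp
  have hkp : ¬ p ∣ k := by
    intro hdvd
    apply hκ0
    rw [← hk]
    exact (CharP.cast_eq_zero_iff F p k).mpr hdvd
  have hg0 : g ≠ 0 := by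
    intro e0
    rw [e0, zero_pow (Nat.card_pos.ne')] at hg
    exact zero_ne_one hg
  -- b' = v⁻¹ b v = s^k
  have hvi : v⁻¹ ∈ U := U.inv_mem hv
  have hb' : v⁻¹ * b * v⁻¹⁻¹ = h.s ^ k := by
    apply h.f_inj (h.conj_mem hvi hb) (P.pow_mem h.s_mem k)
    rw [(h.hψ _ hvi).2 b hb, h.ψ_inv hv, hψv, hfbκ, h.f_s_pow, hk]
    field_simp
  rw [inv_inv] at hb'
  -- w = t⁻¹ v⁻¹ t, u1 = t⁻¹ w t
  have hw : h.t⁻¹ * v⁻¹ * h.t ∈ U := by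
    have := h.conj_t_mem_U (-1) hvi
    simpa using this
  set w := h.t⁻¹ * v⁻¹ * h.t with hwdef
  have hu1 : h.t⁻¹ * w * h.t ∈ U := by
    have := h.conj_t_mem_U (-1) hw
    simpa using this
  set u1 := h.t⁻¹ * w * h.t with hu1def
  set a' := u1 * a * u1⁻¹ with ha'def
  have ha'P : a' ∈ P := h.conj_mem hu1 ha
  set D := w * c * w⁻¹ with hDdef
  have hDP : D ∈ P := h.conj_mem hw hc
  have e' : (h.t * a' * h.t⁻¹) * (h.t⁻¹ * h.s ^ k * h.t) = D := by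
    rw [hDdef, ← e, ← hb', ha'def, hu1def, hwdef]; group
  have hDn := h.trick ha'P hDP k e'
  have hDz := h.lemma_N hDP hDn
  obtain ⟨k3, hk3⟩ : ∃ k3 : ℕ, h.s ^ k3 = D := by
    have hfin : IsOfFinOrder h.s := isOfFinOrder_of_finite h.s
    have := hfin.mem_powers_iff_mem_zpowers.mpr hDz
    exact (Submonoid.mem_powers_iff _ _).mp this
  -- a' is a power of s
  set σ := h.s ^ k3 * (h.s ^ k)⁻¹ with hσ
  have hσP : σ ∈ P := P.mul_mem (P.pow_mem h.s_mem _) (P.inv_mem (P.pow_mem h.s_mem _))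
  have ha'σ : a' * σ⁻¹ ∈ KSetup.M1 h.s h.t := by
    set M := KSetup.M1 h.s h.t with hM
    obtain ⟨m3, hm3⟩ : ∃ m3, m3 = h.t⁻¹ * h.s ^ k3 * h.t * (h.s ^ k3)⁻¹ := ⟨_, rfl⟩
    have hm3M : m3 ∈ M := hm3 ▸ h.C1 k3
    obtain ⟨b0, hb0⟩ : ∃ b0, b0 = h.t⁻¹ * h.s ^ k * h.t * (h.s ^ k)⁻¹ := ⟨_, rfl⟩
    have hb0M : b0 ∈ M := hb0 ▸ h.C1 k
    obtain ⟨m4, hm4⟩ : ∃ m4, m4 = h.t⁻¹ * b0 * h.t := ⟨_, rfl⟩
    have hm4M : m4 ∈ M := hm4 ▸ h.ksetup.tinv_conj_M1 hb0M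
    -- a' = t⁻¹ (D B0⁻¹) t, B0 = b0 s^k
    have ea : a' = h.t⁻¹ * (D * (h.t⁻¹ * h.s ^ k * h.t)⁻¹) * h.t := by rw [← e']; group
    have e6 : a' * σ⁻¹ = m3 * (σ * (m4 * b0)⁻¹ * σ⁻¹) := by
      rw [ea, ← hk3, hm3, hm4, hb0, hσ]; exact e6_aux _ _ _
    rw [e6]
    refine M.mul_mem hm3M ?_
    have hσn : σ ∈ Subgroup.normalizer (M : Set G) :=
      Subgroup.mul_mem _ (Subgroup.pow_mem _ h.s_norm_M1 _)
        (Subgroup.inv_mem _ (Subgroup.pow_mem _ h.s_norm_M1 _))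
    exact (Subgroup.mem_set_normalizer_iff.mp hσn _).mp (M.inv_mem (M.mul_mem hm4M hb0M))
  have ha'eq : a' = σ := by
    have h1 : a' * σ⁻¹ ∈ P := P.mul_mem ha'P (P.inv_mem hσP)
    have h2 := h.eq_one_of_mem_P_Q h1 (h.ksetup.M1_le ha'σ)
    exact mul_inv_eq_one.mp h2
  set k1 := k3 + (p - 1) * k with hk1
  have hσk1 : σ = h.s ^ k1 := by
    rw [hk1, pow_add, pow_mul, h.s_pow_pred, inv_pow]
  have hR : (h.t * h.s ^ k1 * h.t⁻¹) * (h.t⁻¹ * h.s ^ k * h.t) = h.s ^ (k1 + k) := by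
    have e7 : h.s ^ (k1 + k) = D := by
      rw [pow_add, ← hσk1, hσ, ← hk3]; group
    rw [e7, ← hσk1, ← ha'eq, e']
  have hs1 := h.KT k1 k hkp hR
  rw [← hσk1, ← ha'eq] at hs1
  -- f a' = 1
  have hfa : ψ u1 * f a = 1 := by
    rw [← (h.hψ u1 hu1).2 a ha, ← ha'def, hs1, h.f_s]
  refine ⟨u1⁻¹, U.inv_mem hu1, ?_⟩
  rw [h.ψ_inv hu1]
  exact eq_inv_of_mul_eq_one_right hfa

end Hyp

end Cfsg.Agent.Lib.Helper9.AppC
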