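import Cfsg.Agent.Lib.Helper9.BG36Split3
import Cfsg.Agent.Lib.Helper1.MinimalNormal
import Cfsg.Agent.Lib.Helper54.Glauberman
import Cfsg.Agent.Lib.Helper63.PLen3

/-!
BG Theorem 3.6 (`S1444`), part I (helper9): a minimal counterexample has the split form.
-/

set_option autoImplicit false
set_option linter.unusedSectionVars false
set_option linter.unusedVariables false

open scoped commutatorElement
open Cfsg
open Pointwise

universe u

namespace Cfsg.Agent.Lib.Helper9

local notation "N(" T ")" => Subgroup.normalizer ((T : Subgroup _) : Set _)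
local notation "C(" T ")" => Subgroup.centralizer ((T : Subgroup _) : Set _)
local notation "Cx(" x ")" => Subgroup.centralizer ({x} : Set _)

/-- Frattini argument for complements of a normal Hall subgroup `V` of a normal subgroup `A`. -/
theorem frat_complement {G : Type*} [Group G] [Finite G] {V A A₁ : Subgroup G} (hVn : V.Normal)
    (hAn : A.Normal) (hVA : V ≤ A) (hA₁A : A₁ ≤ A) (hcard : Nat.card A₁ = V.relIndex A)
    (hcop : (Nat.card V).Coprime (V.relIndex A)) (hsolv : Group.IsSolvable V) (g : G) :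
    ∃ v ∈ V, v⁻¹ * g ∈ N(A₁) := by
  have hgA : MulAut.conj g • A₁ ≤ A := by
    have h1 : MulAut.conj g • A₁ ≤ MulAut.conj g • A :=
      Cfsg.Agent.Lib.Helper54.conj_smul_le_conj_smul hA₁A
    rwa [Cfsg.Agent.Lib.Helper54.mem_normalizer_iff_conj_smul.mp
      (mem_normalizer_of_normal' hAn g)] at h1
  have hcard' : Nat.card V * Nat.card A₁ = Nat.card A := by
    rw [hcard]; exact Cfsg.Agent.Lib.Helper54.card_mul_relIndex hVA
  obtain ⟨l, hl, hlg⟩ := Cfsg.Agent.Lib.Helper54.sz_conj_rel A V A₁ (MulAut.conj g • A₁) hVA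
    (le_normalizer_of_normal' hVn A) hA₁A hgA hcard' (Cfsg.Agent.Lib.Helper54.card_conj_smul _ _)
    (by rw [hcard]; exact hcop) (Or.inr hsolv)
  refine ⟨l, hl, ?_⟩
  rw [Cfsg.Agent.Lib.Helper54.mem_normalizer_iff_conj_smul, map_mul, mul_smul, ← hlg, map_inv,
    inv_smul_smul]

/-- Hypotheses of a minimal counterexample with `G = H R`. -/
structure Core (p r : ℕ) (G : Type u) [Group G] (H R : Subgroup G) (x : G) : Prop where
  odd : Odd (Nat.card G)
  normal : H.Normal
  sup : H ⊔ R = ⊤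
  cop : (Nat.card H).Coprime (Nat.card R)
  xR : x ∈ R
  ord : orderOf x = r
  hr : r.Prime
  Z : IsZGroup ↥(H ⊓ Subgroup.centralizer ({x} : Set G))
  ih : IHyp.{u} p r (Nat.card G)
  hnot : ¬ PLengthLE p 1 ↥⁅H, R⁆
  modB : ModuleB.{u}

variable {G : Type u} [Group G] [Finite G] [Group.IsSolvable G] {p r : ℕ} [hp : Fact p.Prime]
  {H R : Subgroup G} {x : G}

namespace Core

variable (K : Core.{u} p r G H R x)
include K

theorem disjHR : H ⊓ R = ⊥ := inf_eq_bot_of_coprime' K.cop

theorem copr : (Nat.card H).Coprime r := by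
  have h1 : orderOf x ∣ Nat.card R := Subgroup.orderOf_dvd_natCard R K.xR
  rw [K.ord] at h1
  exact Nat.Coprime.coprime_dvd_right h1 K.cop

theorem comm_eq : ⁅H, R⁆ = H := by
  by_contra hne
  apply K.hnot
  have hRH : R ≤ N(H) := le_normalizer_of_normal' K.normal R
  have hKH : ⁅H, R⁆ ≤ H := commutator_le_left_of_le_normalizer hRH
  have hRK : R ≤ N(⁅H, R⁆) := le_normalizer_commutator_right H R
  have hlt : ⁅H, R⁆ ⊔ R ≠ ⊤ := by
    intro htop
    apply hne
    apply le_antisymm hKH
    intro h hh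
    have hmem : h ∈ ⁅H, R⁆ ⊔ R := by rw [htop]; trivial
    obtain ⟨k, hk, ρ, hρ, e⟩ := exists_mul_of_mem_sup hRK hmem
    have hρ1 : ρ = 1 := by
      have hρH : ρ ∈ H := by
        have : ρ = k⁻¹ * h := by rw [← e]; group
        rw [this]; exact H.mul_mem (H.inv_mem (hKH hk)) hh
      have : ρ ∈ H ⊓ R := Subgroup.mem_inf.mpr ⟨hρH, hρ⟩
      rw [K.disjHR, Subgroup.mem_bot] at this; exact this
    rw [hρ1, mul_one] at e; rw [← e]; exact hk
  have h1 := K.ih G K.odd ⁅H, R⁆ R x hRK (coprime_card_of_le hKH K.cop) K.xR K.ord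
    (isZGroup_of_le (inf_le_inf_right _ hKH) K.Z) (card_lt_of_ne_top hlt)
  rw [commutator_commutator_eq_of_coprime H R hRH K.cop (Or.inr inferInstance)] at h1
  exact h1

/-- the quotient step -/
theorem quot (hcomm : ⁅H, R⁆ = H) (N : Subgroup G) (hN : N.Normal) (hN1 : N ≠ ⊥) (hNH : N ≤ H) :
    ∃ A B : Subgroup G, PL1 p N H A B ∧ A.Normal ∧ B.Normal := by
  have hr := K.hr
  have hrN : ¬ r ∣ Nat.card N := by
    intro h
    have h1 : r ∣ Nat.card H := h.trans (Subgroup.card_dvd_of_le hNH)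
    exact hr.one_lt.ne' (Nat.Coprime.eq_one_of_dvd K.copr.symm h1)
  have hHn : (H.map (QuotientGroup.mk' N)).Normal :=
    K.normal.map _ (QuotientGroup.mk'_surjective N)
  have hodd : Odd (Nat.card (G ⧸ N)) := K.odd.of_dvd_nat (Subgroup.card_quotient_dvd_card N)
  have hcop : (Nat.card (H.map (QuotientGroup.mk' N))).Coprime
      (Nat.card (R.map (QuotientGroup.mk' N))) := by
    have h1 : Nat.card (H.map (QuotientGroup.mk' N)) ∣ Nat.card H :=
      Subgroup.card_dvd_of_surjective _ (MonoidHom.subgroupMap_surjective (QuotientGroup.mk' N) H)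
    have h2 : Nat.card (R.map (QuotientGroup.mk' N)) ∣ Nat.card R :=
      Subgroup.card_dvd_of_surjective _ (MonoidHom.subgroupMap_surjective (QuotientGroup.mk' N) R)
    exact Nat.Coprime.coprime_dvd_left h1 (Nat.Coprime.coprime_dvd_right h2 K.cop)
  have hord : orderOf (QuotientGroup.mk' N x) = r := by
    have h1 : orderOf (QuotientGroup.mk' N x) ∣ r := by
      rw [← K.ord]; exact orderOf_map_dvd _ x
    rcases (Nat.dvd_prime hr).mp h1 with h | h
    · exfalso
      have h2 : QuotientGroup.mk' N x = 1 := orderOf_eq_one_iff.mp h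
      have h3 : x ∈ N := (QuotientGroup.eq_one_iff x).mp h2
      have h4 : x ∈ H ⊓ R := Subgroup.mem_inf.mpr ⟨hNH h3, K.xR⟩
      rw [K.disjHR, Subgroup.mem_bot] at h4
      have h5 := K.ord
      rw [h4, orderOf_one] at h5
      exact hr.one_lt.ne' h5.symm
    · exact h
  have hZ : IsZGroup ↥(H.map (QuotientGroup.mk' N) ⊓
      Subgroup.centralizer ({QuotientGroup.mk' N x} : Set (G ⧸ N))) := by
    have := K.Z
    let f : ↥(H ⊓ Cx(x)) →* ↥(H.map (QuotientGroup.mk' N) ⊓
        Subgroup.centralizer ({QuotientGroup.mk' N x} : Set (G ⧸ N))) :=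
      ((QuotientGroup.mk' N).comp (Subgroup.subtype _)).codRestrict _ (by
        intro y
        refine Subgroup.mem_inf.mpr ⟨Subgroup.mem_map_of_mem _ (Subgroup.mem_inf.mp y.2).1, ?_⟩
        rw [mem_centralizer_singleton_iff]
        have h1 := mem_centralizer_singleton_iff.mp (Subgroup.mem_inf.mp y.2).2
        show QuotientGroup.mk' N x * QuotientGroup.mk' N (y : G) =
          QuotientGroup.mk' N (y : G) * QuotientGroup.mk' N x
        rw [← map_mul, ← map_mul, h1])
    apply IsZGroup.of_surjective (f := f)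
    rintro ⟨y, hy⟩
    obtain ⟨hyH, hyC⟩ := Subgroup.mem_inf.mp hy
    obtain ⟨a, ha, rfl⟩ := hyH
    rw [mem_centralizer_singleton_iff] at hyC
    have haN : a⁻¹ * (x * a * x⁻¹) ∈ N := by
      rw [← QuotientGroup.eq_one_iff (N := N)]
      show QuotientGroup.mk' N (a⁻¹ * (x * a * x⁻¹)) = 1
      rw [map_mul, map_mul, map_mul, map_inv, map_inv, hyC]
      group
    obtain ⟨b, hb, hxb⟩ := exists_fixed_in_coset hr K.ord N (mem_normalizer_of_normal' hN x) hrN a haN
    have hbH : b ∈ H := by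
      have : b = a * (a⁻¹ * b) := by group
      rw [this]; exact H.mul_mem ha (hNH hb)
    refine ⟨⟨b, Subgroup.mem_inf.mpr ⟨hbH, mem_centralizer_singleton_iff.mpr hxb⟩⟩, ?_⟩
    apply Subtype.ext
    show QuotientGroup.mk' N b = QuotientGroup.mk' N a
    have : b = a * (a⁻¹ * b) := by group
    have h1 : QuotientGroup.mk' N (a⁻¹ * b) = 1 := (QuotientGroup.eq_one_iff (N := N) (a⁻¹ * b)).mpr hb
    rw [this, map_mul, h1, mul_one]
  have hlt : Nat.card ↥(H.map (QuotientGroup.mk' N) ⊔ R.map (QuotientGroup.mk' N)) < Nat.card G :=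
    lt_of_le_of_lt (Subgroup.card_le_card_group _) (Cfsg.Agent.Lib.Helper63.card_quotient_lt N hN1)
  have h1 := K.ih (G ⧸ N) hodd (H.map (QuotientGroup.mk' N)) (R.map (QuotientGroup.mk' N))
    (QuotientGroup.mk' N x) (le_normalizer_of_normal' hHn _) hcop (Subgroup.mem_map_of_mem _ K.xR)
    hord hZ hlt
  rw [← Subgroup.map_commutator, hcomm] at h1
  obtain ⟨A, B, hS, hnA, hnB⟩ := PL1_of_pLengthLE_map N H hNH h1
  exact ⟨A, B, hS, normal_of_forall_mem_normalizer (fun g => hnA (mem_normalizer_of_normal' K.normal g)),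
    normal_of_forall_mem_normalizer (fun g => hnB (mem_normalizer_of_normal' K.normal g))⟩

theorem no_p' (hcomm : ⁅H, R⁆ = H) (N : Subgroup G) (hN : N.Normal) (hNH : N ≤ H)
    (hcop : (Nat.card N).Coprime p) : N = ⊥ := by
  by_contra hN1
  obtain ⟨A, B, hS, -, -⟩ := K.quot hcomm N hN hN1 hNH
  apply K.hnot
  rw [hcomm]
  exact pLengthLE_of_PL1 (hS.of_coprime hcop)

end Core

end Cfsg.Agent.Lib.Helper9
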