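import Cfsg.Agent.Lib.Helper9.BG36Core

/-!
BG Theorem 3.6 (`S1444`), part I concluded (helper9): a minimal counterexample does not exist.
-/

set_option autoImplicit false
set_option linter.unusedSectionVars false
set_option linter.unusedVariables false

open scoped commutatorElement
open Cfsg
open Pointwise

universe u

namespace Cfsg.Agent.Lib.Helper9

local notation "N(" T ")" => Subgroup.normalizer ((T : Subgroup _) : Set _)
local notation "C(" T ")" => Subgroup.centralizer ((T : Subgroup _) : Set _)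
local notation "Cx(" x ")" => Subgroup.centralizer ({x} : Set _)

variable {G : Type u} [Group G] [Finite G] [Group.IsSolvable G] {p r : ℕ} [hp : Fact p.Prime]
  {H R : Subgroup G} {x : G}

namespace Core

variable (K : Core.{u} p r G H R x)
include K

theorem false : False := by
  have hcomm := K.comm_eq
  have hnotH : ¬ PLengthLE p 1 ↥H := by have := K.hnot; rwa [hcomm] at this
  have hbn : (⊥ : Subgroup G).Normal := inferInstance
  have hH1 : H ≠ ⊥ := by
    intro h
    apply hnotH
    apply pLengthLE_of_PL1 (A := ⊥) (B := ⊥)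
    rw [h]
    exact
    { le1 := le_rfl
      le2 := le_rfl
      le3 := le_rfl
      normA := le_normalizer_of_normal' hbn _
      normB := le_normalizer_of_normal' hbn _
      low := fun a ha => ⟨1, Nat.coprime_one_left p, by simpa using ha⟩
      mid := fun b hb => ⟨0, by simpa using hb⟩
      high := fun h hh => ⟨1, Nat.coprime_one_left p, by simpa using hh⟩ }
  obtain ⟨p', V, hp', hVn, hV1, hVH, hVp', hVc, hVexp, hVmin⟩ :=
    Cfsg.Agent.Lib.Helper1.exists_normal_pSubgroup_le_of_isSolvable H K.normal hH1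
  have hpp : p' = p := by
    by_contra hne
    have hcop : (Nat.card V).Coprime p := coprime_card_of_isPGroup_of_ne hp.out hp' hne hVp'
    exact hV1 (K.no_p' hcomm V hVn hVH hcop)
  subst hpp
  obtain ⟨A, B, hS, hAn, hBn⟩ := K.quot hcomm V hVn hV1 hVH
  have hVab : ∀ a ∈ V, ∀ b ∈ V, a * b = b * a := fun a ha b hb =>
    congrArg Subtype.val (hVc.is_comm.comm ⟨a, ha⟩ ⟨b, hb⟩)
  have hAV : A ≠ V := by
    intro hAV
    apply hnotH
    apply pLengthLE_of_PL1 (A := ⊥) (B := B)
    exact
    { le1 := le_rfl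
      le2 := bot_le
      le3 := hS.le3
      normA := le_normalizer_of_normal' hbn _
      normB := hS.normB
      low := fun a ha => ⟨1, Nat.coprime_one_left p', by simpa using ha⟩
      mid := by
        intro b hb
        obtain ⟨k, hk⟩ := hS.mid b hb
        rw [hAV] at hk
        exact ⟨k + 1, by rw [pow_succ, pow_mul, hVexp _ hk]; exact Subgroup.one_mem _⟩
      high := hS.high }
  have hVA : V ≤ A := hS.le1
  have hAH : A ≤ H := hS.le2.trans hS.le3
  have hm : (V.relIndex A).Coprime p' := by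
    have hn : (V.subgroupOf A).Normal := hVn.subgroupOf A
    rw [Subgroup.relIndex, Subgroup.index_eq_card]
    apply card_coprime_of_forall_pow
    intro a
    obtain ⟨a', rfl⟩ := QuotientGroup.mk_surjective a
    obtain ⟨n, hn, han⟩ := hS.low a' a'.2
    refine ⟨n, hn, ?_⟩
    rw [← QuotientGroup.mk_pow, QuotientGroup.eq_one_iff, Subgroup.mem_subgroupOf]
    simpa using han
  have hcopVm : (Nat.card V).Coprime (V.relIndex A) := by
    obtain ⟨n, hn⟩ := IsPGroup.iff_card.mp hVp'
    rw [hn]; exact Nat.Coprime.pow_left n hm.symm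
  have hVsolv : Group.IsSolvable V := inferInstance
  obtain ⟨B₀, hB₀A, hB₀card⟩ := Cfsg.Agent.Lib.Helper54.exists_complement_rel A V
    (le_normalizer_of_normal' hVn A) (by rw [inf_eq_left.mpr hVA]; exact hcopVm)
  have hcopRV : (Nat.card R).Coprime (Nat.card V) :=
    (coprime_card_of_le hVH K.cop).symm
  obtain ⟨l, hlV, hRl⟩ := Cfsg.Agent.Lib.Helper54.glauberman_fixed R V B₀
    (le_normalizer_of_normal' hVn R) hcopRV (Or.inr hVsolv)
    (fun a _ => frat_complement hVn hAn hVA hB₀A hB₀card hcopVm hVsolv a)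
  obtain ⟨A₁, hA₁⟩ : ∃ A₁ : Subgroup G, A₁ = MulAut.conj l • B₀ := ⟨_, rfl⟩
  rw [← hA₁] at hRl
  have hA₁A : A₁ ≤ A := by
    rw [hA₁]; exact Cfsg.Agent.Lib.Helper54.conj_smul_le_of_mem (hVA hlV) hB₀A
  have hA₁card : Nat.card A₁ = V.relIndex A := by
    rw [hA₁, Cfsg.Agent.Lib.Helper54.card_conj_smul, hB₀card]
  have hfrat : ∀ g : G, ∃ v ∈ V, v⁻¹ * g ∈ N(A₁) :=
    fun g => frat_complement hVn hAn hVA hA₁A hA₁card hcopVm hVsolv g
  -- `V ⊓ N(A₁)` is normal
  have hDn : (V ⊓ N(A₁)).Normal := by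
    apply normal_of_forall_mem_normalizer
    intro g
    obtain ⟨v, hv, hvg⟩ := hfrat g
    have : g = v * (v⁻¹ * g) := by group
    rw [this]
    apply Subgroup.mul_mem
    · exact le_normalizer_of_abelian hVab inf_le_left hv
    · exact mem_normalizer_inf (mem_normalizer_of_normal' hVn _) (Subgroup.le_normalizer hvg)
  have hdisj : V ⊓ N(A₁) = ⊥ := by
    rcases hVmin _ hDn inf_le_left with h | h
    · exact h
    · exfalso
      have hVG₁ : V ≤ N(A₁) := by rw [← h]; exact inf_le_right
      have hA₁n : A₁.Normal := by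
        apply normal_of_forall_mem_normalizer
        intro g
        obtain ⟨v, hv, hvg⟩ := hfrat g
        have : g = v * (v⁻¹ * g) := by group
        rw [this]
        exact Subgroup.mul_mem _ (hVG₁ hv) hvg
      have hA₁bot : A₁ = ⊥ :=
        K.no_p' hcomm A₁ hA₁n (hA₁A.trans hAH) (by rw [hA₁card]; exact hm)
      rw [hA₁bot, Subgroup.card_bot] at hA₁card
      exact hAV (le_antisymm (Subgroup.relIndex_eq_one.mp hA₁card.symm) hVA)
  -- the kernel of the action of `H₁` on `V`
  have hK₁n : (H ⊓ N(A₁) ⊓ C(V)).Normal := by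
    apply normal_of_forall_mem_normalizer
    intro g
    obtain ⟨v, hv, hvg⟩ := hfrat g
    have : g = v * (v⁻¹ * g) := by group
    rw [this]
    apply Subgroup.mul_mem
    · apply Subgroup.centralizer_le_normalizer
      rw [Subgroup.mem_centralizer_iff]
      intro k hk
      have hk' : k ∈ C(V) := (Subgroup.mem_inf.mp hk).2
      rw [Subgroup.mem_centralizer_iff] at hk'
      exact (hk' v hv).symm
    · exact mem_normalizer_inf
        (mem_normalizer_inf (mem_normalizer_of_normal' K.normal _) (Subgroup.le_normalizer hvg))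
        (mem_normalizer_centralizer (mem_normalizer_of_normal' hVn _))
  have hfaith : H ⊓ N(A₁) ⊓ C(V) = ⊥ := by
    by_contra hne
    obtain ⟨A₂, B₂, hS₂, -, -⟩ := K.quot hcomm _ hK₁n hne (inf_le_left.trans inf_le_left)
    have hd : V ⊓ (H ⊓ N(A₁) ⊓ C(V)) = ⊥ := by
      rw [eq_bot_iff, ← hdisj]
      exact inf_le_inf_left _ (inf_le_left.trans inf_le_right)
    exact hnotH (pLengthLE_of_PL1 (hS.inf hS₂ hd))
  have hRG₁ : R ≤ N(A₁) := hRl
  -- `⁅H₁, R⁆ = H₁`
  have hRH₁ : R ≤ N(H ⊓ N(A₁)) :=
    le_normalizer_inf' (le_normalizer_of_normal' K.normal R) (hRG₁.trans Subgroup.le_normalizer)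
  have hcomm₁ : ⁅H ⊓ N(A₁), R⁆ = H ⊓ N(A₁) := by
    apply le_antisymm (commutator_le_left_of_le_normalizer hRH₁)
    have hLV : ⁅H ⊓ N(A₁), R⁆ ≤ N(V) := le_normalizer_of_normal' hVn _
    have h1 : ⁅H, R⁆ ≤ V ⊔ ⁅H ⊓ N(A₁), R⁆ := by
      rw [Subgroup.commutator_le]
      intro h hh ρ hρ
      obtain ⟨v, hv, hvh⟩ := hfrat h
      have hh₁ : v⁻¹ * h ∈ H ⊓ N(A₁) :=
        Subgroup.mem_inf.mpr ⟨H.mul_mem (H.inv_mem (hVH hv)) hh, hvh⟩
      have e : h = v * (v⁻¹ * h) := by group
      rw [e, commutatorElement_mul_left']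
      have hvV : v ∈ V ⊔ ⁅H ⊓ N(A₁), R⁆ := Subgroup.mem_sup_left hv
      apply Subgroup.mul_mem
      · apply Subgroup.mul_mem
        · apply Subgroup.mul_mem _ hvV
          exact Subgroup.mem_sup_right (Subgroup.commutator_mem_commutator hh₁ hρ)
        · exact Subgroup.inv_mem _ hvV
      · apply Subgroup.mem_sup_left
        rw [commutatorElement_def]
        have : v * ρ * v⁻¹ * ρ⁻¹ = v * (ρ * v⁻¹ * ρ⁻¹) := by group
        rw [this]
        exact V.mul_mem hv (hVn.conj_mem _ (V.inv_mem hv) ρ)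
    intro h₁ hh₁
    have hmem : h₁ ∈ V ⊔ ⁅H ⊓ N(A₁), R⁆ := by
      apply h1
      rw [hcomm]
      exact (Subgroup.mem_inf.mp hh₁).1
    obtain ⟨v, hv, l', hl', e⟩ := exists_mul_of_mem_sup hLV hmem
    have hv1 : v = 1 := by
      have hvG : v ∈ N(A₁) := by
        have : v = h₁ * l'⁻¹ := by rw [← e]; group
        rw [this]
        exact Subgroup.mul_mem _ (Subgroup.mem_inf.mp hh₁).2
          (Subgroup.inv_mem _ (Subgroup.mem_inf.mp
            (commutator_le_left_of_le_normalizer hRH₁ hl')).2)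
      have : v ∈ V ⊓ N(A₁) := Subgroup.mem_inf.mpr ⟨hv, hvG⟩
      rw [hdisj, Subgroup.mem_bot] at this; exact this
    rw [hv1, one_mul] at e
    rw [← e]; exact hl'
  have S : Split.{u} p' r G H R V (N(A₁)) x :=
    { odd := K.odd
      normal := K.normal
      sup := K.sup
      cop := K.cop
      xR := K.xR
      ord := K.ord
      hr := K.hr
      Z := K.Z
      ih := K.ih
      hnot := hnotH
      Vnormal := hVn
      VH := hVH
      Vab := hVab
      Vexp := hVexp
      Vne := hV1
      Vmin := hVmin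
      disj := hdisj
      frat := hfrat
      RG := hRG₁
      faith := hfaith
      comm := hcomm₁
      modB := K.modB }
  exact S.false

end Core

end Cfsg.Agent.Lib.Helper9
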