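import Mathlib
import Cfsg.Agent.Lib.Helper9.BG36Tools2

/-!
Generic subgroup helpers, part 3 (helper9), for the proof of `S1444`.
-/

set_option autoImplicit false
set_option linter.unusedSectionVars false

open scoped commutatorElement
open Pointwise

namespace Cfsg.Agent.Lib.Helper9

variable {G : Type*} [Group G]

/-- elements of `A ⊔ B` when `B` normalizes `A` -/
theorem exists_mul_of_mem_sup {A B : Subgroup G} (h : B ≤ Subgroup.normalizer (A : Set G)) {g : G}
    (hg : g ∈ A ⊔ B) : ∃ a ∈ A, ∃ b ∈ B, a * b = g := by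
  have h1 : g ∈ ((A ⊔ B : Subgroup G) : Set G) := hg
  rw [Subgroup.coe_mul_of_right_le_normalizer_left A B h] at h1
  exact Set.mem_mul.mp h1

/-- a subgroup normalized by everything is normal -/
theorem normal_of_forall_mem_normalizer {T : Subgroup G}
    (h : ∀ g : G, g ∈ Subgroup.normalizer (T : Set G)) : T.Normal := by
  rw [← Subgroup.normalizer_eq_top_iff, eq_top_iff]
  intro g _
  exact h g

theorem le_normalizer_of_normal' {T : Subgroup G} (hT : T.Normal) (A : Subgroup G) :
    A ≤ Subgroup.normalizer (T : Set G) := by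
  have := hT
  exact le_top.trans (Subgroup.normalizer_eq_top_iff.mpr hT).ge

theorem mem_normalizer_of_normal' {T : Subgroup G} (hT : T.Normal) (g : G) :
    g ∈ Subgroup.normalizer (T : Set G) :=
  le_normalizer_of_normal' hT ⊤ (Subgroup.mem_top g)

theorem commutatorElement_mul_left' (a b c : G) :
    ⁅a * b, c⁆ = a * ⁅b, c⁆ * a⁻¹ * ⁅a, c⁆ := by
  simp only [commutatorElement_def]; group

/-- `IsZGroup` passes to smaller subgroups. -/
theorem isZGroup_of_le {A B : Subgroup G} (h : A ≤ B) (hB : IsZGroup ↥B) : IsZGroup ↥A := by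
  have := hB
  exact IsZGroup.of_injective (f := Subgroup.inclusion h) (Subgroup.inclusion_injective h)

theorem card_lt_of_ne_top [Finite G] {K : Subgroup G} (h : K ≠ ⊤) : Nat.card K < Nat.card G := by
  rcases lt_or_eq_of_le (Subgroup.card_le_card_group (H := K)) with h1 | h1
  · exact h1
  · exact absurd (Subgroup.eq_top_of_card_eq K h1) h

/-- A `p`-element `y` with `y ^ n ∈ B`, `n` prime to `p`, lies in `B`. -/
theorem mem_of_pow_mem_of_coprime {p : ℕ} {B : Subgroup G} {y : G} {n k : ℕ}
    (hy : y ^ p ^ k = 1) (hn : n.Coprime p) (h : y ^ n ∈ B) : y ∈ B := by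
  have h1 : orderOf y ∣ p ^ k := orderOf_dvd_of_pow_eq_one hy
  have h2 : n.Coprime (orderOf y) := Nat.Coprime.coprime_dvd_right h1 (Nat.Coprime.pow_right k hn)
  obtain ⟨m, hm⟩ := exists_pow_eq_self_of_coprime h2
  rw [← hm]
  exact B.pow_mem h m

/-- A `p`-subgroup of `M` lies in `B` if `M / B` is a `p'`-group. -/
theorem le_of_isPGroup_of_forall_pow {p : ℕ} {P B : Subgroup G} (hP : IsPGroup p P)
    (h : ∀ y ∈ P, ∃ n : ℕ, n.Coprime p ∧ y ^ n ∈ B) : P ≤ B := by
  intro y hy
  obtain ⟨k, hk⟩ := hP ⟨y, hy⟩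
  have hk' : y ^ p ^ k = 1 := by
    simpa only [Subgroup.coe_pow, Subgroup.coe_one] using congrArg Subtype.val hk
  obtain ⟨n, hn, hyn⟩ := h y hy
  exact mem_of_pow_mem_of_coprime hk' hn hyn

/-- `p`-group and `p'`-group intersect trivially -/
theorem inf_eq_bot_of_isPGroup_of_coprime [Finite G] {p : ℕ} [hp : Fact p.Prime] {P Q : Subgroup G}
    (hP : IsPGroup p P) (hQ : (Nat.card Q).Coprime p) : P ⊓ Q = ⊥ := by
  apply inf_eq_bot_of_coprime'
  obtain ⟨n, hn⟩ := IsPGroup.iff_card.mp hP
  rw [hn]
  exact (Nat.Coprime.pow_right n hQ).symm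

theorem isPGroup_of_le {p : ℕ} {A B : Subgroup G} (h : A ≤ B) (hB : IsPGroup p B) : IsPGroup p A :=
  hB.to_le h

theorem coprime_card_of_le [Finite G] {n : ℕ} {A B : Subgroup G} (h : A ≤ B)
    (hB : (Nat.card B).Coprime n) : (Nat.card A).Coprime n :=
  Nat.Coprime.coprime_dvd_left (Subgroup.card_dvd_of_le h) hB

/-- the conjugation-invariance of the centralizer of a set normalized elementwise -/
theorem mem_centralizer_singleton_iff {x g : G} :
    g ∈ Subgroup.centralizer ({x} : Set G) ↔ x * g = g * x := by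
  rw [Subgroup.mem_centralizer_iff]
  constructor
  · intro h; exact h x rfl
  · intro h y hy
    rw [Set.mem_singleton_iff] at hy
    rw [hy]; exact h

/-- `x` normalizes `C(x)` -/
theorem mem_normalizer_centralizer_singleton (x : G) :
    x ∈ Subgroup.normalizer ((Subgroup.centralizer ({x} : Set G) : Subgroup G) : Set G) := by
  apply Subgroup.le_normalizer
  rw [mem_centralizer_singleton_iff]

theorem mem_normalizer_inf {x : G} {A B : Subgroup G} (hA : x ∈ Subgroup.normalizer (A : Set G))
    (hB : x ∈ Subgroup.normalizer (B : Set G)) :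
    x ∈ Subgroup.normalizer ((A ⊓ B : Subgroup G) : Set G) :=
  normalizer_inf_le A B (Subgroup.mem_inf.mpr ⟨hA, hB⟩)

theorem le_normalizer_inf' {K A B : Subgroup G} (hA : K ≤ Subgroup.normalizer (A : Set G))
    (hB : K ≤ Subgroup.normalizer (B : Set G)) :
    K ≤ Subgroup.normalizer ((A ⊓ B : Subgroup G) : Set G) :=
  fun _ hk => mem_normalizer_inf (hA hk) (hB hk)

theorem mem_normalizer_sup {x : G} {A B : Subgroup G} (hA : x ∈ Subgroup.normalizer (A : Set G))
    (hB : x ∈ Subgroup.normalizer (B : Set G)) :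
    x ∈ Subgroup.normalizer ((A ⊔ B : Subgroup G) : Set G) :=
  Subgroup.normalizer_inf_normalizer_le_normalizer_sup A B (Subgroup.mem_inf.mpr ⟨hA, hB⟩)

theorem le_normalizer_sup' {K A B : Subgroup G} (hA : K ≤ Subgroup.normalizer (A : Set G))
    (hB : K ≤ Subgroup.normalizer (B : Set G)) :
    K ≤ Subgroup.normalizer ((A ⊔ B : Subgroup G) : Set G) :=
  fun _ hk => mem_normalizer_sup (hA hk) (hB hk)

theorem mem_normalizer_centralizer {x : G} {A : Subgroup G}
    (hA : x ∈ Subgroup.normalizer (A : Set G)) :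
    x ∈ Subgroup.normalizer ((Subgroup.centralizer (A : Set G) : Subgroup G) : Set G) :=
  normalizer_le_normalizer_centralizer A hA

theorem le_normalizer_centralizer' {K A : Subgroup G} (hA : K ≤ Subgroup.normalizer (A : Set G)) :
    K ≤ Subgroup.normalizer ((Subgroup.centralizer (A : Set G) : Subgroup G) : Set G) :=
  fun _ hk => mem_normalizer_centralizer (hA hk)

theorem mem_normalizer_commutator {x : G} {A B : Subgroup G}
    (hA : x ∈ Subgroup.normalizer (A : Set G)) (hB : x ∈ Subgroup.normalizer (B : Set G)) :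
    x ∈ Subgroup.normalizer ((⁅A, B⁆ : Subgroup G) : Set G) :=
  normalizer_inf_le_normalizer_commutator A B (Subgroup.mem_inf.mpr ⟨hA, hB⟩)

/-- an abelian subgroup centralizes (so normalizes) each of its subgroups -/
theorem le_normalizer_of_abelian {V W : Subgroup G} (hV : ∀ a ∈ V, ∀ b ∈ V, a * b = b * a)
    (hW : W ≤ V) : V ≤ Subgroup.normalizer (W : Set G) := by
  apply mem_normalizer_of_conj_mem
  intro v hv w hw
  have : v * w * v⁻¹ = w := by
    rw [hV v hv w (hW hw)]; group
  rw [this]; exact hw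

theorem le_centralizer_comm {A B : Subgroup G} (h : A ≤ Subgroup.centralizer (B : Set G)) :
    B ≤ Subgroup.centralizer (A : Set G) :=
  Subgroup.le_centralizer_iff.mp h

end Cfsg.Agent.Lib.Helper9
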