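import Mathlib
import Cfsg.Agent.Lib.Helper63.PLen
import Cfsg.Agent.Lib.Helper63.PLen2
import Cfsg.Agent.Lib.Helper24.ConjOn

/-!
Structural ("internal") form of `p`-length at most one for a subgroup `H` of a group `G`
modulo a normal subgroup `N` (helper9), in an elementwise formulation.
-/

set_option autoImplicit false
set_option linter.unusedSectionVars false

namespace Cfsg.Agent.Lib.Helper9

open Cfsg Cfsg.Agent.Lib.Helper63

variable {G : Type*} [Group G]

/-- `PL1 p N H A B`: `N ≤ A ≤ B ≤ H`, `A`, `B` normalized by `H`, `A/N` a `p'`-group, `B/A` a `p`-group,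
`H/B` a `p'`-group (elementwise formulation). -/
structure PL1 (p : ℕ) (N H A B : Subgroup G) : Prop where
  le1 : N ≤ A
  le2 : A ≤ B
  le3 : B ≤ H
  normA : H ≤ Subgroup.normalizer (A : Set G)
  normB : H ≤ Subgroup.normalizer (B : Set G)
  low : ∀ a ∈ A, ∃ n : ℕ, n.Coprime p ∧ a ^ n ∈ N
  mid : ∀ b ∈ B, ∃ k : ℕ, b ^ p ^ k ∈ A
  high : ∀ h ∈ H, ∃ n : ℕ, n.Coprime p ∧ h ^ n ∈ B

/-- A characteristic subgroup of `M`, viewed in `G`, is normalized by `N_G(M)`. -/
theorem normalizer_le_normalizer_map_of_characteristic (M : Subgroup G) (C : Subgroup ↥M)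
    [hC : C.Characteristic] :
    Subgroup.normalizer (M : Set G) ≤
      Subgroup.normalizer ((C.map M.subtype : Subgroup G) : Set G) := by
  have key : ∀ g ∈ Subgroup.normalizer (M : Set G), ∀ y ∈ C.map M.subtype,
      g * y * g⁻¹ ∈ C.map M.subtype := by
    intro g hg y hy
    obtain ⟨c, hc, rfl⟩ := hy
    let φ : ↥M ≃* ↥M :=
      Cfsg.Agent.Lib.Helper24.conjOn (Subgroup.normalizer (M : Set G)) M le_rfl ⟨g, hg⟩
    have h1 : C.map φ.toMonoidHom = C := Subgroup.characteristic_iff_map_eq.1 hC φ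
    have h2 : φ c ∈ C := by
      rw [← h1]
      exact Subgroup.mem_map_of_mem _ hc
    exact ⟨φ c, h2, rfl⟩
  intro g hg
  rw [Subgroup.mem_normalizer_iff]
  intro y
  constructor
  · exact key g hg y
  · intro hy
    have := key g⁻¹ (Subgroup.inv_mem _ hg) _ hy
    have e : g⁻¹ * (g * y * g⁻¹) * g⁻¹⁻¹ = y := by group
    rwa [e] at this

theorem pow_relIndex_mem [Finite G] {K L : Subgroup G} (hKL : K ≤ L)
    (hL : L ≤ Subgroup.normalizer (K : Set G)) {l : G} (hl : l ∈ L) : l ^ K.relIndex L ∈ K := by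
  have hn : (K.subgroupOf L).Normal := Subgroup.normal_subgroupOf_of_le_normalizer hL
  have h := Subgroup.pow_index_mem (K.subgroupOf L) (⟨l, hl⟩ : ↥L)
  rw [Subgroup.mem_subgroupOf] at h
  simpa only [Subgroup.relIndex, Subgroup.coe_pow] using h

variable [Finite G] {p : ℕ} [hp : Fact p.Prime]

/-- The structural description of `p`-length at most one. -/
theorem PL1_of_pLengthLE (M : Subgroup G) (h : PLengthLE p 1 ↥M) :
    ∃ A B : Subgroup G, PL1 p ⊥ M A B ∧
      Subgroup.normalizer (M : Set G) ≤ Subgroup.normalizer (A : Set G) ∧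
      Subgroup.normalizer (M : Set G) ≤ Subgroup.normalizer (B : Set G) := by
  have hS := isPSeries_ups (G := ↥M) (p := p)
  have htop : (upperPSeries p ↥M 3).1 = ⊤ := h
  have c1 := ups_characteristic (G := ↥M) p 1
  have c2 := ups_characteristic (G := ↥M) p 2
  set A' := (upperPSeries p ↥M 1).1 with hA'
  set B' := (upperPSeries p ↥M 2).1 with hB'
  have hnA := normalizer_le_normalizer_map_of_characteristic M A'
  have hnB := normalizer_le_normalizer_map_of_characteristic M B'
  have hAB' : A' ≤ B' := ups_mono p (by omega)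
  have hnormA' : A'.Normal := inferInstance
  have hnormB' : B'.Normal := inferInstance
  refine ⟨A'.map M.subtype, B'.map M.subtype, ⟨bot_le, Subgroup.map_mono hAB',
    Subgroup.map_subtype_le _, Subgroup.le_normalizer.trans hnA, Subgroup.le_normalizer.trans hnB,
    ?_, ?_, ?_⟩, hnA, hnB⟩
  · -- `A'` has order prime to `p`
    rintro _ ⟨a, ha, rfl⟩
    have h0 := hS.even 0 ⟨0, rfl⟩
    have hz : (upperPSeries p ↥M 0).1 = ⊥ := ups_zero p
    simp only [zero_add] at h0
    rw [hz, Subgroup.relIndex_bot_left] at h0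
    refine ⟨Nat.card A', h0, ?_⟩
    have h1 : (⟨a, ha⟩ : ↥A') ^ Nat.card A' = 1 := pow_card_eq_one'
    have h2 : a ^ Nat.card A' = 1 := by
      have := congrArg Subtype.val h1
      simpa only [Subgroup.coe_pow, Subgroup.coe_one] using this
    rw [Subgroup.mem_bot, ← map_pow, h2, map_one]
  · rintro _ ⟨b, hb, rfl⟩
    obtain ⟨m, hm⟩ := hS.odd 1 (by decide)
    refine ⟨m, ?_⟩
    have h1 : b ^ A'.relIndex B' ∈ A' :=
      pow_relIndex_mem hAB' (le_top.trans_eq (Subgroup.normalizer_eq_top (H := A')).symm) hb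
    have hm' : A'.relIndex B' = p ^ m := hm
    rw [hm'] at h1
    rw [← map_pow]
    exact Subgroup.mem_map_of_mem _ h1
  · intro x hx
    have h2 := hS.even 2 ⟨1, rfl⟩
    have h2' : (B'.relIndex (upperPSeries p ↥M 3).1).Coprime p := h2
    rw [htop] at h2'
    refine ⟨B'.relIndex ⊤, h2', ?_⟩
    have h1 : (⟨x, hx⟩ : ↥M) ^ B'.relIndex ⊤ ∈ B' :=
      pow_relIndex_mem le_top (le_top.trans_eq (Subgroup.normalizer_eq_top (H := B')).symm)
        (Subgroup.mem_top _)
    exact ⟨_, h1, by simp⟩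

/-- a subgroup all of whose elements have a `p'`-power equal to one has order prime to `p` -/
theorem card_coprime_of_forall_pow {X : Type*} [Group X] [Finite X]
    (h : ∀ a : X, ∃ n : ℕ, n.Coprime p ∧ a ^ n = 1) : (Nat.card X).Coprime p := by
  rw [Nat.coprime_comm, Nat.Prime.coprime_iff_not_dvd hp.out]
  intro hdvd
  obtain ⟨a, ha⟩ := exists_prime_orderOf_dvd_card' (G := X) p hdvd
  obtain ⟨n, hn, han⟩ := h a
  have h1 : p ∣ n := by
    rw [← ha]; exact orderOf_dvd_of_pow_eq_one han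
  have h2 : p ∣ Nat.gcd n p := Nat.dvd_gcd h1 dvd_rfl
  rw [hn] at h2
  exact hp.out.one_lt.ne' (Nat.dvd_one.mp h2)

/-- Conversely, the structural description implies `p`-length at most one. -/
theorem pLengthLE_of_PL1 {M A B : Subgroup G} (h : PL1 p ⊥ M A B) : PLengthLE p 1 ↥M := by
  -- first `B`
  have hAB : A ≤ B := h.le2
  have hBM : B ≤ M := h.le3
  have hB1 : PLengthLE p 1 ↥B := by
    have hnA : (A.subgroupOf B).Normal :=
      Subgroup.normal_subgroupOf_of_le_normalizer (hBM.trans h.normA)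
    have h0 : PLengthLE p 0 ↥(A.subgroupOf B) := by
      apply PLengthLE.zero_of_coprime
      apply card_coprime_of_forall_pow
      intro a
      obtain ⟨n, hn, han⟩ := h.low (a : ↥B) (Subgroup.mem_subgroupOf.mp a.2)
      refine ⟨n, hn, ?_⟩
      rw [Subgroup.mem_bot] at han
      apply Subtype.ext
      apply Subtype.ext
      simpa using han
    have h1 : PLengthLE p 1 (↥B ⧸ A.subgroupOf B) := by
      apply PLengthLE.one_of_isPGroup
      intro x
      obtain ⟨b, rfl⟩ := QuotientGroup.mk_surjective x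
      obtain ⟨k, hk⟩ := h.mid (b : G) b.2
      refine ⟨k, ?_⟩
      rw [← QuotientGroup.mk_pow, QuotientGroup.eq_one_iff, Subgroup.mem_subgroupOf]
      simpa using hk
    have := PLengthLE.extension (A.subgroupOf B) h0 h1
    simpa using this
  have hnB : (B.subgroupOf M).Normal := Subgroup.normal_subgroupOf_of_le_normalizer h.normB
  have h1 : PLengthLE p 1 ↥(B.subgroupOf M) :=
    PLengthLE.of_equiv hB1 (Subgroup.subgroupOfEquivOfLe hBM).symm
  have h0 : PLengthLE p 0 (↥M ⧸ B.subgroupOf M) := by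
    apply PLengthLE.zero_of_coprime
    apply card_coprime_of_forall_pow
    intro x
    obtain ⟨m, rfl⟩ := QuotientGroup.mk_surjective x
    obtain ⟨n, hn, hmn⟩ := h.high (m : G) m.2
    refine ⟨n, hn, ?_⟩
    rw [← QuotientGroup.mk_pow, QuotientGroup.eq_one_iff, Subgroup.mem_subgroupOf]
    simpa using hmn
  have := PLengthLE.extension (B.subgroupOf M) h1 h0
  simpa using this

/-- Quotient version: if `H/N` has `p`-length at most one, the structure can be pulled back. -/
theorem PL1_of_pLengthLE_map (N H : Subgroup G) [hN : N.Normal] (hNH : N ≤ H)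
    (h : PLengthLE p 1 ↥(H.map (QuotientGroup.mk' N))) :
    ∃ A B : Subgroup G, PL1 p N H A B ∧
      Subgroup.normalizer (H : Set G) ≤ Subgroup.normalizer (A : Set G) ∧
      Subgroup.normalizer (H : Set G) ≤ Subgroup.normalizer (B : Set G) := by
  obtain ⟨A', B', hS, hnA, hnB⟩ := PL1_of_pLengthLE (H.map (QuotientGroup.mk' N)) h
  have hcomap : (H.map (QuotientGroup.mk' N)).comap (QuotientGroup.mk' N) = H := by
    rw [Subgroup.comap_map_eq, QuotientGroup.ker_mk', sup_eq_left.mpr hNH]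
  have hnorm : ∀ C' : Subgroup (G ⧸ N),
      Subgroup.normalizer ((H.map (QuotientGroup.mk' N) : Subgroup (G ⧸ N)) : Set (G ⧸ N)) ≤
        Subgroup.normalizer (C' : Set (G ⧸ N)) →
      Subgroup.normalizer (H : Set G) ≤
        Subgroup.normalizer ((C'.comap (QuotientGroup.mk' N) : Subgroup G) : Set G) := by
    intro C' hC'
    refine le_trans ?_ (Subgroup.le_normalizer_comap (QuotientGroup.mk' N))
    intro g hg
    rw [Subgroup.mem_comap]
    exact hC' (Subgroup.le_normalizer_map (QuotientGroup.mk' N) (Subgroup.mem_map_of_mem _ hg))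
  refine ⟨A'.comap (QuotientGroup.mk' N), B'.comap (QuotientGroup.mk' N), ⟨?_, ?_, ?_, ?_, ?_, ?_, ?_, ?_⟩,
    hnorm A' hnA, hnorm B' hnB⟩
  · intro n hn
    rw [Subgroup.mem_comap]
    have : QuotientGroup.mk' N n = 1 := by
      rw [QuotientGroup.mk'_apply, QuotientGroup.eq_one_iff]; exact hn
    rw [this]; exact Subgroup.one_mem _
  · exact Subgroup.comap_mono hS.le2
  · rw [← hcomap]; exact Subgroup.comap_mono hS.le3
  · exact Subgroup.le_normalizer.trans (hnorm A' hnA)
  · exact Subgroup.le_normalizer.trans (hnorm B' hnB)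
  · intro a ha
    obtain ⟨n, hn, han⟩ := hS.low _ (Subgroup.mem_comap.mp ha)
    refine ⟨n, hn, ?_⟩
    rw [Subgroup.mem_bot, ← map_pow, QuotientGroup.mk'_apply, QuotientGroup.eq_one_iff] at han
    exact han
  · intro b hb
    obtain ⟨k, hk⟩ := hS.mid _ (Subgroup.mem_comap.mp hb)
    refine ⟨k, ?_⟩
    rw [Subgroup.mem_comap, map_pow]
    exact hk
  · intro x hx
    obtain ⟨n, hn, hxn⟩ := hS.high _ (Subgroup.mem_map_of_mem _ hx)
    refine ⟨n, hn, ?_⟩
    rw [Subgroup.mem_comap, map_pow]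
    exact hxn

/-- lowering the bottom: if `N` itself is a `p'`-group the structure descends to `⊥`. -/
theorem PL1.of_coprime {N H A B : Subgroup G} (h : PL1 p N H A B)
    (hN : (Nat.card N).Coprime p) : PL1 p ⊥ H A B where
  le1 := bot_le
  le2 := h.le2
  le3 := h.le3
  normA := h.normA
  normB := h.normB
  low := by
    intro a ha
    obtain ⟨n, hn, han⟩ := h.low a ha
    refine ⟨n * Nat.card N, Nat.Coprime.mul_left hn hN, ?_⟩
    have h1 : (⟨a ^ n, han⟩ : ↥N) ^ Nat.card N = 1 := pow_card_eq_one'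
    have h2 : (a ^ n) ^ Nat.card N = 1 := by
      have := congrArg Subtype.val h1
      simpa only [Subgroup.coe_pow, Subgroup.coe_one] using this
    rw [Subgroup.mem_bot, pow_mul, h2]
  mid := h.mid
  high := h.high

/-- The subdirect product lemma. -/
theorem PL1.inf {N₁ N₂ H A₁ B₁ A₂ B₂ : Subgroup G} (h1 : PL1 p N₁ H A₁ B₁) (h2 : PL1 p N₂ H A₂ B₂)
    (hN : N₁ ⊓ N₂ = ⊥) : PL1 p ⊥ H (A₁ ⊓ A₂) (B₁ ⊓ B₂) where
  le1 := bot_le
  le2 := inf_le_inf h1.le2 h2.le2
  le3 := inf_le_left.trans h1.le3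
  normA := by
    intro g hg
    have ha := h1.normA hg
    have hb := h2.normA hg
    rw [Subgroup.mem_normalizer_iff] at ha hb ⊢
    intro y
    rw [Subgroup.mem_inf, Subgroup.mem_inf, ← ha y, ← hb y]
  normB := by
    intro g hg
    have ha := h1.normB hg
    have hb := h2.normB hg
    rw [Subgroup.mem_normalizer_iff] at ha hb ⊢
    intro y
    rw [Subgroup.mem_inf, Subgroup.mem_inf, ← ha y, ← hb y]
  low := by
    intro a ha
    obtain ⟨n₁, hn₁, ha₁⟩ := h1.low a ha.1
    obtain ⟨n₂, hn₂, ha₂⟩ := h2.low a ha.2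
    refine ⟨n₁ * n₂, Nat.Coprime.mul_left hn₁ hn₂, ?_⟩
    rw [← hN]
    refine ⟨?_, ?_⟩
    · rw [pow_mul]; exact Subgroup.pow_mem _ ha₁ _
    · rw [mul_comm, pow_mul]; exact Subgroup.pow_mem _ ha₂ _
  mid := by
    intro b hb
    obtain ⟨k₁, hk₁⟩ := h1.mid b hb.1
    obtain ⟨k₂, hk₂⟩ := h2.mid b hb.2
    refine ⟨k₁ + k₂, ?_, ?_⟩
    · rw [pow_add, pow_mul]; exact Subgroup.pow_mem _ hk₁ _
    · rw [pow_add, mul_comm, pow_mul]; exact Subgroup.pow_mem _ hk₂ _
  high := by
    intro x hx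
    obtain ⟨n₁, hn₁, hx₁⟩ := h1.high x hx
    obtain ⟨n₂, hn₂, hx₂⟩ := h2.high x hx
    refine ⟨n₁ * n₂, Nat.Coprime.mul_left hn₁ hn₂, ?_, ?_⟩
    · rw [pow_mul]; exact Subgroup.pow_mem _ hx₁ _
    · rw [mul_comm, pow_mul]; exact Subgroup.pow_mem _ hx₂ _

end Cfsg.Agent.Lib.Helper9
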