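import Mathlib
import Cfsg.Prelude.Def_Local
import Cfsg.Agent.Lib.Helper9.PLOne
import Cfsg.Agent.Lib.Helper9.BG36Tools3
import Cfsg.Agent.Lib.Helper9.FrobFix
import Cfsg.Agent.Lib.Helper47.BGSmall
import Cfsg.Agent.Lib.Helper2.ShultSub
import Cfsg.Agent.Lib.Helper1.PCore
import Cfsg.Agent.Lib.Helper54.Coprime

/-!
BG Theorem 3.6 (`S1444`), part II (helper9): the split minimal configuration `G = V ⋊ G₁` is
impossible.
-/

set_option autoImplicit false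
set_option linter.unusedSectionVars false
set_option linter.unusedVariables false

open scoped commutatorElement
open Cfsg

universe u

namespace Cfsg.Agent.Lib.Helper9

local notation "N(" T ")" => Subgroup.normalizer ((T : Subgroup _) : Set _)
local notation "C(" T ")" => Subgroup.centralizer ((T : Subgroup _) : Set _)

/-- The statement of MODULE B (the final abelian configuration is impossible), threaded through the
reduction as a hypothesis. -/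
def ModuleB : Prop :=
  ∀ (G : Type u) [Group G] [Finite G], Odd (Nat.card G) → ∀ {p q r : ℕ}, p.Prime → q.Prime →
    r.Prime → p ≠ q → p ≠ r → q ≠ r → ∀ (V W P : Subgroup G) (x : G), orderOf x = r →
    (∀ a ∈ V, ∀ b ∈ V, a * b = b * a) → IsPGroup p V →
    (∀ a ∈ W, ∀ b ∈ W, a * b = b * a) → IsPGroup q W → IsPGroup p P →
    W ≤ Subgroup.normalizer (V : Set G) → P ≤ Subgroup.normalizer (V : Set G) →
    x ∈ Subgroup.normalizer (V : Set G) →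
    P ≤ Subgroup.normalizer (W : Set G) → x ∈ Subgroup.normalizer (W : Set G) →
    x ∈ Subgroup.normalizer (P : Set G) →
    (∀ g ∈ W, (∀ v ∈ V, g * v = v * g) → g = 1) →
    ¬ P ≤ Subgroup.centralizer (W : Set G) →
    Nat.card ↥(V ⊓ Subgroup.centralizer ({x} : Set G)) = p →
    IsCyclic ↥(W ⊓ Subgroup.centralizer ({x} : Set G)) →
    P ⊓ Subgroup.centralizer ({x} : Set G) = ⊥ →
    (∀ P' : Subgroup G, P' ≤ P → x ∈ Subgroup.normalizer (P' : Set G) → P' = ⊥ ∨ P' = P) →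
    (∀ W' : Subgroup G, W' ≤ W → P ≤ Subgroup.normalizer (W' : Set G) →
      x ∈ Subgroup.normalizer (W' : Set G) → W' = ⊥ ∨ W' = W) →
    V ⊓ Subgroup.centralizer (W : Set G) = ⊥ → False

/-- The induction hypothesis for `S1444`. -/
def IHyp (p r n : ℕ) : Prop :=
  ∀ (G' : Type u) [Group G'] [Finite G'] [Group.IsSolvable G'], Odd (Nat.card G') →
    ∀ (H' R' : Subgroup G') (x' : G'), R' ≤ Subgroup.normalizer (H' : Set G') →
      (Nat.card H').Coprime (Nat.card R') → x' ∈ R' → orderOf x' = r →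
      IsZGroup ↥(H' ⊓ Subgroup.centralizer ({x'} : Set G')) →
      Nat.card ↥(H' ⊔ R') < n → PLengthLE p 1 ↥⁅H', R'⁆

/-- The split minimal configuration. -/
structure Split (p r : ℕ) (G : Type u) [Group G] (H R V G₁ : Subgroup G) (x : G) : Prop where
  odd : Odd (Nat.card G)
  normal : H.Normal
  sup : H ⊔ R = ⊤
  cop : (Nat.card H).Coprime (Nat.card R)
  xR : x ∈ R
  ord : orderOf x = r
  hr : r.Prime
  Z : IsZGroup ↥(H ⊓ Subgroup.centralizer ({x} : Set G))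
  ih : IHyp.{u} p r (Nat.card G)
  hnot : ¬ PLengthLE p 1 ↥H
  Vnormal : V.Normal
  VH : V ≤ H
  Vab : ∀ a ∈ V, ∀ b ∈ V, a * b = b * a
  Vexp : ∀ a ∈ V, a ^ p = 1
  Vne : V ≠ ⊥
  Vmin : ∀ M : Subgroup G, M.Normal → M ≤ V → M = ⊥ ∨ M = V
  disj : V ⊓ G₁ = ⊥
  frat : ∀ g : G, ∃ v ∈ V, v⁻¹ * g ∈ G₁
  RG : R ≤ G₁
  faith : H ⊓ G₁ ⊓ Subgroup.centralizer (V : Set G) = ⊥
  comm : ⁅H ⊓ G₁, R⁆ = H ⊓ G₁
  modB : ModuleB.{u}

variable {G : Type u} [Group G] [Finite G] [Group.IsSolvable G] {p r : ℕ} [hp : Fact p.Prime]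
  {H R V G₁ : Subgroup G} {x : G}

namespace Split

variable (S : Split.{u} p r G H R V G₁ x)
include S

theorem VnormBy (A : Subgroup G) : A ≤ N(V) := le_normalizer_of_normal' S.Vnormal A

theorem HnormBy (A : Subgroup G) : A ≤ N(H) := le_normalizer_of_normal' S.normal A

theorem Vp : IsPGroup p V := by
  intro v
  refine ⟨1, Subtype.ext ?_⟩
  simpa using S.Vexp v v.2

theorem disjHR : H ⊓ R = ⊥ := inf_eq_bot_of_coprime' S.cop

theorem x_in_G₁ : x ∈ G₁ := S.RG S.xR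

theorem copr : (Nat.card H).Coprime r := by
  have h1 : orderOf x ∣ Nat.card R := Subgroup.orderOf_dvd_natCard R S.xR
  rw [S.ord] at h1
  exact Nat.Coprime.coprime_dvd_right h1 S.cop

theorem hpr : p ≠ r := by
  intro h
  -- p ∣ |V| ∣ |H|
  have hV : Nat.card V ≠ 1 := by
    intro h1
    exact S.Vne (Subgroup.eq_bot_of_card_eq V h1)
  obtain ⟨n, hn⟩ := IsPGroup.iff_card.mp S.Vp
  have hn0 : n ≠ 0 := by
    intro h0; rw [h0, pow_zero] at hn; exact hV hn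
  have h1 : p ∣ Nat.card V := by rw [hn]; exact dvd_pow_self p hn0
  have h2 : p ∣ Nat.card H := h1.trans (Subgroup.card_dvd_of_le S.VH)
  have h3 := S.copr
  rw [← h] at h3
  have := Nat.Coprime.eq_one_of_dvd h3.symm h2
  exact hp.out.one_lt.ne' this

theorem G₁_norm_H₁ : G₁ ≤ N(H ⊓ G₁) := le_normalizer_inf' (S.HnormBy G₁) Subgroup.le_normalizer

theorem R_norm_H₁ : R ≤ N(H ⊓ G₁) := S.RG.trans S.G₁_norm_H₁

theorem x_norm_H₁ : x ∈ N(H ⊓ G₁) := S.R_norm_H₁ S.xR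

theorem H_eq : ∀ h ∈ H, ∃ v ∈ V, v⁻¹ * h ∈ H ⊓ G₁ := by
  intro h hh
  obtain ⟨v, hv, hvg⟩ := S.frat h
  exact ⟨v, hv, Subgroup.mem_inf.mpr ⟨H.mul_mem (H.inv_mem (S.VH hv)) hh, hvg⟩⟩

theorem G₁_eq : ∀ g ∈ G₁, ∃ h ∈ H ⊓ G₁, h⁻¹ * g ∈ R := by
  intro g hg
  have hmem : g ∈ H ⊔ R := by rw [S.sup]; trivial
  obtain ⟨h, hh, ρ, hρ, rfl⟩ := exists_mul_of_mem_sup (S.HnormBy R) hmem
  refine ⟨h, Subgroup.mem_inf.mpr ⟨hh, ?_⟩, by simpa using hρ⟩
  have : h = h * ρ * ρ⁻¹ := by group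
  rw [this]; exact G₁.mul_mem hg (G₁.inv_mem (S.RG hρ))

theorem normal_of {T : Subgroup G} (hV : V ≤ N(T)) (hH : H ⊓ G₁ ≤ N(T)) (hR : R ≤ N(T)) :
    T.Normal := by
  apply normal_of_forall_mem_normalizer
  intro g
  obtain ⟨v, hv, hvg⟩ := S.frat g
  obtain ⟨h, hh, hρ⟩ := S.G₁_eq _ hvg
  have : g = v * (h * (h⁻¹ * (v⁻¹ * g))) := by group
  rw [this]
  exact Subgroup.mul_mem _ (hV hv) (Subgroup.mul_mem _ (hH hh) (hR hρ))

/-- no nontrivial `p`-subgroup of `H₁` is normalized by `H₁` and `R` -/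
theorem Op {T : Subgroup G} (hT : T ≤ H ⊓ G₁) (hTp : IsPGroup p T) (hH : H ⊓ G₁ ≤ N(T))
    (hR : R ≤ N(T)) : T = ⊥ := by
  have h1 := Cfsg.Agent.Lib.Helper47.inf_centralizer_ne_bot V T S.Vp hTp (S.VnormBy T) S.Vne
  have hWn : (V ⊓ C(T)).Normal := by
    apply S.normal_of
    · exact le_normalizer_of_abelian S.Vab inf_le_left
    · exact le_normalizer_inf' (S.VnormBy _) (le_normalizer_centralizer' hH)
    · exact le_normalizer_inf' (S.VnormBy _) (le_normalizer_centralizer' hR)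
  rcases S.Vmin _ hWn inf_le_left with h | h
  · exact absurd h h1
  · have hVC : V ≤ C(T) := by rw [← h]; exact inf_le_right
    have hTC : T ≤ C(V) := le_centralizer_comm hVC
    have : T ≤ H ⊓ G₁ ⊓ C(V) := le_inf hT hTC
    rw [S.faith] at this
    exact le_bot_iff.mp this

theorem sup_V_H₁ : V ⊔ (H ⊓ G₁) = H := by
  apply le_antisymm (sup_le S.VH inf_le_left)
  intro h hh
  obtain ⟨v, hv, hvh⟩ := S.H_eq h hh
  have : h = v * (v⁻¹ * h) := by group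
  rw [this]
  exact Subgroup.mul_mem_sup hv hvh

/-- `H₁` is not a `p'`-group -/
theorem not_coprime (h : (Nat.card ↥(H ⊓ G₁)).Coprime p) : False := by
  apply S.hnot
  apply pLengthLE_of_PL1 (A := ⊥) (B := V)
  have hrel : V.relIndex H = Nat.card ↥(H ⊓ G₁) := by
    have h1 := Cfsg.Agent.Lib.Helper54.card_mul_relIndex S.VH
    have hdisj : V ⊓ (H ⊓ G₁) = ⊥ := by
      rw [eq_bot_iff, ← S.disj]; exact inf_le_inf_left _ inf_le_right
    have h2 := Cfsg.Agent.Lib.Helper54.card_sup_of_le_normalizer (S.VnormBy (H ⊓ G₁)) hdisj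
    rw [S.sup_V_H₁] at h2
    rw [h2] at h1
    exact Nat.eq_of_mul_eq_mul_left Nat.card_pos h1
  exact
  { le1 := le_rfl
    le2 := bot_le
    le3 := S.VH
    normA := le_normalizer_of_normal' inferInstance H
    normB := S.VnormBy H
    low := by
      intro a ha
      rw [Subgroup.mem_bot] at ha
      exact ⟨1, Nat.coprime_one_left p, by rw [ha]; simp⟩
    mid := by
      intro b hb
      exact ⟨1, by rw [pow_one, S.Vexp b hb]; exact Subgroup.one_mem _⟩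
    high := by
      intro h' hh
      exact ⟨V.relIndex H, hrel ▸ h, pow_relIndex_mem S.VH (S.VnormBy H) hh⟩ }

/-- the induction hypothesis for `x`-invariant subgroups of `H` -/
theorem ihsub {H₂ : Subgroup G} (hH₂ : H₂ ≤ H) (hx : x ∈ N(H₂))
    (hne : H₂ ⊔ Subgroup.zpowers x ≠ ⊤) : PLengthLE p 1 ↥⁅H₂, Subgroup.zpowers x⁆ := by
  apply S.ih G S.odd H₂ (Subgroup.zpowers x) x (zpowers_le_normalizer hx) ?_
    (Subgroup.mem_zpowers x) S.ord ?_ (card_lt_of_ne_top hne)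
  · rw [Nat.card_zpowers, S.ord]
    exact coprime_card_of_le hH₂ S.copr
  · exact isZGroup_of_le (inf_le_inf_right _ hH₂) S.Z

/-- `C_H(V) = V` -/
theorem cent_V {h : G} (hh : h ∈ H) (hc : h ∈ C(V)) : h ∈ V := by
  obtain ⟨v, hv, hvh⟩ := S.H_eq h hh
  have hvc : v ∈ C(V) := by
    rw [Subgroup.mem_centralizer_iff]; intro w hw; exact S.Vab w hw v hv
  have h1 : v⁻¹ * h ∈ H ⊓ G₁ ⊓ C(V) :=
    Subgroup.mem_inf.mpr ⟨hvh, Subgroup.mul_mem _ (Subgroup.inv_mem _ hvc) hc⟩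
  rw [S.faith, Subgroup.mem_bot] at h1
  have : h = v := by
    have := congrArg (v * ·) h1; simpa using this
  rw [this]; exact hv

/-- the minimality lemma -/
theorem min {P₃ Q₃ : Subgroup G} (hP : P₃ ≤ H ⊓ G₁) (hPp : IsPGroup p P₃) (hxP : x ∈ N(P₃))
    (hPcomm : ⁅P₃, Subgroup.zpowers x⁆ = P₃) (hQ : Q₃ ≤ H ⊓ G₁) (hQp : (Nat.card Q₃).Coprime p)
    (hxQ : x ∈ N(Q₃)) (hPQ : P₃ ≤ N(Q₃)) (hnc : ¬ P₃ ≤ C(Q₃)) :
    V ⊔ ((Q₃ ⊔ P₃) ⊔ Subgroup.zpowers x) = ⊤ := by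
  by_contra hne
  have hH₂H : V ⊔ (Q₃ ⊔ P₃) ≤ H :=
    sup_le S.VH (sup_le (hQ.trans inf_le_left) (hP.trans inf_le_left))
  have hxH₂ : x ∈ N(V ⊔ (Q₃ ⊔ P₃)) :=
    mem_normalizer_sup (mem_normalizer_of_normal' S.Vnormal x) (mem_normalizer_sup hxQ hxP)
  have hne' : (V ⊔ (Q₃ ⊔ P₃)) ⊔ Subgroup.zpowers x ≠ ⊤ := by rwa [sup_assoc]
  have hpl := S.ihsub hH₂H hxH₂ hne'
  obtain ⟨A, B, hS, hnA, hnB⟩ := PL1_of_pLengthLE _ hpl
  have hH₂M : V ⊔ (Q₃ ⊔ P₃) ≤ N(⁅V ⊔ (Q₃ ⊔ P₃), Subgroup.zpowers x⁆) :=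
    le_normalizer_commutator_left _ _
  have hMH₂ : ⁅V ⊔ (Q₃ ⊔ P₃), Subgroup.zpowers x⁆ ≤ V ⊔ (Q₃ ⊔ P₃) :=
    commutator_le_left_of_le_normalizer (zpowers_le_normalizer hxH₂)
  have hH₂A : V ⊔ (Q₃ ⊔ P₃) ≤ N(A) := hH₂M.trans hnA
  have hH₂B : V ⊔ (Q₃ ⊔ P₃) ≤ N(B) := hH₂M.trans hnB
  have hAM : A ≤ ⁅V ⊔ (Q₃ ⊔ P₃), Subgroup.zpowers x⁆ := hS.le2.trans hS.le3
  have hAcop : (Nat.card A).Coprime p := by
    apply card_coprime_of_forall_pow
    intro a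
    obtain ⟨n, hn, han⟩ := hS.low a a.2
    refine ⟨n, hn, ?_⟩
    rw [Subgroup.mem_bot] at han
    exact Subtype.ext (by simpa using han)
  have hVH₂ : V ≤ V ⊔ (Q₃ ⊔ P₃) := le_sup_left
  have hVA : V ⊓ A = ⊥ := inf_eq_bot_of_isPGroup_of_coprime S.Vp hAcop
  have hAV : ⁅A, V⁆ = ⊥ := by
    rw [eq_bot_iff]
    have h1 : ⁅A, V⁆ ≤ A := commutator_le_left_of_le_normalizer (hVH₂.trans hH₂A)
    have h2 : ⁅A, V⁆ ≤ V := by
      rw [Subgroup.commutator_comm]; exact commutator_le_left_of_le_normalizer (S.VnormBy A)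
    rw [← hVA]; exact le_inf h2 h1
  have hAcV : A ≤ C(V) := le_centralizer_comm (commutator_eq_bot_iff_le_centralizer'.mp hAV)
  have hAbot : A = ⊥ := by
    rw [eq_bot_iff]
    intro a ha
    have haV : a ∈ V := S.cent_V (hH₂H (hMH₂ (hAM ha))) (hAcV ha)
    rw [← hVA]
    exact Subgroup.mem_inf.mpr ⟨haV, ha⟩
  have hBp : IsPGroup p B := by
    intro b
    obtain ⟨k, hk⟩ := hS.mid b b.2
    rw [hAbot, Subgroup.mem_bot] at hk
    exact ⟨k, Subtype.ext (by simpa using hk)⟩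
  have hP₃M : P₃ ≤ ⁅V ⊔ (Q₃ ⊔ P₃), Subgroup.zpowers x⁆ := by
    conv_lhs => rw [← hPcomm]
    exact Subgroup.commutator_mono (le_sup_right.trans le_sup_right) le_rfl
  have hP₃B : P₃ ≤ B := by
    apply le_of_isPGroup_of_forall_pow hPp
    intro y hy
    exact hS.high y (hP₃M hy)
  have hQ₃H₂ : Q₃ ≤ V ⊔ (Q₃ ⊔ P₃) := le_sup_left.trans le_sup_right
  have h1 : ⁅Q₃, P₃⁆ ≤ Q₃ := commutator_le_left_of_le_normalizer hPQ
  have h2 : ⁅Q₃, P₃⁆ ≤ B := by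
    calc ⁅Q₃, P₃⁆ ≤ ⁅Q₃, B⁆ := Subgroup.commutator_mono le_rfl hP₃B
      _ = ⁅B, Q₃⁆ := Subgroup.commutator_comm _ _
      _ ≤ B := commutator_le_left_of_le_normalizer (hQ₃H₂.trans hH₂B)
  have h3 : B ⊓ Q₃ = ⊥ := inf_eq_bot_of_isPGroup_of_coprime hBp hQp
  have h4 : ⁅Q₃, P₃⁆ = ⊥ := by rw [eq_bot_iff, ← h3]; exact le_inf h2 h1
  exact hnc (commutator_eq_bot_iff_le_centralizer'.mp h4)

/-- consequences of `V Q₃ P₃ ⟨x⟩ = G` -/
theorem ded {P₃ Q₃ : Subgroup G} (hP : P₃ ≤ H ⊓ G₁) (hQ : Q₃ ≤ H ⊓ G₁) (hxP : x ∈ N(P₃))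
    (hxQ : x ∈ N(Q₃)) (hPQ : P₃ ≤ N(Q₃))
    (htop : V ⊔ ((Q₃ ⊔ P₃) ⊔ Subgroup.zpowers x) = ⊤) :
    (∀ h ∈ H ⊓ G₁, ∃ q ∈ Q₃, ∃ y ∈ P₃, q * y = h) ∧ R = Subgroup.zpowers x := by
  have hL₁ : Q₃ ⊔ P₃ ≤ H ⊓ G₁ := sup_le hQ hP
  have hxL₁ : x ∈ N(Q₃ ⊔ P₃) := mem_normalizer_sup hxQ hxP
  have hxR : Subgroup.zpowers x ≤ R := Subgroup.zpowers_le.mpr S.xR
  have hK : (Q₃ ⊔ P₃) ⊔ Subgroup.zpowers x ≤ G₁ :=
    sup_le (hL₁.trans inf_le_right) (Subgroup.zpowers_le.mpr S.x_in_G₁)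
  have key : ∀ g ∈ G₁, ∃ l ∈ Q₃ ⊔ P₃, ∃ z ∈ Subgroup.zpowers x, l * z = g := by
    intro g hg
    have hmem : g ∈ V ⊔ ((Q₃ ⊔ P₃) ⊔ Subgroup.zpowers x) := by rw [htop]; trivial
    obtain ⟨v, hv, k, hk, rfl⟩ := exists_mul_of_mem_sup (S.VnormBy _) hmem
    have hv1 : v = 1 := by
      have hvG : v ∈ G₁ := by
        have : v = v * k * k⁻¹ := by group
        rw [this]; exact G₁.mul_mem hg (G₁.inv_mem (hK hk))
      have : v ∈ V ⊓ G₁ := Subgroup.mem_inf.mpr ⟨hv, hvG⟩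
      rw [S.disj, Subgroup.mem_bot] at this; exact this
    rw [hv1, one_mul]
    exact exists_mul_of_mem_sup (zpowers_le_normalizer hxL₁) hk
  constructor
  · intro h hh
    obtain ⟨l, hl, z, hz, hlz⟩ := key h (Subgroup.mem_inf.mp hh).2
    have hz1 : z = 1 := by
      have hzH : z ∈ H := by
        have : z = l⁻¹ * h := by rw [← hlz]; group
        rw [this]
        exact H.mul_mem (H.inv_mem (Subgroup.mem_inf.mp (hL₁ hl)).1) (Subgroup.mem_inf.mp hh).1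
      have : z ∈ H ⊓ R := Subgroup.mem_inf.mpr ⟨hzH, hxR hz⟩
      rw [S.disjHR, Subgroup.mem_bot] at this; exact this
    rw [hz1, mul_one] at hlz
    rw [← hlz]
    exact exists_mul_of_mem_sup hPQ hl
  · apply le_antisymm
    · intro ρ hρ
      obtain ⟨l, hl, z, hz, hlz⟩ := key ρ (S.RG hρ)
      have hl1 : l = 1 := by
        have hlR : l ∈ R := by
          have : l = ρ * z⁻¹ := by rw [← hlz]; group
          rw [this]; exact R.mul_mem hρ (R.inv_mem (hxR hz))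
        have : l ∈ H ⊓ R := Subgroup.mem_inf.mpr ⟨(Subgroup.mem_inf.mp (hL₁ hl)).1, hlR⟩
        rw [S.disjHR, Subgroup.mem_bot] at this; exact this
      rw [hl1, one_mul] at hlz
      rw [← hlz]; exact hz
    · exact hxR

end Split

end Cfsg.Agent.Lib.Helper9
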