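import Cfsg.Agent.Lib.Helper9.BG36Split

/-!
BG Theorem 3.6 (`S1444`), part II continued (helper9).
-/

set_option autoImplicit false
set_option linter.unusedSectionVars false
set_option linter.unusedVariables false

open scoped commutatorElement
open Cfsg

universe u

namespace Cfsg.Agent.Lib.Helper9

local notation "N(" T ")" => Subgroup.normalizer ((T : Subgroup _) : Set _)
local notation "C(" T ")" => Subgroup.centralizer ((T : Subgroup _) : Set _)
local notation "Cx(" x ")" => Subgroup.centralizer ({x} : Set _)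

section generic

variable {G : Type*} [Group G] [Finite G]

/-- a `p`-subgroup of a `Z`-group is cyclic -/
theorem isCyclic_of_isPGroup_of_le_isZGroup {p : ℕ} [Fact p.Prime] {Z W : Subgroup G}
    (hZ : IsZGroup ↥Z) (hW : IsPGroup p W) (hWZ : W ≤ Z) : IsCyclic ↥W := by
  have h1 : IsZGroup ↥W := isZGroup_of_le hWZ hZ
  have h2 : Group.IsNilpotent ↥W := hW.isNilpotent
  infer_instance

/-- if `C` contains a Sylow `q`-subgroup of `K` for all `q` then `K ≤ C` -/
theorem le_of_forall_sylow {K C : Subgroup G}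
    (h : ∀ q : ℕ, q.Prime → ∃ Q : Subgroup G, Q ≤ K ⊓ C ∧
      Nat.card Q = q ^ (Nat.card K).factorization q) : K ≤ C := by
  have hdvd : Nat.card K ∣ Nat.card ↥(K ⊓ C) := by
    rw [← Nat.factorization_prime_le_iff_dvd Nat.card_pos.ne' Nat.card_pos.ne']
    intro q hq
    obtain ⟨Q, hQ, hcard⟩ := h q hq
    have h1 : q ^ (Nat.card K).factorization q ∣ Nat.card ↥(K ⊓ C) := by
      rw [← hcard]; exact Subgroup.card_dvd_of_le hQ
    exact (hq.pow_dvd_iff_le_factorization Nat.card_pos.ne').mp h1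
  have hle : Nat.card K ≤ Nat.card ↥(K ⊓ C) := Nat.le_of_dvd Nat.card_pos hdvd
  have heq : K ⊓ C = K := Subgroup.eq_of_le_of_card_ge inf_le_left hle
  rw [← heq]; exact inf_le_right

/-- a nontrivial cyclic group of exponent `p` has order `p` -/
theorem card_eq_prime_of_isCyclic {p : ℕ} (hp : p.Prime) {W : Subgroup G} (hc : IsCyclic ↥W)
    (hexp : ∀ a ∈ W, a ^ p = 1) (hW : W ≠ ⊥) : Nat.card W = p := by
  obtain ⟨g, hg⟩ := hc.exists_generator
  have h1 : orderOf g = Nat.card W := orderOf_eq_card_of_forall_mem_zpowers hg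
  have h2 : g ^ p = 1 := Subtype.ext (by simpa using hexp g g.2)
  have h3 : Nat.card W ∣ p := by rw [← h1]; exact orderOf_dvd_of_pow_eq_one h2
  rcases (Nat.dvd_prime hp).mp h3 with h | h
  · exact absurd (Subgroup.eq_bot_of_card_eq W h) hW
  · exact h

theorem coprime_card_of_isPGroup_of_ne {p q : ℕ} (hp : p.Prime) (hq : q.Prime) (hqp : q ≠ p)
    {Q : Subgroup G} (hQ : IsPGroup q Q) : (Nat.card Q).Coprime p := by
  have : Fact q.Prime := ⟨hq⟩
  obtain ⟨n, hn⟩ := IsPGroup.iff_card.mp hQ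
  rw [hn]
  exact Nat.Coprime.pow_left n ((Nat.coprime_primes hq hp).mpr hqp)

end generic

variable {G : Type u} [Group G] [Finite G] [Group.IsSolvable G] {p r : ℕ} [hp : Fact p.Prime]
  {H R V G₁ : Subgroup G} {x : G}

namespace Split

variable (S : Split.{u} p r G H R V G₁ x)
include S

/-- the cyclic Sylow trick -/
theorem cyc {P₁ : Subgroup G} (hP : P₁ ≤ H ⊓ G₁) (hPp : IsPGroup p P₁)
    (h1 : V ⊓ Cx(x) ≠ ⊥) (h2 : P₁ ⊓ Cx(x) ≠ ⊥) : False := by
  have hdisj : (V ⊓ Cx(x)) ⊓ (P₁ ⊓ Cx(x)) = ⊥ := by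
    rw [eq_bot_iff, ← S.disj]
    exact inf_le_inf inf_le_left (inf_le_left.trans (hP.trans inf_le_right))
  rcases Cfsg.Agent.Lib.Helper47.cyc_trick (H ⊓ Cx(x)) (V ⊓ Cx(x)) (P₁ ⊓ Cx(x)) S.Z (S.Vp.to_le inf_le_left)
    (hPp.to_le inf_le_left) (inf_le_inf_right _ S.VH)
    (inf_le_inf_right _ (hP.trans inf_le_left))
    (le_normalizer_inf' (S.VnormBy _) (inf_le_right.trans Subgroup.le_normalizer)) hdisj with h | h
  · exact h1 h
  · exact h2 h

/-- Shult's theorem in the configuration -/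
theorem shult (hCV : V ⊓ Cx(x) = ⊥) {q : ℕ} (hq : q.Prime) (hqp : q ≠ p) {Q : Subgroup G}
    (hQ : Q ≤ H ⊓ G₁) (hQq : IsPGroup q Q) (hxQ : x ∈ N(Q)) : Q ≤ Cx(x) := by
  have hr := S.hr
  have : Fact q.Prime := ⟨hq⟩
  by_cases hqr : q = r
  · -- then `Q = ⊥`
    have hcop : (Nat.card Q).Coprime r := coprime_card_of_le (hQ.trans inf_le_left) S.copr
    obtain ⟨n, hn⟩ := IsPGroup.iff_card.mp hQq
    have hn0 : n = 0 := by
      by_contra hn0
      rw [hn, hqr, Nat.coprime_pow_left_iff (Nat.pos_of_ne_zero hn0), Nat.coprime_self] at hcop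
      exact hr.one_lt.ne' hcop
    rw [hn0, pow_zero] at hn
    rw [Subgroup.eq_bot_of_card_eq Q hn]
    exact bot_le
  · have hX : Nat.card (Subgroup.zpowers x) = r := by rw [Nat.card_zpowers, S.ord]
    have hCV' : V ⊓ C(Subgroup.zpowers x) = ⊥ := by rw [centralizer_zpowers_eq]; exact hCV
    rcases Cfsg.Agent.Lib.Helper2.ShultSub.main_sub hp.out hq hr (Ne.symm hqp) S.hpr hqr
      (Subgroup.zpowers x) Q V hX hQq (zpowers_le_normalizer hxQ)
      ⟨⟨⟨fun a b => Subtype.ext (S.Vab a a.2 b b.2)⟩⟩, S.Vexp⟩ (S.VnormBy _) (S.VnormBy _) hCV' with h | h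
    · intro g hg
      have h1 := h x (Subgroup.mem_zpowers x) g hg
      have h2 : g⁻¹ * (x * g * x⁻¹) ∈ H ⊓ G₁ :=
        Subgroup.mul_mem _ (Subgroup.inv_mem _ (hQ hg)) (hQ (conj_mem_of_mem_normalizer hxQ hg))
      have h3 : g⁻¹ * (x * g * x⁻¹) ∈ H ⊓ G₁ ⊓ C(V) := Subgroup.mem_inf.mpr ⟨h2, h1⟩
      rw [S.faith, Subgroup.mem_bot] at h3
      rw [mem_centralizer_singleton_iff]
      have h4 : x * g * x⁻¹ = g := by
        have := congrArg (g * ·) h3; simpa using this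
      calc x * g = (x * g * x⁻¹) * x := by group
        _ = g * x := by rw [h4]
    · exfalso
      obtain ⟨hq2, -, a, ha, b, hb, hab⟩ := h
      have ha1 : a ≠ 1 := by
        intro h1; apply hab; rw [h1]; simp
      obtain ⟨k, hk⟩ := hQq ⟨a, ha⟩
      have hk' : a ^ q ^ k = 1 := by
        simpa only [Subgroup.coe_pow, Subgroup.coe_one] using congrArg Subtype.val hk
      have h1 : orderOf a ∣ 2 ^ k := by rw [← hq2]; exact orderOf_dvd_of_pow_eq_one hk'
      have h2 : orderOf a ∣ Nat.card G := orderOf_dvd_natCard a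
      have h3 : (2 ^ k).Coprime (Nat.card G) :=
        Nat.Coprime.pow_left k (Nat.coprime_two_left.mpr S.odd)
      have h4 : orderOf a = 1 := Nat.eq_one_of_dvd_coprimes h3 h1 h2
      exact ha1 (orderOf_eq_one_iff.mp h4)

/-- `H₁` is not centralized by `x` -/
theorem centralized_false (h : H ⊓ G₁ ≤ Cx(x)) : False := by
  have hZ : IsZGroup ↥(H ⊓ G₁) := isZGroup_of_le (le_inf inf_le_left h) S.Z
  apply S.not_coprime
  exact Cfsg.Agent.Lib.Helper47.zgroup_case (H ⊓ G₁) R S.R_norm_H₁ hZ S.comm (coprime_card_of_le inf_le_left S.cop)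
    (fun T hT hTp hH hR => S.Op hT hTp hH hR)

/-- The final contradiction, once `H₁ = Q P₁` and `R = ⟨x⟩`. -/
theorem final {q : ℕ} (hq : q.Prime) (hqp : q ≠ p) {Q P₁ : Subgroup G} (hQ : Q ≤ H ⊓ G₁)
    (hQq : IsPGroup q Q) (hP : P₁ ≤ H ⊓ G₁) (hPp : IsPGroup p P₁) (hxQ : x ∈ N(Q))
    (hxP : x ∈ N(P₁)) (hPQ : P₁ ≤ N(Q))
    (hH₁ : ∀ h ∈ H ⊓ G₁, ∃ a ∈ Q, ∃ y ∈ P₁, a * y = h) (hR : R = Subgroup.zpowers x)
    (hPcomm : ⁅P₁, Subgroup.zpowers x⁆ = P₁) (hnc : ¬ P₁ ≤ C(Q)) : False := by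
  have hr := S.hr
  have : Fact q.Prime := ⟨hq⟩
  have hQcop : (Nat.card Q).Coprime p := coprime_card_of_isPGroup_of_ne hp.out hq hqp hQq
  have hPQdisj : P₁ ⊓ Q = ⊥ := inf_eq_bot_of_isPGroup_of_coprime hPp hQcop
  have hqr : q ≠ r := by
    intro hqr
    -- then Q = ⊥
    have hcop : (Nat.card Q).Coprime r := coprime_card_of_le (hQ.trans inf_le_left) S.copr
    obtain ⟨n, hn⟩ := IsPGroup.iff_card.mp hQq
    have hn0 : n = 0 := by
      by_contra hn0
      rw [hn, hqr, Nat.coprime_pow_left_iff (Nat.pos_of_ne_zero hn0), Nat.coprime_self] at hcop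
      exact hr.one_lt.ne' hcop
    rw [hn0, pow_zero] at hn
    apply hnc
    rw [Subgroup.eq_bot_of_card_eq Q hn]
    intro g _
    rw [Subgroup.mem_centralizer_iff]
    intro y hy
    rw [Subgroup.coe_bot, Set.mem_singleton_iff] at hy
    rw [hy]; simp
  have hH₁Q : H ⊓ G₁ ≤ N(Q) := by
    intro h hh
    obtain ⟨a, ha, y, hy, rfl⟩ := hH₁ h hh
    exact Subgroup.mul_mem _ (Subgroup.le_normalizer ha) (hPQ hy)
  -- G1: `C_V(x) ≠ 1`
  have hCV : V ⊓ Cx(x) ≠ ⊥ := by
    intro hCV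
    have hQx : Q ≤ Cx(x) := S.shult hCV hq hqp hQ hQq hxQ
    have h0 : ⁅Subgroup.zpowers x, Q⁆ = ⊥ := by
      rw [commutator_eq_bot_iff_le_centralizer', centralizer_zpowers_eq]; exact hQx
    have h1 : ⁅⁅Subgroup.zpowers x, Q⁆, P₁⁆ = ⊥ := by rw [h0, Subgroup.commutator_bot_left]
    have h2 : ⁅⁅Q, P₁⁆, Subgroup.zpowers x⁆ = ⊥ := by
      rw [eq_bot_iff]
      calc ⁅⁅Q, P₁⁆, Subgroup.zpowers x⁆ ≤ ⁅Q, Subgroup.zpowers x⁆ :=
            Subgroup.commutator_mono (commutator_le_left_of_le_normalizer hPQ) le_rfl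
        _ = ⁅Subgroup.zpowers x, Q⁆ := Subgroup.commutator_comm _ _
        _ = ⊥ := h0
    have h3 := Subgroup.commutator_commutator_eq_bot_of_rotate h1 h2
    rw [hPcomm] at h3
    exact hnc (le_centralizer_comm (commutator_eq_bot_iff_le_centralizer'.mp h3))
  -- G2
  have hCP : P₁ ⊓ Cx(x) = ⊥ := by
    by_contra h
    exact S.cyc hP hPp hCV h
  -- G3
  have hCVcard : Nat.card ↥(V ⊓ Cx(x)) = p := by
    apply card_eq_prime_of_isCyclic hp.out
      (isCyclic_of_isPGroup_of_le_isZGroup S.Z (S.Vp.to_le inf_le_left) (inf_le_inf_right _ S.VH))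
      (fun a ha => S.Vexp a (Subgroup.mem_inf.mp ha).1) hCV
  have hCQcyc : IsCyclic ↥(Q ⊓ Cx(x)) := by
    exact isCyclic_of_isPGroup_of_le_isZGroup S.Z (hQq.to_le inf_le_left)
      (inf_le_inf_right _ (hQ.trans inf_le_left))
  have hrP : ¬ r ∣ Nat.card P₁ := by
    intro h
    have h1 : r ∣ Nat.card H := h.trans (Subgroup.card_dvd_of_le (hP.trans inf_le_left))
    have := Nat.Coprime.eq_one_of_dvd S.copr.symm h1
    exact hr.one_lt.ne' this
  -- consequences of `ded` for a pair `(Q', P')`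
  -- G4: irreducibility of `P₁`
  have hPirr : ∀ P' : Subgroup G, P' ≤ P₁ → x ∈ N(P') → P' = ⊥ ∨ P' = P₁ := by
    intro P' hP' hxP'
    have hP'p : IsPGroup p P' := hPp.to_le hP'
    have hfix : P' ⊓ Cx(x) = ⊥ := by
      rw [eq_bot_iff, ← hCP]; exact inf_le_inf_right _ hP'
    have hrP' : ¬ r ∣ Nat.card P' := fun h => hrP (h.trans (Subgroup.card_dvd_of_le hP'))
    have hcomm' : ⁅P', Subgroup.zpowers x⁆ = P' :=
      eq_commutator_zpowers_of_fixed_eq_bot hr S.ord P' hxP' hrP' hfix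
    by_cases hc : P' ≤ C(Q)
    · left
      have hT : P' ≤ P₁ ⊓ C(Q) := le_inf hP' hc
      have hTbot : P₁ ⊓ C(Q) = ⊥ := by
        apply S.Op (inf_le_left.trans hP) (hPp.to_le inf_le_left)
        · -- normalized by H₁ = Q P₁
          intro h hh
          obtain ⟨a, ha, y, hy, rfl⟩ := hH₁ h hh
          apply Subgroup.mul_mem
          · -- `a ∈ Q` centralizes `P₁ ⊓ C(Q)`
            apply Subgroup.centralizer_le_normalizer
            rw [Subgroup.mem_centralizer_iff]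
            intro t ht
            have ht' : t ∈ C(Q) := (Subgroup.mem_inf.mp ht).2
            rw [Subgroup.mem_centralizer_iff] at ht'
            exact (ht' a ha).symm
          · exact mem_normalizer_inf (Subgroup.le_normalizer hy)
              (mem_normalizer_centralizer (hPQ hy))
        · rw [hR]
          apply zpowers_le_normalizer
          exact mem_normalizer_inf hxP (mem_normalizer_centralizer hxQ)
      rw [hTbot] at hT
      exact le_bot_iff.mp hT
    · right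
      have htop := S.min (hP'.trans hP) hP'p hxP' hcomm' hQ hQcop hxQ (hP'.trans hPQ) hc
      obtain ⟨hd, -⟩ := S.ded (hP'.trans hP) hQ hxP' hxQ (hP'.trans hPQ) htop
      apply le_antisymm hP'
      intro y hy
      obtain ⟨a, ha, y', hy', hay⟩ := hd y (hP hy)
      have ha1 : a = 1 := by
        have haP : a ∈ P₁ := by
          have : a = y * y'⁻¹ := by rw [← hay]; group
          rw [this]; exact P₁.mul_mem hy (P₁.inv_mem (hP' hy'))
        have : a ∈ P₁ ⊓ Q := Subgroup.mem_inf.mpr ⟨haP, ha⟩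
        rw [hPQdisj, Subgroup.mem_bot] at this; exact this
      rw [ha1, one_mul] at hay
      rw [← hay]; exact hy'
  -- G5: minimality of `Q`
  have hmin : ∀ Q' : Subgroup G, Q' ≤ Q → Q' ≠ Q → P₁ ≤ N(Q') → x ∈ N(Q') → Q' ≤ C(P₁) := by
    intro Q' hQ' hne hPQ' hxQ'
    by_contra hc
    have hc' : ¬ P₁ ≤ C(Q') := fun h => hc (le_centralizer_comm h)
    have htop := S.min hP hPp hxP hPcomm (hQ'.trans hQ) (coprime_card_of_le hQ' hQcop) hxQ' hPQ' hc'
    obtain ⟨hd, -⟩ := S.ded hP (hQ'.trans hQ) hxP hxQ' hPQ' htop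
    apply hne
    apply le_antisymm hQ'
    intro a ha
    obtain ⟨a', ha', y, hy, hay⟩ := hd a (hQ ha)
    have hy1 : y = 1 := by
      have hyQ : y ∈ Q := by
        have : y = a'⁻¹ * a := by rw [← hay]; group
        rw [this]; exact Q.mul_mem (Q.inv_mem (hQ' ha')) ha
      have : y ∈ P₁ ⊓ Q := Subgroup.mem_inf.mpr ⟨hy, hyQ⟩
      rw [hPQdisj, Subgroup.mem_bot] at this; exact this
    rw [hy1, mul_one] at hay
    rw [← hay]; exact ha'
  have hfaithQ : ∀ g ∈ Q, (∀ v ∈ V, g * v = v * g) → g = 1 := by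
    intro g hg hgv
    have : g ∈ H ⊓ G₁ ⊓ C(V) := by
      refine Subgroup.mem_inf.mpr ⟨hQ hg, ?_⟩
      rw [Subgroup.mem_centralizer_iff]
      intro v hv
      exact (hgv v hv).symm
    rw [S.faith, Subgroup.mem_bot] at this; exact this
  -- G6: `Q` is abelian
  have hQab : ∀ a ∈ Q, ∀ b ∈ Q, a * b = b * a :=
    Cfsg.Agent.Lib.Helper47.Q_abelian hp.out hq hr (Ne.symm hqp) S.hpr hqr V Q P₁ x S.ord S.Vab S.Vp hQq hPp
      (S.VnormBy _) (S.VnormBy _) (mem_normalizer_of_normal' S.Vnormal x) hPQ hxQ hxP hfaithQ hnc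
      hCVcard hCQcyc hCP hmin
  -- `⁅Q, P₁⁆ = Q`
  have hcopPQ : (Nat.card P₁).Coprime (Nat.card Q) := by
    obtain ⟨n, hn⟩ := IsPGroup.iff_card.mp hPp
    rw [hn]; exact Nat.Coprime.pow_left n hQcop.symm
  have hQP : ⁅Q, P₁⁆ = Q := by
    by_contra hne
    have h1 : ⁅Q, P₁⁆ ≤ C(P₁) :=
      hmin _ (commutator_le_left_of_le_normalizer hPQ) hne (le_normalizer_commutator_right Q P₁)
        (mem_normalizer_commutator hxQ hxP)
    exact hnc (le_centralizer_of_commutator_le_centralizer hcopPQ hPQ h1)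
  have hCQP : Q ⊓ C(P₁) = ⊥ := by
    have h1 := Cfsg.Agent.Lib.Helper47.centralizer_inf_commutator_eq_bot Q P₁ hQab hPQ hcopPQ.symm
    rw [hQP] at h1
    rw [eq_bot_iff, ← h1]
    exact le_inf le_rfl inf_le_left
  have hWirr : ∀ W' : Subgroup G, W' ≤ Q → P₁ ≤ N(W') → x ∈ N(W') → W' = ⊥ ∨ W' = Q := by
    intro W' hW' hPW' hxW'
    by_cases hne : W' = Q
    · right; exact hne
    · left
      have h1 := hmin W' hW' hne hPW' hxW'
      rw [eq_bot_iff, ← hCQP]
      exact le_inf hW' h1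
  have hCVQ : V ⊓ C(Q) = ⊥ := by
    have hn : (V ⊓ C(Q)).Normal := by
      apply S.normal_of
      · exact le_normalizer_of_abelian S.Vab inf_le_left
      · exact le_normalizer_inf' (S.VnormBy _) (le_normalizer_centralizer' hH₁Q)
      · rw [hR]
        exact zpowers_le_normalizer
          (mem_normalizer_inf (mem_normalizer_of_normal' S.Vnormal x) (mem_normalizer_centralizer hxQ))
    rcases S.Vmin _ hn inf_le_left with h | h
    · exact h
    · exfalso
      have hVC : V ≤ C(Q) := by rw [← h]; exact inf_le_right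
      have hQC : Q ≤ C(V) := le_centralizer_comm hVC
      have hQbot : Q ≤ H ⊓ G₁ ⊓ C(V) := le_inf hQ hQC
      rw [S.faith] at hQbot
      apply hnc
      rw [le_bot_iff.mp hQbot]
      intro g _
      rw [Subgroup.mem_centralizer_iff]
      intro y hy
      rw [Subgroup.coe_bot, Set.mem_singleton_iff] at hy
      rw [hy]; simp
  exact S.modB G S.odd hp.out hq hr (Ne.symm hqp) S.hpr hqr V Q P₁ x S.ord S.Vab S.Vp hQab hQq
    hPp (S.VnormBy _) (S.VnormBy _) (mem_normalizer_of_normal' S.Vnormal x) hPQ hxQ hxP hfaithQ hnc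
    hCVcard hCQcyc hCP hPirr hWirr hCVQ

end Split

end Cfsg.Agent.Lib.Helper9
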