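import Cfsg.Agent.Lib.Helper9.BG36Split2

/-!
BG Theorem 3.6 (`S1444`), part II concluded (helper9): the split configuration is contradictory.
-/

set_option autoImplicit false
set_option linter.unusedSectionVars false
set_option linter.unusedVariables false

open scoped commutatorElement
open Cfsg

universe u

namespace Cfsg.Agent.Lib.Helper9

local notation "N(" T ")" => Subgroup.normalizer ((T : Subgroup _) : Set _)
local notation "C(" T ")" => Subgroup.centralizer ((T : Subgroup _) : Set _)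
local notation "Cx(" x ")" => Subgroup.centralizer ({x} : Set _)

variable {G : Type u} [Group G] [Finite G] [Group.IsSolvable G] {p r : ℕ} [hp : Fact p.Prime]
  {H R V G₁ : Subgroup G} {x : G}

namespace Split

variable (S : Split.{u} p r G H R V G₁ x)
include S

theorem false : False := by
  have hr := S.hr
  have : Fact r.Prime := ⟨hr⟩
  have hX : Nat.card (Subgroup.zpowers x) = r := by rw [Nat.card_zpowers, S.ord]
  have hrH₁ : ¬ r ∣ Nat.card ↥(H ⊓ G₁) := by
    intro h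
    have h1 : r ∣ Nat.card H := h.trans (Subgroup.card_dvd_of_le inf_le_left)
    exact hr.one_lt.ne' (Nat.Coprime.eq_one_of_dvd S.copr.symm h1)
  have hxH₁ := zpowers_le_normalizer S.x_norm_H₁
  -- Step A
  obtain ⟨P₁, hP, hxP', hPp, hPcard⟩ :=
    Cfsg.Agent.Lib.Helper2.ShultSub.exists_invariant_sylow (H ⊓ G₁) (Subgroup.zpowers x) hxH₁ p hX hrH₁
  have hxP : x ∈ N(P₁) := hxP' (Subgroup.mem_zpowers x)
  have hP1 : P₁ ≠ ⊥ := by
    intro h
    apply S.not_coprime
    rw [h, Subgroup.card_bot] at hPcard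
    have hf : (Nat.card ↥(H ⊓ G₁)).factorization p = 0 := by
      by_contra hne
      have : 1 < p ^ (Nat.card ↥(H ⊓ G₁)).factorization p := Nat.one_lt_pow hne hp.out.one_lt
      omega
    rcases (Nat.factorization_eq_zero_iff _ _).mp hf with h1 | h1 | h1
    · exact absurd hp.out h1
    · exact ((Nat.Prime.coprime_iff_not_dvd hp.out).mpr h1).symm
    · exact absurd h1 Nat.card_pos.ne'
  obtain ⟨P₂, hP₂⟩ : ∃ P₂ : Subgroup G, P₂ = ⁅P₁, Subgroup.zpowers x⁆ := ⟨_, rfl⟩
  have hP₂P₁ : P₂ ≤ P₁ := by rw [hP₂]; exact commutator_le_left_of_le_normalizer hxP'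
  have hrP₁ : (Nat.card P₁).Coprime (Nat.card (Subgroup.zpowers x)) := by
    rw [hX]; exact coprime_card_of_le (hP.trans inf_le_left) S.copr
  have hP₂comm : ⁅P₂, Subgroup.zpowers x⁆ = P₂ := by
    rw [hP₂]
    exact commutator_commutator_eq_of_coprime P₁ (Subgroup.zpowers x) hxP' hrP₁
      (Or.inl inferInstance)
  by_cases hP₂bot : P₂ = ⊥
  · -- Step D
    have hP₁x : P₁ ≤ Cx(x) := by
      have h1 : Subgroup.zpowers x ≤ C(P₁) := by
        rw [← commutator_eq_bot_iff_le_centralizer', ← hP₂]; exact hP₂bot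
      have h2 := le_centralizer_comm h1
      rwa [centralizer_zpowers_eq] at h2
    have hCV : V ⊓ Cx(x) = ⊥ := by
      by_contra hCV
      apply S.cyc hP hPp hCV
      rw [inf_eq_left.mpr hP₁x]; exact hP1
    apply S.centralized_false
    apply le_of_forall_sylow
    intro q hq
    by_cases hqp : q = p
    · rw [hqp]
      exact ⟨P₁, le_inf hP hP₁x, hPcard⟩
    · have : Fact q.Prime := ⟨hq⟩
      obtain ⟨Q, hQ, hxQ, hQq, hQcard⟩ :=
        Cfsg.Agent.Lib.Helper2.ShultSub.exists_invariant_sylow (H ⊓ G₁) (Subgroup.zpowers x) hxH₁ q hX hrH₁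
      exact ⟨Q, le_inf hQ (S.shult hCV hq hqp hQ hQq (hxQ (Subgroup.mem_zpowers x))), hQcard⟩
  · -- Step E
    have hOp : pCore p ↥(H ⊓ G₁) = ⊥ := by
      have hT := S.Op (T := (pCore p ↥(H ⊓ G₁)).map (H ⊓ G₁).subtype) (Subgroup.map_subtype_le _)
        ((Cfsg.Agent.Lib.Helper1.pCore_isPGroup p).map _)
        (Subgroup.le_normalizer.trans
          (normalizer_le_normalizer_map_of_characteristic (H ⊓ G₁) _))
        (S.R_norm_H₁.trans (normalizer_le_normalizer_map_of_characteristic (H ⊓ G₁) _))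
      exact (Subgroup.map_eq_bot_iff_of_injective _ (Subgroup.subtype_injective _)).mp hT
    have hP₂H₁ : P₂ ≤ H ⊓ G₁ := hP₂P₁.trans hP
    have hP₂p : IsPGroup p P₂ := hPp.to_le hP₂P₁
    have hPsub : IsPGroup p (P₂.subgroupOf (H ⊓ G₁)) := hP₂p.comap_subtype
    have hPsub1 : P₂.subgroupOf (H ⊓ G₁) ≠ ⊥ := by
      intro h
      apply hP₂bot
      rw [eq_bot_iff]
      intro y hy
      have : (⟨y, hP₂H₁ hy⟩ : ↥(H ⊓ G₁)) ∈ P₂.subgroupOf (H ⊓ G₁) :=
        Subgroup.mem_subgroupOf.mpr hy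
      rw [h, Subgroup.mem_bot] at this
      rw [Subgroup.mem_bot]
      exact congrArg Subtype.val this
    obtain ⟨q, hq, hqp, hncq⟩ := Cfsg.Agent.Lib.Helper47.exists_pCore_not_centralized hOp _ hPsub hPsub1
    have : Fact q.Prime := ⟨hq⟩
    obtain ⟨Q, hQdef⟩ : ∃ Q : Subgroup G, Q = (pCore q ↥(H ⊓ G₁)).map (H ⊓ G₁).subtype := ⟨_, rfl⟩
    have hQ : Q ≤ H ⊓ G₁ := by rw [hQdef]; exact Subgroup.map_subtype_le _
    have hQq : IsPGroup q Q := by rw [hQdef]; exact (Cfsg.Agent.Lib.Helper1.pCore_isPGroup q).map _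
    have hH₁Q : H ⊓ G₁ ≤ N(Q) := by
      rw [hQdef]
      exact Subgroup.le_normalizer.trans (normalizer_le_normalizer_map_of_characteristic (H ⊓ G₁) _)
    have hRQ : R ≤ N(Q) := by
      rw [hQdef]
      exact S.R_norm_H₁.trans (normalizer_le_normalizer_map_of_characteristic (H ⊓ G₁) _)
    have hxQ : x ∈ N(Q) := hRQ S.xR
    have hnc₂ : ¬ P₂ ≤ C(Q) := by
      intro h
      apply hncq
      intro y hy
      rw [Subgroup.mem_centralizer_iff]
      intro c hc
      have hyP : (y : G) ∈ P₂ := Subgroup.mem_subgroupOf.mp hy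
      have hcQ : (c : G) ∈ Q := by rw [hQdef]; exact Subgroup.mem_map_of_mem _ hc
      have := h hyP
      rw [Subgroup.mem_centralizer_iff] at this
      exact Subtype.ext (this _ hcQ)
    -- Step F
    have hQcop : (Nat.card Q).Coprime p := coprime_card_of_isPGroup_of_ne hp.out hq hqp hQq
    have hxP₂ : x ∈ N(P₂) := by
      rw [hP₂]
      exact mem_normalizer_commutator hxP (Subgroup.le_normalizer (Subgroup.mem_zpowers x))
    have hP₂Q : P₂ ≤ N(Q) := hP₂H₁.trans hH₁Q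
    have htop := S.min hP₂H₁ hP₂p hxP₂ hP₂comm hQ hQcop hxQ hP₂Q hnc₂
    obtain ⟨hd, hR⟩ := S.ded hP₂H₁ hQ hxP₂ hxQ hP₂Q htop
    have hPQdisj : P₁ ⊓ Q = ⊥ := inf_eq_bot_of_isPGroup_of_coprime hPp hQcop
    have hP₁₂ : P₁ ≤ P₂ := by
      intro y hy
      obtain ⟨a, ha, y', hy', hay⟩ := hd y (hP hy)
      have ha1 : a = 1 := by
        have haP : a ∈ P₁ := by
          have : a = y * y'⁻¹ := by rw [← hay]; group
          rw [this]; exact P₁.mul_mem hy (P₁.inv_mem (hP₂P₁ hy'))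
        have : a ∈ P₁ ⊓ Q := Subgroup.mem_inf.mpr ⟨haP, ha⟩
        rw [hPQdisj, Subgroup.mem_bot] at this; exact this
      rw [ha1, one_mul] at hay
      rw [← hay]; exact hy'
    have hPcomm : ⁅P₁, Subgroup.zpowers x⁆ = P₁ := by
      rw [← hP₂]; exact le_antisymm hP₂P₁ hP₁₂
    exact S.final hq hqp hQ hQq hP hPp hxQ hxP (hP.trans hH₁Q)
      (fun h hh => by
        obtain ⟨a, ha, y, hy, e⟩ := hd h hh
        exact ⟨a, ha, y, hP₂P₁ hy, e⟩) hR hPcomm (fun h => hnc₂ (hP₂P₁.trans h))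

end Split

end Cfsg.Agent.Lib.Helper9
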