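/-
helper9: project D4INV (helper91, S2183), module [NC]: in the untwisted Chevalley group `D₄(K)` (`K` finite) the long
root element `x_23(1)` is not conjugate to the element `x_17(1) x_20(1) x_21(1)` (the short root element `x_{2a+b}(1)`
of the twisted group).  Method of helper61's `G2Inv3.not_gconj`: Bruhat form `k = u' h n u`, `u` centralises the
highest root element, `h n` maps it to a root element `x_s(c)`, and `u'⁻¹ x_17(1) x_20(1) x_21(1) u'` is
`x_22(β) x_23(γ) x_17(1) x_20(1) x_21(1)`; compare coefficients of ordered products.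
-/
import Cfsg.Agent.Lib.Helper91.D4Inv.Defs
import Cfsg.Agent.Lib.Helper91.HighRoot
import Cfsg.Agent.Lib.Helper18.Bruhat1
import Cfsg.Agent.Lib.Helper18.Order1
import Cfsg.Agent.Lib.Helper18.Tw3
import Cfsg.Agent.Lib.Helper18.UFactTabs
import Cfsg.Agent.S1037

set_option autoImplicit false

namespace Cfsg.Agent.Lib.Helper9.D4InvNC

open Cfsg Cfsg.Lie Cfsg.Agent.Lib.Helper18 Cfsg.Agent.Lib.Helper91.TwOut Cfsg.Agent.Lib.Helper91.D4Inv
  Cfsg.Agent.Lib.Helper91.HighRoot

universe u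

variable {K : Type u} [Field K]

/-- The commutator formula of the highest root `23` with another positive root is empty. -/
theorem commTerms_23 : ∀ s < 24, 12 ≤ s → s ≠ 23 → chevD4.commTerms 23 s = [] := by decide +kernel

/-- Positive root elements commute with the highest root element. -/
theorem xG_comm_23 (s : ℕ) (hs : s < 24) (hs' : 12 ≤ s) (a b : K) :
    xG hD4 s b * xG hD4 23 a = xG hD4 23 a * xG hD4 s b := by
  by_cases h23 : s = 23
  · subst h23
    rw [xG_mul, xG_mul, add_comm]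
  · refine xG_comm_rho (p := 0) hD4 chevData_D4 (Nat.cast_zero) (by decide) s hs h23 ?_ ?_ a b
    · show s + 23 + 1 ≠ 24
      omega
    · intro c hc
      rw [commTerms_23 s hs hs' h23] at hc
      exact absurd hc (List.not_mem_nil)

theorem isPosRoot_D4 (s : ℕ) : chevD4.IsPosRoot s ↔ s < 24 ∧ 12 ≤ s := isPosRoot_iff hD4 s

/-- `U` centralises the highest root element. -/
theorem U_comm_23 (u : GL chevD4.Idx K) (hu : u ∈ chevD4.posUnipotent K) (a : K) :
    u * xG hD4 23 a = xG hD4 23 a * u := by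
  unfold ChevalleyDatum.posUnipotent at hu
  induction hu using Subgroup.closure_induction with
  | mem g hg =>
    obtain ⟨s, c, hs, hg⟩ := hg
    have hg' : g = xG hD4 s c := Units.ext hg
    obtain ⟨h1, h2⟩ := (isPosRoot_D4 s).mp hs
    rw [hg']
    exact xG_comm_23 s h1 h2 a c
  | one => rw [one_mul, mul_one]
  | mul g₁ g₂ _ _ h1 h2 => rw [mul_assoc, h2, ← mul_assoc, h1, mul_assoc]
  | inv g _ h1 =>
    have : g⁻¹ * xG hD4 23 a = g⁻¹ * (xG hD4 23 a * g) * g⁻¹ := by group
    rw [this, ← h1]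
    group

/-- The levels of the positive roots. -/
theorem lvl_D4 : ∀ s < 24, 12 ≤ s → 4 ≤ levelData_D4.lvl s → s = 22 ∨ s = 23 := by decide +kernel

theorem lvl_D4_3 : 3 ≤ levelData_D4.lvl 17 ∧ 3 ≤ levelData_D4.lvl 20 ∧ 3 ≤ levelData_D4.lvl 21 := by
  decide +kernel

/-- The elements of `U_4`. -/
theorem exists_of_mem_Ulev4 (g : GL chevD4.Idx K) (hg : g ∈ Ulev chevD4 K levelData_D4 4) :
    ∃ b c : K, g = xG hD4 22 b * xG hD4 23 c := by
  unfold Ulev at hg
  induction hg using Subgroup.closure_induction with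
  | mem g hg =>
    obtain ⟨s, t, hs, hl, hgs⟩ := hg
    have hg' : g = xG hD4 s t := Units.ext hgs
    obtain ⟨h1, h2⟩ := (isPosRoot_D4 s).mp hs
    rcases lvl_D4 s h1 h2 hl with rfl | rfl
    · exact ⟨t, 0, by rw [hg', xG_zero, mul_one]⟩
    · exact ⟨0, t, by rw [hg', xG_zero, one_mul]⟩
  | one => exact ⟨0, 0, by rw [xG_zero, xG_zero, one_mul]⟩
  | mul g₁ g₂ _ _ h1 h2 =>
    obtain ⟨b, c, rfl⟩ := h1
    obtain ⟨b', c', rfl⟩ := h2
    refine ⟨b + b', c + c', ?_⟩
    rw [← xG_mul, ← xG_mul]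
    have := xG_comm_23 (K := K) 22 (by norm_num) (by norm_num) c b'
    calc xG hD4 22 b * xG hD4 23 c * (xG hD4 22 b' * xG hD4 23 c')
        = xG hD4 22 b * (xG hD4 23 c * xG hD4 22 b') * xG hD4 23 c' := by group
      _ = xG hD4 22 b * (xG hD4 22 b' * xG hD4 23 c) * xG hD4 23 c' := by rw [this]
      _ = _ := by group
  | inv g _ h1 =>
    obtain ⟨b, c, rfl⟩ := h1
    refine ⟨-b, -c, ?_⟩
    rw [mul_inv_rev, xG_inv, xG_inv]
    exact (xG_comm_23 (K := K) 22 (by norm_num) (by norm_num) (-c) (-b)).symm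

/-- The element `x_17(1) x_20(1) x_21(1)`. -/
noncomputable def yy : GL chevD4.Idx K := xG hD4 17 1 * (xG hD4 20 1 * xG hD4 21 1)

theorem yy_mem_Ulev3 : (yy : GL chevD4.Idx K) ∈ Ulev chevD4 K levelData_D4 3 := by
  unfold yy
  exact mul_mem (xG_mem_Ulev hD4 _ 3 17 1 ((isPosRoot_D4 17).mpr (by norm_num)) lvl_D4_3.1)
    (mul_mem (xG_mem_Ulev hD4 _ 3 20 1 ((isPosRoot_D4 20).mpr (by norm_num)) lvl_D4_3.2.1)
      (xG_mem_Ulev hD4 _ 3 21 1 ((isPosRoot_D4 21).mpr (by norm_num)) lvl_D4_3.2.2))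

/-- Conjugates of `yy` by elements of `U`. -/
theorem conj_U_yy (u : GL chevD4.Idx K) (hu : u ∈ chevD4.posUnipotent K) :
    ∃ b c : K, u⁻¹ * yy * u = xG hD4 22 b * xG hD4 23 c * yy := by
  have h1 := comm_mem_Ulev hD4 chevData_D4 levelData_D4 3 u (yy : GL chevD4.Idx K)⁻¹ hu
    (inv_mem yy_mem_Ulev3)
  rw [inv_inv] at h1
  obtain ⟨b, c, e⟩ := exists_of_mem_Ulev4 _ h1
  refine ⟨b, c, ?_⟩
  rw [← e]
  group

/-- All positive roots, in an order adapted to `yy`. -/
def lst : List ℕ := [22, 23, 17, 20, 21, 12, 13, 14, 15, 16, 18, 19]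

theorem lst_pos : ∀ r ∈ lst, chevD4.IsPosRoot r := by
  intro r hr
  rw [isPosRoot_D4]
  simp only [lst, List.mem_cons, List.not_mem_nil, or_false] at hr
  omega

theorem lst_nodup : lst.Nodup := by decide

theorem lst_all : ∀ r, chevD4.IsPosRoot r → r ∈ lst := by
  intro r hr
  obtain ⟨h1, h2⟩ := (isPosRoot_D4 r).mp hr
  simp only [lst, List.mem_cons, List.not_mem_nil, or_false]
  omega

/-- The coefficient function of `x_22(b) x_23(c) yy`. -/
def tf (b c : K) : ℕ → K :=
  fun r => if r = 22 then b else if r = 23 then c else if r = 17 ∨ r = 20 ∨ r = 21 then 1 else 0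

theorem prodL_tf (b c : K) : prodL hD4 lst (tf b c) = xG hD4 22 b * xG hD4 23 c * yy := by
  simp only [lst, prodL_cons, prodL_nil, tf, yy]
  norm_num [xG_zero, mul_assoc]

/-- A product with a single nonzero coefficient. -/
theorem prodL_single (l : List ℕ) (hnd : l.Nodup) (s : ℕ) (hs : s ∈ l) (c : K) :
    prodL hD4 l (fun r => if r = s then c else 0) = xG hD4 s c := by
  induction l with
  | nil => exact absurd hs (List.not_mem_nil)
  | cons a l ih =>
    rw [List.nodup_cons] at hnd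
    rw [prodL_cons]
    by_cases has : a = s
    · subst has
      rw [if_pos rfl]
      have : prodL hD4 l (fun r => if r = a then c else 0) = prodL hD4 l (fun _ => (0 : K)) := by
        apply prodL_congr
        intro r hr
        rw [if_neg]
        rintro rfl
        exact hnd.1 hr
      rw [this, prodL_zero, mul_one]
    · rw [if_neg has, xG_zero, one_mul]
      rcases List.mem_cons.mp hs with h | h
      · exact absurd h.symm has
      · exact ih hnd.2 h

theorem xG_mem_V (r : ℕ) (h1 : r < 12) (c : K) : xG hD4 r c ∈ chevD4.negUnipotent K :=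
  Subgroup.subset_closure ⟨r, c, isNegRoot_of_lt chevD4 (signOK_of_mem chevD4 hD4) r (by
    show r < 24
    omega) (by
    show r < 24 / 2
    omega), rfl⟩

theorem U_inf_V (g : GL chevD4.Idx K) (h1 : g ∈ chevD4.posUnipotent K) (h2 : g ∈ chevD4.negUnipotent K) :
    g = 1 := by
  have h := (Cfsg.Agent.S1037.result (F := K) chevD4 hD4).1
  have h3 : g ∈ chevD4.borelSubgroup K ⊓ chevD4.negUnipotent K :=
    ⟨(le_sup_left : chevD4.posUnipotent K ≤ chevD4.borelSubgroup K) h1, h2⟩
  rw [h] at h3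
  exact Subgroup.mem_bot.mp h3

/-- `x_23(1)` is not conjugate to `x_17(1) x_20(1) x_21(1)` in `D₄(K)`. -/
theorem not_conj_yy [Fintype K] (k : GL chevD4.Idx K) (hk : k ∈ chevD4.group K)
    (e : k * xG hD4 23 (1 : K) * k⁻¹ = yy) : False := by
  obtain ⟨b, hb, n, hn, u, hu, ek⟩ := exists_bruhat_form hD4 chevData_D4 levelData_D4 k hk
  have huU : u ∈ chevD4.posUnipotent K := closure_UnegSet_le chevD4 n hu
  obtain ⟨u', hu', h, hh, rfl⟩ := (mem_borel_iff chevD4 hD4 b).mp hb
  have hmN : h * n ∈ chevD4.monomialSubgroup K :=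
    mul_mem ((le_sup_left : chevD4.diagonalSubgroup K ≤ chevD4.monomialSubgroup K) hh) hn
  obtain ⟨ws, h₀, hws, hh₀, em⟩ := isWordH_of_mem_monomial hD4 chevData_D4 (h * n) hmN
  have hcu : u * xG hD4 23 1 * u⁻¹ = xG hD4 23 1 := by
    rw [U_comm_23 u huU]
    group
  obtain ⟨β, γ, e2⟩ := conj_U_yy u' hu'
  have e3 : (h * n) * xG hD4 23 1 * (h * n)⁻¹ = xG hD4 22 β * xG hD4 23 γ * yy := by
    rw [← e2, ← e, ek]
    have e4 : u'⁻¹ * (u' * h * n * u * xG hD4 23 1 * (u' * h * n * u)⁻¹) * u'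
        = (h * n) * (u * xG hD4 23 1 * u⁻¹) * (h * n)⁻¹ := by group
    rw [e4, hcu]
  rw [em] at e3
  obtain ⟨t₁, -, e4⟩ := word_conj_xG hD4 chevData_D4 ws hws h₀ hh₀ 23 (by decide) (1 : K)
  rw [e3] at e4
  set s := wordRootF chevData_D4.tabs ws 23 with hs
  have hslt : s < 24 := wordRootF_lt chevData_D4 ws hws 23 (by decide)
  rw [← prodL_tf] at e4
  by_cases hneg : s < 12
  · have h1 : prodL hD4 lst (tf β γ) = 1 :=
      U_inf_V _ (prodL_mem_posUnipotent hD4 lst lst_pos _) (by rw [e4]; exact xG_mem_V _ hneg _)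
    rw [← prodL_zero hD4 lst] at h1
    have h2 := prodL_injective_of_fintype hD4 lst lst_pos lst_nodup lst_all _ _ h1 17 (by decide)
    simp [tf] at h2
  · have hsl : s ∈ lst := lst_all s ((isPosRoot_D4 s).mpr ⟨hslt, by omega⟩)
    rw [← prodL_single lst lst_nodup s hsl t₁] at e4
    have h17 := prodL_injective_of_fintype hD4 lst lst_pos lst_nodup lst_all _ _ e4 17 (by decide)
    have h20 := prodL_injective_of_fintype hD4 lst lst_pos lst_nodup lst_all _ _ e4 20 (by decide)
    simp only [tf] at h17 h20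
    norm_num at h17 h20
    by_cases h17s : (17 : ℕ) = s
    · have : ¬ (20 : ℕ) = s := by omega
      rw [if_neg this] at h20
      exact one_ne_zero h20
    · rw [if_neg h17s] at h17
      exact one_ne_zero h17

/-- [D4INV-NC] non-conjugacy already in the untwisted group `D₄(K)`. -/
theorem not_conj [CharP K 2] (φ : K ≃+* K) [Fintype K] (k : GL chevD4.Idx K) (hk : k ∈ chevD4.group K)
    (h : k * xG hD4 23 (1 : K) * k⁻¹ = x2abG φ 1) : False := by
  apply not_conj_yy k hk
  rw [h, x2abG, yy, map_one, map_one]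

end Cfsg.Agent.Lib.Helper9.D4InvNC
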