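import Mathlib

/-!
# S3084-[HYP]: hyperbolic coordinates for a plus-type quadratic form over `F_2`

A nondegenerate quadratic form `q` on a `2n`-dimensional `F_2`-space which has a totally
singular subspace of dimension `n` is, in suitable coordinates, `(a, b) ↦ a ⬝ᵥ b`.
-/

set_option autoImplicit false

open Matrix

namespace Cfsg.Agent.Lib.Helper9.ESHyp

variable {U : Type*} [AddCommGroup U] [Module (ZMod 2) U]

/-- `q (x + y) = q x + q y + B(x, y)`. -/
theorem q_add (q : QuadraticForm (ZMod 2) U) (x y : U) :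
    q (x + y) = q x + q y + QuadraticMap.polar q x y := by
  unfold QuadraticMap.polar; ring

/-- In characteristic two the polar form is alternating. -/
theorem polar_self_eq_zero (q : QuadraticForm (ZMod 2) U) (x : U) :
    QuadraticMap.polar q x x = 0 := by
  rw [QuadraticMap.polar_self]
  have h2 : (2 : ZMod 2) = 0 := by decide
  rw [two_smul]
  exact CharTwo.add_self_eq_zero _

/-- A linear combination of pairwise orthogonal singular vectors is singular. -/
theorem q_sum_eq_zero (q : QuadraticForm (ZMod 2) U) {ι : Type*} (v : ι → U)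
    (hq : ∀ i, q (v i) = 0) (hB : ∀ i j, QuadraticMap.polar q (v i) (v j) = 0)
    (b : ι → ZMod 2) (s : Finset ι) : q (∑ i ∈ s, b i • v i) = 0 := by
  classical
  induction s using Finset.induction_on with
  | empty => simp
  | insert a s ha ih =>
    rw [Finset.sum_insert ha, q_add, ih, QuadraticMap.map_smul, hq a]
    have : QuadraticMap.polar q (b a • v a) (∑ i ∈ s, b i • v i) = 0 := by
      have h1 : QuadraticMap.polar q (b a • v a) (∑ i ∈ s, b i • v i)
          = QuadraticMap.polarBilin q (b a • v a) (∑ i ∈ s, b i • v i) := rfl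
      rw [h1, map_sum]
      refine Finset.sum_eq_zero fun i _ => ?_
      rw [map_smul, map_smul]
      change b i • (b a • QuadraticMap.polar q (v a) (v i)) = 0
      rw [hB a i]; simp
    rw [this]; simp

/-- S3084-[HYP] (Witt, plus type over `F_2`): hyperbolic coordinates. -/
theorem exists_hyperbolic_coords {U : Type*} [AddCommGroup U] [Module (ZMod 2) U]
    [Module.Finite (ZMod 2) U] (n : ℕ) (hn : Module.finrank (ZMod 2) U = 2 * n)
    (q : QuadraticForm (ZMod 2) U) (hnd : (QuadraticMap.polarBilin q).Nondegenerate)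
    (hplus : ∃ W : Submodule (ZMod 2) U, Module.finrank (ZMod 2) ↥W = n ∧ ∀ w ∈ W, q w = 0) :
    ∃ ψ : U ≃ₗ[ZMod 2] ((Fin n → ZMod 2) × (Fin n → ZMod 2)),
      ∀ u, q u = (ψ u).1 ⬝ᵥ (ψ u).2 := by
  classical
  obtain ⟨W, hWn, hW⟩ := hplus
  set B : LinearMap.BilinForm (ZMod 2) U := QuadraticMap.polarBilin q with hBdef
  have hBapp : ∀ x y, B x y = QuadraticMap.polar q x y := fun x y => rfl
  have hBsymm : ∀ x y, B x y = B y x := fun x y => QuadraticMap.polar_comm q x y
  have hBself : ∀ x, B x x = 0 := fun x => polar_self_eq_zero q x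
  have hqadd : ∀ x y, q (x + y) = q x + q y + B x y := fun x y => q_add q x y
  have hBl : ∀ x y z, B (x + y) z = B x z + B y z := fun x y z => by
    rw [map_add, LinearMap.add_apply]
  have hBr : ∀ x y z, B x (y + z) = B x y + B x z := fun x y z => map_add _ _ _
  have hBW : ∀ x ∈ W, ∀ y ∈ W, B x y = 0 := by
    intro x hx y hy
    rw [hBapp, QuadraticMap.polar, hW _ (W.add_mem hx hy), hW x hx, hW y hy]; simp
  let bW : Module.Basis (Fin n) (ZMod 2) W := Module.finBasisOfFinrankEq _ _ hWn
  -- the dual vectors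
  have hext : ∀ i : Fin n, ∃ g : U →ₗ[ZMod 2] ZMod 2, g ∘ₗ W.subtype = bW.coord i :=
    fun i => LinearMap.exists_extend _
  choose g hg using hext
  have hg' : ∀ i (x : W), g i (x : U) = bW.repr x i := by
    intro i x
    have := LinearMap.congr_fun (hg i) x
    simpa using this
  let v : Fin n → U := fun i => (LinearMap.BilinForm.toDual B hnd).symm (g i)
  have hv : ∀ i u, B (v i) u = g i u := fun i u =>
    LinearMap.BilinForm.apply_toDual_symm_apply (g i) u
  -- the correction
  let c : Fin n → Fin n → ZMod 2 := fun i j =>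
    if i = j then q (v i) else if i < j then B (v i) (v j) else 0
  let s : Fin n → W := fun i => bW.equivFun.symm (c i)
  have hs : ∀ i j, bW.repr (s i) j = c i j := by
    intro i j
    have : bW.equivFun (s i) = c i := bW.equivFun.apply_symm_apply (c i)
    rw [← this]; rfl
  have hvs : ∀ i j, B (v j) (s i : U) = c i j := by
    intro i j
    rw [hv, hg', hs]
  let v' : Fin n → U := fun i => v i + (s i : U)
  have hqv' : ∀ i, q (v' i) = 0 := by
    intro i
    change q (v i + (s i : U)) = 0
    rw [hqadd, hW _ (s i).2, hvs]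
    simp only [c, if_true, add_zero]
    exact CharTwo.add_self_eq_zero _
  have hv'W : ∀ i (x : W), B (v' i) (x : U) = bW.repr x i := by
    intro i x
    change B (v i + (s i : U)) (x : U) = _
    rw [hBl, hBW _ (s i).2 _ x.2, add_zero, hv, hg']
  have hv'v' : ∀ i j, B (v' i) (v' j) = 0 := by
    intro i j
    change B (v i + (s i : U)) (v j + (s j : U)) = 0
    rw [hBl, hBr, hBr, hBW _ (s i).2 _ (s j).2, hvs, hBsymm (s i : U) (v j), hvs]
    rcases lt_trichotomy i j with h | h | h
    · have h1 : i ≠ j := ne_of_lt h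
      have h2 : j ≠ i := fun e => h1 e.symm
      have h3 : ¬ j < i := not_lt.mpr (le_of_lt h)
      simp only [c, if_neg h1, if_neg h2, if_pos h, if_neg h3]
      exact CharTwo.add_self_eq_zero _
    · subst h
      simp only [c, if_true, add_zero]
      rw [hBself, zero_add]
      exact CharTwo.add_self_eq_zero _
    · have h1 : i ≠ j := (ne_of_lt h).symm
      have h2 : j ≠ i := ne_of_lt h
      have h3 : ¬ i < j := not_lt.mpr (le_of_lt h)
      simp only [c, if_neg h1, if_neg h2, if_pos h, if_neg h3]
      rw [hBsymm (v j) (v i)]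
      simp only [add_zero]
      exact CharTwo.add_self_eq_zero _
  -- the coordinate map
  let L : (Fin n → ZMod 2) →ₗ[ZMod 2] U := Fintype.linearCombination (ZMod 2) v'
  have hL : ∀ b, L b = ∑ i, b i • v' i := fun b => Fintype.linearCombination_apply _ _ _
  let Ψ : ((Fin n → ZMod 2) × (Fin n → ZMod 2)) →ₗ[ZMod 2] U :=
    (W.subtype ∘ₗ bW.equivFun.symm.toLinearMap).coprod L
  have hΨ : ∀ a b, Ψ (a, b) = (bW.equivFun.symm a : U) + L b := by
    intro a b
    simp [Ψ]
  have hqL : ∀ b, q (L b) = 0 := by
    intro b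
    rw [hL]
    exact q_sum_eq_zero q v' hqv' (fun i j => hv'v' i j) b Finset.univ
  have hreprA : ∀ (a : Fin n → ZMod 2) i, bW.repr (bW.equivFun.symm a) i = a i := by
    intro a i
    have : bW.equivFun (bW.equivFun.symm a) = a := bW.equivFun.apply_symm_apply a
    conv_rhs => rw [← this]
    rfl
  have hBxv' : ∀ (a : Fin n → ZMod 2) i, B (bW.equivFun.symm a : U) (v' i) = a i := by
    intro a i
    rw [hBsymm, hv'W, hreprA]
  have hBxL : ∀ (a b : Fin n → ZMod 2), B (bW.equivFun.symm a : U) (L b) = a ⬝ᵥ b := by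
    intro a b
    rw [hL, map_sum, dotProduct]
    refine Finset.sum_congr rfl fun i _ => ?_
    rw [map_smul, hBxv', smul_eq_mul, mul_comm]
  have hqΨ : ∀ a b, q (Ψ (a, b)) = a ⬝ᵥ b := by
    intro a b
    rw [hΨ, hqadd, hW _ (bW.equivFun.symm a).2, hqL, hBxL]
    simp
  -- injectivity through the explicit left inverse
  have hBLv' : ∀ (b : Fin n → ZMod 2) j, B (L b) (v' j) = 0 := by
    intro b j
    rw [hL, map_sum, LinearMap.sum_apply]
    refine Finset.sum_eq_zero fun i _ => ?_
    rw [map_smul, LinearMap.smul_apply, hv'v', smul_zero]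
  have hBLw : ∀ (b : Fin n → ZMod 2) j, B (L b) (bW j : U) = b j := by
    intro b j
    rw [hL, map_sum, LinearMap.sum_apply]
    rw [Finset.sum_eq_single j]
    · rw [map_smul, LinearMap.smul_apply, hv'W]
      simp
    · intro i _ hij
      rw [map_smul, LinearMap.smul_apply, hv'W]
      simp [hij.symm]
    · intro h; exact absurd (Finset.mem_univ j) h
  have hinj : Function.Injective Ψ := by
    rw [injective_iff_map_eq_zero]
    rintro ⟨a, b⟩ hab
    rw [hΨ] at hab
    have ha : a = 0 := by
      funext j
      have h1 : B ((bW.equivFun.symm a : U) + L b) (v' j) = 0 := by rw [hab]; simp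
      rw [hBl, hBxv', hBLv', add_zero] at h1
      simpa using h1
    have hb : b = 0 := by
      funext j
      have h1 : B ((bW.equivFun.symm a : U) + L b) (bW j : U) = 0 := by rw [hab]; simp
      rw [hBl, hBW _ (bW.equivFun.symm a).2 _ (bW j).2, hBLw, zero_add] at h1
      simpa using h1
    rw [ha, hb]; rfl
  have hdim : Module.finrank (ZMod 2) ((Fin n → ZMod 2) × (Fin n → ZMod 2))
      = Module.finrank (ZMod 2) U := by
    rw [hn, Module.finrank_prod, Module.finrank_fin_fun]; ring
  let e := Ψ.linearEquivOfInjective hinj hdim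
  refine ⟨e.symm, fun u => ?_⟩
  have h1 : Ψ (e.symm u) = u := by
    have : e (e.symm u) = u := e.apply_symm_apply u
    rwa [LinearMap.linearEquivOfInjective_apply] at this
  conv_lhs => rw [← h1]
  exact hqΨ _ _

end Cfsg.Agent.Lib.Helper9.ESHyp
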