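/-
helper9: module F4OUT-[C-FIELD] of helper91's project F4OUT (S2128): every field automorphism `τ` of `K` induces
(entrywise) an automorphism of `²F₄` fixing `U¹` and `V¹` and mapping `xa t` to `xa (τ t)`.
-/
import Cfsg.Agent.Lib.Helper91.F4Out.F4Defs
import Cfsg.Agent.Lib.Helper69.TwOut.D4Field

set_option autoImplicit false
set_option linter.unusedSectionVars false

namespace Cfsg.Agent.Lib.Helper9.F4Out

open Cfsg Cfsg.Lie Cfsg.Agent.Lib.Helper18 Cfsg.Agent.Lib.Helper18.F4T Cfsg.Agent.Lib.Helper91.TwOut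
open Cfsg.Agent.Lib.Helper91.ReeF4 Cfsg.Agent.Lib.Helper91.SigAbs Cfsg.Agent.Lib.Helper91.ExcAut
open Cfsg.Agent.Lib.Helper61.ReeF4 Cfsg.Agent.Lib.Helper91.F4Out

universe u

/-- An automorphism of a group fixing a subgroup restricts to it, and the restriction fixes the traces of the fixed
subgroups (as `Helper69.TwOut.exists_restrict`). -/
theorem exists_restrict' {Γ : Type*} [Group Γ] (Θ : Γ ≃* Γ) (G : Subgroup Γ)
    (hG : G.map Θ.toMonoidHom = G) :
    ∃ θ : ↥G ≃* ↥G, (∀ g : ↥G, ((θ g : ↥G) : Γ) = Θ g) ∧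
      ∀ W : Subgroup Γ, W.map Θ.toMonoidHom = W → (W.subgroupOf G).map θ.toMonoidHom = W.subgroupOf G := by
  let θ : ↥G ≃* ↥G := (Θ.subgroupMap G).trans (MulEquiv.subgroupCongr hG)
  have hθ : ∀ g : ↥G, ((θ g : ↥G) : Γ) = Θ g := fun g => rfl
  refine ⟨θ, hθ, ?_⟩
  intro W hW
  ext g
  rw [Subgroup.mem_map, Subgroup.mem_subgroupOf]
  constructor
  · rintro ⟨x, hx, rfl⟩
    show ((θ x : ↥G) : Γ) ∈ W
    rw [hθ, ← hW]
    exact Subgroup.mem_map_of_mem _ (Subgroup.mem_subgroupOf.mp hx)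
  · intro hg
    rw [← hW] at hg
    obtain ⟨y, hy, hyg⟩ := hg
    refine ⟨θ.symm g, ?_, θ.apply_symm_apply g⟩
    rw [Subgroup.mem_subgroupOf]
    have h1 : Θ ((θ.symm g : ↥G) : Γ) = (g : Γ) := by
      rw [← hθ, θ.apply_symm_apply]
    have h2 : ((θ.symm g : ↥G) : Γ) = y := Θ.injective (h1.trans hyg.symm)
    rw [h2]
    exact hy

variable (K : Type u) [Field K] [Fintype K] [CharP K 2] (m : ℕ) (hq : ∀ t : K, t ^ (2 * 2 ^ m * 2 ^ m) = t)

/-- the image of a word under an entrywise field automorphism -/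
theorem glMap_wordG (τ : K ≃+* K) (w : List (ℕ × K)) :
    Cfsg.Agent.S1080.glMap chevF4 τ (wordG Cfsg.Agent.Lib.Helper91.ReeF4.hD4 w) = wordG Cfsg.Agent.Lib.Helper91.ReeF4.hD4 (w.map fun a => (a.1, τ a.2)) := by
  induction w with
  | nil => simp [wordG_nil]
  | cons a w ih => rw [wordG_cons, List.map_cons, wordG_cons, map_mul, ih, glMap_xG Cfsg.Agent.Lib.Helper91.ReeF4.hD4 τ a.1 a.2]

/-- the generating words are stable under the field automorphisms -/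
theorem map_mem_f4Words (τ : K ≃+* K) (e : ℕ) (w : List (ℕ × K)) (hw : w ∈ f4Words K e) :
    (w.map fun a => (a.1, τ a.2)) ∈ f4Words K e := by
  rcases hw with ⟨t, rfl | rfl⟩ | ⟨t, υ, rfl | rfl⟩
  · left
    refine ⟨τ t, Or.inl ?_⟩
    unfold f4PairWord
    simp only [List.map_cons, List.map_nil, map_pow]
  · left
    refine ⟨τ t, Or.inr ?_⟩
    unfold f4PairWord
    simp only [List.map_cons, List.map_nil, map_pow]
  · right
    refine ⟨τ t, τ υ, Or.inl ?_⟩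
    unfold b2ClassWord
    simp only [List.map_cons, List.map_nil, map_pow, map_add]
  · right
    refine ⟨τ t, τ υ, Or.inr ?_⟩
    unfold b2ClassWord
    simp only [List.map_cons, List.map_nil, map_pow, map_add]

theorem glMap_gen_subset (τ : K ≃+* K) (e : ℕ) (g : GL chevF4.Idx K)
    (hg : g ∈ {g : GL chevF4.Idx K | ∃ w ∈ f4Words K e,
      (g : Matrix chevF4.Idx chevF4.Idx K) = chevF4.wordMat K w}) :
    Cfsg.Agent.S1080.glMap chevF4 τ g ∈ {g : GL chevF4.Idx K | ∃ w ∈ f4Words K e,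
      (g : Matrix chevF4.Idx chevF4.Idx K) = chevF4.wordMat K w} := by
  obtain ⟨w, hw, hgw⟩ := hg
  have hg' : g = wordG Cfsg.Agent.Lib.Helper91.ReeF4.hD4 w := Units.ext (hgw.trans (coe_wordG Cfsg.Agent.Lib.Helper91.ReeF4.hD4 w).symm)
  refine ⟨w.map fun a => (a.1, τ a.2), map_mem_f4Words K τ e w hw, ?_⟩
  rw [hg', glMap_wordG K τ w, coe_wordG]

/-- the entrywise field automorphisms fix `²F₄` -/
theorem glMap_twistedF4 (τ : K ≃+* K) (e : ℕ) :
    (twistedF4 K e).map ((Cfsg.Agent.S1080.glMap chevF4 τ : GL chevF4.Idx K ≃* GL chevF4.Idx K) :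
      GL chevF4.Idx K →* GL chevF4.Idx K) = twistedF4 K e := by
  unfold twistedF4 ChevalleyDatum.genSubgroup
  rw [MonoidHom.map_closure]
  congr 1
  ext g
  simp only [Set.mem_image]
  constructor
  · rintro ⟨g', hg', rfl⟩
    exact glMap_gen_subset K τ e g' hg'
  · intro hg
    exact ⟨Cfsg.Agent.S1080.glMap chevF4 τ.symm g, glMap_gen_subset K τ.symm e g hg,
      Cfsg.Agent.Lib.Helper69.TwOut.glMap_glMap_symm τ g⟩

/-- [C-FIELD] -/
theorem exists_fieldAut (τ : K ≃+* K) :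
    ∃ θ : ↥(GF4 K m) ≃* ↥(GF4 K m), (UF4 K m).map θ.toMonoidHom = UF4 K m ∧
      (VF4 K m).map θ.toMonoidHom = VF4 K m ∧ ∀ t, θ (xa K m t) = xa K m (τ t) := by
  obtain ⟨θ, h1, h2⟩ := exists_restrict' (Cfsg.Agent.S1080.glMap chevF4 τ) (GF4 K m)
    (glMap_twistedF4 K τ (2 ^ m))
  refine ⟨θ, h2 _ (Cfsg.Agent.Lib.Helper69.TwOut.glMap_posUnipotent Cfsg.Agent.Lib.Helper91.ReeF4.hD4 τ),
    h2 _ (Cfsg.Agent.Lib.Helper69.TwOut.glMap_negUnipotent Cfsg.Agent.Lib.Helper91.ReeF4.hD4 τ), ?_⟩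
  intro t
  apply Subtype.ext
  rw [h1]
  show Cfsg.Agent.S1080.glMap chevF4 τ (wordG Cfsg.Agent.Lib.Helper91.ReeF4.hD4 (f4PairWord (2 ^ m) 33 24 t))
    = wordG Cfsg.Agent.Lib.Helper91.ReeF4.hD4 (f4PairWord (2 ^ m) 33 24 (τ t))
  rw [glMap_wordG]
  unfold f4PairWord
  simp only [List.map_cons, List.map_nil, map_pow]

end Cfsg.Agent.Lib.Helper9.F4Out
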