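/-
helper9: module F4OUT-[C-GEN] of helper91's project F4OUT (S2128): `²F₄` is generated by the fundamental root elements
`xa t`, `ya t`, `xb t υ`, `yb t υ` (these are exactly the generators of the definition).
-/
import Cfsg.Agent.Lib.Helper91.F4Out.F4Defs

set_option autoImplicit false
set_option linter.unusedSectionVars false

namespace Cfsg.Agent.Lib.Helper9.F4Out

open Cfsg Cfsg.Lie Cfsg.Agent.Lib.Helper18 Cfsg.Agent.Lib.Helper18.F4T Cfsg.Agent.Lib.Helper91.TwOut
open Cfsg.Agent.Lib.Helper91.ReeF4 Cfsg.Agent.Lib.Helper91.SigAbs Cfsg.Agent.Lib.Helper91.ExcAut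
open Cfsg.Agent.Lib.Helper61.ReeF4 Cfsg.Agent.Lib.Helper91.F4Out

universe u

variable (K : Type u) [Field K] [Fintype K] [CharP K 2] (m : ℕ) (hq : ∀ t : K, t ^ (2 * 2 ^ m * 2 ^ m) = t)

/-- [C-GEN] -/
theorem closure_gens :
    Subgroup.closure (Set.range (xa K m) ∪ Set.range (ya K m) ∪
      Set.range (fun p : K × K => xb K m p.1 p.2) ∪ Set.range (fun p : K × K => yb K m p.1 p.2)) = ⊤ := by
  have h1 : Subgroup.closure (((↑) : ↥(GF4 K m) → GL chevF4.Idx K) ⁻¹'
      {g | ∃ w ∈ f4Words K (2 ^ m), (g : Matrix chevF4.Idx chevF4.Idx K) = chevF4.wordMat K w}) = ⊤ :=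
    Subgroup.closure_closure_coe_preimage
  rw [eq_top_iff, ← h1]
  apply Subgroup.closure_mono
  rintro x ⟨w, hw, hxw⟩
  rcases hw with ⟨t, rfl | rfl⟩ | ⟨t, υ, rfl | rfl⟩
  · left; left; left
    refine ⟨t, ?_⟩
    apply Subtype.ext
    apply Units.ext
    rw [hxw]
    exact coe_wordG hD4 _
  · left; left; right
    refine ⟨t, ?_⟩
    apply Subtype.ext
    apply Units.ext
    rw [hxw]
    exact coe_wordG hD4 _
  · left; right
    refine ⟨(t, υ), ?_⟩
    apply Subtype.ext
    apply Units.ext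
    rw [hxw]
    exact coe_wordG hD4 _
  · right
    refine ⟨(t, υ), ?_⟩
    apply Subtype.ext
    apply Units.ext
    rw [hxw]
    exact coe_wordG hD4 _

end Cfsg.Agent.Lib.Helper9.F4Out
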