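/-
helper9: module F4OUT-[C-XEQ] of helper91's project F4OUT (S2128): the representative `n₀` of the longest element of
`²F₄` conjugates the negative fundamental root elements `ya`, `yb` to the positive ones `xa`, `xb`, and hence
`X_i = n₀ Y_i n₀⁻¹`.
-/
import Cfsg.Agent.Lib.Helper91.F4Out.F4Defs

set_option autoImplicit false
set_option linter.unusedSectionVars false

namespace Cfsg.Agent.Lib.Helper9.F4Out

open Cfsg Cfsg.Lie Cfsg.Agent.Lib.Helper18 Cfsg.Agent.Lib.Helper18.F4T Cfsg.Agent.Lib.Helper91.TwOut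
open Cfsg.Agent.Lib.Helper91.ReeF4 Cfsg.Agent.Lib.Helper91.SigAbs Cfsg.Agent.Lib.Helper91.ExcAut
open Cfsg.Agent.Lib.Helper61.ReeF4 Cfsg.Agent.Lib.Helper91.F4Out

universe u

variable (K : Type u) [Field K] [Fintype K] [CharP K 2] (m : ℕ) (hq : ∀ t : K, t ^ (2 * 2 ^ m * 2 ^ m) = t)

/-- [C-XEQ] -/
theorem n0F4_conj_ya (t : K) : n0F4 K m * ya K m t * (n0F4 K m)⁻¹ = xa K m t := by
  apply Subtype.ext
  show f4n0 K * wordG hD4 (f4PairWord (2 ^ m) 14 23 t) * (f4n0 K)⁻¹ = wordG hD4 (f4PairWord (2 ^ m) 33 24 t)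
  unfold f4n0
  rw [nW_conj_wordG (wordJ f4Long) (wordJ_lt _) _ (by
    intro a ha
    unfold f4PairWord at ha
    simp only [List.mem_cons, List.not_mem_nil, or_false] at ha
    rcases ha with rfl | rfl
    · exact (by decide : (14 : ℕ) < chevF4.nroots)
    · exact (by decide : (23 : ℕ) < chevF4.nroots))]
  unfold f4PairWord
  simp only [List.map_cons, List.map_nil]
  rw [f4Long_neg 14 (by norm_num), f4Long_neg 23 (by norm_num)]

theorem n0F4_conj_yb (t υ : K) : n0F4 K m * yb K m t υ * (n0F4 K m)⁻¹ = xb K m t υ := by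
  apply Subtype.ext
  show f4n0 K * wordG hD4 (b2ClassWord (2 ^ m) 20 22 19 17 t υ) * (f4n0 K)⁻¹
    = wordG hD4 (b2ClassWord (2 ^ m) 27 25 28 30 t υ)
  unfold f4n0
  rw [nW_conj_wordG (wordJ f4Long) (wordJ_lt _) _ (by
    intro a ha
    unfold b2ClassWord at ha
    simp only [List.mem_cons, List.not_mem_nil, or_false] at ha
    rcases ha with rfl | rfl | rfl | rfl
    · exact (by decide : (20 : ℕ) < chevF4.nroots)
    · exact (by decide : (22 : ℕ) < chevF4.nroots)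
    · exact (by decide : (19 : ℕ) < chevF4.nroots)
    · exact (by decide : (17 : ℕ) < chevF4.nroots))]
  unfold b2ClassWord
  simp only [List.map_cons, List.map_nil]
  rw [f4Long_neg 20 (by norm_num), f4Long_neg 22 (by norm_num), f4Long_neg 19 (by norm_num),
    f4Long_neg 17 (by norm_num)]

theorem XF4_eq
    (hX0 : ∀ g : ↥(GF4 K m), g ∈ XF4 K m 0 ↔ ∃ t, g = xa K m t)
    (hY0 : ∀ g : ↥(GF4 K m), g ∈ YF4 K m 0 ↔ ∃ t, g = ya K m t)
    (hX1 : ∀ g : ↥(GF4 K m), g ∈ XF4 K m 1 ↔ ∃ t υ, g = xb K m t υ)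
    (hY1 : ∀ g : ↥(GF4 K m), g ∈ YF4 K m 1 ↔ ∃ t υ, g = yb K m t υ) (i : Fin 2) (g : ↥(GF4 K m)) :
    g ∈ XF4 K m i ↔ (n0F4 K m)⁻¹ * g * n0F4 K m ∈ YF4 K m i := by
  fin_cases i
  · show g ∈ XF4 K m 0 ↔ (n0F4 K m)⁻¹ * g * n0F4 K m ∈ YF4 K m 0
    rw [hX0, hY0]
    constructor
    · rintro ⟨t, rfl⟩
      refine ⟨t, ?_⟩
      rw [← n0F4_conj_ya K m t]
      group
    · rintro ⟨t, ht⟩
      refine ⟨t, ?_⟩
      rw [← n0F4_conj_ya K m t, ← ht]
      group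
  · show g ∈ XF4 K m 1 ↔ (n0F4 K m)⁻¹ * g * n0F4 K m ∈ YF4 K m 1
    rw [hX1, hY1]
    constructor
    · rintro ⟨t, υ, rfl⟩
      refine ⟨t, υ, ?_⟩
      rw [← n0F4_conj_yb K m t υ]
      group
    · rintro ⟨t, υ, ht⟩
      refine ⟨t, υ, ?_⟩
      rw [← n0F4_conj_yb K m t υ, ← ht]
      group

end Cfsg.Agent.Lib.Helper9.F4Out
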