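import Mathlib
import Cfsg.Prelude.Def_CaseTheorems
import Cfsg.Agent.Lib.Helper38.KleinFour

set_option autoImplicit false
open scoped Pointwise

namespace Cfsg.Agent.Lib.Helper9

open Cfsg.Agent.Lib.Helper38

/-- The commuting relation on Klein four-subgroups. -/
def FourRel (G : Type*) [Group G] : Subgroup G → Subgroup G → Prop :=
  fun A B => IsKleinFour A ∧ IsKleinFour B ∧ ∀ a ∈ A, ∀ b ∈ B, a * b = b * a

theorem isFourConnected_iff (G : Type*) [Group G] :
    Cfsg.IsFourConnected G ↔ ∀ U V : Subgroup G, IsKleinFour U → IsKleinFour V →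
      Relation.ReflTransGen (FourRel G) U V := Iff.rfl

theorem fourRel_symm {G : Type*} [Group G] {A B : Subgroup G} (h : FourRel G A B) :
    FourRel G B A :=
  ⟨h.2.1, h.1, fun b hb a ha => (h.2.2 a ha b hb).symm⟩

theorem fourConn_symm {G : Type*} [Group G] {A B : Subgroup G}
    (h : Relation.ReflTransGen (FourRel G) A B) : Relation.ReflTransGen (FourRel G) B A := by
  induction h with
  | refl => exact Relation.ReflTransGen.refl
  | tail _ hbc ih => exact Relation.ReflTransGen.head (fourRel_symm hbc) ih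

theorem isKleinFour_of_mulEquiv {A B : Type*} [Group A] [Group B] (e : A ≃* B)
    (hA : IsKleinFour A) : IsKleinFour B :=
  ⟨by rw [← Nat.card_congr e.toEquiv]; exact hA.card_four,
   by rw [← Monoid.exponent_eq_of_mulEquiv e]; exact hA.exponent_two⟩

theorem isKleinFour_map {G H : Type*} [Group G] [Group H] (f : G →* H)
    (hf : Function.Injective f) (A : Subgroup G) (hA : IsKleinFour A) : IsKleinFour (A.map f) :=
  isKleinFour_of_mulEquiv (A.equivMapOfInjective f hf) hA

theorem isKleinFour_conj_smul {G : Type*} [Group G] (g : G) (A : Subgroup G)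
    (hA : IsKleinFour A) : IsKleinFour (MulAut.conj g • A : Subgroup G) :=
  isKleinFour_of_mulEquiv (Subgroup.equivSMul (MulAut.conj g) A) hA

theorem mem_conj_smul_iff {G : Type*} [Group G] (g x : G) (A : Subgroup G) :
    x ∈ MulAut.conj g • A ↔ ∃ a ∈ A, x = g * a * g⁻¹ := by
  constructor
  · intro hx
    obtain ⟨a, ha, rfl⟩ := (Subgroup.mem_smul_pointwise_iff_exists _ _ _).1 hx
    exact ⟨a, ha, by simp [MulAut.smul_def]⟩
  · rintro ⟨a, ha, rfl⟩
    exact (Subgroup.mem_smul_pointwise_iff_exists _ _ _).2 ⟨a, ha, by simp [MulAut.smul_def]⟩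

theorem fourRel_conj {G : Type*} [Group G] (g : G) {A B : Subgroup G} (h : FourRel G A B) :
    FourRel G (MulAut.conj g • A) (MulAut.conj g • B) := by
  refine ⟨isKleinFour_conj_smul g A h.1, isKleinFour_conj_smul g B h.2.1, ?_⟩
  intro x hx y hy
  obtain ⟨a, ha, rfl⟩ := (mem_conj_smul_iff g x A).1 hx
  obtain ⟨b, hb, rfl⟩ := (mem_conj_smul_iff g y B).1 hy
  have := h.2.2 a ha b hb
  calc g * a * g⁻¹ * (g * b * g⁻¹) = g * (a * b) * g⁻¹ := by group
    _ = g * (b * a) * g⁻¹ := by rw [this]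
    _ = g * b * g⁻¹ * (g * a * g⁻¹) := by group

theorem fourConn_conj {G : Type*} [Group G] (g : G) {A B : Subgroup G}
    (h : Relation.ReflTransGen (FourRel G) A B) :
    Relation.ReflTransGen (FourRel G) (MulAut.conj g • A) (MulAut.conj g • B) :=
  Relation.ReflTransGen.lift (fun X => MulAut.conj g • X) (fun _ _ hab => fourRel_conj g hab) _ _ h

/-- Four-connectedness of a subgroup `S` gives paths in `G` between four-subgroups of `S`. -/
theorem fourConn_of_le {G : Type*} [Group G] (S : Subgroup G) (hS : Cfsg.IsFourConnected S)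
    (A B : Subgroup G) (hA : IsKleinFour A) (hB : IsKleinFour B) (hAS : A ≤ S) (hBS : B ≤ S) :
    Relation.ReflTransGen (FourRel G) A B := by
  have hA' : IsKleinFour (A.subgroupOf S) :=
    isKleinFour_of_mulEquiv (Subgroup.subgroupOfEquivOfLe hAS).symm hA
  have hB' : IsKleinFour (B.subgroupOf S) :=
    isKleinFour_of_mulEquiv (Subgroup.subgroupOfEquivOfLe hBS).symm hB
  have h := (isFourConnected_iff S).1 hS _ _ hA' hB'
  have h2 := Relation.ReflTransGen.lift (r := FourRel S) (p := FourRel G)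
    (fun X : Subgroup S => X.map S.subtype) (fun X Y hXY => by
      refine ⟨isKleinFour_map _ S.subtype_injective X hXY.1,
        isKleinFour_map _ S.subtype_injective Y hXY.2.1, ?_⟩
      rintro _ ⟨x, hx, rfl⟩ _ ⟨y, hy, rfl⟩
      have := hXY.2.2 x hx y hy
      exact congrArg Subtype.val this) _ _ h
  change Relation.ReflTransGen (FourRel G) ((A.subgroupOf S).map S.subtype)
    ((B.subgroupOf S).map S.subtype) at h2
  rwa [Subgroup.map_subgroupOf_eq_of_le hAS, Subgroup.map_subgroupOf_eq_of_le hBS] at h2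

/-- A group of 2-rank at least 2 contains a four-group. -/
theorem exists_isKleinFour_of_not_pRankLE {Q : Type*} [Group Q] [Finite Q]
    (hQ : ¬ Cfsg.PRankLE 2 1 Q) : ∃ A : Subgroup Q, IsKleinFour A := by
  unfold Cfsg.PRankLE at hQ
  push Not at hQ
  obtain ⟨A, hAc, hA2, hAcard⟩ := hQ
  rw [pow_one] at hAcard
  -- two distinct non-identity elements of `A`
  have hex : ∀ x y : Q, ∃ z ∈ A, z ≠ x ∧ z ≠ y := by
    intro x y
    have h1 : ({x, y} : Set Q).ncard < ((A : Set Q)).ncard := by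
      have h2 : ({x, y} : Set Q).ncard ≤ 2 := by
        calc ({x, y} : Set Q).ncard ≤ ({y} : Set Q).ncard + 1 := Set.ncard_insert_le x {y}
          _ = 2 := by rw [Set.ncard_singleton]
      have h3 : ((A : Set Q)).ncard = Nat.card A := (Nat.card_coe_set_eq (A : Set Q)).symm
      omega
    obtain ⟨z, hzC, hz⟩ := Set.exists_mem_notMem_of_ncard_lt_ncard h1 (Set.toFinite _)
    refine ⟨z, hzC, ?_, ?_⟩
    · rintro rfl
      exact hz (Set.mem_insert _ _)
    · rintro rfl
      exact hz (Set.mem_insert_of_mem _ rfl)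
  obtain ⟨e₁, he₁A, he₁1, -⟩ := hex 1 1
  obtain ⟨e₂, he₂A, he₂1, he₂e₁⟩ := hex 1 e₁
  have h11 : e₁ * e₁ = 1 := by
    have := hA2 e₁ he₁A
    rwa [sq] at this
  have h22 : e₂ * e₂ = 1 := by
    have := hA2 e₂ he₂A
    rwa [sq] at this
  have h12 : e₁ * e₂ = e₂ * e₁ := by
    have := mul_comm' (⟨e₁, he₁A⟩ : A) ⟨e₂, he₂A⟩
    exact congrArg Subtype.val this
  exact ⟨klein4 e₁ e₂ h11 h22 h12, isKleinFour_klein4 _ _ _ _ _ he₁1 he₂1 (Ne.symm he₂e₁)⟩

/-- A subgroup of 2-rank at least 2 contains a four-group. -/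
theorem exists_isKleinFour_le_of_not_pRankLE {G : Type*} [Group G] [Finite G] (Q : Subgroup G)
    (hQ : ¬ Cfsg.PRankLE 2 1 Q) : ∃ A : Subgroup G, IsKleinFour A ∧ A ≤ Q := by
  obtain ⟨A, hA⟩ := exists_isKleinFour_of_not_pRankLE hQ
  refine ⟨A.map Q.subtype, isKleinFour_map _ Q.subtype_injective A hA, ?_⟩
  rintro _ ⟨x, _, rfl⟩
  exact x.2

/-- A subgroup containing a four-group has 2-rank at least 2. -/
theorem not_pRankLE_of_isKleinFour_le {G : Type*} [Group G] (Q A : Subgroup G)
    (hA : IsKleinFour A) (hAQ : A ≤ Q) : ¬ Cfsg.PRankLE 2 1 Q := by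
  intro h
  have hA' : IsKleinFour (A.subgroupOf Q) :=
    isKleinFour_of_mulEquiv (Subgroup.subgroupOfEquivOfLe hAQ).symm hA
  have h1 := h (A.subgroupOf Q) (IsKleinFour.isMulCommutative) (by
    intro a ha
    have := IsKleinFour.mul_self (⟨a, ha⟩ : A.subgroupOf Q)
    rw [sq]
    exact congrArg Subtype.val this)
  rw [hA'.card_four] at h1
  norm_num at h1

theorem isPGroup_two_of_isKleinFour {G : Type*} [Group G] (A : Subgroup G) (hA : IsKleinFour A) :
    IsPGroup 2 A :=
  IsPGroup.of_card (n := 2) (by rw [hA.card_four]; norm_num)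

/-- Every 2-subgroup is conjugate into a given Sylow 2-subgroup. -/
theorem exists_conj_smul_le_sylow {G : Type*} [Group G] [Finite G] (p : ℕ) [Fact p.Prime]
    (S : Sylow p G) (T : Subgroup G) (hT : IsPGroup p T) :
    ∃ g : G, MulAut.conj g • T ≤ (S : Subgroup G) := by
  obtain ⟨Q, hQ⟩ := hT.exists_le_sylow
  obtain ⟨g, hg⟩ := MulAction.exists_smul_eq G Q S
  refine ⟨g, ?_⟩
  rw [← hg, Sylow.coe_subgroup_smul]
  exact Subgroup.pointwise_smul_le_pointwise_smul_iff.2 hQ

end Cfsg.Agent.Lib.Helper9
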