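import Mathlib
import Cfsg.Agent.Lib.Helper2.FusionControl

/-!
ℋ-subgroups: `E ≤ G` with `E^g ∩ N_G(E) ≤ E` for all `g`.  Basic theory:
normal in every `p`-subgroup containing it, strongly closed there, conjugation invariance,
restriction to subgroups, passage to quotients, intersections with normal `p`-subgroups.
-/

set_option autoImplicit false

namespace Cfsg.Agent.Lib.Helper9

variable {G : Type*} [Group G]

/-- `E` is an ℋ-subgroup of `G`: `E^g ∩ N_G(E) ≤ E` for every `g`. -/
def IsH (E : Subgroup G) : Prop :=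
  ∀ g : G, E.map (MulAut.conj g).toMonoidHom ⊓ Subgroup.normalizer (E : Set G) ≤ E

theorem mem_map_conj_iff' (E : Subgroup G) (g x : G) :
    x ∈ E.map (MulAut.conj g).toMonoidHom ↔ g⁻¹ * x * g ∈ E := by
  constructor
  · rintro ⟨e, he, rfl⟩
    simp only [MulEquiv.coe_toMonoidHom, MulAut.conj_apply]
    have : g⁻¹ * (g * e * g⁻¹) * g = e := by group
    rw [this]; exact he
  · intro h
    refine ⟨g⁻¹ * x * g, h, ?_⟩
    simp only [MulEquiv.coe_toMonoidHom, MulAut.conj_apply]
    group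

theorem conj_mem_map_conj (E : Subgroup G) (g : G) {e : G} (he : e ∈ E) :
    g * e * g⁻¹ ∈ E.map (MulAut.conj g).toMonoidHom :=
  ⟨e, he, by simp⟩

theorem IsH.conj_mem {E : Subgroup G} (hE : IsH E) {g e : G} (he : e ∈ E)
    (hn : g * e * g⁻¹ ∈ Subgroup.normalizer (E : Set G)) : g * e * g⁻¹ ∈ E :=
  hE g (Subgroup.mem_inf.mpr ⟨conj_mem_map_conj E g he, hn⟩)

/-- An ℋ-subgroup is normal in every `p`-subgroup containing it. -/
theorem IsH.le_normalizer_of_isPGroup [Finite G] {p : ℕ} [Fact p.Prime] {E : Subgroup G}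
    (hE : IsH E) (R : Subgroup G) (hR : IsPGroup p R) (hER : E ≤ R) :
    R ≤ Subgroup.normalizer (E : Set G) := by
  by_contra hcon
  set M : Subgroup G := R ⊓ Subgroup.normalizer (E : Set G) with hM
  have hMR : M ≤ R := inf_le_left
  have hne : M ≠ R := by
    intro h
    apply hcon
    rw [← h]; exact inf_le_right
  obtain ⟨a, haR, haM, haN⟩ := Cfsg.Agent.Lib.Helper2.exists_mem_normalizer_not_mem R hR M hMR hne
  apply haM
  refine ⟨haR, ?_⟩
  apply Subgroup.mem_normalizer_fintype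
  intro e he
  apply hE.conj_mem he
  have heM : e ∈ M := ⟨hER he, Subgroup.le_normalizer he⟩
  exact ((Subgroup.mem_normalizer_iff.mp haN e).mp heM).2

/-- An ℋ-subgroup is strongly closed in every `p`-subgroup containing it. -/
theorem IsH.conj_mem_of_mem [Finite G] {p : ℕ} [Fact p.Prime] {E : Subgroup G}
    (hE : IsH E) (R : Subgroup G) (hR : IsPGroup p R) (hER : E ≤ R) {g e : G} (he : e ∈ E)
    (h : g * e * g⁻¹ ∈ R) : g * e * g⁻¹ ∈ E :=
  hE.conj_mem he (hE.le_normalizer_of_isPGroup R hR hER h)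

/-- Weak closure: if `E^g` lies in a `p`-subgroup containing `E` then `g` normalizes `E`. -/
theorem IsH.mem_normalizer_of_conj_le [Finite G] {p : ℕ} [Fact p.Prime] {E : Subgroup G}
    (hE : IsH E) (R : Subgroup G) (hR : IsPGroup p R) (hER : E ≤ R) (g : G)
    (h : ∀ e ∈ E, g * e * g⁻¹ ∈ R) : g ∈ Subgroup.normalizer (E : Set G) := by
  apply Subgroup.mem_normalizer_fintype
  intro e he
  exact hE.conj_mem_of_mem R hR hER he (h e he)

theorem normalizer_map_conj (E : Subgroup G) (a : G) :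
    Subgroup.normalizer ((E.map (MulAut.conj a).toMonoidHom : Subgroup G) : Set G) =
      (Subgroup.normalizer (E : Set G)).map (MulAut.conj a).toMonoidHom := by
  ext x
  rw [mem_map_conj_iff', Subgroup.mem_normalizer_iff, Subgroup.mem_normalizer_iff]
  constructor
  · intro h y
    have := h (a * y * a⁻¹)
    rw [mem_map_conj_iff', mem_map_conj_iff'] at this
    have e1 : a⁻¹ * (a * y * a⁻¹) * a = y := by group
    have e2 : a⁻¹ * (x * (a * y * a⁻¹) * x⁻¹) * a = a⁻¹ * x * a * y * (a⁻¹ * x * a)⁻¹ := by group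
    rw [e1, e2] at this
    exact this
  · intro h y
    rw [mem_map_conj_iff', mem_map_conj_iff']
    have := h (a⁻¹ * y * a)
    have e2 : a⁻¹ * (x * y * x⁻¹) * a = a⁻¹ * x * a * (a⁻¹ * y * a) * (a⁻¹ * x * a)⁻¹ := by group
    rw [e2]
    exact this

/-- Conjugates of ℋ-subgroups are ℋ-subgroups. -/
theorem IsH.conj {E : Subgroup G} (hE : IsH E) (a : G) :
    IsH (E.map (MulAut.conj a).toMonoidHom) := by
  intro g x hx
  obtain ⟨hx1, hx2⟩ := Subgroup.mem_inf.mp hx
  rw [mem_map_conj_iff'] at hx1 ⊢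
  rw [mem_map_conj_iff'] at hx1
  have hx2' : x ∈ (Subgroup.normalizer (E : Set G)).map (MulAut.conj a).toMonoidHom := by
    rw [← normalizer_map_conj]
    exact hx2
  rw [mem_map_conj_iff'] at hx2'
  apply hE (a⁻¹ * g * a)
  refine Subgroup.mem_inf.mpr ⟨?_, hx2'⟩
  rw [mem_map_conj_iff']
  have e : (a⁻¹ * g * a)⁻¹ * (a⁻¹ * x * a) * (a⁻¹ * g * a) = a⁻¹ * (g⁻¹ * x * g) * a := by group
  rw [e]
  exact hx1

/-- ℋ-subgroups restrict to subgroups containing them. -/
theorem IsH.of_map_subtype (H : Subgroup G) (E' : Subgroup H) (h : IsH (E'.map H.subtype)) :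
    IsH E' := by
  intro g y hy
  obtain ⟨hy1, hy2⟩ := Subgroup.mem_inf.mp hy
  rw [mem_map_conj_iff'] at hy1
  have h1 : ((y : H) : G) ∈ (E'.map H.subtype).map (MulAut.conj (g : G)).toMonoidHom := by
    rw [mem_map_conj_iff']
    exact ⟨g⁻¹ * y * g, hy1, by simp⟩
  have h2 : ((y : H) : G) ∈ Subgroup.normalizer ((E'.map H.subtype : Subgroup G) : Set G) := by
    rw [Subgroup.mem_normalizer_iff]
    intro x
    constructor
    · rintro ⟨e, he, rfl⟩
      exact ⟨y * e * y⁻¹, (Subgroup.mem_normalizer_iff.mp hy2 e).mp he, by simp⟩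
    · rintro ⟨e, he, hex⟩
      refine ⟨y⁻¹ * e * y, ?_, ?_⟩
      · have := (Subgroup.mem_normalizer_iff.mp (Subgroup.inv_mem _ hy2) e).mp he
        simpa using this
      · simp only [Subgroup.subtype_apply, Subgroup.coe_mul, Subgroup.coe_inv] at hex ⊢
        rw [hex]; group
  obtain ⟨e, he, hey⟩ := h (g : G) (Subgroup.mem_inf.mpr ⟨h1, h2⟩)
  have : e = y := Subtype.ext hey
  rw [← this]; exact he

/-- ℋ-subgroups pass to quotients by normal subgroups they contain. -/
theorem IsH.map_mk {E : Subgroup G} (hE : IsH E) (N : Subgroup G) [N.Normal] (hNE : N ≤ E) :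
    IsH (E.map (QuotientGroup.mk' N)) := by
  intro gbar ybar hy
  obtain ⟨hy1, hy2⟩ := Subgroup.mem_inf.mp hy
  obtain ⟨g, rfl⟩ := QuotientGroup.mk'_surjective N gbar
  rw [mem_map_conj_iff'] at hy1
  obtain ⟨e, he, hey⟩ := hy1
  set y : G := g * e * g⁻¹ with hydef
  have hyy : ybar = QuotientGroup.mk' N y := by
    rw [hydef, map_mul, map_mul, hey, map_inv]; group
  have hcomap : (E.map (QuotientGroup.mk' N)).comap (QuotientGroup.mk' N) = E := by
    rw [Subgroup.comap_map_eq, QuotientGroup.ker_mk']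
    exact sup_eq_left.mpr hNE
  have hyn : y ∈ Subgroup.normalizer (E : Set G) := by
    have h1 : y ∈ (Subgroup.normalizer ((E.map (QuotientGroup.mk' N) : Subgroup (G ⧸ N)) : Set (G ⧸ N))).comap
        (QuotientGroup.mk' N) := by
      rw [Subgroup.mem_comap, ← hyy]; exact hy2
    rw [Subgroup.comap_normalizer_eq_of_surjective _ (QuotientGroup.mk'_surjective N)] at h1
    have h3 : (((E.map (QuotientGroup.mk' N)).comap (QuotientGroup.mk' N) : Subgroup G) : Set G)
        = (E : Set G) := by rw [hcomap]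
    rw [← h3]
    exact h1
  have := hE.conj_mem he hyn
  rw [hyy]
  exact Subgroup.mem_map_of_mem _ this

/-- The intersection of a `p`-ℋ-subgroup with a normal `p`-subgroup is normal in `G`. -/
theorem IsH.inf_normal [Finite G] {p : ℕ} [Fact p.Prime] {E : Subgroup G} (hE : IsH E)
    (hEp : IsPGroup p E) (N : Subgroup G) [hN : N.Normal] (hNp : IsPGroup p N) :
    (E ⊓ N).Normal := by
  constructor
  intro x hx g
  have hR : IsPGroup p (E ⊔ N : Subgroup G) := hEp.to_sup_of_normal_right hNp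
  have hxN : g * x * g⁻¹ ∈ N := hN.conj_mem x hx.2 g
  refine ⟨?_, hxN⟩
  exact hE.conj_mem_of_mem (E ⊔ N) hR le_sup_left hx.1 (le_sup_right (a := E) hxN)

end Cfsg.Agent.Lib.Helper9
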