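import Mathlib
import Cfsg.Agent.Lib.Helper9.HSub
import Cfsg.Agent.Lib.Helper9.CoprimeIndex2
import Cfsg.Agent.Lib.Helper1.PGroupMax

/-!
`p`-group lemmas used for ℋ-subgroups: intermediate subgroups of given order, minimal normal
`p`-subgroups are elementary abelian, the "hyperplane argument" placing a normal subgroup inside the
Frattini subgroup, and ℋ-subgroups of order `p·d`.
-/

set_option autoImplicit false

namespace Cfsg.Agent.Lib.Helper9

variable {G : Type*} [Group G]

/-- In a finite `p`-subgroup `R`, a subgroup `A` of order `p^i` lies in a subgroup of `R` of order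
`p^j` whenever `i ≤ j` and `p^j ∣ |R|`. -/
theorem exists_subgroup_between [Finite G] {p : ℕ} [Fact p.Prime] (R A : Subgroup G) (hAR : A ≤ R)
    {i j : ℕ} (hA : Nat.card A = p ^ i) (hij : i ≤ j) (hj : p ^ j ∣ Nat.card R) :
    ∃ E : Subgroup G, A ≤ E ∧ E ≤ R ∧ Nat.card E = p ^ j := by
  have hA' : Nat.card (A.subgroupOf R) = p ^ i := by
    rw [← hA]; exact Nat.card_congr (Subgroup.subgroupOfEquivOfLe hAR).toEquiv
  obtain ⟨K, hK, hAK⟩ := Sylow.exists_subgroup_card_pow_prime_le p hj (A.subgroupOf R) hA' hij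
  refine ⟨K.map R.subtype, ?_, Subgroup.map_subtype_le K, ?_⟩
  · intro a ha
    exact ⟨⟨a, hAR ha⟩, hAK (Subgroup.mem_subgroupOf.mpr ha), rfl⟩
  · rw [Subgroup.card_map_of_injective R.subtype_injective, hK]

/-- An element `x` with `x ^ (p^j) = 1` of a `p`-subgroup `R` whose order is divisible by `p^j`
lies in a subgroup of `R` of order `p^j`. -/
theorem exists_subgroup_card_of_pow_eq_one [Finite G] {p : ℕ} [hp : Fact p.Prime] (R : Subgroup G)
    {x : G} (hx : x ∈ R) {j : ℕ} (hxj : x ^ p ^ j = 1) (hj : p ^ j ∣ Nat.card R) :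
    ∃ E : Subgroup G, x ∈ E ∧ E ≤ R ∧ Nat.card E = p ^ j := by
  obtain ⟨i, hij, hi⟩ := (Nat.dvd_prime_pow hp.out).mp (orderOf_dvd_of_pow_eq_one hxj)
  have hA : Nat.card (Subgroup.zpowers x) = p ^ i := by rw [Nat.card_zpowers, hi]
  obtain ⟨E, hAE, hER, hE⟩ := exists_subgroup_between R (Subgroup.zpowers x)
    (by rw [Subgroup.zpowers_le]; exact hx) hA hij hj
  exact ⟨E, hAE (Subgroup.mem_zpowers x), hER, hE⟩

/-- A minimal normal subgroup which is a `p`-group is elementary abelian. -/
theorem minimal_normal_pgroup_elementary [Finite G] {p : ℕ} [hp : Fact p.Prime]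
    (N : Subgroup G) [hNn : N.Normal] (hNp : IsPGroup p N) (hN : N ≠ ⊥)
    (hmin : ∀ M : Subgroup G, M.Normal → M ≤ N → M = ⊥ ∨ M = N) :
    (∀ a ∈ N, ∀ b ∈ N, a * b = b * a) ∧ ∀ x ∈ N, x ^ p = 1 := by
  have hnil : Group.IsNilpotent N := hNp.isNilpotent
  have hsolv : Group.IsSolvable N := inferInstance
  have hnt : Nontrivial N := by
    rw [Subgroup.nontrivial_iff_ne_bot]; exact hN
  have hlt : ⁅N, N⁆ < N := by
    have h1 : _root_.commutator N < ⊤ := Group.IsSolvable.commutator_lt_top_of_nontrivial N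
    have h2 : (_root_.commutator N).map N.subtype < (⊤ : Subgroup N).map N.subtype :=
      (Subgroup.map_lt_map_iff_of_injective N.subtype_injective).mpr h1
    rw [Subgroup.map_subtype_commutator] at h2
    have h3 : (⊤ : Subgroup N).map N.subtype = N := by
      rw [← MonoidHom.range_eq_map, Subgroup.range_subtype]
    rwa [h3] at h2
  have hcomm : ⁅N, N⁆ = ⊥ := by
    rcases hmin ⁅N, N⁆ inferInstance hlt.le with h | h
    · exact h
    · exact absurd h hlt.ne
  have hab : ∀ a ∈ N, ∀ b ∈ N, a * b = b * a := by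
    intro a ha b hb
    have := Subgroup.commutator_mem_commutator ha hb
    rw [hcomm, Subgroup.mem_bot, commutatorElement_eq_one_iff_mul_comm] at this
    exact this
  refine ⟨hab, ?_⟩
  have hcard : Nat.card N ≠ 1 := by
    intro h
    exact hN (Subgroup.card_eq_one.mp h)
  have hpd : p ∣ Nat.card N := by
    obtain ⟨n, hn⟩ := IsPGroup.iff_card.mp hNp
    rcases Nat.eq_zero_or_pos n with h0 | h0
    · rw [h0, pow_zero] at hn; exact absurd hn hcard
    · rw [hn]; exact dvd_pow_self p h0.ne'
  let M : Subgroup G :=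
    { carrier := {x | x ∈ N ∧ x ^ p = 1}
      one_mem' := ⟨N.one_mem, one_pow p⟩
      mul_mem' := by
        rintro a b ⟨ha, ha'⟩ ⟨hb, hb'⟩
        refine ⟨N.mul_mem ha hb, ?_⟩
        have hc : Commute a b := hab a ha b hb
        rw [hc.mul_pow, ha', hb', one_mul]
      inv_mem' := by
        rintro a ⟨ha, ha'⟩
        exact ⟨N.inv_mem ha, by rw [inv_pow, ha', inv_one]⟩ }
  have hMn : M.Normal := by
    constructor
    rintro n ⟨hn, hn'⟩ g
    refine ⟨hNn.conj_mem n hn g, ?_⟩
    rw [conj_pow, hn', mul_one, mul_inv_cancel]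
  have hMle : M ≤ N := fun x hx => hx.1
  obtain ⟨x, hx⟩ := exists_prime_orderOf_dvd_card' (G := N) p hpd
  have hMne : M ≠ ⊥ := by
    intro h
    have hxM : (x : G) ∈ M := by
      refine ⟨x.2, ?_⟩
      have : x ^ p = 1 := by rw [← hx, pow_orderOf_eq_one]
      exact_mod_cast congrArg Subtype.val this
    rw [h, Subgroup.mem_bot] at hxM
    have : x = 1 := Subtype.ext hxM
    rw [this, orderOf_one] at hx
    exact hp.out.one_lt.ne hx
  rcases hmin M hMn hMle with h | h
  · exact absurd h hMne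
  · intro y hy
    rw [← h] at hy
    exact hy.2

/-- The hyperplane argument: let `R` be a `p`-subgroup of order divisible by `p^(k+1)` and `N ⊴ G`,
`N ≤ R`, of order at least `p²`. If every subgroup `E ≤ R` of order `p^k` meets `N` trivially or
contains it, then `N ≤ Φ(R)`. -/
theorem le_frattini_of_forall_inf [Finite G] {p : ℕ} [hp : Fact p.Prime] (R : Subgroup G)
    (hR : IsPGroup p R) (N : Subgroup G) [hNn : N.Normal] (hNR : N ≤ R) {k : ℕ} (hk : 1 ≤ k)
    (hRk : p ^ (k + 1) ∣ Nat.card R) (hNc : p ^ 2 ≤ Nat.card N)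
    (h : ∀ E : Subgroup G, E ≤ R → Nat.card E = p ^ k → E ⊓ N = ⊥ ∨ N ≤ E) :
    N ≤ (frattini R).map R.subtype := by
  have key : ∀ M' : Subgroup R, IsCoatom M' → N.subgroupOf R ≤ M' := by
    intro M' hM'
    by_contra hcon
    set M : Subgroup G := M'.map R.subtype with hM
    have hMR : M ≤ R := Subgroup.map_subtype_le M'
    have hidx : M'.index = p := Cfsg.Agent.Lib.Helper1.coatom_index_of_isPGroup hR hM'
    have hMcard : Nat.card M * p = Nat.card R := by
      rw [hM, Subgroup.card_map_of_injective R.subtype_injective, ← hidx]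
      exact M'.card_mul_index
    have hMk : p ^ k ∣ Nat.card M := by
      have h1 : p ^ (k + 1) ∣ Nat.card M * p := by rw [hMcard]; exact hRk
      rw [pow_succ] at h1
      exact Nat.dvd_of_mul_dvd_mul_right hp.out.pos h1
    -- |N ⊓ M| ≥ p
    have hprod := card_sup_mul_card_inf M N
    have hsup : Nat.card (M ⊔ N : Subgroup G) ≤ Nat.card R :=
      Nat.le_of_dvd Nat.card_pos (Subgroup.card_dvd_of_le (sup_le hMR hNR))
    have hinf : p ≤ Nat.card (M ⊓ N : Subgroup G) := by
      by_contra hlt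
      push Not at hlt
      have hMpos : 0 < Nat.card M := Nat.card_pos
      have h1 : Nat.card M * Nat.card N ≤ Nat.card M * p * Nat.card (M ⊓ N : Subgroup G) := by
        rw [← hprod, hMcard]
        exact Nat.mul_le_mul_right _ hsup
      have h2 : Nat.card M * p * Nat.card (M ⊓ N : Subgroup G) < Nat.card M * p * p := by
        apply Nat.mul_lt_mul_of_pos_left hlt
        exact Nat.mul_pos hMpos hp.out.pos
      have h3 : Nat.card M * p * p ≤ Nat.card M * Nat.card N := by
        rw [mul_assoc, ← pow_two]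
        exact Nat.mul_le_mul_left _ hNc
      omega
    -- an element of order p in N ⊓ M
    have hIp : IsPGroup p (M ⊓ N : Subgroup G) := hR.to_le (inf_le_left.trans hMR)
    have hpd : p ∣ Nat.card (M ⊓ N : Subgroup G) := by
      obtain ⟨n, hn⟩ := IsPGroup.iff_card.mp hIp
      rcases Nat.eq_zero_or_pos n with h0 | h0
      · rw [h0, pow_zero] at hn
        have := hp.out.one_lt
        omega
      · rw [hn]; exact dvd_pow_self p h0.ne'
    obtain ⟨u, hu⟩ := exists_prime_orderOf_dvd_card' (G := (M ⊓ N : Subgroup G)) p hpd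
    have hu1 : (u : G) ≠ 1 := by
      intro h1
      have : u = 1 := Subtype.ext h1
      rw [this, orderOf_one] at hu
      exact hp.out.one_lt.ne hu
    have hup : (u : G) ^ p ^ 1 = 1 := by
      rw [pow_one]
      have : u ^ p = 1 := by rw [← hu, pow_orderOf_eq_one]
      exact_mod_cast congrArg Subtype.val this
    have hA : Nat.card (Subgroup.zpowers (u : G)) = p ^ 1 := by
      rw [Nat.card_zpowers, pow_one]
      have : orderOf (u : G) = orderOf u := Subgroup.orderOf_coe u
      rw [this, hu]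
    obtain ⟨E, hAE, hEM, hE⟩ := exists_subgroup_between M (Subgroup.zpowers (u : G))
      (by rw [Subgroup.zpowers_le]; exact u.2.1) hA hk hMk
    have huE : (u : G) ∈ E := hAE (Subgroup.mem_zpowers _)
    rcases h E (hEM.trans hMR) hE with h1 | h1
    · have : (u : G) ∈ E ⊓ N := ⟨huE, u.2.2⟩
      rw [h1, Subgroup.mem_bot] at this
      exact hu1 this
    · apply hcon
      intro x hx
      have hxN : (x : G) ∈ N := Subgroup.mem_subgroupOf.mp hx
      obtain ⟨y, hy, hyx⟩ := hEM (h1 hxN)
      have : y = x := Subtype.ext hyx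
      rw [← this]; exact hy
  intro x hx
  refine ⟨⟨x, hNR hx⟩, ?_, rfl⟩
  rw [frattini, Order.radical]
  apply Subgroup.mem_iInf.mpr
  intro M'
  apply Subgroup.mem_iInf.mpr
  intro hM'
  exact key M' hM' (Subgroup.mem_subgroupOf.mpr hx)

/-- If `F` is a `p`-subgroup of order `p^(k+1)` all of whose elements satisfy `x^(p^k) = 1` and all
of whose subgroups of order `p^k` are ℋ-subgroups, then `F` is an ℋ-subgroup. -/
theorem isH_of_card_succ [Finite G] {p : ℕ} [hp : Fact p.Prime] (F : Subgroup G)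
    (hF : IsPGroup p F) {k : ℕ} (hFc : Nat.card F = p ^ (k + 1))
    (hexp : ∀ x ∈ F, x ^ p ^ k = 1)
    (h : ∀ E : Subgroup G, E ≤ F → Nat.card E = p ^ k → IsH E) : IsH F := by
  intro g y hy
  obtain ⟨hy1, hy2⟩ := Subgroup.mem_inf.mp hy
  rw [mem_map_conj_iff'] at hy1
  set f := g⁻¹ * y * g with hf
  have hyf : y = g * f * g⁻¹ := by rw [hf]; group
  have hdvd : p ^ k ∣ Nat.card F := by rw [hFc]; exact pow_dvd_pow p (Nat.le_succ k)
  obtain ⟨E, hfE, hEF, hE⟩ := exists_subgroup_card_of_pow_eq_one F hy1 (hexp f hy1) hdvd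
  have hEH : IsH E := h E hEF hE
  have hyN : y ∈ Subgroup.normalizer (E : Set G) := by
    apply hEH.mem_normalizer_of_conj_le F hF hEF y
    intro e he
    exact (Subgroup.mem_normalizer_iff.mp hy2 e).mp (hEF he)
  have : y ∈ E := by
    rw [hyf] at hyN ⊢
    exact hEH.conj_mem hfE hyN
  exact hEF this

end Cfsg.Agent.Lib.Helper9
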