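import Mathlib
import Cfsg.Agent.Lib.Helper9.HSubPGroup

/-!
The hypothesis "all `p`-subgroups of order `d` (and of order `4` when `d = 2`) are ℋ-subgroups",
and its transport to subgroups and quotients.
-/

set_option autoImplicit false

namespace Cfsg.Agent.Lib.Helper9

variable {G : Type*} [Group G]

/-- Every `p`-subgroup of order `d`, and of order `4` if `d = 2`, is an ℋ-subgroup. -/
def HypH (p d : ℕ) (G : Type*) [Group G] : Prop :=
  ∀ E : Subgroup G, IsPGroup p E → (Nat.card E = d ∨ (d = 2 ∧ Nat.card E = 4)) → IsH E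

theorem HypH.subgroup {p d : ℕ} (h : HypH p d G) (H : Subgroup G) : HypH p d H := by
  intro E' hE' hc
  apply IsH.of_map_subtype H E'
  apply h
  · exact hE'.map H.subtype
  · rwa [Subgroup.card_map_of_injective H.subtype_injective]

/-- The hypothesis for all `p`-subgroups follows from the hypothesis for the subgroups of one
Sylow `p`-subgroup. -/
theorem HypH.of_sylow [Finite G] {p d : ℕ} [Fact p.Prime] (P : Sylow p G)
    (h : ∀ E : Subgroup G, E ≤ (P : Subgroup G) →
      (Nat.card E = d ∨ (d = 2 ∧ Nat.card E = 4)) → IsH E) : HypH p d G := by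
  intro E hE hc
  obtain ⟨Q, hQ⟩ := hE.exists_le_sylow
  obtain ⟨g, rfl⟩ := MulAction.exists_smul_eq G P Q
  -- E ≤ g • P, so g⁻¹ E g ≤ P
  set E₀ : Subgroup G := E.map (MulAut.conj g⁻¹).toMonoidHom with hE₀
  have hE₀P : E₀ ≤ (P : Subgroup G) := by
    intro x hx
    rw [hE₀, mem_map_conj_iff'] at hx
    have := hQ hx
    rw [Cfsg.Agent.Lib.Helper2.mem_smul_sylow] at this
    have e : g⁻¹ * (g⁻¹⁻¹ * x * g⁻¹) * g = x := by group
    rwa [e] at this
  have hcard : Nat.card E₀ = Nat.card E :=
    Subgroup.card_map_of_injective (MulAut.conj g⁻¹).injective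
  have hH : IsH E₀ := h E₀ hE₀P (by rw [hcard]; exact hc)
  have hback : E = E₀.map (MulAut.conj g).toMonoidHom := by
    ext x
    rw [mem_map_conj_iff', hE₀, mem_map_conj_iff']
    have : g⁻¹⁻¹ * (g⁻¹ * x * g) * g⁻¹ = x := by group
    rw [this]
  rw [hback]
  exact hH.conj g

/-- Transport of the hypothesis to a quotient by a normal `p`-subgroup. -/
theorem HypH.quotient [Finite G] {p d' : ℕ} [hp : Fact p.Prime] (N : Subgroup G) [hN : N.Normal]
    (hNp : IsPGroup p N)
    (h1 : ∀ E : Subgroup G, IsPGroup p E → N ≤ E → Nat.card E = Nat.card N * d' → IsH E)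
    (h2 : d' = 2 → ∀ E : Subgroup G, IsPGroup p E → N ≤ E → Nat.card E = Nat.card N * 4 → IsH E) :
    HypH p d' (G ⧸ N) := by
  intro Eb hEb hc
  set E : Subgroup G := Eb.comap (QuotientGroup.mk' N) with hE
  have hNE : N ≤ E := by
    intro x hx
    rw [hE, Subgroup.mem_comap]
    have : (QuotientGroup.mk' N) x = 1 := (QuotientGroup.eq_one_iff x).mpr hx
    rw [this]; exact Subgroup.one_mem _
  have hmap : E.map (QuotientGroup.mk' N) = Eb :=
    Subgroup.map_comap_eq_self_of_surjective (QuotientGroup.mk'_surjective N) Eb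
  have hcard : Nat.card E = Nat.card N * Nat.card Eb := by
    have h3 := Subgroup.card_eq_card_quotient_mul_card_subgroup (N.subgroupOf E)
    have h4 : Nat.card (N.subgroupOf E) = Nat.card N :=
      Nat.card_congr (Subgroup.subgroupOfEquivOfLe hNE).toEquiv
    have h5 : Nat.card (E ⧸ N.subgroupOf E) = Nat.card Eb := by
      have e : E ⧸ N.subgroupOf E ≃* Eb := by
        have e1 := QuotientGroup.quotientKerEquivRange ((QuotientGroup.mk' N).comp E.subtype)
        have hker : ((QuotientGroup.mk' N).comp E.subtype).ker = N.subgroupOf E := by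
          ext x
          rw [MonoidHom.mem_ker, MonoidHom.comp_apply, Subgroup.mem_subgroupOf]
          exact QuotientGroup.eq_one_iff _
        have hrange : ((QuotientGroup.mk' N).comp E.subtype).range = Eb := by
          rw [MonoidHom.range_comp, Subgroup.range_subtype, hmap]
        exact (QuotientGroup.quotientMulEquivOfEq hker.symm).trans
          (e1.trans (MulEquiv.subgroupCongr hrange))
      exact Nat.card_congr e.toEquiv
    rw [h3, h4, h5, mul_comm]
  have hEp : IsPGroup p E := by
    obtain ⟨a, ha⟩ := IsPGroup.iff_card.mp hNp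
    obtain ⟨b, hb⟩ := IsPGroup.iff_card.mp hEb
    apply IsPGroup.of_card (n := a + b)
    rw [hcard, ha, hb, pow_add]
  have hEH : IsH E := by
    rcases hc with hc | ⟨hd, hc⟩
    · exact h1 E hEp hNE (by rw [hcard, hc])
    · exact h2 hd E hEp hNE (by rw [hcard, hc])
  rw [← hmap]
  exact hEH.map_mk N hNE

end Cfsg.Agent.Lib.Helper9
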