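import Mathlib
import Cfsg.Agent.Lib.Helper9.HSubHyp
import Cfsg.Agent.Lib.Helper9.NPCLemmas2
import Cfsg.Agent.Lib.Helper52.OmegaTwo

/-!
Base cases for the ℋ-subgroup `p`-nilpotency theorem:
* all subgroups of order `p` (and `4`) are ℋ-subgroups;
* `p = 2`, all subgroups of order `4` are ℋ-subgroups and there is a normal subgroup of order `2`.
-/

set_option autoImplicit false

namespace Cfsg.Agent.Lib.Helper9

open Cfsg

variable {G : Type*} [Group G]

/-- If `g² ` commutes with `x` and `g` has odd order then `g` commutes with `x`. -/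
theorem commute_of_sq_commute_of_odd {g x : G} (hodd : (orderOf g).Coprime 2)
    (h : g ^ 2 * x = x * g ^ 2) : g * x = x * g := by
  have hg : g ∈ Subgroup.zpowers (g ^ 2) := by
    have hn : 0 < orderOf g := by
      by_contra h0
      have : orderOf g = 0 := by omega
      rw [this] at hodd
      simp at hodd
    have hodd' : Odd (orderOf g) := Nat.odd_iff.mpr (Nat.two_dvd_ne_zero.mp (by
      intro h2
      have := Nat.Coprime.eq_one_of_dvd hodd.symm h2
      omega))
    obtain ⟨m, hm⟩ := hodd'
    refine ⟨(m + 1 : ℕ), ?_⟩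
    show (g ^ 2) ^ ((m + 1 : ℕ) : ℤ) = g
    rw [zpow_natCast, ← pow_mul]
    have : 2 * (m + 1) = orderOf g + 1 := by omega
    rw [this, pow_succ, pow_orderOf_eq_one, one_mul]
  obtain ⟨j, hj⟩ := hg
  have hj' : (g ^ 2) ^ j = g := hj
  have hc : Commute (g ^ 2) x := h
  have : Commute ((g ^ 2) ^ j) x := hc.zpow_left j
  rw [hj'] at this
  exact this

/-- Key step: a `p'`-element normalizing `Q ≤ P` commutes with every `x ∈ Q` whose cyclic
subgroup is an ℋ-subgroup (for the smallest prime `p`). -/
theorem commute_of_isH_zpowers [Finite G] {p : ℕ} [hp : Fact p.Prime]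
    (hmin : ∀ q : ℕ, q.Prime → q ∣ Nat.card G → p ≤ q) (P : Sylow p G) (Q : Subgroup G)
    (hQ : Q ≤ (P : Subgroup G)) (g : G) (hg : g ∈ Subgroup.normalizer (Q : Set G))
    (hcop : (orderOf g).Coprime p) (x : G) (hx : x ∈ Q) (hH : IsH (Subgroup.zpowers x)) :
    g * x = x * g := by
  have hAP : Subgroup.zpowers x ≤ (P : Subgroup G) := by
    rw [Subgroup.zpowers_le]; exact hQ hx
  have hAQ : Subgroup.zpowers x ≤ Q := by
    rw [Subgroup.zpowers_le]; exact hx
  have hgN : g ∈ Subgroup.normalizer ((Subgroup.zpowers x : Subgroup G) : Set G) := by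
    apply hH.mem_normalizer_of_conj_le (P : Subgroup G) P.isPGroup' hAP g
    intro e he
    exact hQ ((Subgroup.mem_normalizer_iff.mp hg e).mp (hAQ he))
  have hcyc : IsCyclic (Subgroup.zpowers x) := inferInstance
  have hgC := mem_centralizer_of_mem_normalizer_cyclic hmin (Subgroup.zpowers x) hcyc
    (P.isPGroup'.to_le hAP) g hgN hcop
  exact (Subgroup.mem_centralizer_iff.mp hgC x (Subgroup.mem_zpowers x)).symm

/-- Base case: if all subgroups of order `p` (and of order `4` when `p = 2`) are ℋ-subgroups and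
`p` is the smallest prime divisor of `|G|`, then `G` has a normal `p`-complement. -/
theorem hasNormalPComplement_of_hypH_prime [Finite G] {p : ℕ} [hp : Fact p.Prime]
    (hmin : ∀ q : ℕ, q.Prime → q ∣ Nat.card G → p ≤ q) (h : HypH p p G) :
    HasNormalPComplement p G := by
  obtain ⟨P⟩ : Nonempty (Sylow p G) := inferInstance
  apply Cfsg.Agent.Lib.Helper2.hasNormalPComplement_of_coprimeCentralizes
  apply Cfsg.Agent.Lib.Helper2.coprimeCentralizes_of_forall_le_sylow P
  intro Q hQ g hg hcop
  have hQp : IsPGroup p Q := P.isPGroup'.to_le hQ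
  have hall := Cfsg.Agent.Lib.Helper52.centralizes_of_centralizes_omega_all p g hcop Q hQp hg ?_
  · rw [Subgroup.mem_centralizer_iff]
    intro x hx
    exact (hall x hx).symm
  · intro x hx hxp
    have hAp : IsPGroup p (Subgroup.zpowers x) := by
      apply hQp.to_le
      rw [Subgroup.zpowers_le]; exact hx
    by_cases hx1 : x = 1
    · rw [hx1, mul_one, one_mul]
    apply commute_of_isH_zpowers hmin P Q hQ g hg hcop x hx
    apply h _ hAp
    rw [Nat.card_zpowers]
    rcases hxp with hxp | ⟨hp2, hx4⟩
    · left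
      exact orderOf_eq_prime hxp hx1
    · subst hp2
      have hd : orderOf x ∣ 2 ^ 2 := orderOf_dvd_of_pow_eq_one (by norm_num; exact hx4)
      obtain ⟨i, hi, hxi⟩ := (Nat.dvd_prime_pow Nat.prime_two).mp hd
      interval_cases i
      · exfalso; apply hx1
        rw [pow_zero] at hxi
        exact orderOf_eq_one_iff.mp hxi
      · left; rw [hxi, pow_one]
      · right; exact ⟨rfl, by rw [hxi]; norm_num⟩

end Cfsg.Agent.Lib.Helper9
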