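import Mathlib
import Cfsg.Agent.Lib.Helper9.HSubBase

/-!
Special base case for `p = 2`: all subgroups of order `4` are ℋ-subgroups and `G` has a normal
subgroup of order `2`.
-/

set_option autoImplicit false

namespace Cfsg.Agent.Lib.Helper9

open Cfsg

variable {G : Type*} [Group G]

theorem mem_zpowers_of_mul_self_eq_one (x : G) (hxx : x * x = 1) (y : G)
    (hy : y ∈ Subgroup.zpowers x) : y = 1 ∨ y = x := by
  obtain ⟨k, rfl⟩ := hy
  have h2 : x ^ (2 : ℤ) = 1 := by
    rw [zpow_ofNat, pow_two]; exact hxx
  have hk : x ^ k = x ^ (k % 2) := by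
    conv_lhs => rw [← Int.mul_ediv_add_emod k 2]
    rw [zpow_add, zpow_mul, h2, one_zpow, one_mul]
  rcases Int.emod_two_eq_zero_or_one k with h | h
  · left; show x ^ k = 1; rw [hk, h, zpow_zero]
  · right; show x ^ k = x; rw [hk, h, zpow_one]

theorem hasNormalPComplement_of_hypH_four_of_normal_two [Finite G] [hp : Fact (Nat.Prime 2)]
    (h : HypH 2 4 G) (N : Subgroup G) [hNn : N.Normal] (hN : Nat.card N = 2) :
    HasNormalPComplement 2 G := by
  have hmin : ∀ q : ℕ, q.Prime → q ∣ Nat.card G → 2 ≤ q := fun q hq _ => hq.two_le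
  have hNp : IsPGroup 2 N := IsPGroup.of_card (n := 1) (by rw [hN, pow_one])
  -- N is central
  have hcent : ∀ n ∈ N, ∀ g : G, g * n = n * g := by
    have h1 := normalizer_le_centralizer_of_card_prime hmin N hN
    rw [Subgroup.normalizer_eq_top] at h1
    intro n hn g
    exact (Subgroup.mem_centralizer_iff.mp (h1 (Subgroup.mem_top g)) n hn).symm
  -- the nontrivial element z of N
  obtain ⟨⟨z, hzN⟩, hz1, hzuniq⟩ := (Nat.card_eq_two_iff' (1 : N)).mp hN
  have hz1' : z ≠ 1 := fun h0 => hz1 (Subtype.ext h0)
  have hNmem : ∀ n ∈ N, n = 1 ∨ n = z := by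
    intro n hn
    by_cases hn1 : n = 1
    · left; exact hn1
    · right
      have := hzuniq ⟨n, hn⟩ (fun h0 => hn1 (congrArg Subtype.val h0))
      exact congrArg Subtype.val this
  have hzz : z * z = 1 := by
    rcases hNmem (z * z) (N.mul_mem hzN hzN) with h0 | h0
    · exact h0
    · exfalso; apply hz1'
      have : z * z = z * 1 := by rw [h0, mul_one]
      exact mul_left_cancel this
  obtain ⟨P⟩ : Nonempty (Sylow 2 G) := inferInstance
  have hNP : N ≤ (P : Subgroup G) := hNp.le_sylow_of_normal P
  apply Cfsg.Agent.Lib.Helper2.hasNormalPComplement_of_coprimeCentralizes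
  apply Cfsg.Agent.Lib.Helper2.coprimeCentralizes_of_forall_le_sylow P
  intro Q hQ g hg hcop
  set Q' : Subgroup G := Q ⊔ N with hQ'
  have hQ'P : Q' ≤ (P : Subgroup G) := sup_le hQ hNP
  have hQ'p : IsPGroup 2 Q' := P.isPGroup'.to_le hQ'P
  have hmemQ' : ∀ y : G, y ∈ Q' ↔ ∃ q ∈ Q, ∃ n ∈ N, q * n = y := by
    intro y
    rw [hQ', ← SetLike.mem_coe, Subgroup.mul_normal, Set.mem_mul]
    rfl
  have hgQ' : g ∈ Subgroup.normalizer (Q' : Set G) := by
    apply Subgroup.mem_normalizer_fintype
    intro y hy
    obtain ⟨q, hq, n, hn, rfl⟩ := (hmemQ' y).mp hy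
    apply (hmemQ' _).mpr
    refine ⟨g * q * g⁻¹, (Subgroup.mem_normalizer_iff.mp hg q).mp hq, g * n * g⁻¹,
      hNn.conj_mem n hn g, by group⟩
  have hall := Cfsg.Agent.Lib.Helper52.centralizes_of_centralizes_omega_all 2 g hcop Q' hQ'p
    hgQ' ?_
  · rw [Subgroup.mem_centralizer_iff]
    intro x hx
    exact (hall x (le_sup_left (b := N) hx)).symm
  · intro x hx hxp
    have hx4 : x ^ 4 = 1 := by
      rcases hxp with hxp | ⟨_, hx4⟩
      · have : x ^ 4 = (x ^ 2) ^ 2 := by rw [← pow_mul]
        rw [this, hxp, one_pow]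
      · exact hx4
    have hd : orderOf x ∣ 2 ^ 2 := orderOf_dvd_of_pow_eq_one (by norm_num; exact hx4)
    obtain ⟨i, hi, hxi⟩ := (Nat.dvd_prime_pow Nat.prime_two).mp hd
    have hAp : IsPGroup 2 (Subgroup.zpowers x) := by
      apply hQ'p.to_le
      rw [Subgroup.zpowers_le]; exact hx
    interval_cases i
    · rw [pow_zero] at hxi
      rw [orderOf_eq_one_iff.mp hxi, mul_one, one_mul]
    · -- involution
      rw [pow_one] at hxi
      have hxx : x * x = 1 := by
        rw [← pow_two, ← hxi, pow_orderOf_eq_one]
      by_cases hxN : x ∈ N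
      · exact hcent x hxN g
      · set V : Subgroup G := Subgroup.zpowers x ⊔ N with hV
        have hVQ' : V ≤ Q' := by
          apply sup_le _ le_sup_right
          rw [Subgroup.zpowers_le]; exact hx
        have hinf : Subgroup.zpowers x ⊓ N = ⊥ := by
          rw [eq_bot_iff]
          intro y hy
          rw [Subgroup.mem_bot]
          rcases mem_zpowers_of_mul_self_eq_one x hxx y hy.1 with h0 | h0
          · exact h0
          · exfalso; apply hxN; rw [← h0]; exact hy.2
        have hVcard : Nat.card V = 4 := by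
          have := card_sup_mul_card_inf (Subgroup.zpowers x) N
          rw [hinf, Subgroup.card_bot, mul_one, Nat.card_zpowers, hxi, hN] at this
          rw [hV, this]
        have hVH : IsH V := h V (hQ'p.to_le hVQ') (Or.inl hVcard)
        have hgV : g ∈ Subgroup.normalizer (V : Set G) := by
          apply hVH.mem_normalizer_of_conj_le (P : Subgroup G) P.isPGroup' (hVQ'.trans hQ'P) g
          intro e he
          exact hQ'P ((Subgroup.mem_normalizer_iff.mp hgQ' e).mp (hVQ' he))
        have hxV : x ∈ V := le_sup_left (b := N) (Subgroup.mem_zpowers x)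
        have hgx : g * x * g⁻¹ ∈ V := (Subgroup.mem_normalizer_iff.mp hgV x).mp hxV
        have hmemV : ∃ a ∈ Subgroup.zpowers x, ∃ n ∈ N, a * n = g * x * g⁻¹ := by
          have : g * x * g⁻¹ ∈ ((Subgroup.zpowers x ⊔ N : Subgroup G) : Set G) := hgx
          rw [Subgroup.mul_normal, Set.mem_mul] at this
          exact this
        obtain ⟨a, ha, n, hn, han⟩ := hmemV
        rcases mem_zpowers_of_mul_self_eq_one x hxx a ha with ha | ha <;>
          rcases hNmem n hn with hn' | hn'
        · exfalso
          rw [ha, hn', mul_one] at han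
          have : x = 1 := by
            have h0 : g⁻¹ * (g * x * g⁻¹) * g = x := by group
            rw [← h0, ← han]; group
          rw [this] at hxi
          simp at hxi
        · exfalso
          rw [ha, hn', one_mul] at han
          apply hxN
          have h0 : x = g⁻¹ * z * g := by
            have h0 : g⁻¹ * (g * x * g⁻¹) * g = x := by group
            rw [← h0, ← han]
          rw [h0]
          have := hNn.conj_mem z hzN g⁻¹
          simpa using this
        · rw [ha, hn', mul_one] at han
          calc g * x = (g * x * g⁻¹) * g := by group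
            _ = x * g := by rw [← han]
        · rw [ha, hn'] at han
          apply commute_of_sq_commute_of_odd hcop
          have hgz : g * z * g⁻¹ = z := by
            rw [hcent z hzN g]; group
          have h1 : g * g * x * (g * g)⁻¹ = x := by
            have : g * g * x * (g * g)⁻¹ = g * (g * x * g⁻¹) * g⁻¹ := by group
            rw [this, ← han]
            have : g * (x * z) * g⁻¹ = (g * x * g⁻¹) * (g * z * g⁻¹) := by group
            rw [this, ← han, hgz, mul_assoc, hzz, mul_one]
          rw [pow_two]
          calc g * g * x = (g * g * x * (g * g)⁻¹) * (g * g) := by group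
            _ = x * (g * g) := by rw [h1]
    · -- order 4
      apply commute_of_isH_zpowers hmin P Q' hQ'P g hgQ' hcop x hx
      apply h _ hAp
      left
      rw [Nat.card_zpowers, hxi]; norm_num

end Cfsg.Agent.Lib.Helper9
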