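import Mathlib
import Cfsg.Agent.Lib.Helper9.HSubBase2
import Cfsg.Agent.Lib.Helper9.Card

/-!
The induction for the ℋ-subgroup `p`-nilpotency theorem, part 1: the statement, the induction
hypothesis applied to subgroups, and the case where `G` has a nontrivial normal `p`-subgroup.
-/

set_option autoImplicit false

universe u

namespace Cfsg.Agent.Lib.Helper9

open Cfsg

/-- The statement proved by induction on `n = |G|`. -/
def MainStmt (p n : ℕ) : Prop :=
  ∀ (G : Type u) [Group G] [Finite G], Nat.card G = n →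
    (∀ q : ℕ, q.Prime → q ∣ Nat.card G → p ≤ q) → ∀ k : ℕ, 1 ≤ k → p ^ (k + 1) ∣ Nat.card G →
    HypH p (p ^ k) G → HasNormalPComplement p G

/-- The induction hypothesis applied to a proper subgroup containing a Sylow `p`-subgroup. -/
theorem MainStmt.subgroup {p : ℕ} [hp : Fact p.Prime] {n : ℕ} (ih : ∀ m < n, MainStmt.{u} p m)
    {G : Type u} [Group G] [Finite G] (hn : Nat.card G = n)
    (hmin : ∀ q : ℕ, q.Prime → q ∣ Nat.card G → p ≤ q) {k : ℕ} (hk : 1 ≤ k)
    (hdvd : p ^ (k + 1) ∣ Nat.card G) (hyp : HypH p (p ^ k) G) (P : Sylow p G) (H : Subgroup G)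
    (hPH : (P : Subgroup G) ≤ H) (hH : H ≠ ⊤) : HasNormalPComplement p H := by
  have hlt : Nat.card H < n := by
    rw [← hn]
    by_contra hcon
    push Not at hcon
    exact hH (Subgroup.eq_top_of_le_card H hcon)
  apply ih (Nat.card H) hlt H rfl _ k hk _ (hyp.subgroup H)
  · intro q hq hqH
    exact hmin q hq (hqH.trans (Subgroup.card_subgroup_dvd_card H))
  · have h1 : p ^ (k + 1) ∣ Nat.card (P : Subgroup G) := by
      rw [P.card_eq_multiplicity]
      apply pow_dvd_pow
      exact (hp.out.pow_dvd_iff_le_factorization Nat.card_pos.ne').mp hdvd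
    exact h1.trans (Subgroup.card_dvd_of_le hPH)

/-- Case A: `G` has a minimal normal subgroup which is a `p`-group. -/
theorem MainStmt.caseA {p : ℕ} [hp : Fact p.Prime] {n : ℕ} (ih : ∀ m < n, MainStmt.{u} p m)
    {G : Type u} [Group G] [Finite G] (hn : Nat.card G = n)
    (hmin : ∀ q : ℕ, q.Prime → q ∣ Nat.card G → p ≤ q) {k : ℕ} (hk : 2 ≤ k)
    (hdvd : p ^ (k + 1) ∣ Nat.card G) (hyp : HypH p (p ^ k) G)
    (N : Subgroup G) [hNn : N.Normal] (hNp : IsPGroup p N) (hN1 : N ≠ ⊥)
    (hNmin : ∀ M : Subgroup G, M.Normal → M ≤ N → M = ⊥ ∨ M = N) :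
    HasNormalPComplement p G := by
  obtain ⟨P⟩ : Nonempty (Sylow p G) := inferInstance
  have hPk : p ^ (k + 1) ∣ Nat.card (P : Subgroup G) := by
    rw [P.card_eq_multiplicity]
    apply pow_dvd_pow
    exact (hp.out.pow_dvd_iff_le_factorization Nat.card_pos.ne').mp hdvd
  obtain ⟨_, hexp⟩ := minimal_normal_pgroup_elementary N hNp hN1 hNmin
  obtain ⟨j, hj⟩ := IsPGroup.iff_card.mp hNp
  have hj1 : 1 ≤ j := by
    rcases Nat.eq_zero_or_pos j with h0 | h0
    · exfalso
      rw [h0, pow_zero] at hj
      exact hN1 (Subgroup.card_eq_one.mp hj)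
    · exact h0
  have hNP : N ≤ (P : Subgroup G) := hNp.le_sylow_of_normal P
  have hp1 : 1 < p := hp.out.one_lt
  -- every subgroup of order p^k meets N trivially or contains it
  have hC1 : ∀ E : Subgroup G, IsPGroup p E → Nat.card E = p ^ k → E ⊓ N = ⊥ ∨ N ≤ E := by
    intro E hEp hEc
    have hEH := hyp E hEp (Or.inl hEc)
    have hnorm := hEH.inf_normal hEp N hNp
    rcases hNmin (E ⊓ N) hnorm inf_le_right with h | h
    · left; exact h
    · right; rw [← h]; exact inf_le_left
  -- |N| < p^k
  have hjk : j < k := by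
    by_contra hcon
    push Not at hcon
    rcases eq_or_lt_of_le hcon with hjk | hjk
    · -- j = k
      have hNc : Nat.card N = p ^ k := by rw [hj, hjk]
      obtain ⟨F, hFc, hNF⟩ := Sylow.exists_subgroup_card_pow_prime_le p hdvd N hNc (Nat.le_succ k)
      have hFp : IsPGroup p F := IsPGroup.of_card hFc
      have hFN : ¬ F ≤ N := by
        intro hle
        have := Nat.le_of_dvd Nat.card_pos (Subgroup.card_dvd_of_le hle)
        rw [hFc, hNc] at this
        exact absurd this (not_le.mpr (Nat.pow_lt_pow_right hp1 (Nat.lt_succ_self k)))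
      obtain ⟨x, hxF, hxN⟩ := SetLike.not_le_iff_exists.mp hFN
      have hidx : (N.subgroupOf F).index = p := by
        have h1 := relIndex_mul_card_of_le hNF
        rw [hNc, hFc, pow_succ] at h1
        have : N.relIndex F = p := by
          apply Nat.eq_of_mul_eq_mul_right (pow_pos hp.out.pos k)
          rw [h1, mul_comm]
        exact this
      have hxp : x ^ p ∈ N := by
        have := Subgroup.pow_index_mem (N.subgroupOf F) (⟨x, hxF⟩ : F)
        rw [hidx] at this
        exact Subgroup.mem_subgroupOf.mp this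
      have hxpp : x ^ p ^ 2 = 1 := by
        rw [pow_two, pow_mul]; exact hexp _ hxp
      have hxk : x ^ p ^ k = 1 := by
        obtain ⟨c, hc⟩ := pow_dvd_pow p hk
        rw [hc, pow_mul, hxpp, one_pow]
      obtain ⟨E, hxE, hEF, hEc⟩ := exists_subgroup_card_of_pow_eq_one F hxF hxk
        (by rw [hFc]; exact pow_dvd_pow p (Nat.le_succ k))
      have hEp : IsPGroup p E := hFp.to_le hEF
      rcases hC1 E hEp hEc with h0 | h0
      · have hprod := card_sup_mul_card_inf E N
        rw [h0, Subgroup.card_bot, mul_one, hEc, hNc] at hprod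
        have hle : Nat.card (E ⊔ N : Subgroup G) ≤ Nat.card F :=
          Nat.le_of_dvd Nat.card_pos (Subgroup.card_dvd_of_le (sup_le hEF hNF))
        rw [hprod, hFc] at hle
        have : p ^ (k + 1) < p ^ k * p ^ k := by
          rw [← pow_add]; exact Nat.pow_lt_pow_right hp1 (by omega)
        omega
      · have : N = E := Subgroup.eq_of_le_of_card_ge h0 (by rw [hEc, hNc])
        exact hxN (this ▸ hxE)
    · -- k < j
      obtain ⟨E, _, hEN, hEc⟩ := exists_subgroup_between N ⊥ bot_le (i := 0) (j := k)
        (by simp) (Nat.zero_le k) (by rw [hj]; exact pow_dvd_pow p hjk.le)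
      have hEp := hNp.to_le hEN
      rcases hC1 E hEp hEc with h0 | h0
      · rw [inf_eq_left.mpr hEN] at h0
        rw [h0, Subgroup.card_bot] at hEc
        have : 1 < p ^ k := Nat.one_lt_pow (by omega) hp1
        omega
      · have := Nat.le_of_dvd Nat.card_pos (Subgroup.card_dvd_of_le h0)
        rw [hj, hEc] at this
        exact absurd this (not_le.mpr (Nat.pow_lt_pow_right hp1 hjk))
  -- the special case p = 2, k = 2, j = 1
  by_cases hbad : p = 2 ∧ k = 2 ∧ j = 1
  · obtain ⟨rfl, rfl, rfl⟩ := hbad
    have hyp' : HypH 2 4 G := by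
      have : (2 : ℕ) ^ 2 = 4 := by norm_num
      rwa [this] at hyp
    exact hasNormalPComplement_of_hypH_four_of_normal_two hyp' N (by rw [hj, pow_one])
  -- the quotient G ⧸ N
  have hq : HypH p (p ^ (k - j)) (G ⧸ N) := by
    apply HypH.quotient N hNp
    · intro E hEp _ hEc
      apply hyp E hEp
      left
      rw [hEc, hj, ← pow_add]
      congr 1; omega
    · intro h2 E hEp hNE hEc
      -- p = 2, k - j = 1
      have hp2 : p = 2 := by
        have : p ∣ 2 := by
          rw [← h2]; exact dvd_pow_self p (by omega)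
        exact (Nat.prime_dvd_prime_iff_eq hp.out Nat.prime_two).mp this
      subst hp2
      have hkj : k - j = 1 := by
        have h3 : (2 : ℕ) ^ (k - j) = 2 ^ 1 := by rw [h2, pow_one]
        exact Nat.pow_right_injective (le_refl 2) h3
      have hj2 : 2 ≤ j := by
        by_contra hlt
        apply hbad
        refine ⟨rfl, by omega, by omega⟩
      have hEc' : Nat.card E = 2 ^ (k + 1) := by
        rw [hEc, hj]
        have : (4 : ℕ) = 2 ^ 2 := by norm_num
        rw [this, ← pow_add]
        congr 1; omega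
      apply isH_of_card_succ E hEp hEc'
      · intro x hx
        have hidx : (N.subgroupOf E).index = 4 := by
          have h1 := relIndex_mul_card_of_le hNE
          rw [hEc] at h1
          have hNpos : 0 < Nat.card N := Nat.card_pos
          have : N.relIndex E = 4 := by
            apply Nat.eq_of_mul_eq_mul_right hNpos
            rw [h1, mul_comm]
          exact this
        have hx4 : x ^ 4 ∈ N := by
          have := Subgroup.pow_index_mem (N.subgroupOf E) (⟨x, hx⟩ : E)
          rw [hidx] at this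
          exact Subgroup.mem_subgroupOf.mp this
        have hx8 : x ^ 8 = 1 := by
          have : x ^ 8 = (x ^ 4) ^ 2 := by rw [← pow_mul]
          rw [this]; exact hexp _ hx4
        have h8 : (8 : ℕ) ∣ 2 ^ k := by
          have : (8 : ℕ) = 2 ^ 3 := by norm_num
          rw [this]; exact pow_dvd_pow 2 (by omega)
        obtain ⟨c, hc⟩ := h8
        rw [hc, pow_mul, hx8, one_pow]
      · intro E' hE'E hE'c
        exact hyp E' (hEp.to_le hE'E) (Or.inl hE'c)
  have hcardG : Nat.card G = Nat.card (G ⧸ N) * p ^ j := by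
    rw [← hj]; exact Subgroup.card_eq_card_quotient_mul_card_subgroup N
  have hNPC : HasNormalPComplement p (G ⧸ N) := by
    have hlt : Nat.card (G ⧸ N) < n := by
      rw [← hn, hcardG]
      have h1 : 0 < Nat.card (G ⧸ N) := Nat.card_pos
      have h2 : 1 < p ^ j := Nat.one_lt_pow (by omega) hp1
      nlinarith
    apply ih (Nat.card (G ⧸ N)) hlt (G ⧸ N) rfl _ (k - j) (by omega) _ hq
    · intro q hq' hqd
      apply hmin q hq'
      rw [hcardG]; exact hqd.trans (dvd_mul_right _ _)
    · have h1 : p ^ (k - j + 1) * p ^ j ∣ Nat.card (G ⧸ N) * p ^ j := by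
        rw [← hcardG, ← pow_add]
        have : k - j + 1 + j = k + 1 := by omega
        rw [this]; exact hdvd
      exact Nat.dvd_of_mul_dvd_mul_right (pow_pos hp.out.pos j) h1
  -- lift back
  rcases eq_or_lt_of_le hj1 with hj1' | hj2
  · exact hasNormalPComplement_of_quotient_of_card_prime hmin N (by rw [hj, ← hj1', pow_one]) hNPC
  · apply hasNormalPComplement_of_quotient_of_le_frattini P N _ hNPC
    apply le_frattini_of_forall_inf (P : Subgroup G) P.isPGroup' N hNP (k := k) (by omega) hPk
    · rw [hj]; exact Nat.pow_le_pow_right hp.out.pos hj2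
    · intro E hEP hEc
      exact hC1 E (P.isPGroup'.to_le hEP) hEc

end Cfsg.Agent.Lib.Helper9
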