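import Mathlib
import Cfsg.Agent.Lib.Helper9.HSubMain
import Cfsg.Agent.S0108
import Cfsg.Agent.Lib.Helper97.Frattini
import Cfsg.Agent.Lib.Helper97.Thompson

/-!
The induction for the ℋ-subgroup `p`-nilpotency theorem, part 2: the case where `G` has no
nontrivial normal `p`-subgroup, for odd `p` (Thompson's criterion `S0108`).
-/

set_option autoImplicit false

universe u

namespace Cfsg.Agent.Lib.Helper9

open Cfsg

/-- Case B for odd `p`: no nontrivial normal `p`-subgroup. -/
theorem MainStmt.caseB_odd {p : ℕ} [hp : Fact p.Prime] (hp2 : p ≠ 2) {n : ℕ}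
    (ih : ∀ m < n, MainStmt.{u} p m)
    {G : Type u} [Group G] [Finite G] (hn : Nat.card G = n)
    (hmin : ∀ q : ℕ, q.Prime → q ∣ Nat.card G → p ≤ q) {k : ℕ} (hk : 1 ≤ k)
    (hdvd : p ^ (k + 1) ∣ Nat.card G) (hyp : HypH p (p ^ k) G)
    (hO : ¬ ∃ N : Subgroup G, N.Normal ∧ N ≠ ⊥ ∧ IsPGroup p N) :
    HasNormalPComplement p G := by
  obtain ⟨P⟩ : Nonempty (Sylow p G) := inferInstance
  have hPk : p ^ (k + 1) ∣ Nat.card (P : Subgroup G) := by
    rw [P.card_eq_multiplicity]
    apply pow_dvd_pow
    exact (hp.out.pow_dvd_iff_le_factorization Nat.card_pos.ne').mp hdvd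
  have hpP : p ∣ Nat.card (P : Subgroup G) := (dvd_pow_self p (by omega)).trans hPk
  rw [Cfsg.Agent.S0108.result hp2 P]
  constructor
  · -- N_G(J(P))
    apply MainStmt.subgroup ih hn hmin hk hdvd hyp P
    · exact Subgroup.le_normalizer.trans
        (Cfsg.Agent.Lib.Helper97.normalizer_le_normalizer_thompsonSubgroupOf p (P : Subgroup G))
    · intro htop
      apply hO
      refine ⟨thompsonSubgroupOf p (P : Subgroup G), Subgroup.normalizer_eq_top_iff.mp htop, ?_, ?_⟩
      · unfold thompsonSubgroupOf
        intro hbot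
        rw [(Subgroup.map_eq_bot_iff_of_injective _ (P : Subgroup G).subtype_injective)] at hbot
        exact Cfsg.Agent.Lib.Helper97.thompsonSubgroup_ne_bot hpP hbot
      · exact P.isPGroup'.to_le (Cfsg.Agent.Lib.Helper97.thompsonSubgroupOf_le p (P : Subgroup G))
  · -- C_G(Z(P))
    set Z : Subgroup G := (P : Subgroup G) ⊓ Subgroup.centralizer ((P : Subgroup G) : Set G) with hZ
    apply MainStmt.subgroup ih hn hmin hk hdvd hyp P
    · intro x hx
      rw [Subgroup.mem_centralizer_iff]
      intro z hz
      exact (Subgroup.mem_centralizer_iff.mp hz.2 x hx).symm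
    · intro htop
      apply hO
      have hcomm : ∀ z ∈ Z, ∀ g : G, g * z * g⁻¹ = z := by
        intro z hz g
        have hg : g ∈ Subgroup.centralizer (Z : Set G) := by
          have h0 : g ∈ (⊤ : Subgroup G) := Subgroup.mem_top g
          rw [← htop] at h0
          exact h0
        have := Subgroup.mem_centralizer_iff.mp hg z hz
        rw [← this]; group
      refine ⟨Z, ⟨fun z hz g => by rw [hcomm z hz g]; exact hz⟩, ?_, P.isPGroup'.to_le inf_le_left⟩
      -- Z ≠ ⊥ : the centre of the nontrivial p-group P is nontrivial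
      have hnt : Nontrivial (P : Subgroup G) := by
        rw [← Finite.one_lt_card_iff_nontrivial]
        exact lt_of_lt_of_le hp.out.one_lt (Nat.le_of_dvd Nat.card_pos hpP)
      have hc := P.isPGroup'.bot_lt_center
      obtain ⟨z, hzc, hz1⟩ := SetLike.exists_of_lt hc
      intro hbot
      apply hz1
      rw [Subgroup.mem_bot]
      have hzZ : (z : G) ∈ Z := by
        refine Subgroup.mem_inf.mpr ⟨z.2, ?_⟩
        rw [Subgroup.mem_centralizer_iff]
        intro y hy
        have := Subgroup.mem_center_iff.mp hzc ⟨y, hy⟩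
        exact congrArg Subtype.val this
      rw [hbot, Subgroup.mem_bot] at hzZ
      exact Subtype.ext hzZ

end Cfsg.Agent.Lib.Helper9
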