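import Mathlib
import Cfsg.Agent.Lib.Helper9.HSubMain

/-!
The induction for the ℋ-subgroup `p`-nilpotency theorem, part 3: the case `p = 2` where `G` has no
nontrivial normal `2`-subgroup: every maximal subgroup of a Sylow `2`-subgroup `P` is strongly closed,
so the focal subgroup lies in `Φ(P)`.
-/

set_option autoImplicit false

universe u

namespace Cfsg.Agent.Lib.Helper9

open Cfsg
open scoped commutatorElement

/-- Case B for `p = 2`: no nontrivial normal `2`-subgroup. -/
theorem MainStmt.caseB_two [hp : Fact (Nat.Prime 2)] {n : ℕ}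
    (ih : ∀ m < n, MainStmt.{u} 2 m)
    {G : Type u} [Group G] [Finite G] (hn : Nat.card G = n)
    (hmin : ∀ q : ℕ, q.Prime → q ∣ Nat.card G → 2 ≤ q) {k : ℕ} (hk : 1 ≤ k)
    (hdvd : 2 ^ (k + 1) ∣ Nat.card G) (hyp : HypH 2 (2 ^ k) G)
    (hO : ¬ ∃ N : Subgroup G, N.Normal ∧ N ≠ ⊥ ∧ IsPGroup 2 N) :
    HasNormalPComplement 2 G := by
  obtain ⟨P⟩ : Nonempty (Sylow 2 G) := inferInstance
  have hPk : 2 ^ (k + 1) ∣ Nat.card (P : Subgroup G) := by
    rw [P.card_eq_multiplicity]
    apply pow_dvd_pow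
    exact (hp.out.pow_dvd_iff_le_factorization Nat.card_pos.ne').mp hdvd
  -- strong closure of the maximal subgroups of P
  have key1 : ∀ M' : Subgroup (P : Subgroup G), IsCoatom M' → ∀ (a : G)
      (ha : a ∈ (P : Subgroup G)), (⟨a, ha⟩ : (P : Subgroup G)) ∈ M' → ∀ (g : G)
      (hg : g * a * g⁻¹ ∈ (P : Subgroup G)), (⟨g * a * g⁻¹, hg⟩ : (P : Subgroup G)) ∈ M' := by
    intro M' hM' a ha haM g hg
    set M : Subgroup G := M'.map (P : Subgroup G).subtype with hM
    have hMP : M ≤ (P : Subgroup G) := Subgroup.map_subtype_le M'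
    have haM' : a ∈ M := ⟨⟨a, ha⟩, haM, rfl⟩
    have hidx : M'.index = 2 := Cfsg.Agent.Lib.Helper1.coatom_index_of_isPGroup P.isPGroup' hM'
    have hMn : M'.Normal := Cfsg.Agent.Lib.Helper1.coatom_normal_of_isPGroup P.isPGroup' hM'
    have hMcard : Nat.card M * 2 = Nat.card (P : Subgroup G) := by
      have h1 := M'.card_mul_index
      rw [hidx] at h1
      rw [hM, Subgroup.card_map_of_injective (P : Subgroup G).subtype_injective]
      exact h1
    have hMk : 2 ^ k ∣ Nat.card M := by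
      have h1 : 2 ^ (k + 1) ∣ Nat.card M * 2 := by rw [hMcard]; exact hPk
      rw [pow_succ] at h1
      exact Nat.dvd_of_mul_dvd_mul_right (by norm_num) h1
    suffices hsuff : g * a * g⁻¹ ∈ M by
      obtain ⟨y, hy, hyx⟩ := hsuff
      have : y = ⟨g * a * g⁻¹, hg⟩ := Subtype.ext hyx
      rw [← this]; exact hy
    by_cases hak : a ^ 2 ^ k = 1
    · obtain ⟨E, haE, hEM, hEc⟩ := exists_subgroup_card_of_pow_eq_one M haM' hak hMk
      have hEp : IsPGroup 2 E := P.isPGroup'.to_le (hEM.trans hMP)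
      have hEH := hyp E hEp (Or.inl hEc)
      exact hEM (hEH.conj_mem_of_mem (P : Subgroup G) P.isPGroup' (hEM.trans hMP) haE hg)
    · obtain ⟨i, hi⟩ : ∃ i, orderOf a = 2 ^ i := by
        obtain ⟨i, hi⟩ := P.isPGroup' ⟨a, ha⟩
        have ha' : a ^ 2 ^ i = 1 := by
          have := congrArg Subtype.val hi
          simpa using this
        obtain ⟨i', _, hi'⟩ := (Nat.dvd_prime_pow Nat.prime_two).mp (orderOf_dvd_of_pow_eq_one ha')
        exact ⟨i', hi'⟩
      have hik : k < i := by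
        by_contra hle
        push Not at hle
        apply hak
        obtain ⟨c, hc⟩ := pow_dvd_pow 2 hle
        rw [hc, pow_mul, ← hi, pow_orderOf_eq_one, one_pow]
      set b := a ^ 2 ^ (i - k) with hb
      have hbord : orderOf b = 2 ^ k := by
        rw [hb, orderOf_pow_of_dvd (by positivity)
          (by rw [hi]; exact pow_dvd_pow 2 (Nat.sub_le i k)), hi,
          Nat.pow_div (Nat.sub_le i k) (by norm_num)]
        congr 1; omega
      set Ea : Subgroup G := Subgroup.zpowers b with hEa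
      have hEac : Nat.card Ea = 2 ^ k := by rw [Nat.card_zpowers, hbord]
      have hbM : b ∈ M := M.pow_mem haM' _
      have hEaM : Ea ≤ M := by rw [hEa, Subgroup.zpowers_le]; exact hbM
      have hEaP : Ea ≤ (P : Subgroup G) := hEaM.trans hMP
      have hEap : IsPGroup 2 Ea := P.isPGroup'.to_le hEaP
      have hEaH := hyp Ea hEap (Or.inl hEac)
      have hgN : g ∈ Subgroup.normalizer (Ea : Set G) := by
        apply hEaH.mem_normalizer_of_conj_le (P : Subgroup G) P.isPGroup' hEaP g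
        intro e he
        obtain ⟨t, rfl⟩ := he
        have h1 : g * b ^ t * g⁻¹ = ((g * a * g⁻¹) ^ 2 ^ (i - k)) ^ t := by
          rw [hb, conj_pow, conj_zpow]
        show g * b ^ t * g⁻¹ ∈ (P : Subgroup G)
        rw [h1]
        exact Subgroup.zpow_mem _ (Subgroup.pow_mem _ hg _) _
      set H : Subgroup G := Subgroup.normalizer (Ea : Set G) with hH
      have hPH : (P : Subgroup G) ≤ H :=
        hEaH.le_normalizer_of_isPGroup (P : Subgroup G) P.isPGroup' hEaP
      have hHtop : H ≠ ⊤ := by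
        intro htop
        apply hO
        refine ⟨Ea, Subgroup.normalizer_eq_top_iff.mp htop, ?_, hEap⟩
        intro hbot
        rw [hbot, Subgroup.card_bot] at hEac
        have : 1 < 2 ^ k := Nat.one_lt_pow (by omega) (by norm_num)
        omega
      have hNPC := MainStmt.subgroup ih hn hmin hk hdvd hyp P H hPH hHtop
      have hcf := controlsOwnFusion_of_hasNormalPComplement hNPC (P.subtype hPH)
      have hx : (⟨a, hPH ha⟩ : H) ∈ ((P.subtype hPH : Sylow 2 H) : Subgroup H) := by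
        rw [Sylow.coe_subtype]; exact Subgroup.mem_subgroupOf.mpr ha
      have hgx : (⟨g, hgN⟩ : H) * ⟨a, hPH ha⟩ * (⟨g, hgN⟩ : H)⁻¹ ∈
          ((P.subtype hPH : Sylow 2 H) : Subgroup H) := by
        rw [Sylow.coe_subtype]; exact Subgroup.mem_subgroupOf.mpr hg
      obtain ⟨u, hu, huu⟩ := hcf ⟨a, hPH ha⟩ hx ⟨g, hgN⟩ hgx
      have huP : (u : G) ∈ (P : Subgroup G) := by
        rw [Sylow.coe_subtype] at hu; exact Subgroup.mem_subgroupOf.mp hu
      have hconj : g * a * g⁻¹ = (u : G) * a * (u : G)⁻¹ := by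
        have := congrArg Subtype.val huu
        simpa using this
      rw [hconj]
      have h2 := hMn.conj_mem ⟨a, ha⟩ haM ⟨u, huP⟩
      exact ⟨_, h2, by simp⟩
  -- the focal subgroup lies in Φ(P)
  apply hasNormalPComplement_of_focalSubgroup_le_frattini P
  rw [Subgroup.focalSubgroup_def, Subgroup.closure_le]
  rintro g0 ⟨hg0P, x, hxP, u, rfl⟩
  refine ⟨⟨⁅x, u⁆, hg0P⟩, ?_, rfl⟩
  rw [frattini, Order.radical]
  apply Subgroup.mem_iInf.mpr
  intro M'
  apply Subgroup.mem_iInf.mpr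
  intro hM'
  have hidx : M'.index = 2 := Cfsg.Agent.Lib.Helper1.coatom_index_of_isPGroup P.isPGroup' hM'
  set y := u * x⁻¹ * u⁻¹ with hy
  have hyP : y ∈ (P : Subgroup G) := by
    have : y = x⁻¹ * ⁅x, u⁆ := by rw [commutatorElement_def, hy]; group
    rw [this]; exact Subgroup.mul_mem _ (Subgroup.inv_mem _ hxP) hg0P
  have hprod : (⟨⁅x, u⁆, hg0P⟩ : (P : Subgroup G)) = ⟨x, hxP⟩ * ⟨y, hyP⟩ := by
    apply Subtype.ext
    show ⁅x, u⁆ = x * y
    rw [commutatorElement_def, hy]; group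
  rw [hprod, Subgroup.mul_mem_iff_of_index_two hidx]
  constructor
  · intro hxM
    exact key1 M' hM' x⁻¹ (Subgroup.inv_mem _ hxP) (M'.inv_mem hxM) u hyP
  · intro hyM
    have hx' : u⁻¹ * y * u⁻¹⁻¹ = x⁻¹ := by rw [hy]; group
    have h1 := key1 M' hM' y hyP hyM u⁻¹ (by rw [hx']; exact Subgroup.inv_mem _ hxP)
    have h2 : (⟨x, hxP⟩ : (P : Subgroup G))⁻¹ ∈ M' := by
      have : (⟨x, hxP⟩ : (P : Subgroup G))⁻¹ = ⟨u⁻¹ * y * u⁻¹⁻¹, by rw [hx']; exact Subgroup.inv_mem _ hxP⟩ :=
        Subtype.ext hx'.symm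
      rw [this]; exact h1
    exact (M'.inv_mem_iff).mp h2

end Cfsg.Agent.Lib.Helper9
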