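import Mathlib
import Cfsg.Agent.Lib.Helper9.HSubMainB
import Cfsg.Agent.Lib.Helper9.HSubMainC

/-!
The ℋ-subgroup `p`-nilpotency theorem: if `p` is the smallest prime divisor of `|G|`,
`p^(k+1)` divides `|G|` (with `k ≥ 1`) and every `p`-subgroup of order `p^k` (and of order `4`
if `p^k = 2`) is an ℋ-subgroup, then `G` has a normal `p`-complement.
-/

set_option autoImplicit false

universe u

namespace Cfsg.Agent.Lib.Helper9

open Cfsg

theorem mainStmt_all (p : ℕ) [hp : Fact p.Prime] : ∀ n : ℕ, MainStmt.{u} p n := by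
  intro n
  induction n using Nat.strong_induction_on with
  | _ n ih =>
    intro G _ _ hn hmin k hk hdvd hyp
    rcases Nat.eq_or_lt_of_le hk with hk1 | hk2
    · rw [← hk1, pow_one] at hyp
      exact hasNormalPComplement_of_hypH_prime hmin hyp
    · by_cases hO : ∃ N : Subgroup G, N.Normal ∧ N ≠ ⊥ ∧ IsPGroup p N
      · obtain ⟨N0, hN0n, hN01, hN0p⟩ := hO
        obtain ⟨R, hRn, hR1, hRN0, hRmin⟩ :=
          Cfsg.Agent.Lib.Helper1.exists_minimal_normal_le N0 hN0n hN01
        haveI := hRn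
        exact MainStmt.caseA ih hn hmin hk2 hdvd hyp R (hN0p.to_le hRN0) hR1 hRmin
      · by_cases hp2 : p = 2
        · subst hp2
          exact MainStmt.caseB_two ih hn hmin hk hdvd hyp hO
        · exact MainStmt.caseB_odd hp2 ih hn hmin hk hdvd hyp hO

/-- The ℋ-subgroup `p`-nilpotency theorem. -/
theorem hasNormalPComplement_of_hypH {G : Type u} [Group G] [Finite G] {p : ℕ} [Fact p.Prime]
    (hmin : ∀ q : ℕ, q.Prime → q ∣ Nat.card G → p ≤ q) {k : ℕ} (hk : 1 ≤ k)
    (hdvd : p ^ (k + 1) ∣ Nat.card G) (hyp : HypH p (p ^ k) G) : HasNormalPComplement p G :=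
  mainStmt_all p (Nat.card G) G rfl hmin k hk hdvd hyp

end Cfsg.Agent.Lib.Helper9
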