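import Mathlib

/-!
The Heisenberg group of dimension `2n+1` over `ZMod p`, as an abstract group:
triples `(a, b, c)` with `(a,b,c)(a',b',c') = (a+a', b+b', c+c'+a·b')`.
-/

set_option autoImplicit false

namespace Cfsg.Agent.Lib.Helper9

/-- The Heisenberg group over `ZMod p` with `n` pairs of coordinates. -/
@[ext] structure Heis (n p : ℕ) where
  a : Fin n → ZMod p
  b : Fin n → ZMod p
  c : ZMod p

namespace Heis

variable {n p : ℕ}

instance : Mul (Heis n p) := ⟨fun x y => ⟨x.a + y.a, x.b + y.b, x.c + y.c + x.a ⬝ᵥ y.b⟩⟩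
instance : One (Heis n p) := ⟨⟨0, 0, 0⟩⟩
instance : Inv (Heis n p) := ⟨fun x => ⟨-x.a, -x.b, -x.c + x.a ⬝ᵥ x.b⟩⟩

@[simp] theorem mul_a (x y : Heis n p) : (x * y).a = x.a + y.a := rfl
@[simp] theorem mul_b (x y : Heis n p) : (x * y).b = x.b + y.b := rfl
@[simp] theorem mul_c (x y : Heis n p) : (x * y).c = x.c + y.c + x.a ⬝ᵥ y.b := rfl
@[simp] theorem one_a : (1 : Heis n p).a = 0 := rfl
@[simp] theorem one_b : (1 : Heis n p).b = 0 := rfl
@[simp] theorem one_c : (1 : Heis n p).c = 0 := rfl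
@[simp] theorem inv_a (x : Heis n p) : (x⁻¹).a = -x.a := rfl
@[simp] theorem inv_b (x : Heis n p) : (x⁻¹).b = -x.b := rfl
@[simp] theorem inv_c (x : Heis n p) : (x⁻¹).c = -x.c + x.a ⬝ᵥ x.b := rfl

instance : Group (Heis n p) :=
  Group.ofLeftAxioms
    (by
      intro x y z
      ext1
      · simp [add_assoc]
      · simp [add_assoc]
      · simp only [mul_c, mul_a, mul_b, add_dotProduct, dotProduct_add]; ring)
    (by
      intro x
      ext1 <;> simp)
    (by
      intro x
      ext1 <;> simp)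

/-- The underlying equivalence with a product. -/
def equivProd : Heis n p ≃ (Fin n → ZMod p) × (Fin n → ZMod p) × ZMod p where
  toFun x := (x.a, x.b, x.c)
  invFun t := ⟨t.1, t.2.1, t.2.2⟩
  left_inv _ := rfl
  right_inv _ := rfl

instance [NeZero p] : Finite (Heis n p) := Finite.of_equiv _ equivProd.symm

theorem card_eq [NeZero p] : Nat.card (Heis n p) = p ^ (2 * n + 1) := by
  rw [Nat.card_congr equivProd, Nat.card_prod, Nat.card_prod, Nat.card_fun, Nat.card_zmod,
    Nat.card_fin]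
  ring

theorem pow_eq (x : Heis n p) (k : ℕ) :
    x ^ k = ⟨k • x.a, k • x.b, k • x.c + (k.choose 2) • (x.a ⬝ᵥ x.b)⟩ := by
  induction k with
  | zero => ext1 <;> simp
  | succ k ih =>
    rw [pow_succ, ih]
    ext1
    · simp [add_smul]
    · simp [add_smul]
    · have hch : (k + 1).choose 2 = k + k.choose 2 := by
        rw [Nat.choose_succ_succ' k 1, Nat.choose_one_right]
      simp only [mul_c, hch, add_smul, one_smul, smul_dotProduct]
      ring

theorem pow_prime_eq_one [hp : Fact p.Prime] (hp2 : p ≠ 2) (x : Heis n p) : x ^ p = 1 := by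
  rw [pow_eq]
  have h2 : 2 < p := lt_of_le_of_ne hp.out.two_le (Ne.symm hp2)
  have hdvd : p ∣ p.choose 2 := hp.out.dvd_choose_self (by norm_num) h2
  have hc : ((p.choose 2 : ℕ) : ZMod p) = 0 := (ZMod.natCast_eq_zero_iff _ _).mpr hdvd
  ext1
  · funext i; simp
  · funext i; simp
  · simp [hc]

theorem mem_center_iff' (x : Heis n p) :
    x ∈ Subgroup.center (Heis n p) ↔ x.a = 0 ∧ x.b = 0 := by
  rw [Subgroup.mem_center_iff]
  constructor
  · intro h
    constructor
    · funext j
      have := congrArg Heis.c (h ⟨0, Pi.single j 1, 0⟩)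
      simpa using this.symm
    · funext j
      have := congrArg Heis.c (h ⟨Pi.single j 1, 0, 0⟩)
      simpa using this
  · rintro ⟨ha, hb⟩ y
    ext1
    · simp [ha]
    · simp [hb]
    · simp [ha, hb, add_comm]

theorem card_center [NeZero p] : Nat.card (Subgroup.center (Heis n p)) = p := by
  have e : Subgroup.center (Heis n p) ≃ ZMod p :=
    { toFun := fun x => x.1.c
      invFun := fun c => ⟨⟨0, 0, c⟩, (mem_center_iff' _).mpr ⟨rfl, rfl⟩⟩
      left_inv := by
        rintro ⟨x, hx⟩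
        obtain ⟨ha, hb⟩ := (mem_center_iff' _).mp hx
        apply Subtype.ext
        ext1
        · exact ha.symm
        · exact hb.symm
        · rfl
      right_inv := fun c => rfl }
  rw [Nat.card_congr e, Nat.card_zmod]

theorem commutator_mem_center (x y : Heis n p) :
    x * y * x⁻¹ * y⁻¹ ∈ Subgroup.center (Heis n p) := by
  rw [mem_center_iff']
  constructor
  · simp
  · simp

theorem exists_not_commute [NeZero p] (hp1 : p ≠ 1) (hn : 1 ≤ n) :
    ∃ x y : Heis n p, x * y ≠ y * x := by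
  have : Fact (1 < p) := ⟨lt_of_le_of_ne (Nat.one_le_iff_ne_zero.mpr (NeZero.ne p)) (Ne.symm hp1)⟩
  refine ⟨⟨Pi.single ⟨0, hn⟩ 1, 0, 0⟩, ⟨0, Pi.single ⟨0, hn⟩ 1, 0⟩, ?_⟩
  intro h
  have := congrArg Heis.c h
  simp at this

end Heis

end Cfsg.Agent.Lib.Helper9
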