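import Mathlib
import Cfsg.Agent.Lib.Helper9.Heis

/-!
The faithful matrix representation of the Heisenberg group `Heis n p` in
`GL (Fin (n + 2)) (ZMod p)` by unitriangular matrices.
-/

set_option autoImplicit false

namespace Cfsg.Agent.Lib.Helper9

namespace Heis

variable {n p : ℕ}

/-- The matrix `[[1, a, c], [0, 1, b], [0, 0, 1]]` in block form. -/
def toMat (x : Heis n p) : Matrix (Unit ⊕ (Fin n ⊕ Unit)) (Unit ⊕ (Fin n ⊕ Unit)) (ZMod p) :=
  Matrix.of fun i j =>
    match i, j with
    | Sum.inl _, Sum.inl _ => 1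
    | Sum.inl _, Sum.inr (Sum.inl j) => x.a j
    | Sum.inl _, Sum.inr (Sum.inr _) => x.c
    | Sum.inr (Sum.inl _), Sum.inl _ => 0
    | Sum.inr (Sum.inl i), Sum.inr (Sum.inl j) => if i = j then 1 else 0
    | Sum.inr (Sum.inl i), Sum.inr (Sum.inr _) => x.b i
    | Sum.inr (Sum.inr _), Sum.inl _ => 0
    | Sum.inr (Sum.inr _), Sum.inr (Sum.inl _) => 0
    | Sum.inr (Sum.inr _), Sum.inr (Sum.inr _) => 1

theorem toMat_one : toMat (1 : Heis n p) = 1 := by
  ext (i | i | i) (j | j | j) <;> simp [toMat, Matrix.one_apply]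

theorem toMat_mul (x y : Heis n p) : toMat (x * y) = toMat x * toMat y := by
  ext (i | i | i) (j | j | j) <;>
    simp [toMat, Matrix.mul_apply, Fintype.sum_sum_type, dotProduct] <;> ring

theorem toMat_injective : Function.Injective (toMat : Heis n p → _) := by
  intro x y h
  ext1
  · funext j
    have := congrFun (congrFun h (Sum.inl ())) (Sum.inr (Sum.inl j))
    simpa [toMat] using this
  · funext j
    have := congrFun (congrFun h (Sum.inr (Sum.inl j))) (Sum.inr (Sum.inr ()))
    simpa [toMat] using this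
  · have := congrFun (congrFun h (Sum.inl ())) (Sum.inr (Sum.inr ()))
    simpa [toMat] using this

/-- `toMat` as a monoid homomorphism. -/
def toMatHom : Heis n p →* Matrix (Unit ⊕ (Fin n ⊕ Unit)) (Unit ⊕ (Fin n ⊕ Unit)) (ZMod p) where
  toFun := toMat
  map_one' := toMat_one
  map_mul' := toMat_mul

/-- A bijection between the block index type and `Fin (n + 2)`. -/
noncomputable def idxEquiv (n : ℕ) : (Unit ⊕ (Fin n ⊕ Unit)) ≃ Fin (n + 2) :=
  Fintype.equivFinOfCardEq (by simp; omega)

/-- The faithful representation `Heis n p →* GL (Fin (n+2)) (ZMod p)`. -/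
noncomputable def toGL : Heis n p →* Matrix.GeneralLinearGroup (Fin (n + 2)) (ZMod p) :=
  (((Matrix.reindexAlgEquiv (ZMod p) (ZMod p) (idxEquiv n)).toMulEquiv.toMonoidHom).comp
    toMatHom).toHomUnits

theorem toGL_injective : Function.Injective (toGL : Heis n p → _) := by
  intro x y h
  have h1 : ((toGL x : Matrix.GeneralLinearGroup (Fin (n + 2)) (ZMod p)) :
      Matrix (Fin (n + 2)) (Fin (n + 2)) (ZMod p)) = toGL y := by rw [h]
  simp only [toGL, MonoidHom.coe_toHomUnits, MonoidHom.comp_apply] at h1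
  have h2 := (Matrix.reindexAlgEquiv (ZMod p) (ZMod p) (idxEquiv n)).injective h1
  exact toMat_injective h2

end Heis

end Cfsg.Agent.Lib.Helper9
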