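import Mathlib
import Cfsg.Agent.Lib.Helper9.CoprimeIndex2

/-!
# Minimal non-`p`-closed groups that are not simple (for S3875)

`G` finite, not `p`-closed (some Sylow `p`-subgroup `P` is not normal), while every proper subgroup and
every proper quotient is `p`-closed.  If `G` is not simple then `G = P N` with `N` a normal elementary
abelian `r`-group, `|N| ≡ 1 (mod p)`; in particular `p * k ≤ |G|` for a prime power `k ≡ 1 (mod p)`.
-/

set_option autoImplicit false
set_option linter.unusedSectionVars false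
set_option linter.style.haveILetI false
set_option linter.unusedVariables false

namespace Cfsg.Agent.Lib.Helper9.LeastNPC

open scoped Pointwise

variable {G : Type*} [Group G] [Finite G] {p : ℕ} [hp : Fact p.Prime]

/-- Every proper subgroup and every proper quotient has normal Sylow `p`-subgroups. -/
structure MinNPC (p : ℕ) (G : Type*) [Group G] : Prop where
  sub : ∀ K : Subgroup G, K ≠ ⊤ → ∀ Q : Sylow p K, (Q : Subgroup K).Normal
  quo : ∀ (N : Subgroup G) [N.Normal], N ≠ ⊥ → ∀ Q : Sylow p (G ⧸ N), (Q : Subgroup (G ⧸ N)).Normal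

/-- If `P ≤ K`, `K` normal in `G` and the Sylow subgroup `P` is normal in `K`, then `P` is normal in `G`. -/
theorem normal_of_normal_in_normal (P : Sylow p G) (K : Subgroup G) [K.Normal] (hPK : (P : Subgroup G) ≤ K)
    (hn : ((P.subtype hPK : Sylow p K) : Subgroup K).Normal) : (P : Subgroup G).Normal := by
  haveI : ((P.subtype hPK : Sylow p K) : Subgroup K).Characteristic :=
    Sylow.characteristic_of_normal _ hn
  have h1 : (((P.subtype hPK : Sylow p K) : Subgroup K).map K.subtype).Normal :=
    ConjAct.normal_of_characteristic_of_normal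
  have h2 : ((P.subtype hPK : Sylow p K) : Subgroup K).map K.subtype = (P : Subgroup G) := by
    rw [Sylow.coe_subtype]
    exact Subgroup.map_subgroupOf_eq_of_le hPK
  rwa [h2] at h1

theorem sup_eq_top (h : MinNPC p G) (P : Sylow p G) (hP : ¬ (P : Subgroup G).Normal)
    (N : Subgroup G) [N.Normal] (hN : N ≠ ⊥) : (P : Subgroup G) ⊔ N = ⊤ := by
  have hQ := h.quo N hN (P.mapSurjective (QuotientGroup.mk'_surjective N))
  rw [Sylow.coe_mapSurjective] at hQ
  have hn : (((P : Subgroup G).map (QuotientGroup.mk' N)).comap (QuotientGroup.mk' N)).Normal :=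
    hQ.comap _
  rw [Subgroup.comap_map_eq, QuotientGroup.ker_mk'] at hn
  by_contra hne
  haveI := hn
  exact hP (normal_of_normal_in_normal P _ le_sup_left (h.sub _ hne _))

theorem not_dvd_card (h : MinNPC p G) (P : Sylow p G) (hP : ¬ (P : Subgroup G).Normal)
    (N : Subgroup G) [N.Normal] (hN : N ≠ ⊥) (hN' : N ≠ ⊤) : ¬ p ∣ Nat.card N := by
  intro hdvd
  let Q : Sylow p N := default
  have hQne : (Q : Subgroup N) ≠ ⊥ := Q.ne_bot_of_dvd_card hdvd
  have hQn : (Q : Subgroup N).Normal := h.sub N hN' Q
  haveI : (Q : Subgroup N).Characteristic := Sylow.characteristic_of_normal _ hQn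
  have hMn : ((Q : Subgroup N).map N.subtype).Normal := ConjAct.normal_of_characteristic_of_normal
  haveI := hMn
  have hMne : (Q : Subgroup N).map N.subtype ≠ ⊥ := by
    intro e
    apply hQne
    exact (Subgroup.map_eq_bot_iff_of_injective _ N.subtype_injective).mp e
  have hMp : IsPGroup p ((Q : Subgroup N).map N.subtype) := Q.isPGroup'.map _
  have hMle : (Q : Subgroup N).map N.subtype ≤ (P : Subgroup G) := hMp.le_sylow_of_normal P
  have htop := sup_eq_top h P hP _ hMne
  rw [sup_eq_left.mpr hMle] at htop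
  apply hP
  rw [htop]
  infer_instance

theorem card_eq (h : MinNPC p G) (P : Sylow p G) (hP : ¬ (P : Subgroup G).Normal)
    (N : Subgroup G) [N.Normal] (hN : N ≠ ⊥) (hN' : N ≠ ⊤) :
    Nat.card G = Nat.card P * Nat.card N := by
  have hnd := not_dvd_card h P hP N hN hN'
  have hcop : (Nat.card (P : Subgroup G)).Coprime (Nat.card N) := by
    obtain ⟨k, hk⟩ := IsPGroup.iff_card.mp P.isPGroup'
    rw [hk]
    exact Nat.Coprime.pow_left _ ((Nat.Prime.coprime_iff_not_dvd hp.out).mpr hnd)
  have hinf : (P : Subgroup G) ⊓ N = ⊥ := (Subgroup.disjoint_of_coprime_natCard hcop).eq_bot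
  have := Cfsg.Agent.Lib.Helper9.card_sup_mul_card_inf (P : Subgroup G) N
  rw [sup_eq_top h P hP N hN, hinf, Subgroup.card_top, Subgroup.card_bot, mul_one] at this
  exact this

theorem P_ne_bot (P : Sylow p G) (hP : ¬ (P : Subgroup G).Normal) : (P : Subgroup G) ≠ ⊥ := by
  intro e
  apply hP
  rw [e]
  infer_instance

theorem le_card_P (P : Sylow p G) (hP : ¬ (P : Subgroup G).Normal) : p ≤ Nat.card P := by
  obtain ⟨k, hk⟩ := IsPGroup.iff_card.mp P.isPGroup'
  have hk' : Nat.card P = p ^ k := hk
  rw [hk']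
  rcases Nat.eq_zero_or_pos k with h0 | hpos
  · exfalso
    apply P_ne_bot P hP
    rw [h0, pow_zero] at hk'
    exact (Subgroup.card_eq_one).mp hk'
  · calc p = p ^ 1 := (pow_one p).symm
      _ ≤ p ^ k := Nat.pow_le_pow_right hp.out.pos hpos

/-- Minimality of proper nontrivial normal subgroups. -/
theorem eq_of_le (h : MinNPC p G) (P : Sylow p G) (hP : ¬ (P : Subgroup G).Normal)
    (N : Subgroup G) [N.Normal] (hN : N ≠ ⊥) (hN' : N ≠ ⊤)
    (M : Subgroup G) [M.Normal] (hM : M ≠ ⊥) (hMN : M ≤ N) : M = N := by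
  have hM' : M ≠ ⊤ := by
    intro e
    apply hN'
    rw [e] at hMN
    exact top_le_iff.mp hMN
  have h1 := card_eq h P hP N hN hN'
  have h2 := card_eq h P hP M hM hM'
  have hpos : 0 < Nat.card (P : Subgroup G) := Nat.card_pos
  have h3 : Nat.card M = Nat.card N := by
    have : Nat.card (P : Subgroup G) * Nat.card M = Nat.card (P : Subgroup G) * Nat.card N := by
      rw [← h1, ← h2]
    exact Nat.eq_of_mul_eq_mul_left hpos this
  exact Subgroup.eq_of_le_of_card_ge hMN h3.ge

end Cfsg.Agent.Lib.Helper9.LeastNPC
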