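import Mathlib
import Cfsg.Agent.Lib.Helper9.LeastNPCA

/-!
# Minimal non-`p`-closed groups that are not simple, part 2 (for S3875)
-/

set_option autoImplicit false
set_option linter.unusedSectionVars false
set_option linter.style.haveILetI false
set_option linter.unusedVariables false

namespace Cfsg.Agent.Lib.Helper9.LeastNPC

open scoped Pointwise

variable {G : Type*} [Group G] [Finite G] {p : ℕ} [hp : Fact p.Prime]

/-- A `p`-group normalizing a normal `p'`-subgroup `N` normalizes some Sylow `r`-subgroup of `N`. -/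
theorem exists_invariant_sylow (P : Subgroup G) (hP : IsPGroup p P)
    (N : Subgroup G) [N.Normal] (hpN : ¬ p ∣ Nat.card N) (r : ℕ) [Fact r.Prime] :
    ∃ R : Sylow r N, P ≤ Subgroup.normalizer (((R : Subgroup N).map N.subtype : Subgroup G) : Set G) := by
  letI : MulAction P (Sylow r N) :=
    MulAction.compHom (Sylow r N) ((MulAut.conjNormal (H := N)).comp P.subtype)
  have hnd : ¬ p ∣ Nat.card (Sylow r N) := by
    intro hd
    have R₁ : Sylow r N := default
    have h1 := Sylow.card_dvd_index R₁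
    have h2 : (R₁ : Subgroup N).index ∣ Nat.card N := Subgroup.index_dvd_card _
    exact hpN (hd.trans (h1.trans h2))
  obtain ⟨R₀, hR₀⟩ := hP.nonempty_fixed_point_of_prime_not_dvd_card (Sylow r N) hnd
  refine ⟨R₀, fun x hx => ?_⟩
  have hfix : (⟨x, hx⟩ : P) • R₀ = R₀ := hR₀ ⟨x, hx⟩
  have h3 : (MulAut.conjNormal (H := N) x) • R₀ = R₀ := hfix
  have h4 : (MulAut.conjNormal (H := N) x) • (R₀ : Subgroup N) = R₀ := by
    rw [← Sylow.pointwise_smul_def, h3]
  -- membership form
  have key : ∀ y : G, (∀ w : N, w ∈ R₀ → (MulAut.conjNormal (H := N) y) w ∈ R₀) →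
      ∀ g ∈ (R₀ : Subgroup N).map N.subtype, y * g * y⁻¹ ∈ (R₀ : Subgroup N).map N.subtype := by
    intro y hy g hg
    obtain ⟨w, hw, rfl⟩ := hg
    refine ⟨(MulAut.conjNormal (H := N) y) w, hy w hw, ?_⟩
    simp [MulAut.conjNormal_apply]
  have hx1 : ∀ w : N, w ∈ R₀ → (MulAut.conjNormal (H := N) x) w ∈ R₀ := by
    intro w hw
    have h5 := Subgroup.smul_mem_pointwise_smul w (MulAut.conjNormal (H := N) x)
      (R₀ : Subgroup N) hw
    rw [h4] at h5
    exact h5
  have hx2 : ∀ w : N, w ∈ R₀ → (MulAut.conjNormal (H := N) x⁻¹) w ∈ R₀ := by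
    intro w hw
    have h6 : (MulAut.conjNormal (H := N) x⁻¹) • (R₀ : Subgroup N) = R₀ := by
      rw [map_inv, inv_smul_eq_iff, h4]
    have h5 := Subgroup.smul_mem_pointwise_smul w (MulAut.conjNormal (H := N) x⁻¹)
      (R₀ : Subgroup N) hw
    rw [h6] at h5
    exact h5
  rw [Subgroup.mem_set_normalizer_iff]
  intro g
  constructor
  · intro hg
    exact key x hx1 g hg
  · intro hg
    have := key x⁻¹ hx2 _ hg
    rw [inv_inv] at this
    have e : x⁻¹ * (x * g * x⁻¹) * x = g := by group
    rwa [e] at this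

end Cfsg.Agent.Lib.Helper9.LeastNPC
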