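import Mathlib
import Cfsg.Agent.Lib.Helper9.LeastNPCB

/-!
# Minimal non-`p`-closed groups that are not simple, part 3 (for S3875)
-/

set_option autoImplicit false
set_option linter.unusedSectionVars false
set_option linter.style.haveILetI false
set_option linter.unusedVariables false

namespace Cfsg.Agent.Lib.Helper9.LeastNPC

open scoped Pointwise

variable {G : Type*} [Group G] [Finite G] {p : ℕ} [hp : Fact p.Prime]

/-- `P` normal as soon as `N ≤ C_G(P)`. -/
theorem normal_of_le_centralizer (h : MinNPC p G) (P : Sylow p G) (hP : ¬ (P : Subgroup G).Normal)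
    (N : Subgroup G) [N.Normal] (hN : N ≠ ⊥)
    (hc : N ≤ Subgroup.centralizer ((P : Subgroup G) : Set G)) : False := by
  apply hP
  rw [← Subgroup.normalizer_eq_top_iff, eq_top_iff, ← sup_eq_top h P hP N hN]
  exact sup_le Subgroup.le_normalizer (hc.trans (Subgroup.centralizer_le_normalizer _))

/-- If `P` normalizes `R ≤ N` and `P ⊔ R` is proper then `R` centralizes `P`. -/
theorem le_centralizer_of_sup_ne_top (h : MinNPC p G) (P : Sylow p G)
    (N : Subgroup G) [N.Normal] (hpN : ¬ p ∣ Nat.card N) (R : Subgroup G) (hRN : R ≤ N)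
    (hPR : (P : Subgroup G) ≤ Subgroup.normalizer (R : Set G))
    (hne : (P : Subgroup G) ⊔ R ≠ ⊤) :
    R ≤ Subgroup.centralizer ((P : Subgroup G) : Set G) := by
  have hQn := h.sub _ hne (P.subtype (le_sup_left : (P : Subgroup G) ≤ (P : Subgroup G) ⊔ R))
  rw [Sylow.coe_subtype] at hQn
  have hcop : (Nat.card (P : Subgroup G)).Coprime (Nat.card N) := by
    obtain ⟨k, hk⟩ := IsPGroup.iff_card.mp P.isPGroup'
    rw [hk]
    exact Nat.Coprime.pow_left _ ((Nat.Prime.coprime_iff_not_dvd hp.out).mpr hpN)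
  have hinf : (P : Subgroup G) ⊓ N = ⊥ := (Subgroup.disjoint_of_coprime_natCard hcop).eq_bot
  intro x hx
  rw [Subgroup.mem_centralizer_iff]
  intro y hy
  have hy' : y ∈ (P : Subgroup G) := hy
  -- x y x⁻¹ ∈ P
  have hxK : x ∈ (P : Subgroup G) ⊔ R := (le_sup_right : R ≤ _) hx
  have hyK : y ∈ (P : Subgroup G) ⊔ R := (le_sup_left : (P : Subgroup G) ≤ _) hy'
  have h1 : (⟨y, hyK⟩ : ((P : Subgroup G) ⊔ R : Subgroup G)) ∈
      (P : Subgroup G).subgroupOf ((P : Subgroup G) ⊔ R) := by
    rw [Subgroup.mem_subgroupOf]; exact hy'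
  have h2 := hQn.conj_mem _ h1 ⟨x, hxK⟩
  rw [Subgroup.mem_subgroupOf] at h2
  have h3 : x * y * x⁻¹ ∈ (P : Subgroup G) := h2
  have h4 : x * y * x⁻¹ * y⁻¹ ∈ (P : Subgroup G) := (P : Subgroup G).mul_mem h3 ((P : Subgroup G).inv_mem hy')
  have h5 : y * x⁻¹ * y⁻¹ ∈ R :=
    (Subgroup.mem_set_normalizer_iff.mp (hPR hy') x⁻¹).mp (R.inv_mem hx)
  have h6 : x * y * x⁻¹ * y⁻¹ ∈ R := by
    have e : x * y * x⁻¹ * y⁻¹ = x * (y * x⁻¹ * y⁻¹) := by group
    rw [e]; exact R.mul_mem hx h5
  have h7 : x * y * x⁻¹ * y⁻¹ ∈ (P : Subgroup G) ⊓ N := ⟨h4, hRN h6⟩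
  rw [hinf, Subgroup.mem_bot] at h7
  have : x * y = y * x := by
    have e : x * y = (x * y * x⁻¹ * y⁻¹) * (y * x) := by group
    rw [e, h7, one_mul]
  exact this.symm

/-- `N` has prime power order. -/
theorem exists_card_eq_prime_pow (h : MinNPC p G) (P : Sylow p G) (hP : ¬ (P : Subgroup G).Normal)
    (N : Subgroup G) [N.Normal] (hN : N ≠ ⊥) (hN' : N ≠ ⊤) :
    ∃ r k : ℕ, r.Prime ∧ Nat.card N = r ^ k := by
  by_contra hcon
  push_neg at hcon
  have hpN := not_dvd_card h P hP N hN hN'
  have hGc := card_eq h P hP N hN hN'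
  -- every invariant Sylow is centralized
  have key : ∀ r : ℕ, r.Prime →
      r ^ (Nat.card N).factorization r ∣
        Nat.card (N ⊓ Subgroup.centralizer ((P : Subgroup G) : Set G) : Subgroup G) := by
    intro r hr
    haveI : Fact r.Prime := ⟨hr⟩
    obtain ⟨R, hR⟩ := exists_invariant_sylow (P : Subgroup G) P.isPGroup' N hpN r
    set R' : Subgroup G := (R : Subgroup N).map N.subtype with hR'
    have hR'N : R' ≤ N := by
      rintro _ ⟨w, _, rfl⟩
      exact w.2
    have hcardR : Nat.card R' = r ^ (Nat.card N).factorization r := by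
      rw [hR', Nat.card_congr ((R : Subgroup N).equivMapOfInjective N.subtype
        N.subtype_injective).symm.toEquiv]
      exact Sylow.card_eq_multiplicity R
    by_cases htop : (P : Subgroup G) ⊔ R' = ⊤
    · exfalso
      -- then |N| = |R'|
      have h1 : Nat.card G ≤ Nat.card (P : Subgroup G) * Nat.card R' := by
        have e1 : Nat.card G = Nat.card ((⊤ : Subgroup G) : Set G) := by
          rw [Subgroup.coe_top, Nat.card_congr (Equiv.Set.univ G)]
        rw [e1, ← htop, Subgroup.coe_mul_of_left_le_normalizer_right _ _ hR]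
        exact Set.natCard_mul_le
      rw [hGc] at h1
      have hpos : 0 < Nat.card (P : Subgroup G) := Nat.card_pos
      have h2 : Nat.card N ≤ Nat.card R' := Nat.le_of_mul_le_mul_left h1 hpos
      have h3 : R' = N := Subgroup.eq_of_le_of_card_ge hR'N h2
      apply hcon r _ hr
      rw [← h3, hcardR]
    · have hle := le_centralizer_of_sup_ne_top h P N hpN R' hR'N hR htop
      rw [← hcardR]
      exact Subgroup.card_dvd_of_le (le_inf hR'N hle)
  have hdvd : Nat.card N ∣
      Nat.card (N ⊓ Subgroup.centralizer ((P : Subgroup G) : Set G) : Subgroup G) := by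
    rw [← Nat.factorization_prime_le_iff_dvd Nat.card_pos.ne' Nat.card_pos.ne']
    intro r hr
    exact (hr.pow_dvd_iff_le_factorization Nat.card_pos.ne').mp (key r hr)
  have hle : Nat.card N ≤
      Nat.card (N ⊓ Subgroup.centralizer ((P : Subgroup G) : Set G) : Subgroup G) :=
    Nat.le_of_dvd Nat.card_pos hdvd
  have heq : N ⊓ Subgroup.centralizer ((P : Subgroup G) : Set G) = N :=
    Subgroup.eq_of_le_of_card_ge inf_le_left hle
  exact normal_of_le_centralizer h P hP N hN (inf_eq_left.mp heq)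

end Cfsg.Agent.Lib.Helper9.LeastNPC
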