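import Mathlib
import Cfsg.Agent.Lib.Helper9.LeastNPCC

/-!
# Minimal non-`p`-closed groups that are not simple, part 4 (for S3875)
-/

set_option autoImplicit false
set_option linter.unusedSectionVars false
set_option linter.style.haveILetI false
set_option linter.unusedVariables false

namespace Cfsg.Agent.Lib.Helper9.LeastNPC

open scoped Pointwise

variable {G : Type*} [Group G] [Finite G] {p : ℕ} [hp : Fact p.Prime]

/-- `N` is abelian. -/
theorem comm_of_minNPC (h : MinNPC p G) (P : Sylow p G) (hP : ¬ (P : Subgroup G).Normal)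
    (N : Subgroup G) [N.Normal] (hN : N ≠ ⊥) (hN' : N ≠ ⊤) :
    ∀ a ∈ N, ∀ b ∈ N, a * b = b * a := by
  obtain ⟨r, k, hr, hk⟩ := exists_card_eq_prime_pow h P hP N hN hN'
  haveI : Fact r.Prime := ⟨hr⟩
  have hNr : IsPGroup r N := IsPGroup.of_card hk
  haveI : Nontrivial N := (Subgroup.nontrivial_iff_ne_bot N).mpr hN
  haveI : Nontrivial (Subgroup.center N) := hNr.center_nontrivial
  have hZn : ((Subgroup.center N).map N.subtype).Normal :=
    ConjAct.normal_of_characteristic_of_normal
  haveI := hZn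
  have hZne : (Subgroup.center N).map N.subtype ≠ ⊥ := by
    intro e
    have e' := (Subgroup.map_eq_bot_iff_of_injective _ N.subtype_injective).mp e
    exact (Subgroup.nontrivial_iff_ne_bot _).mp inferInstance e'
  have hZle : (Subgroup.center N).map N.subtype ≤ N := by
    rintro _ ⟨w, _, rfl⟩
    exact w.2
  have hZ := eq_of_le h P hP N hN hN' _ hZne hZle
  intro a ha b hb
  have ha' : a ∈ (Subgroup.center N).map N.subtype := by rw [hZ]; exact ha
  obtain ⟨z, hz, rfl⟩ := ha'
  have := (Subgroup.mem_center_iff.mp hz) ⟨b, hb⟩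
  have := congrArg (fun x : N => (x : G)) this
  simpa using this.symm

/-- `C_N(P) = 1`. -/
theorem inf_centralizer_eq_bot (h : MinNPC p G) (P : Sylow p G) (hP : ¬ (P : Subgroup G).Normal)
    (N : Subgroup G) [N.Normal] (hN : N ≠ ⊥) (hN' : N ≠ ⊤) :
    N ⊓ Subgroup.centralizer ((P : Subgroup G) : Set G) = ⊥ := by
  have hcomm := comm_of_minNPC h P hP N hN hN'
  set C : Subgroup G := N ⊓ Subgroup.centralizer ((P : Subgroup G) : Set G) with hC
  have hCn : C.Normal := by
    rw [← Subgroup.normalizer_eq_top_iff, eq_top_iff, ← sup_eq_top h P hP N hN]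
    apply sup_le
    · intro y hy
      rw [Subgroup.mem_set_normalizer_iff]
      intro c
      have e : ∀ z ∈ (P : Subgroup G), ∀ c ∈ C, z * c * z⁻¹ = c := by
        intro z hz c hc
        have := (Subgroup.mem_centralizer_iff.mp hc.2) z hz
        rw [this, mul_inv_cancel_right]
      constructor
      · intro hc; rw [e y hy c hc]; exact hc
      · intro hc
        have h3 := e y⁻¹ ((P : Subgroup G).inv_mem hy) _ hc
        have e2 : y⁻¹ * (y * c * y⁻¹) * y⁻¹⁻¹ = c := by group
        rw [e2] at h3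
        rw [h3]; exact hc
    · intro x hx
      rw [Subgroup.mem_set_normalizer_iff]
      intro c
      constructor
      · intro hc
        have : x * c * x⁻¹ = c := by rw [hcomm x hx c hc.1]; group
        rw [this]; exact hc
      · intro hc
        have hcN : c ∈ N := by
          have := Subgroup.Normal.conj_mem inferInstance _ hc.1 x⁻¹
          have e : x⁻¹ * (x * c * x⁻¹) * x⁻¹⁻¹ = c := by group
          rwa [e] at this
        have : x * c * x⁻¹ = c := by rw [hcomm x hx c hcN]; group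
        rwa [this] at hc
  haveI := hCn
  by_contra hne
  have hCN : C = N := eq_of_le h P hP N hN hN' C hne inf_le_left
  exact normal_of_le_centralizer h P hP N hN (hCN ▸ inf_le_right)

/-- `|N| ≡ 1 (mod p)`. -/
theorem card_mod_eq_one (h : MinNPC p G) (P : Sylow p G) (hP : ¬ (P : Subgroup G).Normal)
    (N : Subgroup G) [N.Normal] (hN : N ≠ ⊥) (hN' : N ≠ ⊤) :
    Nat.card N % p = 1 := by
  have hbot := inf_centralizer_eq_bot h P hP N hN hN'
  have hpN := not_dvd_card h P hP N hN hN'
  have hGc := card_eq h P hP N hN hN'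
  have hcop : (Nat.card (P : Subgroup G)).Coprime (Nat.card N) := by
    obtain ⟨k, hk⟩ := IsPGroup.iff_card.mp P.isPGroup'
    rw [hk]
    exact Nat.Coprime.pow_left _ ((Nat.Prime.coprime_iff_not_dvd hp.out).mpr hpN)
  have hinf : (P : Subgroup G) ⊓ N = ⊥ := (Subgroup.disjoint_of_coprime_natCard hcop).eq_bot
  set T : Subgroup G := Subgroup.normalizer ((P : Subgroup G) : Set G) with hT
  -- T ⊓ N ≤ C_N(P) = ⊥
  have hTN : T ⊓ N = ⊥ := by
    rw [eq_bot_iff, ← hbot]
    intro x hx
    obtain ⟨hxT, hxN⟩ := Subgroup.mem_inf.mp hx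
    refine Subgroup.mem_inf.mpr ⟨hxN, ?_⟩
    rw [Subgroup.mem_centralizer_iff]
    intro y hy
    have hy' : y ∈ (P : Subgroup G) := hy
    have h3 : x * y * x⁻¹ ∈ (P : Subgroup G) := (Subgroup.mem_set_normalizer_iff.mp hxT y).mp hy'
    have h4 : x * y * x⁻¹ * y⁻¹ ∈ (P : Subgroup G) :=
      (P : Subgroup G).mul_mem h3 ((P : Subgroup G).inv_mem hy')
    have h5 : y * x⁻¹ * y⁻¹ ∈ N := Subgroup.Normal.conj_mem inferInstance _ (N.inv_mem hxN) y
    have h6 : x * y * x⁻¹ * y⁻¹ ∈ N := by
      have e : x * y * x⁻¹ * y⁻¹ = x * (y * x⁻¹ * y⁻¹) := by group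
      rw [e]; exact N.mul_mem hxN h5
    have h7 : x * y * x⁻¹ * y⁻¹ ∈ (P : Subgroup G) ⊓ N := ⟨h4, h6⟩
    rw [hinf, Subgroup.mem_bot] at h7
    have : x * y = y * x := by
      have e : x * y = (x * y * x⁻¹ * y⁻¹) * (y * x) := by group
      rw [e, h7, one_mul]
    exact this.symm
  have hTsup : T ⊔ N = ⊤ := by
    rw [eq_top_iff, ← sup_eq_top h P hP N hN]
    exact sup_le_sup_right Subgroup.le_normalizer N
  have h1 := Cfsg.Agent.Lib.Helper9.card_sup_mul_card_inf T N
  rw [hTsup, hTN, Subgroup.card_top, Subgroup.card_bot, mul_one, hGc] at h1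
  have hposN : 0 < Nat.card N := Nat.card_pos
  have hTP : Nat.card T = Nat.card (P : Subgroup G) := (Nat.eq_of_mul_eq_mul_right hposN h1).symm
  have hidx : T.index = Nat.card N := by
    have := Subgroup.index_mul_card T
    rw [hTP, hGc, mul_comm] at this
    exact Nat.eq_of_mul_eq_mul_left Nat.card_pos this
  have hs := card_sylow_modEq_one p G
  have hT' : Subgroup.normalizer (P : Set G) = T := by rw [hT, Sylow.coe_coe]
  rw [Sylow.card_eq_index_normalizer P, hT', hidx] at hs
  have : Nat.card N % p = 1 % p := hs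
  rw [this]
  exact Nat.mod_eq_of_lt hp.out.one_lt

/-- Main result of the non-simple case. -/
theorem exists_primePow_of_not_simple (h : MinNPC p G) (P : Sylow p G)
    (hP : ¬ (P : Subgroup G).Normal) (hns : ¬ IsSimpleGroup G) :
    ∃ k : ℕ, IsPrimePow k ∧ k % p = 1 ∧ p * k ≤ Nat.card G := by
  haveI : Nontrivial G := by
    by_contra hnt
    rw [not_nontrivial_iff_subsingleton] at hnt
    apply hP
    have : (P : Subgroup G) = ⊤ := Subsingleton.elim _ _
    rw [this]; infer_instance
  have hex : ∃ N : Subgroup G, N.Normal ∧ N ≠ ⊥ ∧ N ≠ ⊤ := by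
    by_contra hcon
    apply hns
    refine ⟨fun N hNn => ?_⟩
    by_contra hc
    push_neg at hc
    exact hcon ⟨N, hNn, hc.1, hc.2⟩
  obtain ⟨N, hNn, hN, hN'⟩ := hex
  haveI := hNn
  obtain ⟨r, k, hr, hk⟩ := exists_card_eq_prime_pow h P hP N hN hN'
  have hmod := card_mod_eq_one h P hP N hN hN'
  have hk0 : 0 < k := by
    rcases Nat.eq_zero_or_pos k with h0 | hpos
    · exfalso
      rw [h0, pow_zero] at hk
      exact hN (Subgroup.card_eq_one.mp hk)
    · exact hpos
  refine ⟨Nat.card N, ⟨r, k, hr.prime, hk0, hk.symm⟩, hmod, ?_⟩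
  rw [card_eq h P hP N hN hN']
  exact Nat.mul_le_mul_right _ (le_card_P P hP)

end Cfsg.Agent.Lib.Helper9.LeastNPC
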