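import Mathlib

/-!
# A non-`p`-closed group of order `p * m`, `m ≡ 1 (mod p)` a prime power (for S3875)

The affine group `F ⋊ ⟨ζ⟩`, `F` the field with `m` elements, `ζ ∈ Fˣ` of order `p`.
-/

set_option autoImplicit false
set_option linter.unusedSectionVars false
set_option linter.style.haveILetI false
set_option linter.unusedVariables false

namespace Cfsg.Agent.Lib.Helper9.LeastNPC

section affine

variable {F : Type*} [Field F]

/-- The action of a subgroup of `Fˣ` on the additive group of `F`, written multiplicatively. -/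
noncomputable def affPhi (C : Subgroup Fˣ) : C →* MulAut (Multiplicative F) :=
  (MulAutMultiplicative F).symm.toMonoidHom.comp ((AddAut.mulLeft (R := F)).comp C.subtype)

theorem affPhi_apply (C : Subgroup Fˣ) (c : C) (x : Multiplicative F) :
    affPhi C c x = Multiplicative.ofAdd (((c : Fˣ) : F) * Multiplicative.toAdd x) := by
  rfl

/-- If `range inr` is normal in `F ⋊ C` then `C` is trivial. -/
theorem eq_one_of_normal_range_inr (C : Subgroup Fˣ)
    (hn : ((SemidirectProduct.inr : C →* Multiplicative F ⋊[affPhi C] C).range).Normal) (c : C) :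
    c = 1 := by
  have h1 : (SemidirectProduct.inl (Multiplicative.ofAdd (1 : F)) : Multiplicative F ⋊[affPhi C] C) *
      SemidirectProduct.inr c * (SemidirectProduct.inl (Multiplicative.ofAdd (1 : F)))⁻¹ ∈
      (SemidirectProduct.inr : C →* Multiplicative F ⋊[affPhi C] C).range :=
    hn.conj_mem _ ⟨c, rfl⟩ _
  obtain ⟨d, hd⟩ := h1
  have h2 := congrArg SemidirectProduct.left hd
  simp only [SemidirectProduct.left_inr, SemidirectProduct.mul_left, SemidirectProduct.left_inl,
    SemidirectProduct.right_inl, SemidirectProduct.mul_right, SemidirectProduct.right_inr,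
    SemidirectProduct.inv_left, map_one, MulAut.one_apply, one_mul, mul_one, inv_one,
    affPhi_apply] at h2
  have h3 := congrArg Multiplicative.toAdd h2
  simp only [toAdd_one, toAdd_mul, toAdd_ofAdd, toAdd_inv, mul_neg, mul_one] at h3
  have h4 : ((c : Fˣ) : F) = 1 := by
    have : (1 : F) - ((c : Fˣ) : F) = 0 := by rw [h3]; ring
    exact (sub_eq_zero.mp this).symm
  exact Subtype.ext (Units.ext h4)

end affine

/-- For a prime power `m ≡ 1 (mod p)` there is a group of order `p * m` whose Sylow `p`-subgroups are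
not normal. -/
theorem exists_affine (p : ℕ) [hp : Fact p.Prime] (m : ℕ) (hm : IsPrimePow m) (hm1 : m % p = 1) :
    ∃ (H : Type) (_ : Group H) (_ : Finite H), Nat.card H = p * m ∧
      ∃ P : Sylow p H, ¬ (P : Subgroup H).Normal := by
  obtain ⟨r, k, hr, hk, rfl⟩ := (isPrimePow_nat_iff m).mp hm
  haveI : Fact r.Prime := ⟨hr⟩
  have hcardF : Nat.card (GaloisField r k) = r ^ k := GaloisField.card r k hk.ne'
  have hpos : 0 < r ^ k := pow_pos hr.pos k
  haveI : Finite (GaloisField r k) := Nat.finite_of_card_ne_zero (by rw [hcardF]; exact hpos.ne')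
  have hcardU : Nat.card (GaloisField r k)ˣ = r ^ k - 1 := by
    rw [Nat.card_units, hcardF]
  have hdvd : p ∣ Nat.card (GaloisField r k)ˣ := by
    rw [hcardU]
    exact (Nat.modEq_iff_dvd' hpos).mp (by
      show 1 % p = r ^ k % p
      rw [hm1, Nat.mod_eq_of_lt hp.out.one_lt])
  obtain ⟨ζ, hζ⟩ := exists_prime_orderOf_dvd_card' p hdvd
  let C : Subgroup (GaloisField r k)ˣ := Subgroup.zpowers ζ
  have hcardC : Nat.card C = p := by rw [Nat.card_zpowers, hζ]
  haveI : Finite C := Nat.finite_of_card_ne_zero (by rw [hcardC]; exact hp.out.pos.ne')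
  let H : Type := Multiplicative (GaloisField r k) ⋊[affPhi C] C
  have hcardH : Nat.card H = p * r ^ k := by
    show Nat.card (Multiplicative (GaloisField r k) ⋊[affPhi C] C) = _
    rw [SemidirectProduct.card, hcardC, mul_comm]
    congr 1
  haveI : Finite H := Nat.finite_of_card_ne_zero (by
    rw [hcardH]; exact (Nat.mul_pos hp.out.pos hpos).ne')
  refine ⟨H, inferInstance, inferInstance, hcardH, ?_⟩
  have hndvd : ¬ p ∣ r ^ k := by
    intro h
    have := Nat.mod_eq_zero_of_dvd h
    omega
  have hfac : (Nat.card H).factorization p = 1 := by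
    rw [hcardH, Nat.factorization_mul hp.out.pos.ne' hpos.ne', Finsupp.add_apply,
      hp.out.factorization_self, Nat.factorization_eq_zero_of_not_dvd hndvd]
  have hcardR : Nat.card (SemidirectProduct.inr : C →* H).range = p ^ (Nat.card H).factorization p := by
    rw [hfac, pow_one, ← hcardC]
    exact Nat.card_range_of_injective SemidirectProduct.inr_injective
  refine ⟨Sylow.ofCard _ hcardR, ?_⟩
  rw [Sylow.coe_ofCard]
  intro hn
  have h1 : (⟨ζ, Subgroup.mem_zpowers ζ⟩ : C) = 1 := eq_one_of_normal_range_inr C hn _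
  have h2 : ζ = 1 := congrArg Subtype.val h1
  rw [h2, orderOf_one] at hζ
  exact hp.out.one_lt.ne hζ

end Cfsg.Agent.Lib.Helper9.LeastNPC
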