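import Mathlib
import Cfsg.Agent.Lib.Helper5.PSL2Small

/-!
# `PSL(2, p)` is not `p`-closed, and has order `p (p² - 1) / 2` (for S3875)
-/

set_option autoImplicit false
set_option linter.unusedSectionVars false
set_option linter.style.haveILetI false
set_option linter.unusedVariables false

namespace Cfsg.Agent.Lib.Helper9.LeastNPC

open Matrix

section sl2

variable {R : Type*} [CommRing R]

/-- The upper unitriangular matrix `[[1, 1], [0, 1]]`. -/
def slT : Matrix.SpecialLinearGroup (Fin 2) R :=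
  ⟨!![1, 1; 0, 1], by simp [Matrix.det_fin_two]⟩

/-- The Weyl element `[[0, 1], [-1, 0]]`. -/
def slW : Matrix.SpecialLinearGroup (Fin 2) R :=
  ⟨!![0, 1; -1, 0], by simp [Matrix.det_fin_two]⟩

/-- Upper unitriangular matrices form a subgroup. -/
def slU : Subgroup (Matrix.SpecialLinearGroup (Fin 2) R) where
  carrier := {A | A.1 1 0 = 0 ∧ A.1 0 0 = 1 ∧ A.1 1 1 = 1}
  mul_mem' := by
    rintro A B ⟨a1, a2, a3⟩ ⟨b1, b2, b3⟩
    refine ⟨?_, ?_, ?_⟩
    · rw [Matrix.SpecialLinearGroup.coe_mul, Matrix.mul_apply, Fin.sum_univ_two, a1, b1]; simp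
    · rw [Matrix.SpecialLinearGroup.coe_mul, Matrix.mul_apply, Fin.sum_univ_two, a2, b1, b2]; simp
    · rw [Matrix.SpecialLinearGroup.coe_mul, Matrix.mul_apply, Fin.sum_univ_two, a1, a3, b3]; simp
  one_mem' := by
    refine ⟨?_, ?_, ?_⟩ <;> simp
  inv_mem' := by
    rintro A ⟨a1, a2, a3⟩
    refine ⟨?_, ?_, ?_⟩
    · rw [Matrix.SpecialLinearGroup.coe_inv, Matrix.adjugate_fin_two]; simp [a1]
    · rw [Matrix.SpecialLinearGroup.coe_inv, Matrix.adjugate_fin_two]; simp [a3]
    · rw [Matrix.SpecialLinearGroup.coe_inv, Matrix.adjugate_fin_two]; simp [a2]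

theorem slT_mem_slU : (slT : Matrix.SpecialLinearGroup (Fin 2) R) ∈ slU := by
  refine ⟨?_, ?_, ?_⟩ <;> simp [slT]

theorem slT_pow (n : ℕ) :
    ((slT : Matrix.SpecialLinearGroup (Fin 2) R) ^ n).1 = !![1, (n : R); 0, 1] := by
  induction n with
  | zero => simp [Matrix.one_fin_two]
  | succ n ih =>
    rw [pow_succ, Matrix.SpecialLinearGroup.coe_mul, ih]
    simp [slT, add_comm]

/-- `W T W⁻¹` has `(1, 0)` entry `-1`. -/
theorem slW_conj_apply :
    ((slW : Matrix.SpecialLinearGroup (Fin 2) R) * slT * slW⁻¹).1 1 0 = -1 := by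
  rw [Matrix.SpecialLinearGroup.coe_mul, Matrix.SpecialLinearGroup.coe_mul,
    Matrix.SpecialLinearGroup.coe_inv, Matrix.adjugate_fin_two]
  simp [slT, slW]

/-- An element of `U` times `W T W⁻¹` is not central. -/
theorem not_mem_center_of_slU [Nontrivial R] (X : Matrix.SpecialLinearGroup (Fin 2) R) (hX : X ∈ slU) :
    X * (slW * slT * slW⁻¹) ∉ Subgroup.center (Matrix.SpecialLinearGroup (Fin 2) R) := by
  intro h
  obtain ⟨r, -, hr⟩ := Matrix.SpecialLinearGroup.mem_center_iff.mp h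
  have h1 := congrFun (congrFun hr 1) 0
  rw [Matrix.SpecialLinearGroup.coe_mul, Matrix.mul_apply, Fin.sum_univ_two, hX.1, hX.2.2,
    slW_conj_apply] at h1
  simp [Matrix.scalar_apply] at h1

theorem slT_not_mem_center [Nontrivial R] :
    (slT : Matrix.SpecialLinearGroup (Fin 2) R) ∉
      Subgroup.center (Matrix.SpecialLinearGroup (Fin 2) R) := by
  intro h
  obtain ⟨r, -, hr⟩ := Matrix.SpecialLinearGroup.mem_center_iff.mp h
  have h1 := congrFun (congrFun hr 0) 1
  simp [Matrix.scalar_apply, slT] at h1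

end sl2

/-- `PSL(2, p)` has a non-normal Sylow `p`-subgroup, for `p` an odd prime. -/
theorem exists_psl (p : ℕ) [hp : Fact p.Prime] (hp2 : p ≠ 2) :
    ∃ (H : Type) (_ : Group H) (_ : Finite H), Nat.card H = p * (p ^ 2 - 1) / 2 ∧
      ∃ P : Sylow p H, ¬ (P : Subgroup H).Normal := by
  have hp1 : 1 < p := hp.out.one_lt
  have hodd : p % 2 = 1 := hp.out.eq_two_or_odd.resolve_left hp2
  have h2ne : (2 : ZMod p) ≠ 0 := by
    intro h
    have h' : ((2 : ℕ) : ZMod p) = 0 := by exact_mod_cast h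
    rw [ZMod.natCast_eq_zero_iff] at h'
    have := Nat.le_of_dvd (by norm_num) h'
    omega
  have hcard0 := Cfsg.Agent.Lib.Helper5.card_PSL2_mul (F := ZMod p)
  rw [Cfsg.Agent.Lib.Helper5.card_center_SL2_of_two_ne_zero h2ne, ZMod.card] at hcard0
  have hcard : Nat.card (Matrix.ProjectiveSpecialLinearGroup (Fin 2) (ZMod p)) =
      p * (p ^ 2 - 1) / 2 := by
    rw [← hcard0, Nat.mul_div_cancel _ (by norm_num)]
  haveI : Finite (Matrix.ProjectiveSpecialLinearGroup (Fin 2) (ZMod p)) := by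
    unfold Matrix.ProjectiveSpecialLinearGroup
    infer_instance
  refine ⟨Matrix.ProjectiveSpecialLinearGroup (Fin 2) (ZMod p), inferInstance, inferInstance,
    hcard, ?_⟩
  -- the image of `T`
  set u : Matrix.ProjectiveSpecialLinearGroup (Fin 2) (ZMod p) :=
    QuotientGroup.mk (slT : Matrix.SpecialLinearGroup (Fin 2) (ZMod p)) with hu
  set w : Matrix.ProjectiveSpecialLinearGroup (Fin 2) (ZMod p) :=
    QuotientGroup.mk (slW : Matrix.SpecialLinearGroup (Fin 2) (ZMod p)) with hw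
  have hu1 : u ≠ 1 := by
    intro h
    rw [hu, QuotientGroup.eq_one_iff] at h
    exact slT_not_mem_center h
  have hup : u ^ p = 1 := by
    rw [hu, ← QuotientGroup.mk_pow]
    have : (slT : Matrix.SpecialLinearGroup (Fin 2) (ZMod p)) ^ p = 1 := by
      apply Subtype.ext
      rw [slT_pow]
      simp [Matrix.one_fin_two]
    rw [this]; rfl
  have hou : orderOf u = p := orderOf_eq_prime hup hu1
  have hpg : IsPGroup p (Subgroup.zpowers u) :=
    IsPGroup.of_card (n := 1) (by rw [Nat.card_zpowers, hou, pow_one])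
  obtain ⟨P, hP⟩ := hpg.exists_le_sylow
  refine ⟨P, ?_⟩
  intro hn
  have huP : u ∈ (P : Subgroup (Matrix.ProjectiveSpecialLinearGroup (Fin 2) (ZMod p))) := hP (Subgroup.mem_zpowers u)
  -- the order of `P` is `p`
  have hnd : ¬ p ∣ (p ^ 2 - 1) := by
    intro h
    have h1 : p ∣ p ^ 2 := dvd_pow_self p (by norm_num)
    have h2 : 1 ≤ p ^ 2 := Nat.one_le_pow _ _ (by omega)
    have h3 : p ∣ p ^ 2 - (p ^ 2 - 1) := Nat.dvd_sub h1 h
    have h4 : p ^ 2 - (p ^ 2 - 1) = 1 := by omega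
    rw [h4] at h3
    have := Nat.le_of_dvd (by norm_num) h3
    omega
  have hpos : 0 < p ^ 2 - 1 := by
    have : 2 ^ 2 ≤ p ^ 2 := Nat.pow_le_pow_left (by omega) 2
    omega
  have hfac : (Nat.card (Matrix.ProjectiveSpecialLinearGroup (Fin 2) (ZMod p))).factorization p = 1 := by
    have hcpos : Nat.card (Matrix.ProjectiveSpecialLinearGroup (Fin 2) (ZMod p)) ≠ 0 :=
      Nat.card_pos.ne'
    have h1 : (Nat.card (Matrix.ProjectiveSpecialLinearGroup (Fin 2) (ZMod p)) * 2).factorization p =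
        (p * (p ^ 2 - 1)).factorization p := by rw [hcard0]
    rw [Nat.factorization_mul hcpos (by norm_num),
      Nat.factorization_mul hp.out.pos.ne' hpos.ne', Finsupp.add_apply, Finsupp.add_apply,
      hp.out.factorization_self, Nat.factorization_eq_zero_of_not_dvd hnd,
      Nat.factorization_eq_zero_of_not_dvd (show ¬ p ∣ 2 from fun h => by
        have := Nat.le_of_dvd (by norm_num) h
        omega)] at h1
    omega
  have hcardP : Nat.card (P : Subgroup (Matrix.ProjectiveSpecialLinearGroup (Fin 2) (ZMod p))) = p := by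
    rw [P.card_eq_multiplicity, hfac, pow_one]
  have htop : Subgroup.zpowers (⟨u, huP⟩ : (P : Subgroup (Matrix.ProjectiveSpecialLinearGroup (Fin 2) (ZMod p)))) = ⊤ :=
    zpowers_eq_top_of_prime_card hcardP (by
      intro h
      exact hu1 (congrArg Subtype.val h))
  have hvP : w * u * w⁻¹ ∈ (P : Subgroup (Matrix.ProjectiveSpecialLinearGroup (Fin 2) (ZMod p))) := hn.conj_mem u huP w
  have hmem : (⟨w * u * w⁻¹, hvP⟩ : (P : Subgroup (Matrix.ProjectiveSpecialLinearGroup (Fin 2) (ZMod p)))) ∈ Subgroup.zpowers (⟨u, huP⟩ : (P : Subgroup (Matrix.ProjectiveSpecialLinearGroup (Fin 2) (ZMod p)))) := by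
    rw [htop]; exact Subgroup.mem_top _
  obtain ⟨k, hk⟩ := Subgroup.mem_zpowers_iff.mp hmem
  have hk' : u ^ k = w * u * w⁻¹ := by
    have := congrArg Subtype.val hk
    simpa using this
  rw [hu, hw, ← QuotientGroup.mk_zpow, ← QuotientGroup.mk_inv, ← QuotientGroup.mk_mul,
    ← QuotientGroup.mk_mul, QuotientGroup.eq] at hk'
  exact not_mem_center_of_slU _ (slU.inv_mem (slU.zpow_mem slT_mem_slU k)) hk'

end Cfsg.Agent.Lib.Helper9.LeastNPC
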