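import Mathlib
import Cfsg.Agent.Lib.Helper9.LeastNPCD
import Cfsg.Agent.Lib.Helper9.LeastNPCE
import Cfsg.Agent.Lib.Helper9.LeastNPCF
import Cfsg.Agent.Lib.Helper14.PSL2Arith

/-!
# The least order of a non-`p`-closed group, modulo the Brauer–Reynolds theorem (for S3875)

`BRStatement` is the statement of S0999 (Brauer–Reynolds: a non-cyclic finite simple group of order
`< p³` divisible by `p` is `PSL(2, p)` or `PSL(2, p - 1)`), for groups in `Type`.  Assuming it, every finite
group with a non-normal Sylow `p`-subgroup has order at least `min (p m) (p (p² - 1) / 2)`, `m` the least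
prime power congruent to `1` modulo `p`, and this order is attained.
-/

set_option autoImplicit false
set_option linter.unusedSectionVars false
set_option linter.style.haveILetI false
set_option linter.unusedVariables false

namespace Cfsg.Agent.Lib.Helper9.LeastNPC

/-- The statement of S0999 for groups in `Type`. -/
def BRStatement : Prop :=
  ∀ (G : Type) [Group G] [Finite G] [IsSimpleGroup G], ¬ IsCyclic G → ∀ p : ℕ, p.Prime →
    p ∣ Nat.card G → Nat.card G < p ^ 3 →
    (∃ (F : Type) (_ : Field F) (_ : Fintype F), Fintype.card F = p ∧ 3 < p ∧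
        Nonempty (G ≃* Matrix.ProjectiveSpecialLinearGroup (Fin 2) F)) ∨
      (∃ (m : ℕ) (F : Type) (_ : Field F) (_ : Fintype F), Fintype.card F = 2 ^ m ∧ p = 2 ^ m + 1 ∧
        3 < p ∧ Nonempty (G ≃* Matrix.ProjectiveSpecialLinearGroup (Fin 2) F))

/-- `p (p² - 1) / 2 ≤ p³`. -/
theorem half_le_cube (p : ℕ) : p * (p ^ 2 - 1) / 2 ≤ p ^ 3 := by
  calc p * (p ^ 2 - 1) / 2 ≤ p * (p ^ 2 - 1) := Nat.div_le_self _ _
    _ ≤ p * p ^ 2 := Nat.mul_le_mul_left _ (Nat.sub_le _ _)
    _ = p ^ 3 := by ring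

/-- `(q + 1) ((q + 1)² - 1) / 2 ≤ q (q² - 1)` for `q ≥ 4`. -/
theorem half_le_of_four_le (q : ℕ) (hq : 4 ≤ q) :
    (q + 1) * ((q + 1) ^ 2 - 1) / 2 ≤ q * (q ^ 2 - 1) := by
  obtain ⟨t, rfl⟩ : ∃ t, q = t + 4 := ⟨q - 4, by omega⟩
  have e1 : (t + 4 + 1) ^ 2 - 1 = t * t + 10 * t + 24 := by
    have : (t + 4 + 1) ^ 2 = t * t + 10 * t + 24 + 1 := by ring
    omega
  have e2 : (t + 4) ^ 2 - 1 = t * t + 8 * t + 15 := by
    have : (t + 4) ^ 2 = t * t + 8 * t + 15 + 1 := by ring
    omega
  rw [e1, e2]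
  apply Nat.div_le_of_le_mul
  nlinarith [Nat.zero_le t, Nat.zero_le (t * t), Nat.zero_le (t * t * t)]

/-- The simple case. -/
theorem le_card_of_simple (hBR : BRStatement) (p : ℕ) [hp : Fact p.Prime] (hp2 : p ≠ 2)
    (H : Type) [Group H] [Finite H] [IsSimpleGroup H] (P : Sylow p H)
    (hP : ¬ (P : Subgroup H).Normal) : p * (p ^ 2 - 1) / 2 ≤ Nat.card H := by
  have hcyc : ¬ IsCyclic H := by
    intro hc
    haveI : IsMulCommutative H := IsCyclic.isMulCommutative
    exact hP (Subgroup.normal_of_isMulCommutative _)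
  have hdvd : p ∣ Nat.card H := by
    by_contra hnd
    have h1 := P.card_eq_multiplicity
    rw [Nat.factorization_eq_zero_of_not_dvd hnd, pow_zero] at h1
    have h2 := le_card_P P hP
    have := hp.out.one_lt
    omega
  by_cases hbig : Nat.card H < p ^ 3
  · rcases hBR H hcyc p hp.out hdvd hbig with ⟨F, _, _, hF, h3, ⟨e⟩⟩ | ⟨k, F, _, _, hF, hpk, h3, ⟨e⟩⟩
    · have hodd : p % 2 = 1 := hp.out.eq_two_or_odd.resolve_left hp2
      have h2ne : (2 : F) ≠ 0 := by
        intro h
        have := Cfsg.Agent.Lib.Helper14.two_eq_zero_iff_even_card.mp h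
        rw [hF] at this
        omega
      have h1 := Cfsg.Agent.Lib.Helper5.card_PSL2_mul (F := F)
      rw [Cfsg.Agent.Lib.Helper5.card_center_SL2_of_two_ne_zero h2ne, hF,
        ← Nat.card_congr e.toEquiv] at h1
      rw [← h1, Nat.mul_div_cancel _ (by norm_num)]
    · have hk1 : k ≠ 0 := by
        rintro rfl
        simp at hpk
        omega
      have hk3 : 2 ^ k ≠ 3 := by
        intro h
        have h2 : 2 ∣ 2 ^ k := dvd_pow_self 2 hk1
        omega
      have hk2 : 4 ≤ 2 ^ k := by omega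
      have h2eq : (2 : F) = 0 := by
        apply Cfsg.Agent.Lib.Helper14.two_eq_zero_iff_even_card.mpr
        rw [hF]
        exact dvd_pow_self 2 hk1
      have h1 := Cfsg.Agent.Lib.Helper5.card_PSL2_mul (F := F)
      rw [Cfsg.Agent.Lib.Helper5.center_SL2_eq_bot_of_two_eq_zero h2eq, Subgroup.card_bot, mul_one, hF,
        ← Nat.card_congr e.toEquiv] at h1
      rw [h1, hpk]
      exact half_le_of_four_le _ hk2
  · exact (half_le_cube p).trans (not_lt.mp hbig)

/-- The lower bound, by induction on the order. -/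
theorem le_card_aux (hBR : BRStatement) (p : ℕ) [hp : Fact p.Prime] (hp2 : p ≠ 2) (m : ℕ)
    (hleast : ∀ k : ℕ, IsPrimePow k → k % p = 1 → m ≤ k) :
    ∀ (n : ℕ) (H : Type) [Group H] [Finite H], Nat.card H = n →
      (∃ P : Sylow p H, ¬ (P : Subgroup H).Normal) → min (p * m) (p * (p ^ 2 - 1) / 2) ≤ n := by
  intro n
  induction n using Nat.strong_induction_on with
  | _ n ih =>
    intro H _ _ hcard hex
    obtain ⟨P, hP⟩ := hex
    by_cases hs : IsSimpleGroup H
    · haveI := hs
      rw [← hcard]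
      exact (min_le_right _ _).trans (le_card_of_simple hBR p hp2 H P hP)
    · by_cases h1 : ∀ K : Subgroup H, K ≠ ⊤ → ∀ Q : Sylow p K, (Q : Subgroup K).Normal
      · by_cases h2 : ∀ (N : Subgroup H) (hN : N.Normal), N ≠ ⊥ →
            ∀ Q : Sylow p (H ⧸ N), (Q : Subgroup (H ⧸ N)).Normal
        · have hmin : MinNPC p H := ⟨h1, fun N hN => h2 N hN⟩
          obtain ⟨k, hk, hk1, hle⟩ := exists_primePow_of_not_simple hmin P hP hs
          rw [← hcard]
          exact (min_le_left _ _).trans ((Nat.mul_le_mul_left p (hleast k hk hk1)).trans hle)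
        · push Not at h2
          obtain ⟨N, hN, hNb, Q, hQ⟩ := h2
          haveI := hN
          have hlt : Nat.card (H ⧸ N) < n := by
            rw [← hcard, Subgroup.card_eq_card_quotient_mul_card_subgroup N]
            have h3 : 1 < Nat.card N := (Subgroup.one_lt_card_iff_ne_bot N).mpr hNb
            have h4 : 0 < Nat.card (H ⧸ N) := Nat.card_pos
            nlinarith
          exact (ih _ hlt (H ⧸ N) rfl ⟨Q, hQ⟩).trans hlt.le
      · push Not at h1
        obtain ⟨K, hK, Q, hQ⟩ := h1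
        have hlt : Nat.card K < n := by
          rw [← hcard]
          refine lt_of_le_of_ne (Subgroup.card_le_card_group K) ?_
          intro h
          exact hK ((Subgroup.card_eq_iff_eq_top K).mp h)
        exact (ih _ hlt K rfl ⟨Q, hQ⟩).trans hlt.le

/-- The least order of a non-`p`-closed group, assuming the Brauer–Reynolds theorem. -/
theorem main_of_BR (hBR : BRStatement) (p : ℕ) [hp : Fact p.Prime] (hp2 : p ≠ 2) (m : ℕ)
    (hm : IsPrimePow m) (hm1 : m % p = 1)
    (hleast : ∀ k : ℕ, IsPrimePow k → k % p = 1 → m ≤ k) :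
    (∀ (H : Type) [Group H] [Finite H], (∃ P : Sylow p H, ¬ (P : Subgroup H).Normal) →
        min (p * m) (p * (p ^ 2 - 1) / 2) ≤ Nat.card H) ∧
      ∃ (H : Type) (_ : Group H) (_ : Finite H),
        Nat.card H = min (p * m) (p * (p ^ 2 - 1) / 2) ∧
          ∃ P : Sylow p H, ¬ (P : Subgroup H).Normal := by
  refine ⟨fun H _ _ hex => le_card_aux hBR p hp2 m hleast _ H rfl hex, ?_⟩
  rcases le_total (p * m) (p * (p ^ 2 - 1) / 2) with h | h
  · rw [min_eq_left h]
    exact exists_affine p m hm hm1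
  · rw [min_eq_right h]
    exact exists_psl p hp2

end Cfsg.Agent.Lib.Helper9.LeastNPC
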