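import Cfsg.Agent.Lib.Helper29.M22B.Defs
import Cfsg.Agent.Lib.Helper3.PermChar

/-!
# Project M22B, module [GSET]: the counting functions are permutation characters

`M24` permutes the octads and the dodecads; `M22` moreover fixes the points `∞ = pt 23` and
`0 = pt 0`, so it acts on each of the families counted by `fixFam`.
-/

set_option autoImplicit false
set_option linter.style.haveILetI false

namespace Cfsg.Agent.Lib.Helper29.M22B
open Cfsg Cfsg.Agent.Lib.Helper7 Cfsg.Agent.Lib.Helper92 Cfsg.Agent.Lib.Helper92.SylM22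
open scoped Pointwise

/-- [GSET24] -/
theorem isCharacter_pi24 : IsCharacter G pi24 := by
  have h := Cfsg.Agent.Lib.Helper3.isCharacter_card_fixedBy (G := G) (X := GolayPt)
  have h2 : (fun g : G => (Nat.card (MulAction.fixedBy GolayPt g) : ℂ)) = pi24 := by
    funext g
    rfl
  rwa [h2] at h

/-- `M24` preserves the words of a given weight. -/
theorem gset_image_mem_wordsOfWeight {g : Equiv.Perm GolayPt} (hg : g ∈ M24) {n : ℕ}
    {S : Finset GolayPt} (hS : S ∈ wordsOfWeight (golayCode : Set (GolayPt → ZMod 2)) n) :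
    S.image g ∈ wordsOfWeight (golayCode : Set (GolayPt → ZMod 2)) n := by
  obtain ⟨h1, h2⟩ := hS
  have hstab : g • supports (golayCode : Set (GolayPt → ZMod 2)) =
      supports (golayCode : Set (GolayPt → ZMod 2)) := MulAction.mem_stabilizer_iff.mp hg
  have himg : S.image g = g • S := rfl
  refine ⟨?_, ?_⟩
  · rw [himg, ← hstab]
    exact Set.smul_mem_smul_set h1
  · rw [Finset.card_image_of_injective _ g.injective, h2]

/-- `M24` preserves the octads and the dodecads. -/
theorem gset_image_mem {F : Set (Finset GolayPt)} (hF : F = octads ∨ F = dodecads)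
    {g : Equiv.Perm GolayPt} (hg : g ∈ M24) {S : Finset GolayPt} (hS : S ∈ F) :
    S.image g ∈ F := by
  rcases hF with rfl | rfl
  · exact gset_image_mem_wordsOfWeight hg hS
  · exact gset_image_mem_wordsOfWeight hg hS

/-- A fixed point lies in the image iff it lies in the set. -/
theorem gset_mem_image_iff {g : Equiv.Perm GolayPt} {p : GolayPt} (h : g p = p)
    (S : Finset GolayPt) : p ∈ S.image g ↔ p ∈ S := by
  rw [Finset.mem_image]
  constructor
  · rintro ⟨s, hs, hsp⟩
    have : s = p := g.injective (hsp.trans h.symm)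
    exact this ▸ hs
  · intro hp
    exact ⟨p, hp, h⟩

/-- The family counted by `fixFam`, as a type. -/
def FamSet (F : Set (Finset GolayPt)) (a b : Bool) : Type :=
  {S : Finset GolayPt // S ∈ F ∧ (pt 23 ∈ S ↔ a = true) ∧ (pt 0 ∈ S ↔ b = true)}

instance gset_finite (F : Set (Finset GolayPt)) (a b : Bool) : Finite (FamSet F a b) :=
  Subtype.finite

/-- The action of `M22` on the family. -/
@[instance_reducible]
def famAction (F : Set (Finset GolayPt)) (hF : F = octads ∨ F = dodecads) (a b : Bool) :
    MulAction G (FamSet F a b) where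
  smul g x := ⟨x.1.image (g : Equiv.Perm GolayPt),
    gset_image_mem hF (mem_M22.mp g.2).1 x.2.1,
    (gset_mem_image_iff (mem_M22.mp g.2).2.1 x.1).trans x.2.2.1,
    (gset_mem_image_iff (mem_M22.mp g.2).2.2 x.1).trans x.2.2.2⟩
  one_smul x := by
    apply Subtype.ext
    show x.1.image ((1 : G) : Equiv.Perm GolayPt) = x.1
    rw [Subgroup.coe_one, Equiv.Perm.coe_one, Finset.image_id]
  mul_smul g h x := by
    apply Subtype.ext
    show x.1.image ((g * h : G) : Equiv.Perm GolayPt) =
      (x.1.image (h : Equiv.Perm GolayPt)).image (g : Equiv.Perm GolayPt)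
    rw [Subgroup.coe_mul, Equiv.Perm.coe_mul, Finset.image_image]

/-- [GSET] the counting functions are permutation characters (`M24` permutes octads and dodecads;
`Helper3.isCharacter_card_fixedBy`). -/
theorem isCharacter_fixFam (F : Set (Finset GolayPt)) (hF : F = octads ∨ F = dodecads) (a b : Bool) :
    IsCharacter G (fun g => (fixFam F a b (g : Equiv.Perm GolayPt) : ℂ)) := by
  letI : MulAction G (FamSet F a b) := famAction F hF a b
  have h := Cfsg.Agent.Lib.Helper3.isCharacter_card_fixedBy (G := G) (X := FamSet F a b)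
  have h2 : (fun g : G => (Nat.card (MulAction.fixedBy (FamSet F a b) g) : ℂ)) =
      fun g : G => (fixFam F a b (g : Equiv.Perm GolayPt) : ℂ) := by
    funext g
    congr 1
    unfold fixFam
    refine Nat.card_congr ⟨fun y => ⟨y.1.1, y.1.2.1, y.1.2.2.1, y.1.2.2.2, ?_⟩,
      fun z => ⟨⟨z.1, z.2.1, z.2.2.1, z.2.2.2.1⟩, ?_⟩, fun y => rfl, fun z => rfl⟩
    · exact congrArg Subtype.val y.2
    · exact Subtype.ext z.2.2.2.2
  rwa [h2] at h

end Cfsg.Agent.Lib.Helper29.M22B
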