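import Cfsg.Agent.Lib.Helper29.M22B.Defs
import Cfsg.Agent.Lib.Helper9.M22BGset
import Cfsg.Agent.Lib.Helper62.M22BChiFam
import Cfsg.Agent.Lib.Helper25.Norm3
import Cfsg.Agent.Lib.Helper29.BPEProd
import Cfsg.Agent.Lib.Helper51.PF127Orth
import Cfsg.Agent.Lib.Helper78.CharValues

/-!
# Project M22B, module [IRR8]: the eight rational class functions are irreducible characters

Each of `1, chi21, chi55, chi99, chi154, chi210, chi231, chi385` is a generalized character
([GSET] + closure under `+ - *`) of norm one ([COUNT-d] + [VAL]) and positive degree.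
The theorems here take [COUNT-d] and [VAL] as hypotheses (`_of` form).
-/

set_option autoImplicit false
set_option linter.style.haveILetI false

namespace Cfsg.Agent.Lib.Helper29.M22B
open Cfsg Cfsg.Agent.Lib.Helper7 Cfsg.Agent.Lib.Helper92 Cfsg.Agent.Lib.Helper92.SylM22
open scoped ComplexConjugate

/-! ### Closure of generalized characters -/

section Gen
variable {H : Type*} [Group H]

theorem irr8_gen_neg {a : H → ℂ} (ha : IsGeneralizedCharacter H a) :
    IsGeneralizedCharacter H (-a) := by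
  obtain ⟨χ, ψ, hχ, hψ, rfl⟩ := ha
  exact ⟨ψ, χ, hψ, hχ, by abel⟩

theorem irr8_gen_sub {a b : H → ℂ} (ha : IsGeneralizedCharacter H a)
    (hb : IsGeneralizedCharacter H b) : IsGeneralizedCharacter H (a - b) := by
  rw [sub_eq_add_neg]
  exact Cfsg.Agent.Lib.Helper29.BP.genChar_add ha (irr8_gen_neg hb)

theorem irr8_gen_mul {a b : H → ℂ} (ha : IsGeneralizedCharacter H a)
    (hb : IsGeneralizedCharacter H b) : IsGeneralizedCharacter H (a * b) := by
  obtain ⟨χ, ψ, hχ, hψ, rfl⟩ := hb
  have h1 := Cfsg.Agent.Lib.Helper29.BP.genChar_mul_char ha hχ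
  have h2 := Cfsg.Agent.Lib.Helper29.BP.genChar_mul_char ha hψ
  have : a * (χ - ψ) = a * χ - a * ψ := mul_sub a χ ψ
  rw [this]
  exact irr8_gen_sub h1 h2

theorem irr8_gen_const (n : ℕ) : IsGeneralizedCharacter H (fun _ : H => (n : ℂ)) := by
  have h := Cfsg.Agent.Lib.Helper80.isCharacter_nsmul n
    (Cfsg.Agent.Lib.Helper80.isCharacter_one (G := H))
  have h2 : (n • fun _ : H => (1 : ℂ)) = fun _ : H => (n : ℂ) := by
    funext g
    simp
  rw [h2] at h
  exact Cfsg.Agent.Lib.Helper29.BP.genChar_of_char h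

end Gen

/-! ### The eight class functions are generalized characters -/

theorem irr8_gen_pi24 : IsGeneralizedCharacter G pi24 :=
  Cfsg.Agent.Lib.Helper29.BP.genChar_of_char isCharacter_pi24

theorem irr8_gen_pi77 : IsGeneralizedCharacter G pi77 :=
  Cfsg.Agent.Lib.Helper29.BP.genChar_of_char (isCharacter_fixFam octads (Or.inl rfl) true true)

theorem irr8_gen_pi176 : IsGeneralizedCharacter G pi176 :=
  Cfsg.Agent.Lib.Helper29.BP.genChar_of_char (isCharacter_fixFam octads (Or.inl rfl) true false)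

theorem irr8_gen_pi330 : IsGeneralizedCharacter G pi330 :=
  Cfsg.Agent.Lib.Helper29.BP.genChar_of_char (isCharacter_fixFam octads (Or.inl rfl) false false)

theorem irr8_gen_pi616 : IsGeneralizedCharacter G pi616 :=
  Cfsg.Agent.Lib.Helper29.BP.genChar_of_char
    (isCharacter_fixFam dodecads (Or.inr rfl) false false)

theorem irr8_gen_chi21 : IsGeneralizedCharacter G chi21 := by
  have h : chi21 = pi24 - fun _ : G => ((3 : ℕ) : ℂ) := by
    funext g; simp [chi21]
  rw [h]
  exact irr8_gen_sub irr8_gen_pi24 (irr8_gen_const 3)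

theorem irr8_gen_chi55 : IsGeneralizedCharacter G chi55 := by
  have h : chi55 = pi77 - pi24 + fun _ : G => ((2 : ℕ) : ℂ) := by
    funext g; simp [chi55]
  rw [h]
  exact Cfsg.Agent.Lib.Helper29.BP.genChar_add (irr8_gen_sub irr8_gen_pi77 irr8_gen_pi24)
    (irr8_gen_const 2)

theorem irr8_gen_chi154 : IsGeneralizedCharacter G chi154 := by
  have h : chi154 = pi176 - pi24 + fun _ : G => ((2 : ℕ) : ℂ) := by
    funext g; simp [chi154]
  rw [h]
  exact Cfsg.Agent.Lib.Helper29.BP.genChar_add (irr8_gen_sub irr8_gen_pi176 irr8_gen_pi24)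
    (irr8_gen_const 2)

theorem irr8_gen_p231 : IsGeneralizedCharacter G p231 := by
  have h : p231 = pi77 + pi176 - pi24 + fun _ : G => ((2 : ℕ) : ℂ) := by
    funext g; simp [p231]
  rw [h]
  exact Cfsg.Agent.Lib.Helper29.BP.genChar_add
    (irr8_gen_sub (Cfsg.Agent.Lib.Helper29.BP.genChar_add irr8_gen_pi77 irr8_gen_pi176)
      irr8_gen_pi24) (irr8_gen_const 2)

theorem irr8_gen_chi99 : IsGeneralizedCharacter G chi99 := by
  have h : chi99 = pi330 - p231 := by
    funext g; simp [chi99]
  rw [h]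
  exact irr8_gen_sub irr8_gen_pi330 irr8_gen_p231

theorem irr8_gen_chi210 : IsGeneralizedCharacter G chi210 := by
  have h : chi210 = chi21 * chi21 - p231 := by
    funext g; simp [chi210]
  rw [h]
  exact irr8_gen_sub (irr8_gen_mul irr8_gen_chi21 irr8_gen_chi21) irr8_gen_p231

theorem irr8_gen_chi385 : IsGeneralizedCharacter G chi385 := by
  have h : chi385 = pi616 - p231 := by
    funext g; simp [chi385]
  rw [h]
  exact irr8_gen_sub irr8_gen_pi616 irr8_gen_p231

theorem irr8_gen_chi231 : IsGeneralizedCharacter G chi231 := by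
  have h : chi231 = chi21 * chi55 - (chi21 + chi55 + chi99 + chi154 + chi210) - chi385 := by
    funext g; simp [chi231]
  rw [h]
  refine irr8_gen_sub (irr8_gen_sub (irr8_gen_mul irr8_gen_chi21 irr8_gen_chi55) ?_)
    irr8_gen_chi385
  exact Cfsg.Agent.Lib.Helper29.BP.genChar_add (Cfsg.Agent.Lib.Helper29.BP.genChar_add
    (Cfsg.Agent.Lib.Helper29.BP.genChar_add (Cfsg.Agent.Lib.Helper29.BP.genChar_add
      irr8_gen_chi21 irr8_gen_chi55) irr8_gen_chi99) irr8_gen_chi154) irr8_gen_chi210

/-! ### Norm one and positive degree -/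

/-- The table norms. -/
theorem irr8_table_norm (r : ℕ) (hr : r < 8) :
    ∑ i ∈ Finset.range 12, (cSize i : ℤ) * (chiTab r i * chiTab r i) = 443520 := by
  interval_cases r <;> decide

theorem irr8_table_deg_pos (r : ℕ) (hr : r < 8) : 0 < chiTab r 0 := by
  interval_cases r <;> decide

theorem irr8_repG_zero : repG 0 = 1 := rfl

/-- A generalized character with the values of row `r` of `chiTab` is irreducible
(given [COUNT-d]). -/
theorem irr8_of_gen
    (hsum : ∀ [Fintype G] (f : G → ℂ), IsClassFunction G f →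
      ∑ g : G, f g = ∑ i ∈ Finset.range 12, (cSize i : ℂ) * f (repG i))
    {χ : G → ℂ} (hgen : IsGeneralizedCharacter G χ) (r : ℕ) (hr : r < 8)
    (hval : ∀ i < 12, χ (repG i) = ((chiTab r i : ℤ) : ℂ)) : IsIrrCharacter G χ := by
  classical
  letI : Fintype G := Fintype.ofFinite G
  have hcf : IsClassFunction G χ := Cfsg.Agent.Lib.Helper51.PF127.gen_isClassFunction hgen
  have hcf2 : IsClassFunction G (fun g => χ g * conj (χ g)) := by
    intro g h
    show χ (h * g * h⁻¹) * conj (χ (h * g * h⁻¹)) = χ g * conj (χ g)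
    rw [hcf g h]
  have hnorm : classInner χ χ = 1 := by
    unfold classInner
    rw [hsum _ hcf2]
    have h1 : ∑ i ∈ Finset.range 12, (cSize i : ℂ) * (χ (repG i) * conj (χ (repG i))) =
        ((∑ i ∈ Finset.range 12, (cSize i : ℤ) * (chiTab r i * chiTab r i) : ℤ) : ℂ) := by
      push_cast
      refine Finset.sum_congr rfl fun i hi => ?_
      rw [hval i (Finset.mem_range.mp hi)]
      simp
    rw [h1, irr8_table_norm r hr, card_M22]
    norm_num
  rcases Cfsg.Agent.Lib.Helper25.sirr_of_norm_one hgen hnorm with h | h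
  · exact h
  · exfalso
    have hpos := Cfsg.Agent.Lib.Helper78.IsIrrCharacter.charDegree_pos h
    have hdeg := Cfsg.Agent.Lib.Helper78.IsCharacter.apply_one_eq_charDegree
      (Cfsg.Agent.Lib.Helper78.IsIrrCharacter.isCharacter h)
    have h0 := hval 0 (by norm_num)
    rw [irr8_repG_zero] at h0
    have h2 : (-χ) 1 = -χ 1 := rfl
    rw [h2, h0] at hdeg
    have h3 : -(chiTab r 0) = (charDegree (-χ) : ℤ) := by exact_mod_cast hdeg
    have := irr8_table_deg_pos r hr
    omega

/-- The eight class functions are irreducible characters, given [COUNT-d] and [VAL]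
(stated for the individual functions; `hval` is [VAL] for the family). -/
theorem irr8_all_of
    (hsum : ∀ [Fintype G] (f : G → ℂ), IsClassFunction G f →
      ∑ g : G, f g = ∑ i ∈ Finset.range 12, (cSize i : ℂ) * f (repG i))
    (fam : ℕ → G → ℂ) (h0 : fam 0 = fun _ => 1) (h1 : fam 1 = chi21) (h2 : fam 2 = chi55)
    (h3 : fam 3 = chi99) (h4 : fam 4 = chi154) (h5 : fam 5 = chi210) (h6 : fam 6 = chi231)
    (h7 : fam 7 = chi385)
    (hval : ∀ r < 8, ∀ i < 12, fam r (repG i) = ((chiTab r i : ℤ) : ℂ))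
    (r : ℕ) (hr : r < 8) : IsIrrCharacter G (fam r) := by
  have hgen : IsGeneralizedCharacter G (fam r) := by
    interval_cases r
    · rw [h0]; exact Cfsg.Agent.Lib.Helper29.BP.genChar_of_char
        Cfsg.Agent.Lib.Helper80.isCharacter_one
    · rw [h1]; exact irr8_gen_chi21
    · rw [h2]; exact irr8_gen_chi55
    · rw [h3]; exact irr8_gen_chi99
    · rw [h4]; exact irr8_gen_chi154
    · rw [h5]; exact irr8_gen_chi210
    · rw [h6]; exact irr8_gen_chi231
    · rw [h7]; exact irr8_gen_chi385
  exact irr8_of_gen hsum hgen r hr (hval r hr)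

/-- [IRR8] in `_of` form: the hypotheses are the exact skeleton statements of [COUNT-d]
(`sum_classFunction`) and [VAL] (`chiFam_repG`). -/
theorem isIrr_chiFam_of
    (hsum : ∀ [Fintype G] (f : G → ℂ), IsClassFunction G f →
      ∑ g : G, f g = ∑ i ∈ Finset.range 12, (cSize i : ℂ) * f (repG i))
    (hval : ∀ r : ℕ, r < 8 → ∀ i : ℕ, i < 12 → chiFam r (repG i) = ((chiTab r i : ℤ) : ℂ))
    (r : ℕ) (hr : r < 8) : IsIrrCharacter G (chiFam r) :=
  irr8_all_of hsum chiFam rfl rfl rfl rfl rfl rfl rfl rfl hval r hr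

end Cfsg.Agent.Lib.Helper29.M22B
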