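/-
helper9: module S2140-[H1-N5] of helper99's project S2140 (minimal index of `PSL_n(q)`): vanishing of the
cocycle on a transvection, dimension at least 5; with the common tools of the [H1-*] modules
(a basis through a given vector, the cocycle is additive on the stabiliser of a point, the commutator trick).
-/
import Cfsg.Agent.Lib.Helper99.MinIdx.Defs

set_option autoImplicit false
set_option linter.unusedVariables false

namespace Cfsg.Agent.Lib.Helper9.MinIdx

open Module Cfsg.Agent.Lib.Helper99.MinIdx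

universe u v

variable {F : Type u} [Field F] {V : Type v} [AddCommGroup V] [Module F V]

/-- A basis indexed by `Fin (n + 1)` whose first vector is a given nonzero vector. -/
theorem exists_basis_fin [FiniteDimensional F V] {n : ℕ} (hn : finrank F V = n + 1) {e : V} (he : e ≠ 0) :
    ∃ B : Basis (Fin (n + 1)) F V, B 0 = e := by
  classical
  have hs : LinearIndepOn F id ({e} : Set V) := (linearIndepOn_singleton_iff F).mpr he
  let B₀ := Basis.extend hs
  let i₀ : ↥(hs.extend (Set.subset_univ _)) := ⟨e, hs.subset_extend _ (Set.mem_singleton e)⟩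
  have hfin : Finite ↥(hs.extend (Set.subset_univ _)) := Module.Finite.finite_basis B₀
  have hcard : Nat.card ↥(hs.extend (Set.subset_univ _)) = n + 1 := by
    rw [← Module.finrank_eq_nat_card_basis B₀, hn]
  let ε : ↥(hs.extend (Set.subset_univ _)) ≃ Fin (n + 1) := Finite.equivFinOfCardEq hcard
  let ε' := ε.trans (Equiv.swap (ε i₀) 0)
  refine ⟨B₀.reindex ε', ?_⟩
  rw [Basis.reindex_apply]
  have h1 : ε'.symm 0 = i₀ := by
    rw [Equiv.symm_apply_eq]
    simp [ε']
  rw [h1]
  exact Basis.extend_apply_self hs i₀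

theorem coord_basis {ι : Type*} [DecidableEq ι] (B : Basis ι F V) (i j : ι) :
    B.coord i (B j) = if i = j then 1 else 0 := by
  rw [Basis.coord_apply, Basis.repr_self, Finsupp.single_apply]
  by_cases h : i = j
  · subst h
    simp
  · rw [if_neg h, if_neg (fun h' => h h'.symm)]

theorem inv_apply_of_apply (g : SpecialLinearGroup F V) {c : V} (h : g c = c) : g⁻¹ c = c := by
  have h1 : (g⁻¹ * g) c = c := by
    rw [inv_mul_cancel]
    rfl
  have h2 : (g⁻¹ * g) c = g⁻¹ (g c) := rfl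
  rw [h2, h] at h1
  exact h1

section cocycle

variable {e : V} (ρ : SpecialLinearGroup F V → Dual F V)
  (hcoc : ∀ g g', g e = e → g' e = e → ∀ x, ρ (g * g') x = ρ g x + ρ g' (g⁻¹ x))

include hcoc

theorem rho_one (x : V) : ρ 1 x = 0 := by
  have h := hcoc 1 1 rfl rfl x
  rw [mul_one, inv_one] at h
  have h2 : (1 : SpecialLinearGroup F V) x = x := rfl
  rw [h2] at h
  exact left_eq_add.mp h

/-- On the stabiliser of `e` and `c` the map `g ↦ ρ g c` is additive. -/
theorem rho_mul_fix {c : V} {g g' : SpecialLinearGroup F V} (hg : g e = e) (hg' : g' e = e) (hgc : g c = c) :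
    ρ (g * g') c = ρ g c + ρ g' c := by
  rw [hcoc g g' hg hg' c, inv_apply_of_apply g hgc]

theorem rho_inv_fix {c : V} {g : SpecialLinearGroup F V} (hg : g e = e) (hgc : g c = c) :
    ρ g⁻¹ c = -ρ g c := by
  have h := rho_mul_fix ρ hcoc hg (inv_apply_of_apply g hg) hgc
  rw [mul_inv_cancel, rho_one ρ hcoc] at h
  exact eq_neg_of_add_eq_zero_right h.symm

/-- The map `g ↦ ρ g c` kills the commutators of elements fixing `e` and `c`. -/
theorem rho_comm_fix {c : V} {x y : SpecialLinearGroup F V} (hx : x e = e) (hy : y e = e)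
    (hxc : x c = c) (hyc : y c = c) : ρ (x * y * x⁻¹ * y⁻¹) c = 0 := by
  have hxi := inv_apply_of_apply x hx
  have hxic := inv_apply_of_apply x hxc
  have hyi := inv_apply_of_apply y hy
  have hxy : (x * y) e = e := by
    show x (y e) = e
    rw [hy, hx]
  have hxyc : (x * y) c = c := by
    show x (y c) = c
    rw [hyc, hxc]
  have hxyx : (x * y * x⁻¹) e = e := by
    show (x * y) (x⁻¹ e) = e
    rw [hxi, hxy]
  have hxyxc : (x * y * x⁻¹) c = c := by
    show (x * y) (x⁻¹ c) = c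
    rw [hxic, hxyc]
  rw [rho_mul_fix ρ hcoc hxyx hyi hxyxc, rho_mul_fix ρ hcoc hxy hxi hxyc, rho_mul_fix ρ hcoc hx hy hxc,
    rho_inv_fix ρ hcoc hx hxc, rho_inv_fix ρ hcoc hy hyc]
  ring

/-- The commutator trick: `ρ (tv a ν)` vanishes at every `c` killed by `ν` and `μ`, where `μ` kills `e`, `a`
and `μ b = 1`, `ν b = 0`. -/
theorem rho_tv_kill {a b : V} {ν μ : Dual F V} (hνe : ν e = 0) (hνa : ν a = 0) (hνb : ν b = 0)
    (hμe : μ e = 0) (hμa : μ a = 0) (hμb : μ b = 1) {c : V} (hνc : ν c = 0) (hμc : μ c = 0) :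
    ρ (tv a ν) c = 0 := by
  have hx : ∀ z, tv a μ z = z + μ z • a := tv_apply hμa
  have hy : ∀ z, tv b ν z = z + ν z • b := tv_apply hνb
  have hconj : tv a μ * tv b ν * (tv a μ)⁻¹ = tv (tv a μ b) ν := by
    apply tv_conj (tv a μ) hνb
    intro z
    rw [hx, map_add, map_smul, hνa, smul_zero, add_zero]
  have hxb : tv a μ b = a + b := by
    rw [hx, hμb, one_smul, add_comm]
  have hcomm : tv a μ * tv b ν * (tv a μ)⁻¹ * (tv b ν)⁻¹ = tv a ν := by
    rw [hconj, hxb, ← tv_mul_same_right hνa hνb, mul_inv_cancel_right]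
  rw [← hcomm]
  apply rho_comm_fix ρ hcoc
  · rw [hx, hμe, zero_smul, add_zero]
  · rw [hy, hνe, zero_smul, add_zero]
  · rw [hx, hμc, zero_smul, add_zero]
  · rw [hy, hνc, zero_smul, add_zero]

end cocycle

/-- A functional vanishing on the kernel of `ν` is a multiple of `ν`. -/
theorem eq_smul_of_ker {f ν : Dual F V} {w : V} (hw : ν w = 1) (h : ∀ z, ν z = 0 → f z = 0) :
    f = f w • ν := by
  ext z
  have h1 : ν (z - ν z • w) = 0 := by
    rw [map_sub, map_smul, hw, smul_eq_mul, mul_one, sub_self]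
  have h2 := h _ h1
  rw [map_sub, map_smul, sub_eq_zero] at h2
  rw [h2, LinearMap.smul_apply, smul_eq_mul, smul_eq_mul, mul_comm]

theorem h1_ge5 [FiniteDimensional F V] (hn : 5 ≤ finrank F V) {e : V} (he : e ≠ 0)
    (ρ : SpecialLinearGroup F V → Dual F V) (hρe : ∀ g, g e = e → ρ g e = 0)
    (hcoc : ∀ g g', g e = e → g' e = e → ∀ x, ρ (g * g') x = ρ g x + ρ g' (g⁻¹ x)) :
    ∃ (a : V) (ν : Dual F V) (c : F), a ∉ Submodule.span F {e} ∧ ν ≠ 0 ∧ ν e = 0 ∧ ν a = 0 ∧
      ρ (tv a ν) = c • ν := by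
  classical
  obtain ⟨n, hn'⟩ : ∃ n, finrank F V = n + 1 := ⟨finrank F V - 1, by omega⟩
  obtain ⟨B, hB⟩ := exists_basis_fin hn' he
  have h4 : 4 ≤ n := by omega
  let i1 : Fin (n + 1) := ⟨1, by omega⟩
  let i2 : Fin (n + 1) := ⟨2, by omega⟩
  let i3 : Fin (n + 1) := ⟨3, by omega⟩
  let i4 : Fin (n + 1) := ⟨4, by omega⟩
  have hne : ∀ {p q : ℕ} (hp : p < n + 1) (hq : q < n + 1), p ≠ q →
      (⟨p, hp⟩ : Fin (n + 1)) ≠ ⟨q, hq⟩ := fun _ _ h h' => h (Fin.mk.inj h')
  have h0 : (0 : Fin (n + 1)) = ⟨0, by omega⟩ := rfl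
  have cB : ∀ i j : Fin (n + 1), B.coord i (B j) = if i = j then 1 else 0 := coord_basis B
  have ce : ∀ i : Fin (n + 1), B.coord i e = if i = 0 then 1 else 0 := by
    intro i
    rw [← hB]
    exact cB i 0
  have hνe : B.coord i4 e = 0 := by
    rw [ce, if_neg]
    rw [h0]
    exact hne _ _ (by omega)
  have hνa : B.coord i4 (B i1) = 0 := by
    rw [cB, if_neg (hne _ _ (by omega))]
  have hνb : B.coord i4 (B i2) = 0 := by
    rw [cB, if_neg (hne _ _ (by omega))]
  have hνb' : B.coord i4 (B i3) = 0 := by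
    rw [cB, if_neg (hne _ _ (by omega))]
  have hνw : B.coord i4 (B i4) = 1 := by
    rw [cB, if_pos rfl]
  have hμe : B.coord i2 e = 0 := by
    rw [ce, if_neg]
    rw [h0]
    exact hne _ _ (by omega)
  have hμa : B.coord i2 (B i1) = 0 := by
    rw [cB, if_neg (hne _ _ (by omega))]
  have hμb : B.coord i2 (B i2) = 1 := by
    rw [cB, if_pos rfl]
  have hμ'e : B.coord i3 e = 0 := by
    rw [ce, if_neg]
    rw [h0]
    exact hne _ _ (by omega)
  have hμ'a : B.coord i3 (B i1) = 0 := by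
    rw [cB, if_neg (hne _ _ (by omega))]
  have hμ'b : B.coord i3 (B i2) = 0 := by
    rw [cB, if_neg (hne _ _ (by omega))]
  have hμ'b' : B.coord i3 (B i3) = 1 := by
    rw [cB, if_pos rfl]
  have hae : B.coord i1 e = 0 := by
    rw [ce, if_neg]
    rw [h0]
    exact hne _ _ (by omega)
  have haa : B.coord i1 (B i1) = 1 := by
    rw [cB, if_pos rfl]
  refine ⟨B i1, B.coord i4, ρ (tv (B i1) (B.coord i4)) (B i4), ?_, ?_, hνe, hνa, ?_⟩
  · intro hmem
    obtain ⟨k, hk⟩ := Submodule.mem_span_singleton.mp hmem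
    have := congrArg (B.coord i1) hk
    rw [map_smul, hae, smul_zero, haa] at this
    exact zero_ne_one this
  · intro h0'
    rw [h0'] at hνw
    exact zero_ne_one hνw
  · apply eq_smul_of_ker hνw
    intro z hz
    have hz1 : z = (z - B.coord i2 z • B i2) + B.coord i2 z • B i2 := by abel
    rw [hz1, map_add, map_smul]
    have k1 : ρ (tv (B i1) (B.coord i4)) (z - B.coord i2 z • B i2) = 0 := by
      apply rho_tv_kill ρ hcoc hνe hνa hνb hμe hμa hμb
      · rw [map_sub, map_smul, hz, hνb, smul_zero, sub_zero]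
      · rw [map_sub, map_smul, hμb, smul_eq_mul, mul_one, sub_self]
    have k2 : ρ (tv (B i1) (B.coord i4)) (B i2) = 0 :=
      rho_tv_kill ρ hcoc hνe hνa hνb' hμ'e hμ'a hμ'b' hνb hμ'b
    rw [k1, k2, smul_zero, add_zero]

end Cfsg.Agent.Lib.Helper9.MinIdx
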