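/-
helper9: module S2140-[H1-N4ODD] of helper99's project S2140 (minimal index of `PSL_n(q)`): vanishing of the
cocycle on a transvection, dimension 4, odd characteristic (polarisation of the symmetric biadditive form
`β (a, c) = ρ (tv a ν) c` on the kernel of `ν`).
-/
import Cfsg.Agent.Lib.Helper9.MinIdxH1N5

set_option autoImplicit false
set_option linter.unusedVariables false

namespace Cfsg.Agent.Lib.Helper9.MinIdx

open Module Cfsg.Agent.Lib.Helper99.MinIdx

universe u v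

variable {F : Type u} [Field F] {V : Type v} [AddCommGroup V] [Module F V]

theorem tv_fix {a z : V} {ν : Dual F V} (hνa : ν a = 0) (hz : ν z = 0) : tv a ν z = z := by
  rw [tv_apply hνa, hz, zero_smul, add_zero]

theorem tv_inv_apply {a : V} {ν : Dual F V} (hνa : ν a = 0) (z : V) : (tv a ν)⁻¹ z = z - ν z • a := by
  have h : (-ν) a = 0 := by rw [LinearMap.neg_apply, hνa, neg_zero]
  rw [tv_inv hνa, tv_apply h, LinearMap.neg_apply, neg_smul, sub_eq_add_neg]

section cocycle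

variable {e : V} (ρ : SpecialLinearGroup F V → Dual F V)
  (hcoc : ∀ g g', g e = e → g' e = e → ∀ x, ρ (g * g') x = ρ g x + ρ g' (g⁻¹ x))

include hcoc

/-- `β` is additive in the first argument. -/
theorem rho_tv_add {a a' c : V} {ν : Dual F V} (hνe : ν e = 0) (hνa : ν a = 0) (hνa' : ν a' = 0)
    (hνc : ν c = 0) : ρ (tv (a + a') ν) c = ρ (tv a ν) c + ρ (tv a' ν) c := by
  rw [← tv_mul_same_right hνa hνa', hcoc _ _ (tv_fix hνa hνe) (tv_fix hνa' hνe) c, tv_inv_apply hνa, hνc,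
    zero_smul, sub_zero]

/-- `β` is symmetric. -/
theorem rho_tv_symm {a a' w : V} {ν : Dual F V} (hνe : ν e = 0) (hνa : ν a = 0) (hνa' : ν a' = 0)
    (hw : ν w = 1) : ρ (tv a ν) a' = ρ (tv a' ν) a := by
  have h1 := hcoc _ _ (tv_fix hνa hνe) (tv_fix hνa' hνe) w
  have h2 := hcoc _ _ (tv_fix hνa' hνe) (tv_fix hνa hνe) w
  rw [tv_mul_same_right hνa hνa', tv_inv_apply hνa, hw, one_smul, map_sub] at h1
  rw [tv_mul_same_right hνa' hνa, tv_inv_apply hνa', hw, one_smul, map_sub, add_comm a' a] at h2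
  rw [h1] at h2
  linear_combination h2

/-- `β (c, c) = 0`. -/
theorem rho_tv_self {c x : V} {ν μ : Dual F V} (hνe : ν e = 0) (hνc : ν c = 0) (hμe : μ e = 0)
    (hμc : μ c = 0) (hνx : ν x = 0) (hμx : μ x = 1) : ρ (tv c ν) c = 0 := by
  have h1 := hcoc _ _ (tv_fix hνc hνe) (tv_fix hμc hμe) x
  have h2 := hcoc _ _ (tv_fix hμc hμe) (tv_fix hνc hνe) x
  rw [tv_mul_same_left hνc hμc, tv_inv_apply hνc, hνx, zero_smul, sub_zero] at h1
  rw [tv_mul_same_left hμc hνc, tv_inv_apply hμc, hμx, one_smul, map_sub, add_comm μ ν] at h2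
  rw [h1] at h2
  linear_combination h2

end cocycle

theorem h1_four_odd [FiniteDimensional F V] (hn : finrank F V = 4) (h2 : (2 : F) ≠ 0)
    {e : V} (he : e ≠ 0)
    (ρ : SpecialLinearGroup F V → Dual F V) (hρe : ∀ g, g e = e → ρ g e = 0)
    (hcoc : ∀ g g', g e = e → g' e = e → ∀ x, ρ (g * g') x = ρ g x + ρ g' (g⁻¹ x)) :
    ∃ (a : V) (ν : Dual F V) (c : F), a ∉ Submodule.span F {e} ∧ ν ≠ 0 ∧ ν e = 0 ∧ ν a = 0 ∧
      ρ (tv a ν) = c • ν := by
  classical
  obtain ⟨B', hB'⟩ := exists_basis_fin (n := 3) hn he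
  let B : Basis (Fin 4) F V := B'
  have hB : B 0 = e := hB'
  have cB : ∀ i j : Fin 4, B.coord i (B j) = if i = j then 1 else 0 := coord_basis B
  have c30 : B.coord 3 e = 0 := by rw [← hB, cB, if_neg (by decide)]
  have c31 : B.coord 3 (B 1) = 0 := by rw [cB, if_neg (by decide)]
  have c32 : B.coord 3 (B 2) = 0 := by rw [cB, if_neg (by decide)]
  have c33 : B.coord 3 (B 3) = 1 := by rw [cB, if_pos rfl]
  have c20 : B.coord 2 e = 0 := by rw [← hB, cB, if_neg (by decide)]
  have c21 : B.coord 2 (B 1) = 0 := by rw [cB, if_neg (by decide)]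
  have c22 : B.coord 2 (B 2) = 1 := by rw [cB, if_pos rfl]
  have c10 : B.coord 1 e = 0 := by rw [← hB, cB, if_neg (by decide)]
  have c11 : B.coord 1 (B 1) = 1 := by rw [cB, if_pos rfl]
  have c12 : B.coord 1 (B 2) = 0 := by rw [cB, if_neg (by decide)]
  -- the values of `β` on the basis vectors of the kernel
  have b11 : ρ (tv (B 1) (B.coord 3)) (B 1) = 0 :=
    rho_tv_self ρ hcoc (x := B 2) (μ := B.coord 2) c30 c31 c20 c21 c32 c22
  have b22 : ρ (tv (B 2) (B.coord 3)) (B 2) = 0 :=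
    rho_tv_self ρ hcoc (x := B 1) (μ := B.coord 1) c30 c32 c10 c12 c31 c11
  have c3s : B.coord 3 (B 1 + B 2) = 0 := by rw [map_add, c31, c32, add_zero]
  have bss : ρ (tv (B 1 + B 2) (B.coord 3)) (B 1 + B 2) = 0 := by
    apply rho_tv_self ρ hcoc (x := B 1) (μ := B.coord 1 - B.coord 2) c30 c3s
    · rw [LinearMap.sub_apply, c10, c20, sub_zero]
    · rw [LinearMap.sub_apply, map_add, map_add, c11, c12, c21, c22]
      ring
    · exact c31
    · rw [LinearMap.sub_apply, c11, c21, sub_zero]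
  have b21 : ρ (tv (B 2) (B.coord 3)) (B 1) = ρ (tv (B 1) (B.coord 3)) (B 2) :=
    rho_tv_symm ρ hcoc (w := B 3) c30 c32 c31 c33
  have b12 : ρ (tv (B 1) (B.coord 3)) (B 2) = 0 := by
    rw [map_add, rho_tv_add ρ hcoc c30 c31 c32 c31, rho_tv_add ρ hcoc c30 c31 c32 c32, b11, b22, b21] at bss
    have h3 : (2 : F) * ρ (tv (B 1) (B.coord 3)) (B 2) = 0 := by linear_combination bss
    rcases mul_eq_zero.mp h3 with h | h
    · exact absurd h h2
    · exact h
  have b10 : ρ (tv (B 1) (B.coord 3)) e = 0 := hρe _ (tv_fix c31 c30)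
  refine ⟨B 1, B.coord 3, ρ (tv (B 1) (B.coord 3)) (B 3), ?_, ?_, c30, c31, ?_⟩
  · intro hmem
    obtain ⟨k, hk⟩ := Submodule.mem_span_singleton.mp hmem
    have := congrArg (B.coord 1) hk
    rw [map_smul, c10, smul_zero, c11] at this
    exact zero_ne_one this
  · intro h0'
    rw [h0'] at c33
    exact zero_ne_one c33
  · apply eq_smul_of_ker c33
    intro z hz
    have hz1 : z = B.repr z 0 • B 0 + B.repr z 1 • B 1 + B.repr z 2 • B 2 + B.repr z 3 • B 3 := by
      rw [← Fin.sum_univ_four (fun i => B.repr z i • B i), B.sum_repr]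
    have hz3 : B.repr z 3 = 0 := hz
    rw [hz1, hz3, zero_smul, add_zero, hB, map_add, map_add, map_smul, map_smul, map_smul, b10, b11, b12,
      smul_zero, smul_zero, smul_zero, add_zero, add_zero]

end Cfsg.Agent.Lib.Helper9.MinIdx
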