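/-
helper9: module S2140-[H1-N4BIG] of helper99's project S2140 (minimal index of `PSL_n(q)`): vanishing of the
cocycle on a transvection, dimension 4, a field with an element `l ≠ 0`, `l ^ 2 ≠ 1` (commutator with a torus
element `diag (1, l, 1, l⁻¹)`).
-/
import Cfsg.Agent.Lib.Helper9.MinIdxH1N4Odd

set_option autoImplicit false
set_option linter.unusedVariables false

namespace Cfsg.Agent.Lib.Helper9.MinIdx

open Module Cfsg.Agent.Lib.Helper99.MinIdx

universe u v

variable {F : Type u} [Field F] {V : Type v} [AddCommGroup V] [Module F V]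

section cocycle

variable {e : V} (ρ : SpecialLinearGroup F V → Dual F V)
  (hcoc : ∀ g g', g e = e → g' e = e → ∀ x, ρ (g * g') x = ρ g x + ρ g' (g⁻¹ x))

include hcoc

/-- The commutator of a torus element and a transvection. -/
theorem rho_torus_kill {a₀ c : V} {ν : Dual F V} {l : F} (t : SpecialLinearGroup F V)
    (hνe : ν e = 0) (hνa : ν a₀ = 0) (hνc : ν c = 0)
    (hte : t e = e) (htc : t c = c) (hta : t a₀ = l • a₀) (htν : ∀ x, ν (t x) = l⁻¹ * ν x) (hl : l ≠ 0) :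
    ρ (tv ((l ^ 2 - 1) • a₀) ν) c = 0 := by
  have hconj : t * tv a₀ ν * t⁻¹ = tv (t a₀) (l • ν) := by
    apply tv_conj t hνa
    intro x
    rw [LinearMap.smul_apply, htν, smul_eq_mul, ← mul_assoc, mul_inv_cancel₀ hl, one_mul]
  have h1 : tv (t a₀) (l • ν) = tv ((l ^ 2) • a₀) ν := by
    rw [hta, tv_smul_left, smul_smul, ← tv_smul_left, pow_two]
  have hν2 : ν ((l ^ 2) • a₀) = 0 := by rw [map_smul, hνa, smul_zero]
  have hν3 : ν (-a₀) = 0 := by rw [map_neg, hνa, neg_zero]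
  have hcomm : t * tv a₀ ν * t⁻¹ * (tv a₀ ν)⁻¹ = tv ((l ^ 2 - 1) • a₀) ν := by
    rw [hconj, h1, ← tv_neg_left hνa, tv_mul_same_right hν2 hν3, sub_smul, one_smul, sub_eq_add_neg]
  rw [← hcomm]
  exact rho_comm_fix ρ hcoc hte (tv_fix hνa hνe) htc (tv_fix hνa hνc)

end cocycle

/-- The torus element `diag d` in a basis. -/
theorem exists_torus {ι : Type*} [Fintype ι] [DecidableEq ι] (B : Basis ι F V) (d : ι → F)
    (hd : ∏ i, d i = 1) : ∃ t : SpecialLinearGroup F V, ∀ i, t (B i) = d i • B i := by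
  have hdet : (Matrix.diagonal d).det = 1 := by rw [Matrix.det_diagonal, hd]
  refine ⟨Matrix.SpecialLinearGroup.toLin_equiv B ⟨Matrix.diagonal d, hdet⟩, fun i => ?_⟩
  have h1 : ∀ x, (Matrix.SpecialLinearGroup.toLin_equiv B ⟨Matrix.diagonal d, hdet⟩) x =
      Matrix.toLin B B (Matrix.diagonal d) x := fun x => rfl
  rw [h1, Matrix.toLin_self, Finset.sum_eq_single i]
  · rw [Matrix.diagonal_apply_eq]
  · intro j _ hj
    rw [Matrix.diagonal_apply_ne _ hj, zero_smul]
  · intro h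
    exact absurd (Finset.mem_univ i) h

theorem h1_four_big [FiniteDimensional F V] (hn : finrank F V = 4) (hF : ∃ l : F, l ≠ 0 ∧ l ^ 2 ≠ 1)
    {e : V} (he : e ≠ 0)
    (ρ : SpecialLinearGroup F V → Dual F V) (hρe : ∀ g, g e = e → ρ g e = 0)
    (hcoc : ∀ g g', g e = e → g' e = e → ∀ x, ρ (g * g') x = ρ g x + ρ g' (g⁻¹ x)) :
    ∃ (a : V) (ν : Dual F V) (c : F), a ∉ Submodule.span F {e} ∧ ν ≠ 0 ∧ ν e = 0 ∧ ν a = 0 ∧
      ρ (tv a ν) = c • ν := by
  classical
  obtain ⟨l, hl0, hl2⟩ := hF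
  obtain ⟨B', hB'⟩ := exists_basis_fin (n := 3) hn he
  let B : Basis (Fin 4) F V := B'
  have hB : B 0 = e := hB'
  have cB : ∀ i j : Fin 4, B.coord i (B j) = if i = j then 1 else 0 := coord_basis B
  have c30 : B.coord 3 e = 0 := by rw [← hB, cB, if_neg (by decide)]
  have c31 : B.coord 3 (B 1) = 0 := by rw [cB, if_neg (by decide)]
  have c32 : B.coord 3 (B 2) = 0 := by rw [cB, if_neg (by decide)]
  have c33 : B.coord 3 (B 3) = 1 := by rw [cB, if_pos rfl]
  have c20 : B.coord 2 e = 0 := by rw [← hB, cB, if_neg (by decide)]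
  have c21 : B.coord 2 (B 1) = 0 := by rw [cB, if_neg (by decide)]
  have c22 : B.coord 2 (B 2) = 1 := by rw [cB, if_pos rfl]
  have c10 : B.coord 1 e = 0 := by rw [← hB, cB, if_neg (by decide)]
  have c11 : B.coord 1 (B 1) = 1 := by rw [cB, if_pos rfl]
  -- the torus element
  obtain ⟨t, ht⟩ := exists_torus B ![1, l, 1, l⁻¹] (by
    rw [Fin.prod_univ_four]
    simp [hl0])
  have t0 : t e = e := by
    rw [← hB, ht 0]
    simp
  have t1 : t (B 1) = l • B 1 := by
    rw [ht 1]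
    simp
  have t2 : t (B 2) = B 2 := by
    rw [ht 2]
    simp
  have t3 : t (B 3) = l⁻¹ • B 3 := by
    rw [ht 3]
    simp
  have tν : ∀ x, B.coord 3 (t x) = l⁻¹ * B.coord 3 x := by
    have h : (B.coord 3) ∘ₗ (t.val : V →ₗ[F] V) = l⁻¹ • B.coord 3 := by
      apply B.ext
      intro i
      show B.coord 3 (t (B i)) = l⁻¹ * B.coord 3 (B i)
      fin_cases i
      · show B.coord 3 (t (B 0)) = l⁻¹ * B.coord 3 (B 0)
        rw [hB, t0, c30, mul_zero]
      · show B.coord 3 (t (B 1)) = l⁻¹ * B.coord 3 (B 1)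
        rw [t1, map_smul, c31, smul_zero, mul_zero]
      · show B.coord 3 (t (B 2)) = l⁻¹ * B.coord 3 (B 2)
        rw [t2, c32, mul_zero]
      · show B.coord 3 (t (B 3)) = l⁻¹ * B.coord 3 (B 3)
        rw [t3, map_smul, c33, smul_eq_mul]
    intro x
    exact LinearMap.congr_fun h x
  have hl2' : l ^ 2 - 1 ≠ 0 := sub_ne_zero.mpr hl2
  -- the values of the cocycle on the kernel of `ν`
  have k2 : ρ (tv ((l ^ 2 - 1) • B 1) (B.coord 3)) (B 2) = 0 :=
    rho_torus_kill ρ hcoc t c30 c31 c32 t0 t2 t1 tν hl0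
  -- the conjugate torus element fixing `B 1 + B 2`
  have s_apply : ∀ y, tv (B 1) (B.coord 2) y = y + B.coord 2 y • B 1 := tv_apply c21
  have si_apply : ∀ y, (tv (B 1) (B.coord 2))⁻¹ y = y - B.coord 2 y • B 1 := tv_inv_apply c21
  have c3s : B.coord 3 (B 1 + B 2) = 0 := by rw [map_add, c31, c32, add_zero]
  have k12 : ρ (tv ((l ^ 2 - 1) • B 1) (B.coord 3)) (B 1 + B 2) = 0 := by
    apply rho_torus_kill ρ hcoc (tv (B 1) (B.coord 2) * t * (tv (B 1) (B.coord 2))⁻¹) c30 c31 c3s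
    · show tv (B 1) (B.coord 2) (t ((tv (B 1) (B.coord 2))⁻¹ e)) = e
      rw [si_apply, c20, zero_smul, sub_zero, t0, s_apply, c20, zero_smul, add_zero]
    · show tv (B 1) (B.coord 2) (t ((tv (B 1) (B.coord 2))⁻¹ (B 1 + B 2))) = B 1 + B 2
      rw [si_apply, map_add, c21, c22, zero_add, one_smul, add_sub_cancel_left, t2, s_apply, c22, one_smul,
        add_comm]
    · show tv (B 1) (B.coord 2) (t ((tv (B 1) (B.coord 2))⁻¹ (B 1))) = l • B 1
      rw [si_apply, c21, zero_smul, sub_zero, t1, s_apply, map_smul, c21, smul_zero, zero_smul, add_zero]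
    · intro x
      show B.coord 3 (tv (B 1) (B.coord 2) (t ((tv (B 1) (B.coord 2))⁻¹ x))) = l⁻¹ * B.coord 3 x
      rw [s_apply, map_add, map_smul, c31, smul_zero, add_zero, tν, si_apply, map_sub, map_smul, c31, smul_zero,
        sub_zero]
    · exact hl0
  have k1 : ρ (tv ((l ^ 2 - 1) • B 1) (B.coord 3)) (B 1) = 0 := by
    rw [map_add, k2, add_zero] at k12
    exact k12
  have hνa : B.coord 3 ((l ^ 2 - 1) • B 1) = 0 := by rw [map_smul, c31, smul_zero]
  have k0 : ρ (tv ((l ^ 2 - 1) • B 1) (B.coord 3)) e = 0 := hρe _ (tv_fix hνa c30)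
  refine ⟨(l ^ 2 - 1) • B 1, B.coord 3, ρ (tv ((l ^ 2 - 1) • B 1) (B.coord 3)) (B 3), ?_, ?_, c30, hνa, ?_⟩
  · intro hmem
    obtain ⟨k, hk⟩ := Submodule.mem_span_singleton.mp hmem
    have := congrArg (B.coord 1) hk
    rw [map_smul, c10, smul_zero, map_smul, c11, smul_eq_mul, mul_one] at this
    exact hl2' this.symm
  · intro h0'
    rw [h0'] at c33
    exact zero_ne_one c33
  · apply eq_smul_of_ker c33
    intro z hz
    have hz1 : z = B.repr z 0 • B 0 + B.repr z 1 • B 1 + B.repr z 2 • B 2 + B.repr z 3 • B 3 := by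
      rw [← Fin.sum_univ_four (fun i => B.repr z i • B i), B.sum_repr]
    have hz3 : B.repr z 3 = 0 := hz
    rw [hz1, hz3, zero_smul, add_zero, hB, map_add, map_add, map_smul, map_smul, map_smul, k0, k1, k2,
      smul_zero, smul_zero, smul_zero, add_zero, add_zero]

end Cfsg.Agent.Lib.Helper9.MinIdx
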