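/-
helper9: module S5634-[GL-MAIN] of helper43's project S5634: the GL-theorem (a subgroup of `GL_k(q)`, `k ≥ 3`,
`q ≥ 5`, containing the monomial group and no non-trivial elementary transvection is monomial), by induction on `k`.
The statements of the modules [GL-P2H], [GL-P2], [GL-P3] and of the dependencies of [GL-STEP] are explicit
hypotheses, to be discharged at the assembly.
-/
import Mathlib
import Cfsg.Agent.Lib.Helper43.MonoSecHyp
import Cfsg.Agent.Lib.Helper9.MonoGLStep

set_option autoImplicit false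

namespace Cfsg.Agent.Lib.Helper9.Mono

open Matrix Cfsg.Geo Cfsg.Agent.Lib.Helper93 Cfsg.Agent.Lib.Helper43

variable {F : Type*} [Field F]

/-- the statement of [GL-P2H] `gl_two_hadamard` -/
def StGLP2H (F : Type*) [Field F] : Prop :=
  ∀ {Y : Subgroup (GL (Fin 2) F)} (_ : GLHyp Y),
    Y ≤ Mono (Fin 2) F ∨
      ∃ hm : GL (Fin 2) F, hm ∈ Y ∧ (hm : Matrix (Fin 2) (Fin 2) F) = !![1, 1; 1, -1]

/-- the statement of [GL-P2] `gl_two_no_hadamard` -/
def StGLP2 (F : Type*) [Field F] [Fintype F] : Prop :=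
  ∀ (_ : 7 ≤ Fintype.card F) {Y : Subgroup (GL (Fin 2) F)} (_ : GLHyp Y) {hm : GL (Fin 2) F} (_ : hm ∈ Y)
    (_ : (hm : Matrix (Fin 2) (Fin 2) F) = !![1, 1; 1, -1]), False

/-- the statement of [GL-P3] `gl_base_three_five` -/
def StGLP3 (F : Type*) [Field F] [Fintype F] : Prop :=
  ∀ (_ : Fintype.card F = 5) {Y : Subgroup (GL (Fin 3) F)} (_ : GLHyp Y), Y ≤ Mono (Fin 3) F

theorem card_field_ne_six [Fintype F] : Fintype.card F ≠ 6 := by
  intro h
  obtain ⟨p, n, hp, hn, hpn⟩ := FiniteField.isPrimePow_card F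
  rw [h] at hpn
  have hp' : p.Prime := Nat.prime_iff.mpr hp
  have hdvd : p ∣ 6 := by
    rw [← hpn]
    exact dvd_pow_self p (by omega)
  have hle : p ≤ 6 := Nat.le_of_dvd (by norm_num) hdvd
  have h2 := hp'.two_le
  interval_cases p
  · -- 2 ^ n = 6
    have h3 : (3 : ℕ) ∣ 2 ^ n := by rw [hpn]; norm_num
    have := Nat.le_of_dvd (by norm_num) (Nat.Prime.dvd_of_dvd_pow Nat.prime_three h3)
    omega
  · have h3 : (2 : ℕ) ∣ 3 ^ n := by rw [hpn]; norm_num
    have := (Nat.Prime.dvd_of_dvd_pow Nat.prime_two h3)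
    norm_num at this
  · norm_num at hp'
  · norm_num at hdvd
  · norm_num at hp'

/-- [GL-MAIN], with the statements of its dependencies as hypotheses -/
theorem gl_main [Fintype F] (hL3 : StGLL3 F) (hStar : StStar F) (hL4 : StGLL4 F) (hL5 : StGLL5 F)
    (hP2H : StGLP2H F) (hP2 : StGLP2 F) (hP3 : StGLP3 F)
    (hq : 5 ≤ Fintype.card F) (k : ℕ) (hk : 3 ≤ k)
    (Y : Subgroup (GL (Fin k) F)) (hY : GLHyp Y) : Y ≤ Mono (Fin k) F := by
  induction k, hk using Nat.le_induction with
  | base =>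
    by_cases h5 : Fintype.card F = 5
    · exact hP3 h5 hY
    · have h6 : Fintype.card F ≠ 6 := card_field_ne_six
      have h7 : 7 ≤ Fintype.card F := by omega
      apply gl_step_of_sections hL3 hStar hL4 hL5 hq (k := 2) (le_refl 2) hY
      intro i₀ C hC
      have hsecY : GLHyp (Y.comap (embSA i₀)) := glHyp_comap_embSA hY i₀
      rcases hP2H hsecY with hle | ⟨hm, hmY, hmv⟩
      · exact hle (Subgroup.mem_comap.mpr hC)
      · exact (hP2 h7 hsecY hmY hmv).elim
  | succ k hk ih =>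
    apply gl_step_of_sections hL3 hStar hL4 hL5 hq (by omega) hY
    intro i₀ C hC
    exact ih (Y.comap (embSA i₀)) (glHyp_comap_embSA hY i₀) (Subgroup.mem_comap.mpr hC)

end Cfsg.Agent.Lib.Helper9.Mono
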