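import Mathlib
import Cfsg.Agent.Lib.Helper64.PFElevenDefs

/-!
# PF section 11 end game, module [SUBSYS] (helper9, for helper64)

A nonempty conjugation-closed subset of a coherence system is a coherence system.
-/

set_option autoImplicit false

namespace Cfsg.Agent.Lib.Helper9.PF11

open Cfsg Cfsg.Agent.Lib.Helper24.PFCyc Cfsg.Agent.Lib.Helper4.PF Cfsg.Agent.Lib.Helper64.PF11

universe u

variable {G : Type u} [Group G] [Fintype G]

theorem zspanOn_mono {X : Type u} {S Z : Set (X → ℂ)} (hZS : Z ⊆ S) (A : Set X) :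
    zspanOn Z A ⊆ zspanOn S A := by
  rintro α ⟨h1, h2⟩
  exact ⟨Submodule.span_mono hZS h1, h2⟩

/-! ### MODULE [SUBSYS] -/

theorem coherenceSystem_subset {L : Type u} [Group L] [Fintype L] (S Z : Set (L → ℂ))
    (τ : (L → ℂ) → (G → ℂ)) (R : (L → ℂ) → Finset (G → ℂ)) (hS : IsCoherenceSystem S τ R)
    (hZS : Z ⊆ S) (hZne : Z.Nonempty) (hZc : ∀ ξ ∈ Z, conjFun ξ ∈ Z) :
    IsCoherenceSystem Z τ R := by
  have hsub := zspanOn_mono hZS ({1}ᶜ : Set L)
  obtain ⟨i1, i2, i3, i4⟩ := hS.isometry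
  refine
    { nonempty := hZne
      isCharacter := fun χ hχ => hS.isCharacter χ (hZS hχ)
      conj_mem := hZc
      conj_ne := fun χ hχ => hS.conj_ne χ (hZS hχ)
      isometry := ⟨fun α hα β hβ => i1 α (hsub hα) β (hsub hβ),
        fun α hα n => i2 α (hsub hα) n,
        fun α hα β hβ => i3 α (hsub hα) β (hsub hβ),
        fun α hα => i4 α (hsub hα)⟩
      map_one := fun α hα => hS.map_one α (hsub hα)
      orthogonal := fun χ hχ φ hφ => hS.orthogonal χ (hZS hχ) φ (hZS hφ)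
      orthonormal := fun χ hχ => hS.orthonormal χ (hZS hχ)
      virtual := fun χ hχ => hS.virtual χ (hZS hχ)
      sum_eq := fun χ hχ => hS.sum_eq χ (hZS hχ)
      disjoint := fun χ hχ φ hφ => hS.disjoint χ (hZS hχ) φ (hZS hφ) }

end Cfsg.Agent.Lib.Helper9.PF11
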