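import Mathlib
import Cfsg.Agent.Lib.Helper9.SS2
import Cfsg.Agent.Lib.Helper9.PrimePowerWitness

/-!
Supersolvable groups of automorphisms of an elementary abelian `r`-group `V` acting irreducibly,
in which every element of prime power order `t^a`, `t ≠ r`, is a "quasi-reflection or scalar"
(it acts on `[V, x]` by a power map): then `|V| = r`.  Part 1: generalities.
-/

set_option autoImplicit false

namespace Cfsg.Agent.Lib.Helper9

section Scalar

variable {V : Type*} [CommGroup V] [Finite V] {r : ℕ} [hr : Fact r.Prime]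

theorem exists_nat_pow_of_mem_zpowers {w y : V} (h : y ∈ Subgroup.zpowers w) :
    ∃ k : ℕ, y = w ^ k := by
  rw [← mem_powers_iff_mem_zpowers, Submonoid.mem_powers_iff] at h
  obtain ⟨k, hk⟩ := h
  exact ⟨k, hk.symm⟩

omit [Finite V] hr in
theorem pow_eq_pow_of_modEq_prime (hexp : ∀ v : V, v ^ r = 1) {a b : ℕ} (h : a ≡ b [MOD r])
    (v : V) : v ^ a = v ^ b := by
  rw [pow_eq_pow_iff_modEq]
  exact h.of_dvd (orderOf_dvd_of_pow_eq_one (hexp v))

omit [Finite V] in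
theorem modEq_of_pow_eq_pow (hexp : ∀ v : V, v ^ r = 1) {a b : ℕ} {v : V} (hv : v ≠ 1)
    (h : v ^ a = v ^ b) : a ≡ b [MOD r] := by
  rw [pow_eq_pow_iff_modEq, orderOf_eq_prime (hexp v) hv] at h
  exact h

/-- A homomorphism mapping every element of `W` into the cyclic group it generates is a power map
on `W` (elementary abelian case). -/
theorem exists_pow_of_forall_mem_zpowers (hexp : ∀ v : V, v ^ r = 1) (W : Subgroup V)
    (φ : V →* V) (h : ∀ w ∈ W, φ w ∈ Subgroup.zpowers w) : ∃ k : ℕ, ∀ w ∈ W, φ w = w ^ k := by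
  by_cases hW : ∃ c ∈ W, c ≠ 1
  · obtain ⟨c0, hc0W, hc01⟩ := hW
    obtain ⟨k, hk⟩ := exists_nat_pow_of_mem_zpowers (h c0 hc0W)
    refine ⟨k, ?_⟩
    intro c hc
    by_cases hcz : c ∈ Subgroup.zpowers c0
    · obtain ⟨i, rfl⟩ := exists_nat_pow_of_mem_zpowers hcz
      rw [map_pow, hk, ← pow_mul, ← pow_mul, mul_comm]
    · have hc1 : c ≠ 1 := by
        rintro rfl
        exact hcz (Subgroup.one_mem _)
      obtain ⟨k', hk'⟩ := exists_nat_pow_of_mem_zpowers (h c hc)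
      obtain ⟨k'', hk''⟩ := exists_nat_pow_of_mem_zpowers (h (c * c0) (W.mul_mem hc hc0W))
      rw [map_mul, hk, hk', mul_pow] at hk''
      -- c^k' * c0^k = c^k'' * c0^k''
      have hd : (c ^ k'')⁻¹ * c ^ k' = c0 ^ k'' * (c0 ^ k)⁻¹ := by
        have : c ^ k' = c ^ k'' * c0 ^ k'' * (c0 ^ k)⁻¹ := by rw [← hk'']; group
        rw [this]; group
      have hmem1 : (c ^ k'')⁻¹ * c ^ k' ∈ Subgroup.zpowers c :=
        Subgroup.mul_mem _ (Subgroup.inv_mem _ (Subgroup.pow_mem _ (Subgroup.mem_zpowers c) _))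
          (Subgroup.pow_mem _ (Subgroup.mem_zpowers c) _)
      have hmem2 : (c ^ k'')⁻¹ * c ^ k' ∈ Subgroup.zpowers c0 := by
        rw [hd]
        exact Subgroup.mul_mem _ (Subgroup.pow_mem _ (Subgroup.mem_zpowers c0) _)
          (Subgroup.inv_mem _ (Subgroup.pow_mem _ (Subgroup.mem_zpowers c0) _))
      have hinf : Subgroup.zpowers c ⊓ Subgroup.zpowers c0 = ⊥ := by
        by_contra hne
        have hcard : Nat.card (Subgroup.zpowers c ⊓ Subgroup.zpowers c0 : Subgroup V) ∣ r := by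
          have := Subgroup.card_dvd_of_le
            (inf_le_left : Subgroup.zpowers c ⊓ Subgroup.zpowers c0 ≤ Subgroup.zpowers c)
          rwa [Nat.card_zpowers, orderOf_eq_prime (hexp c) hc1] at this
        rcases (Nat.dvd_prime hr.out).mp hcard with h1 | h1
        · exact hne (Subgroup.card_eq_one.mp h1)
        · have heq : Subgroup.zpowers c ⊓ Subgroup.zpowers c0 = Subgroup.zpowers c := by
            apply Subgroup.eq_of_le_of_card_ge inf_le_left
            rw [h1, Nat.card_zpowers, orderOf_eq_prime (hexp c) hc1]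
          apply hcz
          have : c ∈ Subgroup.zpowers c ⊓ Subgroup.zpowers c0 := by
            rw [heq]; exact Subgroup.mem_zpowers c
          exact this.2
      have hone : (c ^ k'')⁻¹ * c ^ k' = 1 := by
        have : (c ^ k'')⁻¹ * c ^ k' ∈ Subgroup.zpowers c ⊓ Subgroup.zpowers c0 := ⟨hmem1, hmem2⟩
        rw [hinf] at this
        exact Subgroup.mem_bot.mp this
      have e1 : c ^ k' = c ^ k'' := by
        have := congrArg (fun t => c ^ k'' * t) hone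
        simpa using this
      have e2 : c0 ^ k'' = c0 ^ k := by
        rw [hd] at hone
        have := congrArg (fun t => t * c0 ^ k) hone
        simpa using this
      have hmod : k'' ≡ k [MOD r] := modEq_of_pow_eq_pow hexp hc01 e2
      rw [hk', e1]
      exact pow_eq_pow_of_modEq_prime hexp hmod c
  · refine ⟨1, ?_⟩
    intro w hw
    have : w = 1 := by
      by_contra hne
      exact hW ⟨w, hw, hne⟩
    rw [this, map_one, one_pow]

omit [Finite V] in
/-- A power map on `W` fixing a nontrivial element of `W` fixes `W` pointwise. -/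
theorem fixes_of_pow_map_of_fixes_one (hexp : ∀ v : V, v ^ r = 1) (W : Subgroup V) (φ : V →* V)
    (k : ℕ) (hk : ∀ w ∈ W, φ w = w ^ k) {w0 : V} (hw0 : w0 ∈ W) (hw01 : w0 ≠ 1)
    (hfix : φ w0 = w0) : ∀ w ∈ W, φ w = w := by
  intro w hw
  have h1 : w0 ^ k = w0 ^ 1 := by rw [← hk w0 hw0, hfix, pow_one]
  have hmod := modEq_of_pow_eq_pow hexp hw01 h1
  rw [hk w hw, pow_eq_pow_of_modEq_prime hexp hmod w, pow_one]

/-- The power automorphisms `v ↦ v ^ k` of `V`. -/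
def scalarAut (V : Type*) [CommGroup V] [Finite V] : Subgroup (MulAut V) where
  carrier := {φ | ∃ k : ℕ, ∀ v, φ v = v ^ k}
  one_mem' := ⟨1, fun v => by simp⟩
  mul_mem' := by
    rintro φ ψ ⟨k, hk⟩ ⟨l, hl⟩
    exact ⟨l * k, fun v => by rw [MulAut.mul_apply, hl, map_pow, hk, ← pow_mul, mul_comm]⟩
  inv_mem' := by
    rintro φ ⟨k, hk⟩
    have hpow : ∀ n : ℕ, ∃ k' : ℕ, ∀ v, (φ ^ n) v = v ^ k' := by
      intro n
      induction n with
      | zero => exact ⟨1, fun v => by simp⟩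
      | succ n ih =>
        obtain ⟨k', hk'⟩ := ih
        exact ⟨k * k', fun v => by
          rw [pow_succ, MulAut.mul_apply, hk, map_pow, hk', ← pow_mul, mul_comm]⟩
    have hinv : φ⁻¹ = φ ^ (orderOf φ - 1) := by
      apply inv_eq_of_mul_eq_one_right
      rw [← pow_succ', Nat.sub_add_cancel (orderOf_pos φ), pow_orderOf_eq_one]
    show φ⁻¹ ∈ {φ : MulAut V | ∃ k : ℕ, ∀ v, φ v = v ^ k}
    rw [hinv]
    exact hpow _

theorem mem_scalarAut_iff {φ : MulAut V} : φ ∈ scalarAut V ↔ ∃ k : ℕ, ∀ v, φ v = v ^ k :=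
  Iff.rfl

theorem commute_of_mem_scalarAut {φ : MulAut V} (h : φ ∈ scalarAut V) (ψ : MulAut V) :
    φ * ψ = ψ * φ := by
  obtain ⟨k, hk⟩ := h
  ext v
  rw [MulAut.mul_apply, MulAut.mul_apply, hk, hk, map_pow]

theorem mem_scalarAut_of_forall_mem_zpowers (hexp : ∀ v : V, v ^ r = 1) {φ : MulAut V}
    (h : ∀ v, φ v ∈ Subgroup.zpowers v) : φ ∈ scalarAut V := by
  obtain ⟨k, hk⟩ := exists_pow_of_forall_mem_zpowers hexp ⊤ φ.toMonoidHom (fun w _ => h w)
  exact ⟨k, fun v => hk v (Subgroup.mem_top v)⟩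

omit [Finite V] in
theorem pow_prime_pow_modEq (k e : ℕ) : k ^ r ^ e ≡ k [MOD r] := by
  rw [← ZMod.natCast_eq_natCast_iff]
  push_cast
  induction e with
  | zero => simp
  | succ e ih => rw [pow_succ, pow_mul, ih, ZMod.pow_card]

/-- A scalar automorphism of `r`-power order is trivial. -/
theorem eq_one_of_mem_scalarAut_of_pow (hexp : ∀ v : V, v ^ r = 1) {φ : MulAut V}
    (h : φ ∈ scalarAut V) (e : ℕ) (he : φ ^ r ^ e = 1) : φ = 1 := by
  obtain ⟨k, hk⟩ := h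
  have hpow : ∀ n : ℕ, ∀ v, (φ ^ n) v = v ^ k ^ n := by
    intro n
    induction n with
    | zero => intro v; simp
    | succ n ih =>
      intro v
      rw [pow_succ, MulAut.mul_apply, hk, map_pow, ih, ← pow_mul, pow_succ, mul_comm]
  ext v
  by_cases hv : v = 1
  · rw [hv, map_one, map_one]
  have h1 : v ^ k ^ r ^ e = v ^ 1 := by
    rw [← hpow, he, pow_one]; rfl
  have hmod := modEq_of_pow_eq_pow hexp hv h1
  have hfer : k ^ r ^ e ≡ k [MOD r] := pow_prime_pow_modEq k e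
  have hk1 : k ≡ 1 [MOD r] := hfer.symm.trans hmod
  rw [hk, pow_eq_pow_of_modEq_prime hexp hk1 v, pow_one]
  rfl

end Scalar

section Over

variable {A : Type*} [Group A] [Finite A]

/-- In a supersolvable subgroup `M`, above a proper normal subgroup `Z` of `M` there is a normal
subgroup `B` of `M` with `B / Z` of prime order. -/
theorem exists_prime_over (M Z : Subgroup A) (hM : Cfsg.IsSupersolvable M) (hZM : Z ≤ M)
    (hZn : ∀ m ∈ M, ∀ z ∈ Z, m * z * m⁻¹ ∈ Z) (hne : ¬ M ≤ Z) :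
    ∃ (B : Subgroup A) (s : ℕ), Z ≤ B ∧ B ≤ M ∧ (∀ m ∈ M, ∀ b ∈ B, m * b * m⁻¹ ∈ B) ∧ s.Prime ∧
      (∀ b ∈ B, b ^ s ∈ Z) ∧ (∃ b ∈ B, b ∉ Z) ∧
      ∀ b ∈ B, b ∉ Z → ∀ b2 ∈ B, ∃ i : ℕ, ∃ z ∈ Z, b2 = b ^ i * z := by
  set Z' : Subgroup M := Z.subgroupOf M with hZ'
  have hZ'n : Z'.Normal := by
    constructor
    intro z hz m
    rw [hZ', Subgroup.mem_subgroupOf] at hz ⊢
    exact hZn m m.2 z hz
  have hQ : Cfsg.IsSupersolvable (M ⧸ Z') := isSupersolvable_quotient hM Z'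
  have hnt : Nontrivial (M ⧸ Z') := by
    obtain ⟨m, hmM, hmZ⟩ := Set.not_subset.mp hne
    refine ⟨⟨QuotientGroup.mk' Z' ⟨m, hmM⟩, 1, ?_⟩⟩
    intro h
    rw [QuotientGroup.mk'_apply, QuotientGroup.eq_one_iff] at h
    exact hmZ (Subgroup.mem_subgroupOf.mp h)
  obtain ⟨D, hDn, hDp⟩ := exists_normal_prime_card hQ
  set s := Nat.card D with hs
  have : Fact s.Prime := ⟨hDp⟩
  set B' : Subgroup M := D.comap (QuotientGroup.mk' Z') with hB'
  have hmemB : ∀ a : A, a ∈ B'.map M.subtype ↔ ∃ ha : a ∈ M, QuotientGroup.mk' Z' ⟨a, ha⟩ ∈ D := by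
    intro a
    constructor
    · rintro ⟨b, hb, rfl⟩
      exact ⟨b.2, hb⟩
    · rintro ⟨ha, hD⟩
      exact ⟨⟨a, ha⟩, hD, rfl⟩
  have hmk1 : ∀ (a : A) (ha : a ∈ M), QuotientGroup.mk' Z' ⟨a, ha⟩ = 1 ↔ a ∈ Z := by
    intro a ha
    rw [QuotientGroup.mk'_apply, QuotientGroup.eq_one_iff, hZ', Subgroup.mem_subgroupOf]
  refine ⟨B'.map M.subtype, s, ?_, Subgroup.map_subtype_le B', ?_, hDp, ?_, ?_, ?_⟩
  · intro z hz
    rw [hmemB]
    refine ⟨hZM hz, ?_⟩
    rw [(hmk1 z (hZM hz)).mpr hz]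
    exact D.one_mem
  · intro m hm b hb
    rw [hmemB] at hb ⊢
    obtain ⟨hbM, hbD⟩ := hb
    refine ⟨M.mul_mem (M.mul_mem hm hbM) (M.inv_mem hm), ?_⟩
    have : (⟨m * b * m⁻¹, M.mul_mem (M.mul_mem hm hbM) (M.inv_mem hm)⟩ : M) =
        ⟨m, hm⟩ * ⟨b, hbM⟩ * (⟨m, hm⟩ : M)⁻¹ := rfl
    rw [this, map_mul, map_mul, map_inv]
    exact hDn.conj_mem _ hbD _
  · intro b hb
    rw [hmemB] at hb
    obtain ⟨hbM, hbD⟩ := hb
    have h1 : (⟨QuotientGroup.mk' Z' ⟨b, hbM⟩, hbD⟩ : D) ^ s = 1 := by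
      rw [hs]; exact pow_card_eq_one'
    have h2 : (QuotientGroup.mk' Z' ⟨b, hbM⟩) ^ s = 1 := by
      have := congrArg Subtype.val h1
      simpa using this
    rw [← map_pow] at h2
    have : (⟨b, hbM⟩ : M) ^ s = ⟨b ^ s, M.pow_mem hbM s⟩ := rfl
    rw [this, hmk1] at h2
    exact h2
  · have hDnt : Nontrivial D := by
      apply (Finite.one_lt_card_iff_nontrivial).mp
      exact hDp.one_lt
    obtain ⟨d, hd⟩ := exists_ne (1 : D)
    obtain ⟨m, hm⟩ := QuotientGroup.mk'_surjective Z' (d : M ⧸ Z')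
    refine ⟨(m : A), ?_, ?_⟩
    · rw [hmemB]
      refine ⟨m.2, ?_⟩
      rw [Subtype.coe_eta, hm]
      exact d.2
    · intro hmZ
      apply hd
      apply Subtype.ext
      rw [← hm]
      have := (hmk1 (m : A) m.2).mpr hmZ
      rw [Subtype.coe_eta] at this
      rw [this]; rfl
  · intro b hb hbZ b2 hb2
    rw [hmemB] at hb hb2
    obtain ⟨hbM, hbD⟩ := hb
    obtain ⟨hb2M, hb2D⟩ := hb2
    have hd1 : (⟨QuotientGroup.mk' Z' ⟨b, hbM⟩, hbD⟩ : D) ≠ 1 := by
      intro h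
      apply hbZ
      have := congrArg Subtype.val h
      exact (hmk1 b hbM).mp this
    have htop := zpowers_eq_top_of_prime_card (G := D) (p := s) rfl hd1
    have hmem : (⟨QuotientGroup.mk' Z' ⟨b2, hb2M⟩, hb2D⟩ : D) ∈
        Subgroup.zpowers (⟨QuotientGroup.mk' Z' ⟨b, hbM⟩, hbD⟩ : D) := by
      rw [htop]; exact Subgroup.mem_top _
    rw [← mem_powers_iff_mem_zpowers, Submonoid.mem_powers_iff] at hmem
    obtain ⟨i, hi⟩ := hmem
    have hi' : (QuotientGroup.mk' Z' ⟨b, hbM⟩) ^ i = QuotientGroup.mk' Z' ⟨b2, hb2M⟩ := by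
      have := congrArg Subtype.val hi
      simpa using this
    refine ⟨i, (b ^ i)⁻¹ * b2, ?_, by group⟩
    rw [← map_pow] at hi'
    have h3 : QuotientGroup.mk' Z' ((⟨b, hbM⟩ : M) ^ i)⁻¹ * QuotientGroup.mk' Z' ⟨b2, hb2M⟩ = 1 := by
      rw [map_inv, hi', inv_mul_cancel]
    rw [← map_mul] at h3
    have : ((⟨b, hbM⟩ : M) ^ i)⁻¹ * ⟨b2, hb2M⟩ =
        ⟨(b ^ i)⁻¹ * b2, M.mul_mem (M.inv_mem (M.pow_mem hbM i)) hb2M⟩ := rfl
    rw [this, hmk1] at h3
    exact h3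

/-- An element of `B \ Z` can be replaced by one of `s`-power order, if `s`-th powers of elements
of `B` lie in `Z`. -/
theorem exists_prime_pow_order_not_mem_of_pow_mem (B Z : Subgroup A) {s : ℕ} (hs : s.Prime)
    (hpow : ∀ b ∈ B, b ^ s ∈ Z) {b : A} (hb : b ∈ B) (hbZ : b ∉ Z) :
    ∃ b' ∈ B, b' ∉ Z ∧ ∃ e : ℕ, orderOf b' = s ^ e := by
  obtain ⟨t, k, j, ht, _, hord, hnot⟩ :=
    exists_pow_prime_pow_order_not_mem Z (orderOf b) b rfl (orderOf_pos b) hbZ
  refine ⟨b ^ j, B.pow_mem hb j, hnot, ?_⟩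
  by_cases hts : t = s
  · exact ⟨k, by rw [hord, hts]⟩
  · exfalso
    apply hnot
    have hcop : s.Coprime (orderOf (b ^ j)) := by
      rw [hord]
      exact Nat.Coprime.pow_right k ((Nat.coprime_primes hs ht).mpr (Ne.symm hts))
    obtain ⟨m, hm⟩ := exists_pow_eq_self_of_coprime hcop
    rw [← hm]
    exact Z.pow_mem (hpow _ (B.pow_mem hb j)) m

end Over

end Cfsg.Agent.Lib.Helper9
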