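import Mathlib
import Cfsg.Agent.Lib.Helper9.QRefl

/-!
Quasi-reflections on an elementary abelian `r`-group, part 2: the decomposition
`V = C_V(b) × [V, b]` and its behaviour.
-/

set_option autoImplicit false

namespace Cfsg.Agent.Lib.Helper9

variable {V : Type*} [CommGroup V] [Finite V] {r : ℕ} [hr : Fact r.Prime]

/-- `V = N1 × N2` with `b` trivial on `N1` and a power map without fixed points on `N2`. -/
structure QDecomp (b : MulAut V) (N1 N2 : Subgroup V) (l : ℕ) : Prop where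
  fix1 : ∀ v, v ∈ N1 ↔ b v = v
  pow2 : ∀ v ∈ N2, b v = v ^ l
  disj : ∀ v, v ∈ N1 → v ∈ N2 → v = 1
  span : ∀ v, ∃ n1 ∈ N1, ∃ n2 ∈ N2, v = n1 * n2
  ne1 : ∃ v ∈ N1, v ≠ 1
  ne2 : ∃ v ∈ N2, v ≠ 1

namespace QDecomp

variable {b : MulAut V} {N1 N2 : Subgroup V} {l : ℕ}

omit [Finite V] in
theorem unique (h : QDecomp b N1 N2 l) {n1 n1' n2 n2' : V} (h1 : n1 ∈ N1) (h1' : n1' ∈ N1)
    (h2 : n2 ∈ N2) (h2' : n2' ∈ N2) (heq : n1 * n2 = n1' * n2') : n1 = n1' ∧ n2 = n2' := by
  have e : n1'⁻¹ * n1 = n2' * n2⁻¹ := by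
    have : n1 = n1' * n2' * n2⁻¹ := by rw [← heq]; group
    rw [this]; group
  have hm1 : n1'⁻¹ * n1 ∈ N1 := N1.mul_mem (N1.inv_mem h1') h1
  have hm2 : n1'⁻¹ * n1 ∈ N2 := by rw [e]; exact N2.mul_mem h2' (N2.inv_mem h2)
  have hone := h.disj _ hm1 hm2
  constructor
  · have := congrArg (fun t => n1' * t) hone
    simpa using this
  · rw [e] at hone
    have := congrArg (fun t => t * n2) hone
    simpa using this.symm

omit [Finite V] in
theorem map2 (h : QDecomp b N1 N2 l) {v : V} (hv : v ∈ N2) : b v ∈ N2 := by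
  rw [h.pow2 v hv]; exact N2.pow_mem hv l

omit [Finite V] in
theorem ne_fix2 (h : QDecomp b N1 N2 l) {v : V} (hv : v ∈ N2) (hv1 : v ≠ 1) : b v ≠ v := by
  intro hfix
  exact hv1 (h.disj v ((h.fix1 v).mpr hfix) hv)

omit [Finite V] in
theorem mem1_iff_map (h : QDecomp b N1 N2 l) (v : V) : b v ∈ N1 ↔ v ∈ N1 := by
  constructor
  · intro hb
    obtain ⟨n1, h1, n2, h2, rfl⟩ := h.span v
    rw [map_mul, (h.fix1 n1).mp h1] at hb
    have h3 : b n2 ∈ N1 := by
      have : b n2 = n1⁻¹ * (n1 * b n2) := by group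
      rw [this]; exact N1.mul_mem (N1.inv_mem h1) hb
    have h4 : b n2 = 1 := h.disj _ h3 (h.map2 h2)
    have h5 : n2 = 1 := by
      have := congrArg (fun t => b⁻¹ t) h4
      simpa using this
    rw [h5, mul_one]; exact h1
  · intro hv
    rw [(h.fix1 v).mp hv]; exact hv

omit [Finite V] in
theorem mem2_iff_map (h : QDecomp b N1 N2 l) (v : V) : b v ∈ N2 ↔ v ∈ N2 := by
  constructor
  · intro hb
    obtain ⟨n1, h1, n2, h2, rfl⟩ := h.span v
    rw [map_mul, (h.fix1 n1).mp h1] at hb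
    have h3 : n1 ∈ N2 := by
      have : n1 = (n1 * b n2) * (b n2)⁻¹ := by group
      rw [this]; exact N2.mul_mem hb (N2.inv_mem (h.map2 h2))
    have h4 : n1 = 1 := h.disj _ h1 h3
    rw [h4, one_mul]; exact h2
  · intro hv
    exact h.map2 hv

omit [Finite V] in
theorem pow_fix1 (h : QDecomp b N1 N2 l) {v : V} (hv : v ∈ N1) (i : ℕ) : (b ^ i) v = v := by
  induction i with
  | zero => simp
  | succ i ih => rw [pow_succ, MulAut.mul_apply, (h.fix1 v).mp hv, ih]

omit [Finite V] in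
theorem pow_pow2 (h : QDecomp b N1 N2 l) {v : V} (hv : v ∈ N2) (i : ℕ) :
    (b ^ i) v = v ^ l ^ i := by
  induction i with
  | zero => simp
  | succ i ih =>
    rw [pow_succ, MulAut.mul_apply, h.pow2 v hv, map_pow, ih, ← pow_mul, pow_succ, mul_comm]

omit [Finite V] in
theorem ne_top1 (h : QDecomp b N1 N2 l) : N1 ≠ ⊤ := by
  intro htop
  obtain ⟨v, hv, hv1⟩ := h.ne2
  exact hv1 (h.disj v (htop ▸ Subgroup.mem_top v) hv)

end QDecomp

/-- The fixed points of an automorphism. -/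
def fixSub (φ : MulAut V) : Subgroup V where
  carrier := {v | φ v = v}
  one_mem' := map_one φ
  mul_mem' := by
    intro a c ha hc
    show φ (a * c) = a * c
    rw [map_mul, ha, hc]
  inv_mem' := by
    intro a ha
    show φ a⁻¹ = a⁻¹
    rw [map_inv, ha]

omit [Finite V] in
theorem mem_fixSub {φ : MulAut V} {v : V} : v ∈ fixSub φ ↔ φ v = v := Iff.rfl

omit [Finite V] in
/-- An automorphism acting on `N1` and `N2` by power maps has fixed point subgroup `⊤`, `N1`, `N2`
or `⊥`. -/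
theorem fixSub_cases (hexp : ∀ v : V, v ^ r = 1) {b : MulAut V} {N1 N2 : Subgroup V} {l : ℕ}
    (h : QDecomp b N1 N2 l) (β : MulAut V) (k1 k2 : ℕ) (h1 : ∀ n ∈ N1, β n = n ^ k1)
    (h2 : ∀ n ∈ N2, β n = n ^ k2) :
    fixSub β = ⊤ ∨ fixSub β = N1 ∨ fixSub β = N2 ∨ fixSub β = ⊥ := by
  have hsplit : ∀ n1 ∈ N1, ∀ n2 ∈ N2, β (n1 * n2) = n1 * n2 → β n1 = n1 ∧ β n2 = n2 := by
    intro n1 hn1 n2 hn2 hfix
    rw [map_mul] at hfix
    have hm1 : β n1 ∈ N1 := by rw [h1 n1 hn1]; exact N1.pow_mem hn1 _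
    have hm2 : β n2 ∈ N2 := by rw [h2 n2 hn2]; exact N2.pow_mem hn2 _
    exact h.unique hm1 hn1 hm2 hn2 hfix
  by_cases c1 : ∃ n ∈ N1, n ≠ 1 ∧ β n = n
  · obtain ⟨w1, hw1, hw11, hw1f⟩ := c1
    have f1 := fixes_of_pow_map_of_fixes_one hexp N1 β.toMonoidHom k1 h1 hw1 hw11 hw1f
    by_cases c2 : ∃ n ∈ N2, n ≠ 1 ∧ β n = n
    · obtain ⟨w2, hw2, hw21, hw2f⟩ := c2
      have f2 := fixes_of_pow_map_of_fixes_one hexp N2 β.toMonoidHom k2 h2 hw2 hw21 hw2f
      left
      rw [eq_top_iff]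
      intro v _
      obtain ⟨n1, hn1, n2, hn2, rfl⟩ := h.span v
      show β (n1 * n2) = n1 * n2
      rw [map_mul]
      have e1 : β n1 = n1 := f1 n1 hn1
      have e2 : β n2 = n2 := f2 n2 hn2
      rw [e1, e2]
    · right; left
      ext v
      constructor
      · intro hv
        obtain ⟨n1, hn1, n2, hn2, rfl⟩ := h.span v
        have := (hsplit n1 hn1 n2 hn2 hv).2
        have hn21 : n2 = 1 := by
          by_contra hne
          exact c2 ⟨n2, hn2, hne, this⟩
        rw [hn21, mul_one]; exact hn1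
      · intro hv
        exact f1 v hv
  · by_cases c2 : ∃ n ∈ N2, n ≠ 1 ∧ β n = n
    · obtain ⟨w2, hw2, hw21, hw2f⟩ := c2
      have f2 := fixes_of_pow_map_of_fixes_one hexp N2 β.toMonoidHom k2 h2 hw2 hw21 hw2f
      right; right; left
      ext v
      constructor
      · intro hv
        obtain ⟨n1, hn1, n2, hn2, rfl⟩ := h.span v
        have := (hsplit n1 hn1 n2 hn2 hv).1
        have hn11 : n1 = 1 := by
          by_contra hne
          exact c1 ⟨n1, hn1, hne, this⟩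
        rw [hn11, one_mul]; exact hn2
      · intro hv
        exact f2 v hv
    · right; right; right
      rw [eq_bot_iff]
      intro v hv
      obtain ⟨n1, hn1, n2, hn2, rfl⟩ := h.span v
      have hs := hsplit n1 hn1 n2 hn2 hv
      have hn11 : n1 = 1 := by
        by_contra hne
        exact c1 ⟨n1, hn1, hne, hs.1⟩
      have hn21 : n2 = 1 := by
        by_contra hne
        exact c2 ⟨n2, hn2, hne, hs.2⟩
      rw [hn11, hn21, mul_one]
      exact Subgroup.mem_bot.mpr rfl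

/-- A non-scalar automorphism of `s`-power order (`s ≠ r`) which is a power map on `[V, b]`
gives a decomposition of `V`. -/
theorem exists_qDecomp (hexp : ∀ v : V, v ^ r = 1) (b : MulAut V) {s e : ℕ} (hs : s.Prime)
    (hsr : s ≠ r) (hord : orderOf b = s ^ e)
    (hqr : ∀ v : V, b (b v / v) ∈ Subgroup.zpowers (b v / v)) (hns : b ∉ scalarAut V) :
    ∃ (N1 N2 : Subgroup V) (l : ℕ), QDecomp b N1 N2 l := by
  set δ : V →* V := b.toMonoidHom / MonoidHom.id V with hδ
  have hδa : ∀ v, δ v = b v / v := fun v => rfl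
  have hker : ∀ v, v ∈ δ.ker ↔ b v = v := by
    intro v
    rw [MonoidHom.mem_ker, hδa, div_eq_one]
  obtain ⟨l, hl⟩ := exists_pow_of_forall_mem_zpowers hexp δ.range b.toMonoidHom (by
    rintro c ⟨v, rfl⟩
    exact hqr v)
  have hdisj : ∀ c, c ∈ δ.ker → c ∈ δ.range → c = 1 := by
    rintro c hc1 ⟨v, rfl⟩
    rw [hker] at hc1
    have hpow : ∀ i : ℕ, (b ^ i) v = v * (δ v) ^ i := by
      intro i
      induction i with
      | zero => simp
      | succ i ih =>
        rw [pow_succ', MulAut.mul_apply, ih, map_mul, map_pow, hc1, pow_succ]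
        have : b v = δ v * v := by rw [hδa]; simp
        rw [this]
        rw [mul_comm (δ v) v, mul_assoc, mul_comm (δ v)]
    have h1 := hpow (orderOf b)
    rw [pow_orderOf_eq_one, MulAut.one_apply] at h1
    have h2 : (δ v) ^ s ^ e = 1 := by
      rw [← hord]
      have := congrArg (fun t => v⁻¹ * t) h1
      simpa using this.symm
    have h3 : orderOf (δ v) ∣ s ^ e := orderOf_dvd_of_pow_eq_one h2
    have h4 : orderOf (δ v) ∣ r := orderOf_dvd_of_pow_eq_one (hexp _)
    have hcop : (s ^ e).Coprime r := Nat.Coprime.pow_left e ((Nat.coprime_primes hs hr.out).mpr hsr)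
    have h5 : orderOf (δ v) = 1 := Nat.eq_one_of_dvd_coprimes hcop h3 h4
    exact orderOf_eq_one_iff.mp h5
  have hspan : ∀ v, ∃ n1 ∈ δ.ker, ∃ n2 ∈ δ.range, v = n1 * n2 := by
    let f : δ.range → δ.range := fun c => ⟨δ c, ⟨c, rfl⟩⟩
    have hinj : Function.Injective f := by
      intro c c' hcc
      have h1 : δ (c : V) = δ (c' : V) := congrArg Subtype.val hcc
      have h2 : δ ((c : V) / (c' : V)) = 1 := by rw [map_div, h1, div_self']
      have h3 := hdisj _ (MonoidHom.mem_ker.mpr h2) (Subgroup.div_mem _ c.2 c'.2)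
      exact Subtype.ext (div_eq_one.mp h3)
    have hsurj : Function.Surjective f := Finite.injective_iff_surjective.mp hinj
    intro v
    obtain ⟨c, hc⟩ := hsurj ⟨δ v, ⟨v, rfl⟩⟩
    have h1 : δ (c : V) = δ v := congrArg Subtype.val hc
    refine ⟨v / c, ?_, c, c.2, by simp⟩
    rw [MonoidHom.mem_ker, map_div, h1, div_self']
  refine ⟨δ.ker, δ.range, l, hker, hl, hdisj, hspan, ?_, ?_⟩
  · by_contra hcon
    push Not at hcon
    apply hns
    refine ⟨l, fun v => ?_⟩
    obtain ⟨n1, hn1, n2, hn2, rfl⟩ := hspan v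
    have := hcon n1 hn1
    rw [this, one_mul]
    exact hl n2 hn2
  · by_contra hcon
    push Not at hcon
    apply hns
    refine ⟨1, fun v => ?_⟩
    have h1 : δ v = 1 := hcon (δ v) ⟨v, rfl⟩
    rw [hδa, div_eq_one] at h1
    rw [h1, pow_one]

end Cfsg.Agent.Lib.Helper9
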