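import Mathlib
import Cfsg.Agent.Lib.Helper9.QRefl2

/-!
Quasi-reflections on an elementary abelian `r`-group, part 3: automorphisms swapping the two
blocks lead to a contradiction.
-/

set_option autoImplicit false

namespace Cfsg.Agent.Lib.Helper9

variable {V : Type*} [CommGroup V] [Finite V] {r : ℕ} [hr : Fact r.Prime]

/-- `g` preserves both `N1` and `N2`. -/
def Pres (N1 N2 : Subgroup V) (g : MulAut V) : Prop :=
  (∀ v, v ∈ N1 ↔ g v ∈ N1) ∧ (∀ v, v ∈ N2 ↔ g v ∈ N2)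

/-- `y` swaps `N1` and `N2`. -/
def Swaps (N1 N2 : Subgroup V) (y : MulAut V) : Prop :=
  (∀ v, v ∈ N1 ↔ y v ∈ N2) ∧ (∀ v, v ∈ N2 ↔ y v ∈ N1)

section
variable {N1 N2 : Subgroup V}

omit [Finite V] in
theorem Pres.one : Pres N1 N2 1 := ⟨fun _ => Iff.rfl, fun _ => Iff.rfl⟩

omit [Finite V] in
theorem Pres.mul {g g' : MulAut V} (h : Pres N1 N2 g) (h' : Pres N1 N2 g') :
    Pres N1 N2 (g * g') :=
  ⟨fun v => (h'.1 v).trans (h.1 (g' v)), fun v => (h'.2 v).trans (h.2 (g' v))⟩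

omit [Finite V] in
theorem Pres.pow {g : MulAut V} (h : Pres N1 N2 g) (n : ℕ) : Pres N1 N2 (g ^ n) := by
  induction n with
  | zero => rw [pow_zero]; exact Pres.one
  | succ n ih => rw [pow_succ]; exact ih.mul h

omit [Finite V] in
theorem Swaps.mul_self {y y' : MulAut V} (h : Swaps N1 N2 y) (h' : Swaps N1 N2 y') :
    Pres N1 N2 (y * y') :=
  ⟨fun v => (h'.1 v).trans (h.2 (y' v)), fun v => (h'.2 v).trans (h.1 (y' v))⟩

omit [Finite V] in
theorem Pres.mul_swaps {g y : MulAut V} (h : Pres N1 N2 g) (h' : Swaps N1 N2 y) :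
    Swaps N1 N2 (g * y) :=
  ⟨fun v => (h'.1 v).trans (h.2 (y v)), fun v => (h'.2 v).trans (h.1 (y v))⟩

omit [Finite V] in
theorem Swaps.pow_odd {y : MulAut V} (h : Swaps N1 N2 y) {m : ℕ} (hm : Odd m) :
    Swaps N1 N2 (y ^ m) := by
  obtain ⟨j, rfl⟩ := hm
  have : y ^ (2 * j + 1) = (y * y) ^ j * y := by
    rw [pow_succ, pow_mul, pow_two]
  rw [this]
  exact ((h.mul_self h).pow j).mul_swaps h

end

/-- Some odd power of any element of a finite group has `2`-power order. -/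
theorem exists_odd_pow_two_pow_order {A : Type*} [Group A] [Finite A] (y : A) :
    ∃ m : ℕ, Odd m ∧ ∃ c : ℕ, orderOf (y ^ m) = 2 ^ c := by
  obtain ⟨c, m, hm, hn⟩ := Nat.exists_eq_pow_mul_and_not_dvd (orderOf_pos y).ne' 2 (by norm_num)
  refine ⟨m, Nat.odd_iff.mpr (by omega), ?_⟩
  have h1 : (y ^ m) ^ 2 ^ c = 1 := by
    rw [← pow_mul, mul_comm, ← hn, pow_orderOf_eq_one]
  obtain ⟨c', _, hc'⟩ := (Nat.dvd_prime_pow Nat.prime_two).mp (orderOf_dvd_of_pow_eq_one h1)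
  exact ⟨c', hc'⟩

omit [Finite V] in
theorem sq_fix_of_swaps_aux (hexp : ∀ v : V, v ^ r = 1) {N1 N2 : Subgroup V}
    (hdisj : ∀ v, v ∈ N1 → v ∈ N2 → v = 1) (y : MulAut V) (h12 : ∀ v ∈ N1, y v ∈ N2)
    (h21 : ∀ v ∈ N2, y v ∈ N1)
    (hqr : ∀ v : V, ∃ k : ℕ, y (y v / v) = (y v / v) ^ k) : ∀ n ∈ N1, y (y n) = n := by
  intro n hn
  by_cases hn1 : n = 1
  · rw [hn1, map_one, map_one]
  obtain ⟨k, hk⟩ := hqr n
  rw [map_div, div_pow] at hk
  -- y (y n) / y n = (y n)^k / n^k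
  have e : y (y n) * n ^ k = (y n) ^ (k + 1) := by
    rw [div_eq_div_iff_mul_eq_mul] at hk
    rw [hk, pow_succ, mul_comm]
  have hm1 : y (y n) * n ^ k ∈ N1 := N1.mul_mem (h21 _ (h12 n hn)) (N1.pow_mem hn k)
  have hm2 : y (y n) * n ^ k ∈ N2 := by rw [e]; exact N2.pow_mem (h12 n hn) _
  have hone := hdisj _ hm1 hm2
  have hyn1 : y n ≠ 1 := by
    intro h
    apply hn1
    have := congrArg (fun t => y⁻¹ t) h
    simpa using this
  have hpow : (y n) ^ (k + 1) = (y n) ^ 0 := by rw [← e, hone, pow_zero]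
  have hmod := modEq_of_pow_eq_pow hexp hyn1 hpow
  have hnk : n ^ (k + 1) = 1 := by
    rw [pow_eq_pow_of_modEq_prime hexp hmod n, pow_zero]
  have : y (y n) = (n ^ k)⁻¹ := eq_inv_of_mul_eq_one_left hone
  rw [this, inv_eq_iff_eq_inv, eq_comm, inv_eq_iff_mul_eq_one, ← pow_succ']
  rw [pow_succ] at hnk
  rw [pow_succ']
  rw [mul_comm] at hnk
  exact hnk

omit [Finite V] in
/-- A swapping automorphism which is a power map on `[V, y]` is an involution. -/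
theorem sq_eq_one_of_swaps (hexp : ∀ v : V, v ^ r = 1) {b : MulAut V} {N1 N2 : Subgroup V} {l : ℕ}
    (h : QDecomp b N1 N2 l) (y : MulAut V) (hy : Swaps N1 N2 y)
    (hqr : ∀ v : V, ∃ k : ℕ, y (y v / v) = (y v / v) ^ k) : y * y = 1 := by
  have f1 := sq_fix_of_swaps_aux hexp h.disj y (fun v hv => (hy.1 v).mp hv)
    (fun v hv => (hy.2 v).mp hv) hqr
  have f2 := sq_fix_of_swaps_aux hexp (fun v h2 h1 => h.disj v h1 h2) y
    (fun v hv => (hy.2 v).mp hv) (fun v hv => (hy.1 v).mp hv) hqr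
  ext v
  obtain ⟨n1, hn1, n2, hn2, rfl⟩ := h.span v
  rw [MulAut.mul_apply, map_mul, map_mul, f1 n1 hn1, f2 n2 hn2]
  rfl

section Conj

variable {b : MulAut V} {N1 N2 : Subgroup V} {l : ℕ}

omit [Finite V] in
theorem conj_fix2 (h : QDecomp b N1 N2 l) {y : MulAut V} (hy : Swaps N1 N2 y) {n : V}
    (hn : n ∈ N2) : (y * b * y⁻¹) n = n := by
  have h1 : y⁻¹ n ∈ N1 := by
    rw [hy.1, MulAut.apply_inv_self]; exact hn
  rw [MulAut.mul_apply, MulAut.mul_apply, (h.fix1 _).mp h1, MulAut.apply_inv_self]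

omit [Finite V] in
theorem conj_pow1 (h : QDecomp b N1 N2 l) {y : MulAut V} (hy : Swaps N1 N2 y) {n : V}
    (hn : n ∈ N1) : (y * b * y⁻¹) n = n ^ l := by
  have h1 : y⁻¹ n ∈ N2 := by
    rw [hy.2, MulAut.apply_inv_self]; exact hn
  rw [MulAut.mul_apply, MulAut.mul_apply, h.pow2 _ h1, map_pow, MulAut.apply_inv_self]

omit [Finite V] in
theorem conj_ne_fix1 (h : QDecomp b N1 N2 l) {y : MulAut V} (hy : Swaps N1 N2 y) {n : V}
    (hn : n ∈ N1) (hn1 : n ≠ 1) : (y * b * y⁻¹) n ≠ n := by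
  have h1 : y⁻¹ n ∈ N2 := by
    rw [hy.2, MulAut.apply_inv_self]; exact hn
  have h2 : y⁻¹ n ≠ 1 := by
    intro h0
    apply hn1
    have := congrArg (fun t => y t) h0
    simpa using this
  intro hfix
  apply h.ne_fix2 h1 h2
  rw [MulAut.mul_apply, MulAut.mul_apply] at hfix
  have := congrArg (fun t => y⁻¹ t) hfix
  simpa using this

end Conj

omit [Finite V] in
/-- The case of odd `s`. -/
theorem false_of_swaps_odd (hexp : ∀ v : V, v ^ r = 1) {b : MulAut V} {N1 N2 : Subgroup V} {l : ℕ}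
    (h : QDecomp b N1 N2 l) {s a : ℕ} (hs : s.Prime) (hs2 : s ≠ 2) (hord : orderOf b = s ^ a)
    (y : MulAut V) (hy : Swaps N1 N2 y)
    (hqr : ∀ v : V, ∃ k : ℕ, (b * (y * b * y⁻¹) * (y * b * y⁻¹)) ((b * (y * b * y⁻¹) * (y * b * y⁻¹)) v / v) =
      ((b * (y * b * y⁻¹) * (y * b * y⁻¹)) v / v) ^ k) : False := by
  set b' := y * b * y⁻¹ with hb'
  set e := b * b' * b' with he
  have hb'2 : ∀ n ∈ N2, b' n = n := fun n hn => conj_fix2 h hy hn
  have hb'1 : ∀ n ∈ N1, b' n = n ^ l := fun n hn => conj_pow1 h hy hn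
  have he1 : ∀ n ∈ N1, e n = n ^ (l * l) := by
    intro n hn
    rw [he, MulAut.mul_apply, MulAut.mul_apply, hb'1 n hn, hb'1 _ (N1.pow_mem hn l),
      (h.fix1 _).mp (N1.pow_mem (N1.pow_mem hn l) l), ← pow_mul]
  have he2 : ∀ n ∈ N2, e n = n ^ l := by
    intro n hn
    rw [he, MulAut.mul_apply, MulAut.mul_apply, hb'2 n hn, hb'2 n hn, h.pow2 n hn]
  obtain ⟨n1, hn1, hn11⟩ := h.ne1
  obtain ⟨n2, hn2, hn21⟩ := h.ne2
  -- b' has odd order
  have hb'pow : b' ^ s ^ a = 1 := by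
    rw [hb', conj_pow, ← hord, pow_orderOf_eq_one]; group
  have hodd : Odd (s ^ a) := Odd.pow (hs.odd_of_ne_two hs2)
  have hc1 : e n1 / n1 ≠ 1 := by
    intro h0
    rw [div_eq_one, he1 n1 hn1] at h0
    have h1 : (b' * b') n1 = n1 := by
      rw [MulAut.mul_apply, hb'1 n1 hn1, hb'1 _ (N1.pow_mem hn1 l), ← pow_mul]; exact h0
    obtain ⟨m, hm⟩ := hodd
    have h2 : b' = (b' * b') ^ (m + 1) := by
      rw [← pow_two, ← pow_mul]
      have : 2 * (m + 1) = s ^ a + 1 := by omega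
      rw [this, pow_succ, hb'pow, one_mul]
    have h3 : ∀ i : ℕ, ((b' * b') ^ i) n1 = n1 := by
      intro i
      induction i with
      | zero => simp
      | succ i ih => rw [pow_succ, MulAut.mul_apply, h1, ih]
    have h4 : b' n1 = n1 := by
      have := h3 (m + 1)
      rw [← h2] at this
      exact this
    exact conj_ne_fix1 h hy hn1 hn11 h4
  have hc2 : e n2 / n2 ≠ 1 := by
    intro h0
    rw [div_eq_one, he2 n2 hn2, ← h.pow2 n2 hn2] at h0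
    exact h.ne_fix2 hn2 hn21 h0
  have hc1m : e n1 / n1 ∈ N1 := by
    rw [he1 n1 hn1]; exact N1.div_mem (N1.pow_mem hn1 _) hn1
  have hc2m : e n2 / n2 ∈ N2 := by
    rw [he2 n2 hn2]; exact N2.div_mem (N2.pow_mem hn2 _) hn2
  obtain ⟨k, hk⟩ := hqr (n1 * n2)
  have hsplit : e (n1 * n2) / (n1 * n2) = (e n1 / n1) * (e n2 / n2) := by
    rw [map_mul, mul_div_mul_comm]
  rw [hsplit, map_mul, mul_pow, he1 _ hc1m, he2 _ hc2m] at hk
  have hu := h.unique (N1.pow_mem hc1m _) (N1.pow_mem hc1m _) (N2.pow_mem hc2m _)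
    (N2.pow_mem hc2m _) hk
  have m1 := modEq_of_pow_eq_pow hexp hc1 hu.1
  have m2 := modEq_of_pow_eq_pow hexp hc2 hu.2
  have m3 : l * l ≡ l [MOD r] := m1.trans m2.symm
  have h5 : b (b n2) = b n2 := by
    rw [h.pow2 n2 hn2, h.pow2 _ (N2.pow_mem hn2 l), ← pow_mul]
    exact pow_eq_pow_of_modEq_prime hexp m3 n2
  have h6 : b n2 = 1 := h.disj _ ((h.fix1 _).mpr h5) (h.map2 hn2)
  apply hn21
  have := congrArg (fun t => b⁻¹ t) h6
  simpa using this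

/-- The case `s = 2`. -/
theorem false_of_swaps_two (hexp : ∀ v : V, v ^ r = 1) {b : MulAut V} {N1 N2 : Subgroup V} {l : ℕ}
    (h : QDecomp b N1 N2 l) {a : ℕ} (hord : orderOf b = 2 ^ a) (M : Subgroup (MulAut V))
    (hbM : b ∈ M) (y : MulAut V) (hyM : y ∈ M) (hy : Swaps N1 N2 y)
    (hqr : ∀ u ∈ M, (∃ c : ℕ, orderOf u = 2 ^ c) → ∀ v : V, ∃ k : ℕ, u (u v / v) = (u v / v) ^ k)
    (hcomm : ∀ g ∈ M, b * (g * b * g⁻¹) = (g * b * g⁻¹) * b) : False := by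
  obtain ⟨m, hm, c, hc⟩ := exists_odd_pow_two_pow_order y
  set y' := y ^ m with hy'
  have hy'S : Swaps N1 N2 y' := hy.pow_odd hm
  have hy'M : y' ∈ M := M.pow_mem hyM m
  have hsq : y' * y' = 1 := sq_eq_one_of_swaps hexp h y' hy'S (hqr y' hy'M ⟨c, hc⟩)
  have hinv : y'⁻¹ = y' := inv_eq_of_mul_eq_one_right hsq
  set u := b * y' with hu
  have hbP : Pres N1 N2 b :=
    ⟨fun v => (h.mem1_iff_map v).symm, fun v => (h.mem2_iff_map v).symm⟩
  have huS : Swaps N1 N2 u := hbP.mul_swaps hy'S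
  have huM : u ∈ M := M.mul_mem hbM hy'M
  obtain ⟨m', hm', c', hc'⟩ := exists_odd_pow_two_pow_order u
  have hu'S : Swaps N1 N2 (u ^ m') := huS.pow_odd hm'
  have hsq' : u ^ m' * u ^ m' = 1 :=
    sq_eq_one_of_swaps hexp h _ hu'S (hqr _ (M.pow_mem huM m') ⟨c', hc'⟩)
  set ψ := b * (y' * b * y'⁻¹) with hψ
  have huu : u * u = ψ := by
    rw [hψ, hinv, hu]; group
  have hψ1 : ψ ^ m' = 1 := by
    rw [← huu, ← pow_two, ← pow_mul, mul_comm, pow_mul, pow_two]; exact hsq'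
  have hψ2 : ψ ^ 2 ^ a = 1 := by
    have hc : Commute b (y' * b * y'⁻¹) := hcomm y' hy'M
    rw [hψ, hc.mul_pow, conj_pow, ← hord, pow_orderOf_eq_one]; group
  have hψ : ψ = 1 := by
    have h1 : orderOf ψ ∣ m' := orderOf_dvd_of_pow_eq_one hψ1
    have h2 : orderOf ψ ∣ 2 ^ a := orderOf_dvd_of_pow_eq_one hψ2
    have hcop : (2 ^ a).Coprime m' :=
      Nat.Coprime.pow_left a (Nat.coprime_two_left.mpr hm')
    exact orderOf_eq_one_iff.mp (Nat.eq_one_of_dvd_coprimes hcop h2 h1)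
  obtain ⟨n2, hn2, hn21⟩ := h.ne2
  apply h.ne_fix2 hn2 hn21
  have h3 : ψ n2 = b n2 := by
    show (b * (y' * b * y'⁻¹)) n2 = b n2
    rw [MulAut.mul_apply, conj_fix2 h hy'S hn2]
  rw [← h3, hψ]; rfl

/-- The block dichotomy. -/
theorem block_dichotomy (hexp : ∀ v : V, v ^ r = 1) {b : MulAut V} {N1 N2 : Subgroup V} {l : ℕ}
    (h : QDecomp b N1 N2 l) (g : MulAut V)
    (hdec : ∃ i : ℕ, ∃ z ∈ scalarAut V, g * b * g⁻¹ = b ^ i * z) :
    (∀ v, v ∈ N1 ↔ g v ∈ N1) ∨ (∀ v, v ∈ N1 ↔ g v ∈ N2) := by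
  obtain ⟨i, z, ⟨k, hk⟩, hβ⟩ := hdec
  have h1 : ∀ n ∈ N1, (g * b * g⁻¹) n = n ^ k := by
    intro n hn
    rw [hβ, MulAut.mul_apply, hk, map_pow, h.pow_fix1 hn]
  have h2 : ∀ n ∈ N2, (g * b * g⁻¹) n = n ^ (l ^ i * k) := by
    intro n hn
    rw [hβ, MulAut.mul_apply, hk, map_pow, h.pow_pow2 hn, ← pow_mul]
  have hfix : ∀ v, g v ∈ fixSub (g * b * g⁻¹) ↔ v ∈ N1 := by
    intro v
    rw [mem_fixSub, MulAut.mul_apply, MulAut.mul_apply, MulAut.inv_apply_self, h.fix1]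
    exact (MulEquiv.apply_eq_iff_eq g)
  rcases fixSub_cases hexp h (g * b * g⁻¹) k (l ^ i * k) h1 h2 with hc | hc | hc | hc
  · exfalso
    apply h.ne_top1
    rw [eq_top_iff]
    intro v _
    rw [← hfix, hc]; exact Subgroup.mem_top _
  · left
    intro v
    rw [← hfix, hc]
  · right
    intro v
    rw [← hfix, hc]
  · exfalso
    obtain ⟨n1, hn1, hn11⟩ := h.ne1
    apply hn11
    have := (hfix n1).mpr hn1
    rw [hc, Subgroup.mem_bot] at this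
    have h3 := congrArg (fun t => g⁻¹ t) this
    simpa using h3

end Cfsg.Agent.Lib.Helper9
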