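import Mathlib
import Cfsg.Agent.Lib.Helper9.QRefl3

/-!
Quasi-reflections on an elementary abelian `r`-group, part 4: the main theorem.
-/

set_option autoImplicit false

namespace Cfsg.Agent.Lib.Helper9

variable {V : Type*} [CommGroup V] [Finite V] {r : ℕ} [hr : Fact r.Prime]

/-- Excluding `s = r`: an `r`-element of `B` acts trivially. -/
theorem false_of_r_element (hexp : ∀ v : V, v ^ r = 1) [Nontrivial V] (M : Subgroup (MulAut V))
    (hirr : ∀ W : Subgroup V, (∀ φ ∈ M, ∀ w ∈ W, φ w ∈ W) → W = ⊥ ∨ W = ⊤)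
    (B : Subgroup (MulAut V)) (hBn : ∀ m ∈ M, ∀ b ∈ B, m * b * m⁻¹ ∈ B) (b : MulAut V)
    (hbB : b ∈ B) (hbS : b ∉ scalarAut V) {e : ℕ} (hord : orderOf b = r ^ e)
    (hbr : b ^ r ∈ scalarAut V)
    (hdec : ∀ b2 ∈ B, ∃ i : ℕ, ∃ z ∈ scalarAut V, b2 = b ^ i * z) : False := by
  have hbr1 : b ^ r = 1 := by
    apply eq_one_of_mem_scalarAut_of_pow hexp hbr e
    rw [← pow_mul, mul_comm, pow_mul, ← hord, pow_orderOf_eq_one, one_pow]
  -- fixed points
  have hF1 : fixSub b ≠ ⊥ := by
    have hP : IsPGroup r (Subgroup.zpowers b) := by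
      apply IsPGroup.of_card (n := e)
      rw [Nat.card_zpowers, hord]
    have hdvd : r ∣ Nat.card V := by
      obtain ⟨v, hv⟩ := exists_ne (1 : V)
      rw [← orderOf_eq_prime (hexp v) hv]
      exact orderOf_dvd_natCard v
    have h1 : (1 : V) ∈ MulAction.fixedPoints (Subgroup.zpowers b) V := by
      intro g
      show (g : MulAut V) (1 : V) = 1
      exact map_one _
    obtain ⟨w, hw, hne⟩ := hP.exists_fixed_point_of_prime_dvd_card_of_fixed_point V hdvd h1
    intro hbot
    apply hne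
    have h2 : w ∈ fixSub b := by
      have := hw ⟨b, Subgroup.mem_zpowers b⟩
      exact this
    rw [hbot, Subgroup.mem_bot] at h2
    exact h2.symm
  have hFinv : ∀ φ ∈ M, ∀ w ∈ fixSub b, φ w ∈ fixSub b := by
    intro φ hφ w hw
    obtain ⟨i, z, hz, hβ⟩ := hdec _ (hBn φ⁻¹ (M.inv_mem hφ) b hbB)
    have hcz : Commute (b ^ i) z := (commute_of_mem_scalarAut hz (b ^ i)).symm
    have hzr : z ^ r = 1 := by
      have h1 : (φ⁻¹ * b * φ⁻¹⁻¹) ^ r = 1 := by rw [conj_pow, hbr1]; group
      rw [hβ, hcz.mul_pow, ← pow_mul, mul_comm, pow_mul, hbr1, one_pow, one_mul] at h1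
      exact h1
    have hz1 : z = 1 := eq_one_of_mem_scalarAut_of_pow hexp hz 1 (by rw [pow_one]; exact hzr)
    rw [hz1, mul_one] at hβ
    have hbw : ∀ j : ℕ, (b ^ j) w = w := by
      intro j
      induction j with
      | zero => simp
      | succ j ih => rw [pow_succ, MulAut.mul_apply, mem_fixSub.mp hw, ih]
    rw [mem_fixSub]
    have h2 : b * φ = φ * (b ^ i) := by rw [← hβ]; group
    calc b (φ w) = (b * φ) w := rfl
      _ = (φ * b ^ i) w := by rw [h2]
      _ = φ ((b ^ i) w) := rfl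
      _ = φ w := by rw [hbw]
  rcases hirr (fixSub b) hFinv with h0 | h0
  · exact hF1 h0
  · apply hbS
    have : b = 1 := by
      ext v
      have : v ∈ fixSub b := by rw [h0]; exact Subgroup.mem_top v
      exact this
    rw [this]; exact Subgroup.one_mem _

/-- **Main theorem on quasi-reflections.** A supersolvable group `M` of automorphisms of a nontrivial
elementary abelian `r`-group `V`, acting irreducibly, such that every element `φ` of prime power
order `t ^ a` with `t ≠ r` is a power map on `[V, φ]`, can only exist if `|V| = r`. -/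
theorem card_eq_prime_of_irreducible_of_quasiRefl (hexp : ∀ v : V, v ^ r = 1) [Nontrivial V]
    (M : Subgroup (MulAut V)) (hM : Cfsg.IsSupersolvable M)
    (hirr : ∀ W : Subgroup V, (∀ φ ∈ M, ∀ w ∈ W, φ w ∈ W) → W = ⊥ ∨ W = ⊤)
    (hQR : ∀ φ ∈ M, ∀ t : ℕ, t.Prime → t ≠ r → (∃ a : ℕ, orderOf φ = t ^ a) →
      ∀ v : V, φ (φ v / v) ∈ Subgroup.zpowers (φ v / v)) :
    Nat.card V = r := by
  by_cases hMZ : M ≤ scalarAut V
  · obtain ⟨v, hv⟩ := exists_ne (1 : V)
    have hinv : ∀ φ ∈ M, ∀ w ∈ Subgroup.zpowers v, φ w ∈ Subgroup.zpowers v := by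
      intro φ hφ w hw
      obtain ⟨k, hk⟩ := hMZ hφ
      rw [hk]; exact Subgroup.pow_mem _ hw k
    rcases hirr _ hinv with h0 | h0
    · exfalso
      apply hv
      have : v ∈ Subgroup.zpowers v := Subgroup.mem_zpowers v
      rw [h0, Subgroup.mem_bot] at this
      exact this
    · rw [← Subgroup.card_top (G := V), ← h0, Nat.card_zpowers, orderOf_eq_prime (hexp v) hv]
  · exfalso
    set Z : Subgroup (MulAut V) := M ⊓ scalarAut V with hZ
    have hZn : ∀ m ∈ M, ∀ z ∈ Z, m * z * m⁻¹ ∈ Z := by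
      intro m _ z hz
      have : m * z * m⁻¹ = z := by
        rw [← commute_of_mem_scalarAut hz.2 m]; group
      rw [this]; exact hz
    have hne : ¬ M ≤ Z := fun h => hMZ (h.trans inf_le_right)
    obtain ⟨B, s, hZB, hBM, hBn, hs, hpow, ⟨b0, hb0B, hb0Z⟩, hdec⟩ :=
      exists_prime_over M Z hM inf_le_left hZn hne
    obtain ⟨b, hbB, hbZ, e, hord⟩ :=
      exists_prime_pow_order_not_mem_of_pow_mem B Z hs hpow hb0B hb0Z
    have hbM : b ∈ M := hBM hbB
    have hbS : b ∉ scalarAut V := fun h => hbZ ⟨hbM, h⟩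
    have hdecb : ∀ b2 ∈ B, ∃ i : ℕ, ∃ z ∈ scalarAut V, b2 = b ^ i * z := by
      intro b2 hb2
      obtain ⟨i, z, hz, h⟩ := hdec b hbB hbZ b2 hb2
      exact ⟨i, z, hz.2, h⟩
    have hBcomm : ∀ x ∈ B, ∀ x' ∈ B, Commute x x' := by
      intro x hx x' hx'
      obtain ⟨i, z, hz, rfl⟩ := hdecb x hx
      obtain ⟨j, z', hz', rfl⟩ := hdecb x' hx'
      have c1 : ∀ ψ : MulAut V, Commute z ψ := fun ψ => commute_of_mem_scalarAut hz ψ
      have c2 : ∀ ψ : MulAut V, Commute ψ z' := fun ψ => (commute_of_mem_scalarAut hz' ψ).symm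
      exact Commute.mul_left (Commute.mul_right (Commute.pow_pow_self b i j) (c2 _)) (c1 _)
    have hsr : s ≠ r := by
      rintro rfl
      exact false_of_r_element hexp M hirr B hBn b hbB hbS hord (hpow b hbB).2 hdecb
    have hqrb := hQR b hbM s hs hsr ⟨e, hord⟩
    obtain ⟨N1, N2, l, h⟩ := exists_qDecomp hexp b hs hsr hord hqrb hbS
    have hdich : ∀ g ∈ M, (∀ v, v ∈ N1 ↔ g v ∈ N1) ∨ (∀ v, v ∈ N1 ↔ g v ∈ N2) := by
      intro g hg
      exact block_dichotomy hexp h g (hdecb _ (hBn g hg b hbB))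
    -- a swapping element
    obtain ⟨y, hyM, hy⟩ : ∃ y ∈ M, Swaps N1 N2 y := by
      by_contra hcon
      push Not at hcon
      have hall : ∀ g ∈ M, ∀ v, v ∈ N1 ↔ g v ∈ N1 := by
        intro g hg
        rcases hdich g hg with h1 | h1
        · exact h1
        · exfalso
          apply hcon g hg
          refine ⟨h1, ?_⟩
          -- g maps N2 onto N1
          rcases hdich (g * g) (M.mul_mem hg hg) with h2 | h2
          · intro w
            have hw : w = g (g⁻¹ w) := by simp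
            rw [hw, ← h1 (g⁻¹ w), h2 (g⁻¹ w)]
            rfl
          · exfalso
            obtain ⟨n1, hn1, hn11⟩ := h.ne1
            apply hn11
            have h3 : g (g n1) ∈ N2 := (h2 n1).mp hn1
            have h4 : g n1 ∈ N1 := (h1 (g n1)).mpr h3
            have h5 : g n1 ∈ N2 := (h1 n1).mp hn1
            have h6 := h.disj _ h4 h5
            have := congrArg (fun t => g⁻¹ t) h6
            simpa using this
      obtain ⟨n1, hn1, hn11⟩ := h.ne1
      rcases hirr N1 (fun φ hφ w hw => (hall φ hφ w).mp hw) with h0 | h0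
      · apply hn11
        rw [h0, Subgroup.mem_bot] at hn1
        exact hn1
      · exact h.ne_top1 h0
    have hzk : ∀ u : MulAut V, (∀ v : V, u (u v / v) ∈ Subgroup.zpowers (u v / v)) →
        ∀ v : V, ∃ k : ℕ, u (u v / v) = (u v / v) ^ k :=
      fun u hu v => exists_nat_pow_of_mem_zpowers (hu v)
    by_cases hs2 : s = 2
    · subst hs2
      apply false_of_swaps_two hexp h hord M hbM y hyM hy
      · intro u hu hu2
        exact hzk u (hQR u hu 2 hs hsr hu2)
      · intro g hg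
        exact hBcomm b hbB _ (hBn g hg b hbB)
    · apply false_of_swaps_odd hexp h hs hs2 hord y hy
      apply hzk
      have hb'B : y * b * y⁻¹ ∈ B := hBn y hyM b hbB
      apply hQR _ (M.mul_mem (M.mul_mem hbM (hBM hb'B)) (hBM hb'B)) s hs hsr
      have hb'pow : (y * b * y⁻¹) ^ s ^ e = 1 := by
        rw [conj_pow, ← hord, pow_orderOf_eq_one]; group
      have hc1 : Commute b (y * b * y⁻¹) := hBcomm b hbB _ hb'B
      have hc2 : Commute (b * (y * b * y⁻¹)) (y * b * y⁻¹) :=
        Commute.mul_left hc1 (Commute.refl _)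
      have hpow1 : (b * (y * b * y⁻¹) * (y * b * y⁻¹)) ^ s ^ e = 1 := by
        rw [hc2.mul_pow, hc1.mul_pow, hb'pow, ← hord, pow_orderOf_eq_one]; group
      obtain ⟨a', _, ha'⟩ := (Nat.dvd_prime_pow hs).mp (orderOf_dvd_of_pow_eq_one hpow1)
      exact ⟨a', ha'⟩

end Cfsg.Agent.Lib.Helper9
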