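import Mathlib
import Cfsg.Agent.Lib.Helper9.NPCLemmas
import Cfsg.Agent.Lib.Helper9.PrimePowerWitness
import Cfsg.Agent.Lib.Helper24.Coprime

/-!
Groups in which `⟨x, x^g⟩` has order not divisible by `q²` for every `p`-element `x` and `q`-element
`g` (`p ≠ q` primes): inheritance, normal `p`-complement for the smallest prime, solvability.
-/

set_option autoImplicit false

universe u

namespace Cfsg.Agent.Lib.Helper9

open Cfsg

/-- For all primes `p ≠ q`, every `p`-element `x` and every `q`-element `g`, the order of `⟨x, x^g⟩`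
is not divisible by `q²`. -/
def QSqHyp (G : Type*) [Group G] : Prop :=
  ∀ (p q : ℕ), p.Prime → q.Prime → p ≠ q → ∀ (x g : G), (∃ a : ℕ, orderOf x = p ^ a) →
    (∃ b : ℕ, orderOf g = q ^ b) →
      ¬ q ^ 2 ∣ Nat.card ↥(Subgroup.zpowers x ⊔ Subgroup.zpowers (g * x * g⁻¹))

variable {G : Type*} [Group G]

theorem QSqHyp.subgroup (h : QSqHyp G) (H : Subgroup G) : QSqHyp H := by
  intro p q hp hq hpq x g hx hg hdvd
  apply h p q hp hq hpq (x : G) (g : G)
  · rwa [Subgroup.orderOf_coe]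
  · rwa [Subgroup.orderOf_coe]
  · have h1 : (Subgroup.zpowers x ⊔ Subgroup.zpowers (g * x * g⁻¹)).map H.subtype =
        Subgroup.zpowers (x : G) ⊔ Subgroup.zpowers ((g : G) * (x : G) * (g : G)⁻¹) := by
      rw [Subgroup.map_sup, MonoidHom.map_zpowers, MonoidHom.map_zpowers]
      rfl
    rw [← h1, Subgroup.card_map_of_injective H.subtype_injective]
    exact hdvd

/-- Lifting elements of prime power order along a surjective homomorphism. -/
theorem exists_lift_prime_pow_order {Q : Type*} [Group Q] [Finite G] (f : G →* Q)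
    (hf : Function.Surjective f) {p : ℕ} (hp : p.Prime) (y : Q) (a : ℕ) (hy : orderOf y = p ^ a) :
    ∃ x : G, f x = y ∧ ∃ a' : ℕ, orderOf x = p ^ a' := by
  obtain ⟨x0, hx0⟩ := hf y
  obtain ⟨e, m, hm, hn⟩ := Nat.exists_eq_pow_mul_and_not_dvd (orderOf_pos x0).ne' p hp.ne_one
  have hcop : (m).Coprime (p ^ a) := by
    apply Nat.Coprime.pow_right
    exact ((Nat.Prime.coprime_iff_not_dvd hp).mpr hm).symm
  have hcop' : m.Coprime (orderOf y) := by rw [hy]; exact hcop
  obtain ⟨m', hm'⟩ := exists_pow_eq_self_of_coprime hcop'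
  refine ⟨(x0 ^ m) ^ m', ?_, ?_⟩
  · rw [map_pow, map_pow, hx0, hm']
  · have h1 : ((x0 ^ m) ^ m') ^ (p ^ e) = 1 := by
      rw [← pow_mul, ← pow_mul]
      have : m * (m' * p ^ e) = orderOf x0 * m' := by rw [hn]; ring
      rw [this, pow_mul, pow_orderOf_eq_one, one_pow]
    obtain ⟨a', _, ha'⟩ := (Nat.dvd_prime_pow hp).mp (orderOf_dvd_of_pow_eq_one h1)
    exact ⟨a', ha'⟩

theorem QSqHyp.of_surjective [Finite G] {Q : Type*} [Group Q] (h : QSqHyp G) (f : G →* Q)
    (hf : Function.Surjective f) : QSqHyp Q := by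
  intro p q hp hq hpq x g ⟨a, hx⟩ ⟨b, hg⟩ hdvd
  obtain ⟨x', rfl, hx'⟩ := exists_lift_prime_pow_order f hf hp x a hx
  obtain ⟨g', rfl, hg'⟩ := exists_lift_prime_pow_order f hf hq g b hg
  apply h p q hp hq hpq x' g' hx' hg'
  have h1 : (Subgroup.zpowers x' ⊔ Subgroup.zpowers (g' * x' * g'⁻¹)).map f =
      Subgroup.zpowers (f x') ⊔ Subgroup.zpowers (f g' * f x' * (f g')⁻¹) := by
    rw [Subgroup.map_sup, MonoidHom.map_zpowers, MonoidHom.map_zpowers]
    simp
  rw [← h1] at hdvd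
  exact hdvd.trans (Subgroup.card_map_dvd _ f)

theorem QSqHyp.quotient [Finite G] (h : QSqHyp G) (N : Subgroup G) [N.Normal] : QSqHyp (G ⧸ N) :=
  h.of_surjective (QuotientGroup.mk' N) (QuotientGroup.mk'_surjective N)

/-- If `ℓ²` does not divide `|K|` and `x ∈ K` normalizes the `ℓ`-subgroup `W`, then `x` normalizes
`⟨c⟩` for every `c ∈ K ∩ W`. -/
theorem conj_mem_zpowers_of_not_sq_dvd [Finite G] {l : ℕ} [hl : Fact l.Prime] (K W : Subgroup G)
    (hW : IsPGroup l W) (hK : ¬ l ^ 2 ∣ Nat.card K) (x : G) (hxK : x ∈ K)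
    (hxW : ∀ w ∈ W, x * w * x⁻¹ ∈ W) (c : G) (hcK : c ∈ K) (hcW : c ∈ W) :
    x * c * x⁻¹ ∈ Subgroup.zpowers c := by
  by_cases hc1 : c = 1
  · rw [hc1]; simp
  set T : Subgroup G := K ⊓ W with hT
  have hTp : IsPGroup l T := hW.to_le inf_le_right
  obtain ⟨j, hj⟩ := IsPGroup.iff_card.mp hTp
  have hj1 : j ≤ 1 := by
    by_contra hcon
    push Not at hcon
    apply hK
    have h1 : l ^ 2 ∣ Nat.card T := by rw [hj]; exact pow_dvd_pow l hcon
    exact h1.trans (Subgroup.card_dvd_of_le inf_le_left)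
  have hcT : c ∈ T := ⟨hcK, hcW⟩
  have hzT : Subgroup.zpowers c ≤ T := by rw [Subgroup.zpowers_le]; exact hcT
  have hTl : Nat.card T ≤ l := by
    rw [hj]
    calc l ^ j ≤ l ^ 1 := Nat.pow_le_pow_right hl.out.pos hj1
      _ = l := pow_one l
  have hcl : l ≤ Nat.card (Subgroup.zpowers c) := by
    have h1 : Nat.card (Subgroup.zpowers c) ∣ Nat.card T := Subgroup.card_dvd_of_le hzT
    rw [hj] at h1
    obtain ⟨i, _, hi⟩ := (Nat.dvd_prime_pow hl.out).mp h1
    rw [hi]
    rcases Nat.eq_zero_or_pos i with h0 | h0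
    · exfalso
      rw [h0, pow_zero, Nat.card_zpowers, orderOf_eq_one_iff] at hi
      exact hc1 hi
    · calc l = l ^ 1 := (pow_one l).symm
        _ ≤ l ^ i := Nat.pow_le_pow_right hl.out.pos h0
  have heq : Subgroup.zpowers c = T :=
    Subgroup.eq_of_le_of_card_ge hzT (hTl.trans hcl)
  rw [heq]
  exact ⟨K.mul_mem (K.mul_mem hxK hcK) (K.inv_mem hxK), hxW c hcW⟩

/-- Under `QSqHyp`, `G` has a normal `p`-complement for the smallest prime divisor `p` of `|G|`. -/
theorem hasNormalPComplement_of_qSqHyp [Finite G] (h : QSqHyp G) {p : ℕ} [hp : Fact p.Prime]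
    (hmin : ∀ q : ℕ, q.Prime → q ∣ Nat.card G → p ≤ q) : HasNormalPComplement p G := by
  obtain ⟨P⟩ : Nonempty (Sylow p G) := inferInstance
  apply Cfsg.Agent.Lib.Helper2.hasNormalPComplement_of_coprimeCentralizes
  apply Cfsg.Agent.Lib.Helper2.coprimeCentralizes_of_forall_le_sylow P
  intro Q hQ g hg hcop
  have hQp : IsPGroup p Q := P.isPGroup'.to_le hQ
  by_contra hgC
  obtain ⟨r, k, j, hr, hrn, hord, hnot⟩ :=
    exists_pow_prime_pow_order_not_mem (Subgroup.centralizer (Q : Set G)) (orderOf g) g rfl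
      (orderOf_pos g) hgC
  apply hnot
  set g' := g ^ j with hg'
  have hg'N : g' ∈ Subgroup.normalizer (Q : Set G) := Subgroup.pow_mem _ hg j
  have hrp : r ≠ p := by
    rintro rfl
    have := Nat.Coprime.eq_one_of_dvd hcop.symm hrn
    exact hr.one_lt.ne' this
  have hconj : ∀ w ∈ Q, g' * w * g'⁻¹ ∈ Q := fun w hw =>
    (Subgroup.mem_normalizer_iff.mp hg'N w).mp hw
  rw [Subgroup.mem_centralizer_iff]
  intro y hy
  symm
  apply Cfsg.Agent.Lib.Helper24.commute_of_comm_commute_of_coprime g' y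
  · set c := y⁻¹ * (g' * y * g'⁻¹) with hc
    have hcQ : c ∈ Q := Q.mul_mem (Q.inv_mem hy) (hconj y hy)
    set K : Subgroup G := Subgroup.zpowers g' ⊔ Subgroup.zpowers (y⁻¹ * g' * y⁻¹⁻¹) with hK
    have hKsq : ¬ p ^ 2 ∣ Nat.card K := by
      apply h r p hr hp.out hrp g' y⁻¹ ⟨k, hord⟩
      obtain ⟨i, hi⟩ := hQp ⟨y, hy⟩
      have hyi : y ^ p ^ i = 1 := by simpa using congrArg Subtype.val hi
      obtain ⟨b, _, hb⟩ := (Nat.dvd_prime_pow hp.out).mp (orderOf_dvd_of_pow_eq_one hyi)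
      exact ⟨b, by rw [orderOf_inv, hb]⟩
    have hg'K : g' ∈ K := (le_sup_left : Subgroup.zpowers g' ≤ K) (Subgroup.mem_zpowers g')
    have hcK : c ∈ K := by
      have h1 : c = (y⁻¹ * g' * y⁻¹⁻¹) * g'⁻¹ := by rw [hc]; group
      rw [h1]
      exact K.mul_mem ((le_sup_right : Subgroup.zpowers (y⁻¹ * g' * y⁻¹⁻¹) ≤ K)
        (Subgroup.mem_zpowers _)) (K.inv_mem hg'K)
    have hz := conj_mem_zpowers_of_not_sq_dvd K Q hQp hKsq g' hg'K hconj c hcK hcQ
    have hN : g' ∈ Subgroup.normalizer ((Subgroup.zpowers c : Subgroup G) : Set G) := by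
      apply Subgroup.mem_normalizer_fintype
      intro e he
      obtain ⟨t, rfl⟩ := he
      show g' * c ^ t * g'⁻¹ ∈ Subgroup.zpowers c
      rw [← conj_zpow]
      exact Subgroup.zpow_mem _ hz t
    have hcop' : (orderOf g').Coprime p := by
      rw [hord]
      exact Nat.Coprime.pow_left k ((Nat.coprime_primes hr hp.out).mpr hrp)
    have hcent := mem_centralizer_of_mem_normalizer_cyclic hmin (Subgroup.zpowers c) inferInstance
      (hQp.to_le (by rw [Subgroup.zpowers_le]; exact hcQ)) g' hN hcop'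
    exact (Subgroup.mem_centralizer_iff.mp hcent c (Subgroup.mem_zpowers c)).symm
  · have hcQ : y⁻¹ * (g' * y * g'⁻¹) ∈ Q := Q.mul_mem (Q.inv_mem hy) (hconj y hy)
    obtain ⟨i, hi⟩ := hQp ⟨_, hcQ⟩
    have hci : (y⁻¹ * (g' * y * g'⁻¹)) ^ p ^ i = 1 := by simpa using congrArg Subtype.val hi
    obtain ⟨b, _, hb⟩ := (Nat.dvd_prime_pow hp.out).mp (orderOf_dvd_of_pow_eq_one hci)
    rw [hb, hord]
    exact Nat.Coprime.pow k b ((Nat.coprime_primes hr hp.out).mpr hrp)

theorem isSolvable_of_qSqHyp_aux : ∀ n : ℕ, ∀ (G : Type u) [Group G] [Finite G],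
    Nat.card G = n → QSqHyp G → Group.IsSolvable G := by
  intro n
  induction n using Nat.strong_induction_on with
  | _ n ih =>
  intro G _ _ hn h
  by_cases h1 : Nat.card G = 1
  · have : Subsingleton G := (Nat.card_eq_one_iff_unique.mp h1).1
    infer_instance
  obtain ⟨p, hpr, hpd, hmin⟩ : ∃ p : ℕ, p.Prime ∧ p ∣ Nat.card G ∧
      ∀ q : ℕ, q.Prime → q ∣ Nat.card G → p ≤ q :=
    ⟨(Nat.card G).minFac, Nat.minFac_prime h1, Nat.minFac_dvd _,
      fun q hq hqd => Nat.minFac_le_of_dvd hq.two_le hqd⟩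
  have : Fact p.Prime := ⟨hpr⟩
  obtain ⟨P, N, hNn, hc⟩ := hasNormalPComplement_of_qSqHyp h hmin
  have hcard : Nat.card N * Nat.card (P : Subgroup G) = Nat.card G := hc.card_mul_card
  have hP1 : 1 < Nat.card (P : Subgroup G) := by
    have : p ∣ Nat.card (P : Subgroup G) := P.dvd_card_of_dvd_card hpd
    exact lt_of_lt_of_le hpr.one_lt (Nat.le_of_dvd Nat.card_pos this)
  have hNlt : Nat.card N < n := by
    rw [← hn, ← hcard]
    have : 0 < Nat.card N := Nat.card_pos
    nlinarith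
  have : Group.IsSolvable N := ih _ hNlt N rfl (h.subgroup N)
  have : Group.IsSolvable (G ⧸ N) := by
    have hpg : IsPGroup p (G ⧸ N) := by
      apply IsPGroup.of_card (n := (Nat.card G).factorization p)
      have h2 : Nat.card (G ⧸ N) * Nat.card N = Nat.card G := by
        rw [← Subgroup.index_eq_card]; exact N.index_mul_card
      have h3 : Nat.card (P : Subgroup G) = _ := P.card_eq_multiplicity
      rw [← h3]
      have : Nat.card (G ⧸ N) * Nat.card N = Nat.card (P : Subgroup G) * Nat.card N := by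
        rw [h2, ← hcard]; ring
      exact Nat.eq_of_mul_eq_mul_right Nat.card_pos this
    have := hpg.isNilpotent
    infer_instance
  exact Group.isSolvable_of_ker_le_range N.subtype (QuotientGroup.mk' N) (by simp)

theorem isSolvable_of_qSqHyp {G : Type u} [Group G] [Finite G] (h : QSqHyp G) :
    Group.IsSolvable G :=
  isSolvable_of_qSqHyp_aux _ G rfl h

end Cfsg.Agent.Lib.Helper9
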