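import Mathlib
import Cfsg.Agent.Lib.Helper9.QRefl4
import Cfsg.Agent.Lib.Helper9.QSq
import Cfsg.Agent.Lib.Helper9.SS

/-!
`QSqHyp` groups: a supersolvable subgroup acting irreducibly on an elementary abelian `r`-subgroup
forces the latter to have order `r`.
-/

set_option autoImplicit false

namespace Cfsg.Agent.Lib.Helper9

open Cfsg

variable {G : Type*} [Group G] [Finite G]

theorem card_eq_prime_of_irreducible_of_qSqHyp (h : QSqHyp G) {r : ℕ} [hr : Fact r.Prime]
    (X V : Subgroup G) (hX : Cfsg.IsSupersolvable X)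
    (hXV : ∀ x ∈ X, ∀ v ∈ V, x * v * x⁻¹ ∈ V) (hab : ∀ a ∈ V, ∀ b ∈ V, a * b = b * a)
    (hexp : ∀ a ∈ V, a ^ r = 1) (hV1 : V ≠ ⊥)
    (hirr : ∀ W : Subgroup G, W ≤ V → (∀ x ∈ X, ∀ w ∈ W, x * w * x⁻¹ ∈ W) → W = ⊥ ∨ W = V) :
    Nat.card V = r := by
  letI : CommGroup V :=
    { (inferInstance : Group V) with mul_comm := fun a b => Subtype.ext (hab a a.2 b b.2) }
  have hXN : X ≤ Subgroup.normalizer (V : Set G) := by
    intro x hx
    apply Subgroup.mem_normalizer_fintype
    intro v hv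
    exact hXV x hx v hv
  set ψ : X →* MulAut V := V.normalizerMonoidHom.comp (Subgroup.inclusion hXN) with hψ
  have hψa : ∀ (x : X) (v : V), ((ψ x) v : G) = (x : G) * (v : G) * (x : G)⁻¹ := by
    intro x v
    rfl
  have hexp' : ∀ v : V, v ^ r = 1 := fun v => Subtype.ext (by simpa using hexp v v.2)
  haveI : Nontrivial V := (Subgroup.nontrivial_iff_ne_bot V).mpr hV1
  have hM : Cfsg.IsSupersolvable ψ.range :=
    isSupersolvable_of_surjective hX ψ.rangeRestrict ψ.rangeRestrict_surjective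
  apply card_eq_prime_of_irreducible_of_quasiRefl hexp' ψ.range hM
  · intro W hW
    have hle : W.map V.subtype ≤ V := Subgroup.map_subtype_le W
    have hinv : ∀ x ∈ X, ∀ w ∈ W.map V.subtype, x * w * x⁻¹ ∈ W.map V.subtype := by
      rintro x hx _ ⟨w, hw, rfl⟩
      refine ⟨(ψ ⟨x, hx⟩) w, hW _ ⟨⟨x, hx⟩, rfl⟩ w hw, ?_⟩
      exact hψa ⟨x, hx⟩ w
    rcases hirr _ hle hinv with h0 | h0
    · left
      exact (Subgroup.map_eq_bot_iff_of_injective W V.subtype_injective).mp h0
    · right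
      apply Subgroup.map_injective V.subtype_injective
      rw [h0, ← MonoidHom.range_eq_map, Subgroup.range_subtype]
  · intro φ hφ t ht htr ⟨a, ha⟩ v
    obtain ⟨x, hx, a', hxa⟩ := exists_lift_prime_pow_order ψ.rangeRestrict
      ψ.rangeRestrict_surjective ht ⟨φ, hφ⟩ a (by rw [Subgroup.orderOf_mk]; exact ha)
    have hφx : φ = ψ x := by
      have := congrArg Subtype.val hx
      exact this.symm
    have hxa' : orderOf (x : G) = t ^ a' := by rw [Subgroup.orderOf_coe]; exact hxa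
    have hVp : IsPGroup r V := by
      intro w
      exact ⟨1, by rw [pow_one]; exact hexp' w⟩
    have hvord : ∃ b : ℕ, orderOf (v : G) = r ^ b := by
      have h1 : orderOf (v : G) ∣ r := orderOf_dvd_of_pow_eq_one (hexp v v.2)
      rcases (Nat.dvd_prime hr.out).mp h1 with h2 | h2
      · exact ⟨0, by rw [h2, pow_zero]⟩
      · exact ⟨1, by rw [h2, pow_one]⟩
    set K : Subgroup G := Subgroup.zpowers (x : G) ⊔
      Subgroup.zpowers ((v : G) * (x : G) * (v : G)⁻¹) with hK
    have hKsq : ¬ r ^ 2 ∣ Nat.card K := h t r ht hr.out htr (x : G) (v : G) ⟨a', hxa'⟩ hvord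
    have hxK : (x : G) ∈ K :=
      (le_sup_left : Subgroup.zpowers (x : G) ≤ K) (Subgroup.mem_zpowers _)
    set c : G := (x : G) * (v : G) * (x : G)⁻¹ * (v : G)⁻¹ with hc
    have hcK : c ∈ K := by
      have : c = (x : G) * ((v : G) * (x : G) * (v : G)⁻¹)⁻¹ := by rw [hc]; group
      rw [this]
      exact K.mul_mem hxK (K.inv_mem ((le_sup_right :
        Subgroup.zpowers ((v : G) * (x : G) * (v : G)⁻¹) ≤ K) (Subgroup.mem_zpowers _)))
    have hcV : c ∈ V := V.mul_mem (hXV x x.2 v v.2) (V.inv_mem v.2)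
    have hz := conj_mem_zpowers_of_not_sq_dvd K V hVp hKsq (x : G) hxK (hXV x x.2) c hcK hcV
    obtain ⟨k, hk⟩ := Subgroup.mem_zpowers_iff.mp hz
    rw [Subgroup.mem_zpowers_iff]
    refine ⟨k, ?_⟩
    apply Subtype.ext
    rw [hφx]
    have e1 : (((ψ x) v / v : V) : G) = c := by
      rw [Subgroup.coe_div, hψa, div_eq_mul_inv]
    rw [Subgroup.coe_zpow, hψa, e1, hk]

end Cfsg.Agent.Lib.Helper9
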