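import Mathlib
import Cfsg.Agent.Lib.Helper9.QSqMain
import Cfsg.Agent.Lib.Helper9.SS2
import Cfsg.Agent.Lib.Helper9.SS3
import Cfsg.Agent.Lib.Helper1.MinimalNormal
import Cfsg.Agent.Lib.Helper47.Quot
import Cfsg.Agent.Lib.Helper76.Huppert
import Cfsg.Agent.S0527

/-!
`QSqHyp` groups are supersolvable.
-/

set_option autoImplicit false

universe u

namespace Cfsg.Agent.Lib.Helper9

open Cfsg

theorem isSupersolvable_of_qSqHyp_aux : ∀ n : ℕ, ∀ (G : Type u) [Group G] [Finite G],
    Nat.card G = n → QSqHyp G → Cfsg.IsSupersolvable G := by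
  intro n
  induction n using Nat.strong_induction_on with
  | _ n ih =>
  intro G _ _ hn h
  by_cases h1 : Nat.card G = 1
  · have : Subsingleton G := (Nat.card_eq_one_iff_unique.mp h1).1
    exact isSupersolvable_of_subsingleton
  have hnt : Nontrivial G := by
    rw [← Finite.one_lt_card_iff_nontrivial]
    have : 0 < Nat.card G := Nat.card_pos
    omega
  have hsolv : Group.IsSolvable G := isSolvable_of_qSqHyp h
  obtain ⟨r, R, hr, hRn, hR1, hRp, hRc, hRexp, hRmin⟩ :=
    Cfsg.Agent.Lib.Helper1.exists_normal_pSubgroup_of_isSolvable (G := G)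
  have : Fact r.Prime := ⟨hr⟩
  have hab : ∀ a ∈ R, ∀ b ∈ R, a * b = b * a := by
    intro a ha b hb
    have := hRc.is_comm.comm (⟨a, ha⟩ : R) ⟨b, hb⟩
    exact congrArg Subtype.val this
  have hR1' : 1 < Nat.card R := by
    rw [Finite.one_lt_card_iff_nontrivial]
    exact (Subgroup.nontrivial_iff_ne_bot R).mpr hR1
  have hquot : Cfsg.IsSupersolvable (G ⧸ R) := by
    apply ih (Nat.card (G ⧸ R)) _ (G ⧸ R) rfl (h.quotient R)
    rw [← hn, ← Subgroup.index_eq_card, ← R.index_mul_card]
    have : 0 < R.index := Nat.pos_of_ne_zero Subgroup.index_ne_zero_of_finite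
    nlinarith
  suffices hcard : Nat.card R = r by
    have : IsCyclic R := isCyclic_of_prime_card hcard
    exact isSupersolvable_of_quotient_cyclic R hquot
  by_contra hcard
  have hrdvd : r ∣ Nat.card R := by
    obtain ⟨k, hk⟩ := IsPGroup.iff_card.mp hRp
    rw [hk]
    apply dvd_pow_self
    rintro rfl
    rw [pow_zero] at hk
    omega
  have hnss : ¬ Cfsg.IsSupersolvable G := by
    intro hss
    obtain ⟨D, hDR, hDn, hDp⟩ := exists_normal_prime_card_le hss R hR1
    rcases hRmin D hDn hDR with h0 | h0
    · rw [h0, Subgroup.card_bot] at hDp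
      exact Nat.not_prime_one hDp
    · rw [h0] at hDp
      apply hcard
      exact ((Nat.prime_dvd_prime_iff_eq hr hDp).mp hrdvd).symm
  obtain ⟨M, hM, hMidx⟩ : ∃ M : Subgroup G, IsCoatom M ∧ ¬ M.index.Prime := by
    by_contra hc
    push Not at hc
    exact hnss (Cfsg.Agent.Lib.Helper76.huppert_main _ rfl hc)
  have hRM : ¬ R ≤ M := by
    intro hle
    apply hMidx
    have hco := Cfsg.Agent.Lib.Helper47.isCoatom_map_mk' R hM hle
    have hp := Cfsg.Agent.S0527.result hquot _ hco
    rwa [Subgroup.index_map_eq _ (QuotientGroup.mk'_surjective R)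
      (by rw [QuotientGroup.ker_mk']; exact hle)] at hp
  have hsup : R ⊔ M = ⊤ := by
    apply hM.2
    apply lt_of_le_of_ne le_sup_right
    intro heq
    apply hRM
    rw [heq]; exact le_sup_left
  have hinf : R ⊓ M = ⊥ := by
    have hnorm := Cfsg.Agent.Lib.Helper76.inf_normal_of_abelian_sup_eq_top R M hab hsup
    rcases hRmin _ hnorm inf_le_left with h0 | h0
    · exact h0
    · exfalso
      apply hRM
      rw [← h0]; exact inf_le_right
  have hMlt : Nat.card M < n := by
    rw [← hn]
    by_contra hcon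
    push Not at hcon
    exact hM.1 (Subgroup.eq_top_of_le_card M hcon)
  have hMss : Cfsg.IsSupersolvable M := ih _ hMlt M rfl (h.subgroup M)
  apply hcard
  apply card_eq_prime_of_irreducible_of_qSqHyp h M R hMss
  · intro x _ v hv
    exact hRn.conj_mem v hv x
  · exact hab
  · exact hRexp
  · exact hR1
  · intro W hWR hWM
    have hWn : W.Normal := by
      rw [← Subgroup.normalizer_eq_top_iff, eq_top_iff, ← hsup, sup_le_iff]
      constructor
      · intro a ha
        apply Subgroup.mem_normalizer_fintype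
        intro w hw
        have : a * w * a⁻¹ = w := by
          rw [hab a ha w (hWR hw)]; group
        show a * w * a⁻¹ ∈ W
        rw [this]; exact hw
      · intro m hm
        apply Subgroup.mem_normalizer_fintype
        intro w hw
        exact hWM m hm w hw
    exact hRmin W hWn hWR

theorem isSupersolvable_of_qSqHyp {G : Type u} [Group G] [Finite G] (h : QSqHyp G) :
    Cfsg.IsSupersolvable G :=
  isSupersolvable_of_qSqHyp_aux _ G rfl h

end Cfsg.Agent.Lib.Helper9
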