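import Mathlib
import Cfsg.Agent.Lib.Helper9.SmallOrderSieveA
import Cfsg.Agent.Lib.Helper9.Simple1080

/-!
# Simple groups of order 720: `n_3 ∈ {10, 40}` and the case `n_3 = 40` (module O720-[N40] for S0496)

Following helper72's plan for order 720.

* `card_sylow3_mem` : `n_3 = 10 ∨ n_3 = 40`.
* `false_of_card_sylow3_eq_40` : `n_3 = 40` is impossible.
-/

set_option autoImplicit false
set_option linter.unusedSectionVars false
set_option linter.style.haveILetI false
set_option linter.unusedVariables false

namespace Cfsg.Agent.Lib.Helper9.Simple720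

open Cfsg.Agent.Lib.Helper17 Cfsg.Agent.Lib.Helper9.Sieve Cfsg.Agent.Lib.Helper9.Simple1080
  Subgroup MulAction

section General

variable {G : Type*} [Group G] [Finite G]

/-- In a simple group, a non-identity element does not fix all the cosets of a proper subgroup. -/
theorem card_fixedBy_ne_index [IsSimpleGroup G] (H : Subgroup G) (hH : H ≠ ⊤) (t : G)
    (ht1 : t ≠ 1) : Nat.card (fixedBy (G ⧸ H) t) ≠ H.index := by
  intro heq
  have hall : ∀ q : G ⧸ H, t • q = q := by
    have hsurj : Function.Surjective (Subtype.val : fixedBy (G ⧸ H) t → G ⧸ H) := by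
      have hinj : Function.Injective (Subtype.val : fixedBy (G ⧸ H) t → G ⧸ H) :=
        Subtype.val_injective
      exact ((Nat.bijective_iff_injective_and_card _).mpr
        ⟨hinj, by rw [heq, Subgroup.index]⟩).2
    intro q
    obtain ⟨⟨q', hq'⟩, rfl⟩ := hsurj q
    exact hq'
  have hcore : t ∈ H.normalCore := by
    rw [Subgroup.normalCore_eq_ker, MonoidHom.mem_ker]
    ext q
    exact hall q
  have hcn : H.normalCore.Normal := inferInstance
  rcases hcn.eq_bot_or_eq_top with h | h
  · rw [h, Subgroup.mem_bot] at hcore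
    exact ht1 hcore
  · apply hH
    rw [eq_top_iff, ← h]
    exact Subgroup.normalCore_le H

/-- If the `p`-subgroup `Q ≤ H` commutes with `t ∈ H` and `H` is the only coset of `H` fixed by `Q`,
then the number of cosets of `H` fixed by `t` is `≡ 1 (mod p)`. -/
theorem card_fixedBy_mod_eq_one_of_commute {p : ℕ} [hp : Fact p.Prime] (Q H : Subgroup G)
    (hQ : IsPGroup p Q) (t : G) (hcomm : ∀ x ∈ Q, x * t = t * x) (htH : t ∈ H) (hQH : Q ≤ H)
    (huniq : ∀ g : G, (∀ x ∈ Q, g⁻¹ * x * g ∈ H) → g ∈ H) :
    Nat.card (fixedBy (G ⧸ H) t) % p = 1 := by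
  let S : SubMulAction Q (G ⧸ H) :=
    { carrier := fixedBy (G ⧸ H) t
      smul_mem' := by
        intro x q hq
        rw [MulAction.mem_fixedBy] at hq ⊢
        have hx : (x : G) * t = t * (x : G) := hcomm x x.2
        show t • ((x : G) • q) = (x : G) • q
        rw [smul_smul, ← hx, ← smul_smul, hq] }
  have h1 := hQ.card_modEq_card_fixedPoints S
  have hfix : Nat.card (MulAction.fixedPoints Q S) = 1 := by
    rw [Nat.card_eq_one_iff_unique]
    constructor
    · constructor
      have key : ∀ a : MulAction.fixedPoints Q S, ((a : S) : G ⧸ H) = ((1 : G) : G ⧸ H) := by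
        rintro ⟨⟨q, hq⟩, hfixq⟩
        induction q using QuotientGroup.induction_on with
        | H g =>
          show (g : G ⧸ H) = ((1 : G) : G ⧸ H)
          have hg : g ∈ H := by
            apply huniq
            intro x hx
            have := hfixq ⟨x, hx⟩
            have h2 : x • (g : G ⧸ H) = (g : G ⧸ H) := congrArg Subtype.val this
            rw [MulAction.Quotient.smul_coe, QuotientGroup.eq] at h2
            have h3 : (x • g)⁻¹ * g = (g⁻¹ * x⁻¹ * g) := by
              rw [smul_eq_mul]; group
            rw [h3] at h2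
            have h4 := H.inv_mem h2
            have h5 : (g⁻¹ * x⁻¹ * g)⁻¹ = g⁻¹ * x * g := by group
            rwa [h5] at h4
          rw [QuotientGroup.eq]
          simpa using hg
      intro a b
      apply Subtype.ext
      apply Subtype.ext
      rw [key a, key b]
    · refine ⟨⟨⟨((1 : G) : G ⧸ H), ?_⟩, ?_⟩⟩
      · show ((1 : G) : G ⧸ H) ∈ fixedBy (G ⧸ H) t
        rw [MulAction.mem_fixedBy, MulAction.Quotient.smul_coe, QuotientGroup.eq]
        simpa using H.inv_mem htH
      · intro x
        apply Subtype.ext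
        show (x : G) • ((1 : G) : G ⧸ H) = ((1 : G) : G ⧸ H)
        rw [MulAction.Quotient.smul_coe, QuotientGroup.eq]
        have hxH : (x : G) ∈ H := hQH x.2
        simpa using H.inv_mem hxH
  rw [hfix] at h1
  have h2 : Nat.card S = Nat.card (fixedBy (G ⧸ H) t) := rfl
  rw [h2, Nat.ModEq, Nat.mod_eq_of_lt hp.out.one_lt] at h1
  exact h1

end General

section Order720

variable {G : Type*} [Group G] [Finite G] [IsSimpleGroup G]

theorem not_comm_of_card_720 (h : Nat.card G = 720) : ¬ IsMulCommutative G :=
  not_comm_of_simple_of_not_prime (by rw [h]; norm_num)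

/-- A Sylow `3`-subgroup of a group of order 720 has order 9. -/
theorem card_sylow3 (h : Nat.card G = 720) [Fact (Nat.Prime 3)] (P : Sylow 3 G) :
    Nat.card (P : Subgroup G) = 9 := by
  have := sylow_card_of_card_eq P (k := 2) (m := 80) (h.trans (by norm_num)) (by norm_num)
  simpa using this

/-- `n_3 = 16` is impossible: `N(P)` of order 45 would centralize `P`. -/
theorem card_sylow3_ne_16 (h : Nat.card G = 720) [Fact (Nat.Prime 3)] :
    Nat.card (Sylow 3 G) ≠ 16 := by
  intro h16
  have hG := not_comm_of_card_720 h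
  haveI : Fact (Nat.Prime 5) := ⟨by norm_num⟩
  obtain ⟨P⟩ := (Sylow.nonempty : Nonempty (Sylow 3 G))
  have hP := card_sylow3 h P
  haveI hPc : IsMulCommutative (P : Subgroup G) :=
    IsPGroup.isMulCommutative_of_card_eq_prime_sq (p := 3) (by rw [hP]; norm_num)
  have hd : Nat.card (Sylow 3 G) ∣ 80 := by rw [h16]; norm_num
  have hNcard : Nat.card (normalizer ((P : Subgroup G) : Set G)) = 45 := by
    have := card_normalizer_eq (p := 3) (a := 2) (m := 80) h (by norm_num) hd P
    rw [this, h16]
    norm_num
  set N : Subgroup G := normalizer ((P : Subgroup G) : Set G) with hN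
  -- the Sylow 5-subgroup of `N` is normal
  obtain ⟨Q⟩ := (Sylow.nonempty : Nonempty (Sylow 5 N))
  have hQcard : Nat.card (Q : Subgroup N) = 5 := by
    have := sylow_card_of_card_eq Q (k := 1) (m := 9) (hNcard.trans (by norm_num)) (by norm_num)
    simpa using this
  have hn5 : Nat.card (Sylow 5 N) = 1 := by
    have h1 : Nat.card (Sylow 5 N) ∣ 9 :=
      card_sylow_dvd_of_card_eq (k := 1) (m := 9) (hNcard.trans (by norm_num)) (by norm_num)
    have h2 : Nat.card (Sylow 5 N) % 5 = 1 % 5 := card_sylow_modEq_one 5 N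
    have hle := Nat.le_of_dvd (by norm_num) h1
    interval_cases (Nat.card (Sylow 5 N)) <;> omega
  have hQn : (Q : Subgroup N).Normal := sylow_normal_of_card_eq_one hn5 Q
  have hPn : ((P : Subgroup G).subgroupOf N).Normal := Subgroup.normal_in_normalizer
  have hdis : Disjoint ((P : Subgroup G).subgroupOf N) (Q : Subgroup N) :=
    IsPGroup.disjoint_of_ne 3 5 (by norm_num) _ _ (P.isPGroup'.comap_subtype) Q.isPGroup'
  -- hence `Q` centralizes `P`
  have hQC : (Q : Subgroup N).map N.subtype ≤ centralizer ((P : Subgroup G) : Set G) := by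
    rintro _ ⟨y, hy, rfl⟩
    rw [Subgroup.mem_centralizer_iff]
    intro x hx
    have hxN : x ∈ N := le_normalizer hx
    have hc := Subgroup.commute_of_normal_of_disjoint _ _ hPn hQn hdis ⟨x, hxN⟩ y
      (by rw [Subgroup.mem_subgroupOf]; exact hx) hy
    have := congrArg Subtype.val hc.eq
    simpa using this
  have h5 : 5 ∣ Nat.card (centralizer ((P : Subgroup G) : Set G)) := by
    have := Subgroup.card_dvd_of_le hQC
    rwa [Subgroup.card_subtype, hQcard] at this
  have h9 : 9 ∣ Nat.card (centralizer ((P : Subgroup G) : Set G)) := by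
    rw [← hP]
    exact Subgroup.card_dvd_of_le (Subgroup.le_centralizer _)
  have hCN : centralizer ((P : Subgroup G) : Set G) ≤ N := centralizer_le_normalizer _
  have h45 : 45 ∣ Nat.card (centralizer ((P : Subgroup G) : Set G)) := by omega
  have hle : Nat.card N ≤ Nat.card (centralizer ((P : Subgroup G) : Set G)) := by
    rw [hNcard]
    exact Nat.le_of_dvd Nat.card_pos h45
  have heq : centralizer ((P : Subgroup G) : Set G) = N :=
    Subgroup.eq_of_le_of_card_ge hCN hle
  exact not_normalizer_le_centralizer_of_simple hG P (by rw [h]; norm_num) (by rw [heq])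

/-- `n_3 ∈ {10, 40}` in a simple group of order 720. -/
theorem card_sylow3_mem (h : Nat.card G = 720) [Fact (Nat.Prime 3)] :
    Nat.card (Sylow 3 G) = 10 ∨ Nat.card (Sylow 3 G) = 40 := by
  have hG := not_comm_of_card_720 h
  obtain ⟨hd, hmod, hne1⟩ := sylow_facts (p := 3) (a := 2) (m := 80) hG h (by norm_num)
    (by norm_num) (by norm_num) (by norm_num)
  have key : ∀ d : ℕ, d ≤ 80 → d ∣ 80 → d % 3 = 1 → d ≠ 1 → d ≠ 4 → d ≠ 16 → d = 10 ∨ d = 40 := by
    intro d hle hdvd h5 h1 h4 h16
    interval_cases d <;> omega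
  have h4 : Nat.card (Sylow 3 G) ≠ 4 := by
    intro h4
    have := idxExcl_card_sylow (p := 3) hG hne1
    rw [h, h4] at this
    exact absurd this (by decide)
  exact key _ (Nat.le_of_dvd (by norm_num) hd) hd hmod hne1 h4 (card_sylow3_ne_16 h)

end Order720

/-- For a finite subgroup `D`: if `g⁻¹ D g ⊆ D` then `g` normalizes `D`. -/
theorem mem_normalizer_of_conj_mem {G : Type*} [Group G] (D : Subgroup G) [Finite D] (g : G)
    (hg : ∀ d ∈ D, g⁻¹ * d * g ∈ D) : g ∈ normalizer (D : Set G) := by
  let f : D → D := fun d => ⟨g⁻¹ * (d : G) * g, hg d d.2⟩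
  have hinj : Function.Injective f := by
    intro a b hab
    have h1 : g⁻¹ * (a : G) * g = g⁻¹ * (b : G) * g := congrArg Subtype.val hab
    apply Subtype.ext
    have h2 : (a : G) = g * (g⁻¹ * (a : G) * g) * g⁻¹ := by group
    rw [h2, h1]; group
  have hsurj : Function.Surjective f := Finite.surjective_of_injective hinj
  rw [Subgroup.mem_normalizer_iff]
  intro d
  constructor
  · intro hd
    obtain ⟨d', hd'⟩ := hsurj ⟨d, hd⟩
    have h1 : g⁻¹ * (d' : G) * g = d := congrArg Subtype.val hd'
    have h2 : g * d * g⁻¹ = (d' : G) := by rw [← h1]; group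
    rw [h2]; exact d'.2
  · intro hd
    have := hg _ hd
    have h2 : g⁻¹ * (g * d * g⁻¹) * g = d := by group
    rwa [h2] at this

section Order720

variable {G : Type*} [Group G] [Finite G] [IsSimpleGroup G]

/-- **[N40]** In a simple group of order 720, `n_3 = 40` is impossible. -/
theorem false_of_card_sylow3_eq_40 (h : Nat.card G = 720) (hn : Nat.card (Sylow 3 G) = 40) :
    False := by
  haveI : Fact (Nat.Prime 3) := ⟨by norm_num⟩
  haveI : Fact (Nat.Prime 2) := ⟨by norm_num⟩
  have hG := not_comm_of_card_720 h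
  have hd : Nat.card (Sylow 3 G) ∣ 80 := by rw [hn]; norm_num
  have hPcard : ∀ P : Sylow 3 G, Nat.card (P : Subgroup G) = 9 := fun P => card_sylow3 h P
  have hNcard : ∀ P : Sylow 3 G, Nat.card (normalizer ((P : Subgroup G) : Set G)) = 18 := by
    intro P
    have := card_normalizer_eq (p := 3) (a := 2) (m := 80) h (by norm_num) hd P
    rw [this, hn]; norm_num
  have hPcomm : ∀ P : Sylow 3 G, IsMulCommutative (P : Subgroup G) := fun P =>
    IsPGroup.isMulCommutative_of_card_eq_prime_sq (p := 3) (by rw [hPcard P]; norm_num)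
  -- elements of `N(P) \ P` invert `P`
  have hinv : ∀ (P : Sylow 3 G) (s : G), s ∈ normalizer ((P : Subgroup G) : Set G) →
      s ∉ (P : Subgroup G) → ∀ a ∈ (P : Subgroup G), s * a * s⁻¹ = a⁻¹ := by
    intro P s hs hsP a ha
    haveI := hPcomm P
    exact conj_eq_inv_of_card_normalizer_eq_two_mul hG P (by rw [hNcard P, hPcard P]) hs hsP ha
  -- two Sylow subgroups meeting in a subgroup of order 3
  have hnot : ¬ Nat.card (Sylow 3 G) ≡ 1 [MOD 3 ^ 2] := by rw [hn]; decide
  obtain ⟨P, R, hne, hPN, hRN, hcard⟩ := exists_sylow_pair_normalizing_inter hnot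
  set D : Subgroup G := (P : Subgroup G) ⊓ (R : Subgroup G) with hD
  have hDcard : Nat.card D = 3 := by rw [hPcard P] at hcard; omega
  set L : Subgroup G := normalizer (D : Set G) with hL
  have hDP : D ≤ (P : Subgroup G) := inf_le_left
  have hDR : D ≤ (R : Subgroup G) := inf_le_right
  -- `N(P) ≤ L`
  have hNL : normalizer ((P : Subgroup G) : Set G) ≤ L := by
    intro s hs
    by_cases hsP : s ∈ (P : Subgroup G)
    · exact hPN hsP
    · rw [hL, Subgroup.mem_normalizer_iff]
      intro d
      constructor
      · intro hdD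
        rw [hinv P s hs hsP d (hDP hdD)]
        exact D.inv_mem hdD
      · intro hdD
        have hs' : s⁻¹ ∈ normalizer ((P : Subgroup G) : Set G) := inv_mem hs
        have hsP' : s⁻¹ ∉ (P : Subgroup G) := fun h' =>
          hsP (by simpa using (P : Subgroup G).inv_mem h')
        have := hinv P s⁻¹ hs' hsP' _ (hDP hdD)
        have h2 : s⁻¹ * (s * d * s⁻¹) * s⁻¹⁻¹ = d := by group
        rw [h2] at this
        rw [this]
        exact D.inv_mem hdD
  -- `L` has index 10
  have hLtop : L ≠ ⊤ := by
    intro htop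
    rw [hL, Subgroup.normalizer_eq_top_iff] at htop
    rcases htop.eq_bot_or_eq_top with hb | ht
    · rw [hb, Subgroup.card_bot] at hDcard; omega
    · rw [ht, Subgroup.card_top, h] at hDcard; omega
  have hidx := card_sylow_eq_mul_index_of_normalizer_le P L hNL
  have he2 := succ_le_card_sylow_subgroup L P R hne hPN hRN
  have he3 : Nat.card (Sylow 3 L) % 3 = 1 := by
    have h3 : Nat.card (Sylow 3 L) % 3 = 1 % 3 := card_sylow_modEq_one 3 L
    simpa using h3
  rw [hn] at hidx
  have hLidx : L.index = 10 := by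
    have hdvd : Nat.card (Sylow 3 L) ∣ 40 := ⟨L.index, hidx⟩
    have hle := Nat.le_of_dvd (by norm_num) hdvd
    have hc : Nat.card (Sylow 3 L) = 4 ∨ Nat.card (Sylow 3 L) = 10 ∨
        Nat.card (Sylow 3 L) = 40 := by
      interval_cases (Nat.card (Sylow 3 L)) <;> omega
    rcases hc with h4 | h10 | h40
    · rw [h4] at hidx; omega
    · exfalso
      have hi4 : L.index = 4 := by rw [h10] at hidx; omega
      have := idxExcl_sound hG L hLtop
      rw [h, hi4] at this
      exact absurd this (by decide)
    · exfalso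
      have hi1 : L.index = 1 := by rw [h40] at hidx; omega
      exact hLtop (Subgroup.index_eq_one.mp hi1)
  have hLcard : Nat.card L = 72 := by
    have := L.card_mul_index
    rw [hLidx, h] at this
    omega
  -- an involution `k` in `C(D)`
  set X : Subgroup G := centralizer (D : Set G) with hX
  have hPX : (P : Subgroup G) ≤ X := by
    intro x hx
    rw [hX, Subgroup.mem_centralizer_iff]
    intro d hdD
    have := (hPcomm P).is_comm.comm ⟨d, hDP hdD⟩ ⟨x, hx⟩
    exact congrArg Subtype.val this
  have hRX : (R : Subgroup G) ≤ X := by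
    intro x hx
    rw [hX, Subgroup.mem_centralizer_iff]
    intro d hdD
    have := (hPcomm R).is_comm.comm ⟨d, hDR hdD⟩ ⟨x, hx⟩
    exact congrArg Subtype.val this
  have hXL : X ≤ L := centralizer_le_normalizer _
  have hX2 : 2 ∣ Nat.card X := by
    have h1 := card_sylow_subgroup_mul_card_dvd X P hPX
    have h2 := succ_le_card_sylow_subgroup X P R hne hPX hRX
    rw [hPcard P] at h1
    have h3 : Nat.card X ∣ 72 := by rw [← hLcard]; exact Subgroup.card_dvd_of_le hXL
    have h4 : 36 ≤ Nat.card X := by
      have := Nat.le_of_dvd Nat.card_pos h1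
      nlinarith
    have h5 := Nat.le_of_dvd (by norm_num) h3
    interval_cases (Nat.card X) <;> omega
  obtain ⟨k', hk'⟩ := exists_prime_orderOf_dvd_card' (G := X) 2 hX2
  set k : G := (k' : G) with hkdef
  have hk : orderOf k = 2 := by rw [hkdef, Subgroup.orderOf_coe, hk']
  have hkX : k ∈ X := k'.2
  have hk2 : k ^ 2 = 1 := by rw [← hk]; exact pow_orderOf_eq_one k
  have hk1 : k ≠ 1 := by
    intro h1
    rw [h1, orderOf_one] at hk
    omega
  -- a generator `x` of `D`
  obtain ⟨x', hx'⟩ := exists_prime_orderOf_dvd_card' (G := D) 3 (by rw [hDcard])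
  set x : G := (x' : G) with hxdef
  have hxo : orderOf x = 3 := by rw [hxdef, Subgroup.orderOf_coe, hx']
  have hxD : x ∈ D := x'.2
  have hx1 : x ≠ 1 := by
    intro h1
    rw [h1, orderOf_one] at hxo
    omega
  have hDz : D = zpowers x := eq_zpowers_of_card_prime D (by norm_num) hDcard hxD hx1
  have hD3 : IsPGroup 3 D := IsPGroup.of_card (n := 1) (by rw [hDcard]; norm_num)
  haveI : Finite D := inferInstance
  -- `x` fixes only the coset `L`
  have huniq : ∀ g : G, (∀ d ∈ D, g⁻¹ * d * g ∈ L) → g ∈ L := by
    intro g hg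
    have hyL : g⁻¹ * x * g ∈ L := hg x hxD
    set y : G := g⁻¹ * x * g with hy
    -- the conjugate subgroup
    set φ : G →* G := (MulAut.conj g⁻¹).toMonoidHom with hφ
    have hφx : φ x = y := by
      rw [hφ, hy]
      simp
    have hD' : D.map φ = zpowers y := by
      rw [hDz, MonoidHom.map_zpowers, hφx]
    have hD'3 : IsPGroup 3 (D.map φ) := hD3.map φ
    have hD'L : D.map φ ≤ normalizer (D : Set G) := by
      rw [hD', zpowers_le]; exact hyL
    have hsup : IsPGroup 3 (D.map φ ⊔ D : Subgroup G) :=
      IsPGroup.to_sup_of_normal_right' hD'3 hD3 hD'L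
    obtain ⟨P', hP'⟩ := hsup.exists_le_sylow
    have hxP' : x ∈ (P' : Subgroup G) := hP' (le_sup_right (a := D.map φ) hxD)
    have hyP' : y ∈ (P' : Subgroup G) := by
      apply hP'
      apply le_sup_left (b := D)
      rw [hD']; exact mem_zpowers y
    haveI := hPcomm P'
    obtain ⟨n, hnN, hnx⟩ := P'.conj_eq_normalizer_conj_of_mem x g hxP' hyP'
    have hyD : y ∈ D := by
      by_cases hnP : n ∈ (P' : Subgroup G)
      · -- `y = x`
        have hc := (hPcomm P').is_comm.comm ⟨x, hxP'⟩ ⟨n, hnP⟩
        have hc' : x * n = n * x := congrArg Subtype.val hc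
        have : y = x := by
          rw [hy, hnx]
          calc n⁻¹ * x * n = n⁻¹ * (x * n) := by group
            _ = n⁻¹ * (n * x) := by rw [hc']
            _ = x := by group
        rw [this]; exact hxD
      · -- `y = x⁻¹`
        have hn' : n⁻¹ ∈ normalizer ((P' : Subgroup G) : Set G) := inv_mem hnN
        have hnP' : n⁻¹ ∉ (P' : Subgroup G) := fun h' =>
          hnP (by simpa using (P' : Subgroup G).inv_mem h')
        have := hinv P' n⁻¹ hn' hnP' x hxP'
        rw [inv_inv] at this
        have : y = x⁻¹ := by rw [hy, hnx, this]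
        rw [this]; exact D.inv_mem hxD
    -- hence `g` normalizes `D`
    apply mem_normalizer_of_conj_mem D g
    intro d hdD
    rw [hDz] at hdD
    obtain ⟨j, rfl⟩ := mem_zpowers_iff.1 hdD
    have : g⁻¹ * x ^ j * g = y ^ j := by
      rw [hy]
      exact (conj_zpow (a := g⁻¹) (b := x) (i := j) |> fun e => by simpa using e.symm)
    rw [this]
    exact D.zpow_mem hyD j
  -- the fixed cosets of `k`
  have hmod := card_fixedBy_mod_eq_one_of_commute D L hD3 k
    (fun d hdD => (Subgroup.mem_centralizer_iff.mp hkX) d hdD) (hXL hkX) le_normalizer huniq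
  have hpar := four_dvd_index_sub_card_fixedBy_of_simple hG L k hk2
  have hne' := card_fixedBy_ne_index L hLtop k hk1
  have hle : Nat.card (fixedBy (G ⧸ L) k) ≤ L.index := by
    rw [Subgroup.index]
    exact Nat.card_le_card_of_injective Subtype.val Subtype.val_injective
  rw [hLidx] at hpar hne' hle
  omega

end Order720

end Cfsg.Agent.Lib.Helper9.Simple720
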