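import Mathlib
import Cfsg.Agent.Lib.Helper9.SmallOrderSieveC

/-!
# The certificate table of the small-order sieve (for S0496), generated by a script

Entry `n` of `certTable` is a certificate for the order `n` (see `SmallOrderSieveC`).
-/

set_option autoImplicit false

namespace Cfsg.Agent.Lib.Helper9.Sieve

/-- The certificates for the orders `0, 1, ..., 1092`. -/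
def certTable : List (ℕ × ℕ × ℕ × ℕ × ℕ) := [
  (1, 0, 0, 0, 0), (0, 2, 0, 3, 0), (0, 2, 1, 2, 0), (0, 3, 1, 2, 0), (0, 2, 2, 2, 0), (0, 5, 1, 2, 0),
  (0, 2, 1, 3, 1), (0, 7, 1, 2, 0), (0, 2, 3, 2, 0), (0, 3, 2, 2, 0), (0, 2, 1, 5, 1), (0, 11, 1, 2, 0),
  (0, 2, 2, 3, 1), (0, 13, 1, 2, 0), (0, 2, 1, 7, 1), (0, 3, 1, 5, 1), (0, 2, 4, 2, 0), (0, 17, 1, 2, 0),
  (0, 2, 1, 3, 2), (0, 19, 1, 2, 0), (0, 2, 2, 5, 1), (0, 3, 1, 7, 1), (0, 2, 1, 11, 1), (0, 23, 1, 2, 0),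
  (0, 2, 3, 3, 1), (0, 5, 2, 2, 0), (0, 2, 1, 13, 1), (0, 3, 3, 2, 0), (0, 2, 2, 7, 1), (0, 29, 1, 2, 0),
  (1, 0, 0, 0, 0), (0, 31, 1, 2, 0), (0, 2, 5, 2, 0), (0, 3, 1, 11, 1), (0, 2, 1, 17, 1), (0, 5, 1, 7, 1),
  (0, 2, 2, 3, 2), (0, 37, 1, 2, 0), (0, 2, 1, 19, 1), (0, 3, 1, 13, 1), (0, 2, 3, 5, 1), (0, 41, 1, 2, 0),
  (1, 0, 0, 0, 0), (0, 43, 1, 2, 0), (0, 2, 2, 11, 1), (0, 3, 2, 5, 1), (0, 2, 1, 23, 1), (0, 47, 1, 2, 0),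
  (0, 2, 4, 3, 1), (0, 7, 2, 2, 0), (0, 2, 1, 5, 2), (0, 3, 1, 17, 1), (0, 2, 2, 13, 1), (0, 53, 1, 2, 0),
  (0, 2, 1, 3, 3), (0, 5, 1, 11, 1), (0, 2, 3, 7, 1), (0, 3, 1, 19, 1), (0, 2, 1, 29, 1), (0, 59, 1, 2, 0),
  (4, 0, 0, 0, 0), (0, 61, 1, 2, 0), (0, 2, 1, 31, 1), (0, 3, 2, 7, 1), (0, 2, 6, 2, 0), (0, 5, 1, 13, 1),
  (1, 0, 0, 0, 0), (0, 67, 1, 2, 0), (0, 2, 2, 17, 1), (0, 3, 1, 23, 1), (1, 0, 0, 0, 0), (0, 71, 1, 2, 0),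
  (0, 2, 3, 3, 2), (0, 73, 1, 2, 0), (0, 2, 1, 37, 1), (0, 3, 1, 5, 2), (0, 2, 2, 19, 1), (0, 7, 1, 11, 1),
  (1, 0, 0, 0, 0), (0, 79, 1, 2, 0), (0, 2, 4, 5, 1), (0, 3, 4, 2, 0), (0, 2, 1, 41, 1), (0, 83, 1, 2, 0),
  (3, 7, 1, 12, 0), (0, 5, 1, 17, 1), (0, 2, 1, 43, 1), (0, 3, 1, 29, 1), (0, 2, 3, 11, 1), (0, 89, 1, 2, 0),
  (1, 0, 0, 0, 0), (0, 7, 1, 13, 1), (0, 2, 2, 23, 1), (0, 3, 1, 31, 1), (0, 2, 1, 47, 1), (0, 5, 1, 19, 1),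
  (0, 2, 5, 3, 1), (0, 97, 1, 2, 0), (0, 2, 1, 7, 2), (0, 3, 2, 11, 1), (0, 2, 2, 5, 2), (0, 101, 1, 2, 0),
  (1, 0, 0, 0, 0), (0, 103, 1, 2, 0), (0, 2, 3, 13, 1), (3, 7, 1, 15, 0), (0, 2, 1, 53, 1), (0, 107, 1, 2, 0),
  (0, 2, 2, 3, 3), (0, 109, 1, 2, 0), (1, 0, 0, 0, 0), (0, 3, 1, 37, 1), (0, 2, 4, 7, 1), (0, 113, 1, 2, 0),
  (1, 0, 0, 0, 0), (0, 5, 1, 23, 1), (0, 2, 2, 29, 1), (0, 3, 2, 13, 1), (0, 2, 1, 59, 1), (0, 7, 1, 17, 1),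
  (3, 5, 1, 24, 0), (0, 11, 2, 2, 0), (0, 2, 1, 61, 1), (0, 3, 1, 41, 1), (0, 2, 2, 31, 1), (0, 5, 3, 2, 0),
  (1, 0, 0, 0, 0), (0, 127, 1, 2, 0), (0, 2, 7, 2, 0), (0, 3, 1, 43, 1), (1, 0, 0, 0, 0), (0, 131, 1, 2, 0),
  (3, 11, 1, 12, 0), (0, 7, 1, 19, 1), (0, 2, 1, 67, 1), (0, 3, 3, 5, 1), (0, 2, 3, 17, 1), (0, 137, 1, 2, 0),
  (1, 0, 0, 0, 0), (0, 139, 1, 2, 0), (2, 0, 0, 0, 0), (0, 3, 1, 47, 1), (0, 2, 1, 71, 1), (0, 11, 1, 13, 1),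
  (0, 2, 4, 3, 2), (0, 5, 1, 29, 1), (0, 2, 1, 73, 1), (0, 3, 1, 7, 2), (0, 2, 2, 37, 1), (0, 149, 1, 2, 0),
  (1, 0, 0, 0, 0), (0, 151, 1, 2, 0), (0, 2, 3, 19, 1), (0, 3, 2, 17, 1), (1, 0, 0, 0, 0), (0, 5, 1, 31, 1),
  (3, 13, 1, 12, 0), (0, 157, 1, 2, 0), (0, 2, 1, 79, 1), (0, 3, 1, 53, 1), (0, 2, 5, 5, 1), (0, 7, 1, 23, 1),
  (0, 2, 1, 3, 4), (0, 163, 1, 2, 0), (0, 2, 2, 41, 1), (3, 11, 1, 15, 0), (0, 2, 1, 83, 1), (0, 167, 1, 2, 0),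
  (4, 0, 0, 0, 0), (0, 13, 2, 2, 0), (1, 0, 0, 0, 0), (0, 3, 2, 19, 1), (0, 2, 2, 43, 1), (0, 173, 1, 2, 0),
  (1, 0, 0, 0, 0), (0, 5, 2, 7, 1), (0, 2, 4, 11, 1), (0, 3, 1, 59, 1), (0, 2, 1, 89, 1), (0, 179, 1, 2, 0),
  (3, 5, 1, 36, 0), (0, 181, 1, 2, 0), (1, 0, 0, 0, 0), (0, 3, 1, 61, 1), (0, 2, 3, 23, 1), (0, 5, 1, 37, 1),
  (1, 0, 0, 0, 0), (0, 11, 1, 17, 1), (0, 2, 2, 47, 1), (0, 3, 3, 7, 1), (1, 0, 0, 0, 0), (0, 191, 1, 2, 0),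
  (0, 2, 6, 3, 1), (0, 193, 1, 2, 0), (0, 2, 1, 97, 1), (3, 13, 1, 15, 0), (0, 2, 2, 7, 2), (0, 197, 1, 2, 0),
  (1, 0, 0, 0, 0), (0, 199, 1, 2, 0), (0, 2, 3, 5, 2), (0, 3, 1, 67, 1), (0, 2, 1, 101, 1), (0, 7, 1, 29, 1),
  (3, 17, 1, 12, 0), (0, 5, 1, 41, 1), (0, 2, 1, 103, 1), (0, 3, 2, 23, 1), (0, 2, 4, 13, 1), (0, 11, 1, 19, 1),
  (1, 0, 0, 0, 0), (0, 211, 1, 2, 0), (0, 2, 2, 53, 1), (0, 3, 1, 71, 1), (0, 2, 1, 107, 1), (0, 5, 1, 43, 1),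
  (0, 2, 3, 3, 3), (0, 7, 1, 31, 1), (0, 2, 1, 109, 1), (0, 3, 1, 73, 1), (2, 0, 0, 0, 0), (0, 13, 1, 17, 1),
  (1, 0, 0, 0, 0), (0, 223, 1, 2, 0), (0, 2, 5, 7, 1), (0, 3, 2, 5, 2), (0, 2, 1, 113, 1), (0, 227, 1, 2, 0),
  (3, 19, 1, 12, 0), (0, 229, 1, 2, 0), (1, 0, 0, 0, 0), (3, 11, 1, 21, 0), (0, 2, 3, 29, 1), (0, 233, 1, 2, 0),
  (1, 0, 0, 0, 0), (0, 5, 1, 47, 1), (0, 2, 2, 59, 1), (0, 3, 1, 79, 1), (1, 0, 0, 0, 0), (0, 239, 1, 2, 0),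
  (3, 5, 1, 48, 0), (0, 241, 1, 2, 0), (0, 2, 1, 11, 2), (0, 3, 5, 2, 0), (0, 2, 2, 61, 1), (0, 5, 1, 7, 2),
  (1, 0, 0, 0, 0), (0, 13, 1, 19, 1), (0, 2, 3, 31, 1), (0, 3, 1, 83, 1), (0, 2, 1, 5, 3), (0, 251, 1, 2, 0),
  (3, 7, 1, 36, 0), (0, 11, 1, 23, 1), (0, 2, 1, 127, 1), (3, 17, 1, 15, 0), (0, 2, 8, 2, 0), (0, 257, 1, 2, 0),
  (1, 0, 0, 0, 0), (0, 7, 1, 37, 1), (2, 0, 0, 0, 0), (0, 3, 2, 29, 1), (0, 2, 1, 131, 1), (0, 263, 1, 2, 0),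
  (3, 11, 1, 24, 0), (0, 5, 1, 53, 1), (1, 0, 0, 0, 0), (0, 3, 1, 89, 1), (0, 2, 2, 67, 1), (0, 269, 1, 2, 0),
  (1, 0, 0, 0, 0), (0, 271, 1, 2, 0), (0, 2, 4, 17, 1), (3, 13, 1, 21, 0), (0, 2, 1, 137, 1), (0, 5, 2, 11, 1),
  (3, 23, 1, 12, 0), (0, 277, 1, 2, 0), (0, 2, 1, 139, 1), (0, 3, 2, 31, 1), (3, 7, 1, 40, 0), (0, 281, 1, 2, 0),
  (1, 0, 0, 0, 0), (0, 283, 1, 2, 0), (0, 2, 2, 71, 1), (3, 19, 1, 15, 0), (1, 0, 0, 0, 0), (0, 7, 1, 41, 1),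
  (0, 2, 5, 3, 2), (0, 17, 2, 2, 0), (1, 0, 0, 0, 0), (0, 3, 1, 97, 1), (0, 2, 2, 73, 1), (0, 293, 1, 2, 0),
  (1, 0, 0, 0, 0), (0, 5, 1, 59, 1), (0, 2, 3, 37, 1), (0, 3, 3, 11, 1), (0, 2, 1, 149, 1), (0, 13, 1, 23, 1),
  (3, 5, 2, 12, 0), (0, 7, 1, 43, 1), (0, 2, 1, 151, 1), (0, 3, 1, 101, 1), (0, 2, 4, 19, 1), (0, 5, 1, 61, 1),
  (1, 0, 0, 0, 0), (0, 307, 1, 2, 0), (2, 0, 0, 0, 0), (0, 3, 1, 103, 1), (1, 0, 0, 0, 0), (0, 311, 1, 2, 0),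
  (3, 13, 1, 24, 0), (0, 313, 1, 2, 0), (0, 2, 1, 157, 1), (3, 5, 1, 63, 0), (0, 2, 2, 79, 1), (0, 317, 1, 2, 0),
  (1, 0, 0, 0, 0), (0, 11, 1, 29, 1), (0, 2, 6, 5, 1), (0, 3, 1, 107, 1), (1, 0, 0, 0, 0), (0, 17, 1, 19, 1),
  (0, 2, 2, 3, 4), (0, 5, 2, 13, 1), (0, 2, 1, 163, 1), (0, 3, 1, 109, 1), (0, 2, 3, 41, 1), (0, 7, 1, 47, 1),
  (1, 0, 0, 0, 0), (0, 331, 1, 2, 0), (0, 2, 2, 83, 1), (0, 3, 2, 37, 1), (0, 2, 1, 167, 1), (0, 5, 1, 67, 1),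
  (3, 7, 1, 48, 0), (0, 337, 1, 2, 0), (0, 2, 1, 13, 2), (0, 3, 1, 113, 1), (2, 0, 0, 0, 0), (0, 11, 1, 31, 1),
  (1, 0, 0, 0, 0), (0, 7, 3, 2, 0), (0, 2, 3, 43, 1), (3, 23, 1, 15, 0), (0, 2, 1, 173, 1), (0, 347, 1, 2, 0),
  (3, 29, 1, 12, 0), (0, 349, 1, 2, 0), (1, 0, 0, 0, 0), (0, 3, 3, 13, 1), (0, 2, 5, 11, 1), (0, 353, 1, 2, 0),
  (1, 0, 0, 0, 0), (0, 5, 1, 71, 1), (0, 2, 2, 89, 1), (3, 17, 1, 21, 0), (0, 2, 1, 179, 1), (0, 359, 1, 2, 0),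
  (4, 0, 0, 0, 0), (0, 19, 2, 2, 0), (0, 2, 1, 181, 1), (0, 3, 1, 11, 2), (2, 0, 0, 0, 0), (0, 5, 1, 73, 1),
  (1, 0, 0, 0, 0), (0, 367, 1, 2, 0), (0, 2, 4, 23, 1), (0, 3, 2, 41, 1), (1, 0, 0, 0, 0), (0, 7, 1, 53, 1),
  (3, 31, 1, 12, 0), (0, 373, 1, 2, 0), (1, 0, 0, 0, 0), (0, 3, 1, 5, 3), (0, 2, 3, 47, 1), (0, 13, 1, 29, 1),
  (1, 0, 0, 0, 0), (0, 379, 1, 2, 0), (2, 0, 0, 0, 0), (0, 3, 1, 127, 1), (0, 2, 1, 191, 1), (0, 383, 1, 2, 0),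
  (0, 2, 7, 3, 1), (3, 11, 1, 35, 0), (0, 2, 1, 193, 1), (0, 3, 2, 43, 1), (0, 2, 2, 97, 1), (0, 389, 1, 2, 0),
  (1, 0, 0, 0, 0), (0, 17, 1, 23, 1), (0, 2, 3, 7, 2), (0, 3, 1, 131, 1), (0, 2, 1, 197, 1), (0, 5, 1, 79, 1),
  (3, 11, 1, 36, 0), (0, 397, 1, 2, 0), (0, 2, 1, 199, 1), (3, 19, 1, 21, 0), (0, 2, 4, 5, 2), (0, 401, 1, 2, 0),
  (1, 0, 0, 0, 0), (0, 13, 1, 31, 1), (0, 2, 2, 101, 1), (0, 3, 4, 5, 1), (1, 0, 0, 0, 0), (0, 11, 1, 37, 1),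
  (3, 17, 1, 24, 0), (0, 409, 1, 2, 0), (1, 0, 0, 0, 0), (0, 3, 1, 137, 1), (0, 2, 2, 103, 1), (0, 7, 1, 59, 1),
  (1, 0, 0, 0, 0), (0, 5, 1, 83, 1), (0, 2, 5, 13, 1), (0, 3, 1, 139, 1), (1, 0, 0, 0, 0), (0, 419, 1, 2, 0),
  (3, 7, 1, 60, 0), (0, 421, 1, 2, 0), (0, 2, 1, 211, 1), (0, 3, 2, 47, 1), (0, 2, 3, 53, 1), (0, 5, 2, 17, 1),
  (1, 0, 0, 0, 0), (0, 7, 1, 61, 1), (0, 2, 2, 107, 1), (3, 13, 1, 33, 0), (1, 0, 0, 0, 0), (0, 431, 1, 2, 0),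
  (0, 2, 4, 3, 3), (0, 433, 1, 2, 0), (1, 0, 0, 0, 0), (3, 29, 1, 15, 0), (0, 2, 2, 109, 1), (0, 19, 1, 23, 1),
  (1, 0, 0, 0, 0), (0, 439, 1, 2, 0), (3, 11, 1, 40, 0), (0, 3, 2, 7, 2), (1, 0, 0, 0, 0), (0, 443, 1, 2, 0),
  (3, 37, 1, 12, 0), (0, 5, 1, 89, 1), (0, 2, 1, 223, 1), (0, 3, 1, 149, 1), (0, 2, 6, 7, 1), (0, 449, 1, 2, 0),
  (1, 0, 0, 0, 0), (0, 11, 1, 41, 1), (0, 2, 2, 113, 1), (0, 3, 1, 151, 1), (0, 2, 1, 227, 1), (3, 13, 1, 35, 0),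
  (3, 19, 1, 24, 0), (0, 457, 1, 2, 0), (0, 2, 1, 229, 1), (0, 3, 3, 17, 1), (2, 0, 0, 0, 0), (0, 461, 1, 2, 0),
  (1, 0, 0, 0, 0), (0, 463, 1, 2, 0), (0, 2, 4, 29, 1), (3, 31, 1, 15, 0), (0, 2, 1, 233, 1), (0, 467, 1, 2, 0),
  (3, 13, 1, 36, 0), (0, 7, 1, 67, 1), (1, 0, 0, 0, 0), (0, 3, 1, 157, 1), (0, 2, 3, 59, 1), (0, 11, 1, 43, 1),
  (1, 0, 0, 0, 0), (0, 5, 2, 19, 1), (2, 0, 0, 0, 0), (0, 3, 2, 53, 1), (0, 2, 1, 239, 1), (0, 479, 1, 2, 0),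
  (3, 2, 5, 15, 0), (0, 13, 1, 37, 1), (0, 2, 1, 241, 1), (3, 23, 1, 21, 0), (0, 2, 2, 11, 2), (0, 5, 1, 97, 1),
  (0, 2, 1, 3, 5), (0, 487, 1, 2, 0), (0, 2, 3, 61, 1), (0, 3, 1, 163, 1), (1, 0, 0, 0, 0), (0, 491, 1, 2, 0),
  (3, 41, 1, 12, 0), (0, 17, 1, 29, 1), (1, 0, 0, 0, 0), (3, 11, 1, 45, 0), (0, 2, 4, 31, 1), (0, 7, 1, 71, 1),
  (1, 0, 0, 0, 0), (0, 499, 1, 2, 0), (0, 2, 2, 5, 3), (0, 3, 1, 167, 1), (0, 2, 1, 251, 1), (0, 503, 1, 2, 0),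
  (4, 0, 0, 0, 0), (0, 5, 1, 101, 1), (1, 0, 0, 0, 0), (0, 3, 1, 13, 2), (0, 2, 2, 127, 1), (0, 509, 1, 2, 0),
  (1, 0, 0, 0, 0), (0, 7, 1, 73, 1), (0, 2, 9, 2, 0), (0, 3, 3, 19, 1), (0, 2, 1, 257, 1), (0, 5, 1, 103, 1),
  (3, 43, 1, 12, 0), (0, 11, 1, 47, 1), (1, 0, 0, 0, 0), (0, 3, 1, 173, 1), (3, 13, 1, 40, 0), (0, 521, 1, 2, 0),
  (1, 0, 0, 0, 0), (0, 523, 1, 2, 0), (0, 2, 2, 131, 1), (3, 7, 1, 75, 0), (0, 2, 1, 263, 1), (0, 17, 1, 31, 1),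
  (3, 11, 1, 48, 0), (0, 23, 2, 2, 0), (1, 0, 0, 0, 0), (0, 3, 2, 59, 1), (2, 0, 0, 0, 0), (0, 13, 1, 41, 1),
  (1, 0, 0, 0, 0), (0, 5, 1, 107, 1), (0, 2, 3, 67, 1), (0, 3, 1, 179, 1), (0, 2, 1, 269, 1), (0, 7, 2, 11, 1),
  (3, 5, 1, 108, 0), (0, 541, 1, 2, 0), (0, 2, 1, 271, 1), (0, 3, 1, 181, 1), (0, 2, 5, 17, 1), (0, 5, 1, 109, 1),
  (1, 0, 0, 0, 0), (0, 547, 1, 2, 0), (0, 2, 2, 137, 1), (0, 3, 2, 61, 1), (1, 0, 0, 0, 0), (0, 19, 1, 29, 1),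
  (3, 23, 1, 24, 0), (0, 7, 1, 79, 1), (0, 2, 1, 277, 1), (3, 37, 1, 15, 0), (0, 2, 2, 139, 1), (0, 557, 1, 2, 0),
  (1, 0, 0, 0, 0), (0, 13, 1, 43, 1), (3, 7, 1, 80, 0), (3, 17, 1, 33, 0), (0, 2, 1, 281, 1), (0, 563, 1, 2, 0),
  (3, 47, 1, 12, 0), (0, 5, 1, 113, 1), (0, 2, 1, 283, 1), (0, 3, 4, 7, 1), (0, 2, 3, 71, 1), (0, 569, 1, 2, 0),
  (1, 0, 0, 0, 0), (0, 571, 1, 2, 0), (2, 0, 0, 0, 0), (0, 3, 1, 191, 1), (1, 0, 0, 0, 0), (0, 5, 2, 23, 1),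
  (0, 2, 6, 3, 2), (0, 577, 1, 2, 0), (0, 2, 1, 17, 2), (0, 3, 1, 193, 1), (2, 0, 0, 0, 0), (0, 7, 1, 83, 1),
  (1, 0, 0, 0, 0), (0, 11, 1, 53, 1), (0, 2, 3, 73, 1), (3, 13, 1, 45, 0), (0, 2, 1, 293, 1), (0, 587, 1, 2, 0),
  (3, 7, 2, 12, 0), (0, 19, 1, 31, 1), (1, 0, 0, 0, 0), (0, 3, 1, 197, 1), (0, 2, 4, 37, 1), (0, 593, 1, 2, 0),
  (1, 0, 0, 0, 0), (3, 17, 1, 35, 0), (0, 2, 2, 149, 1), (0, 3, 1, 199, 1), (1, 0, 0, 0, 0), (0, 599, 1, 2, 0),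
  (3, 5, 2, 24, 0), (0, 601, 1, 2, 0), (1, 0, 0, 0, 0), (0, 3, 2, 67, 1), (0, 2, 2, 151, 1), (0, 5, 1, 11, 2),
  (1, 0, 0, 0, 0), (0, 607, 1, 2, 0), (0, 2, 5, 19, 1), (3, 29, 1, 21, 0), (1, 0, 0, 0, 0), (0, 13, 1, 47, 1),
  (4, 0, 0, 0, 0), (0, 613, 1, 2, 0), (0, 2, 1, 307, 1), (3, 41, 1, 15, 0), (3, 11, 1, 56, 0), (0, 617, 1, 2, 0),
  (1, 0, 0, 0, 0), (0, 619, 1, 2, 0), (2, 0, 0, 0, 0), (0, 3, 3, 23, 1), (0, 2, 1, 311, 1), (0, 7, 1, 89, 1),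
  (3, 13, 1, 48, 0), (0, 5, 4, 2, 0), (0, 2, 1, 313, 1), (3, 19, 1, 33, 0), (0, 2, 2, 157, 1), (0, 17, 1, 37, 1),
  (1, 0, 0, 0, 0), (0, 631, 1, 2, 0), (0, 2, 3, 79, 1), (0, 3, 1, 211, 1), (0, 2, 1, 317, 1), (0, 5, 1, 127, 1),
  (3, 53, 1, 12, 0), (0, 7, 2, 13, 1), (1, 0, 0, 0, 0), (0, 3, 2, 71, 1), (0, 2, 7, 5, 1), (0, 641, 1, 2, 0),
  (1, 0, 0, 0, 0), (0, 643, 1, 2, 0), (2, 0, 0, 0, 0), (3, 43, 1, 15, 0), (1, 0, 0, 0, 0), (0, 647, 1, 2, 0),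
  (0, 2, 3, 3, 4), (0, 11, 1, 59, 1), (1, 0, 0, 0, 0), (3, 31, 1, 21, 0), (0, 2, 2, 163, 1), (0, 653, 1, 2, 0),
  (1, 0, 0, 0, 0), (0, 5, 1, 131, 1), (0, 2, 4, 41, 1), (0, 3, 2, 73, 1), (1, 0, 0, 0, 0), (0, 659, 1, 2, 0),
  (4, 0, 0, 0, 0), (0, 661, 1, 2, 0), (0, 2, 1, 331, 1), (3, 17, 1, 39, 0), (0, 2, 3, 83, 1), (3, 19, 1, 35, 0),
  (1, 0, 0, 0, 0), (0, 23, 1, 29, 1), (0, 2, 2, 167, 1), (0, 3, 1, 223, 1), (1, 0, 0, 0, 0), (0, 11, 1, 61, 1),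
  (3, 7, 1, 96, 0), (0, 673, 1, 2, 0), (0, 2, 1, 337, 1), (0, 3, 3, 5, 2), (0, 2, 2, 13, 2), (0, 677, 1, 2, 0),
  (1, 0, 0, 0, 0), (0, 7, 1, 97, 1), (3, 17, 1, 40, 0), (0, 3, 1, 227, 1), (1, 0, 0, 0, 0), (0, 683, 1, 2, 0),
  (3, 19, 1, 36, 0), (0, 5, 1, 137, 1), (0, 2, 1, 7, 3), (0, 3, 1, 229, 1), (0, 2, 4, 43, 1), (0, 13, 1, 53, 1),
  (1, 0, 0, 0, 0), (0, 691, 1, 2, 0), (0, 2, 2, 173, 1), (3, 11, 1, 63, 0), (0, 2, 1, 347, 1), (0, 5, 1, 139, 1),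
  (3, 29, 1, 24, 0), (0, 17, 1, 41, 1), (0, 2, 1, 349, 1), (0, 3, 1, 233, 1), (2, 0, 0, 0, 0), (0, 701, 1, 2, 0),
  (1, 0, 0, 0, 0), (0, 19, 1, 37, 1), (0, 2, 6, 11, 1), (3, 47, 1, 15, 0), (0, 2, 1, 353, 1), (0, 7, 1, 101, 1),
  (3, 59, 1, 12, 0), (0, 709, 1, 2, 0), (1, 0, 0, 0, 0), (0, 3, 2, 79, 1), (0, 2, 3, 89, 1), (0, 23, 1, 31, 1),
  (1, 0, 0, 0, 0), (3, 13, 1, 55, 0), (0, 2, 2, 179, 1), (0, 3, 1, 239, 1), (0, 2, 1, 359, 1), (0, 719, 1, 2, 0),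
  (4, 0, 0, 0, 0), (0, 7, 1, 103, 1), (0, 2, 1, 19, 2), (0, 3, 1, 241, 1), (0, 2, 2, 181, 1), (0, 5, 2, 29, 1),
  (1, 0, 0, 0, 0), (0, 727, 1, 2, 0), (3, 13, 1, 56, 0), (0, 3, 6, 2, 0), (1, 0, 0, 0, 0), (0, 17, 1, 43, 1),
  (3, 61, 1, 12, 0), (0, 733, 1, 2, 0), (0, 2, 1, 367, 1), (3, 7, 2, 15, 0), (0, 2, 5, 23, 1), (0, 11, 1, 67, 1),
  (1, 0, 0, 0, 0), (0, 739, 1, 2, 0), (2, 0, 0, 0, 0), (3, 19, 1, 39, 0), (1, 0, 0, 0, 0), (0, 743, 1, 2, 0),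
  (3, 31, 1, 24, 0), (0, 5, 1, 149, 1), (0, 2, 1, 373, 1), (0, 3, 2, 83, 1), (2, 0, 0, 0, 0), (0, 7, 1, 107, 1),
  (1, 0, 0, 0, 0), (0, 751, 1, 2, 0), (0, 2, 4, 47, 1), (0, 3, 1, 251, 1), (1, 0, 0, 0, 0), (0, 5, 1, 151, 1),
  (4, 0, 0, 0, 0), (0, 757, 1, 2, 0), (0, 2, 1, 379, 1), (3, 23, 1, 33, 0), (3, 19, 1, 40, 0), (0, 761, 1, 2, 0),
  (1, 0, 0, 0, 0), (0, 7, 1, 109, 1), (0, 2, 2, 191, 1), (3, 17, 1, 45, 0), (0, 2, 1, 383, 1), (0, 13, 1, 59, 1),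
  (0, 2, 8, 3, 1), (0, 769, 1, 2, 0), (1, 0, 0, 0, 0), (0, 3, 1, 257, 1), (0, 2, 2, 193, 1), (0, 773, 1, 2, 0),
  (1, 0, 0, 0, 0), (0, 5, 2, 31, 1), (0, 2, 3, 97, 1), (3, 37, 1, 21, 0), (0, 2, 1, 389, 1), (0, 19, 1, 41, 1),
  (3, 13, 1, 60, 0), (0, 11, 1, 71, 1), (1, 0, 0, 0, 0), (0, 3, 3, 29, 1), (0, 2, 4, 7, 2), (0, 5, 1, 157, 1),
  (1, 0, 0, 0, 0), (0, 787, 1, 2, 0), (0, 2, 2, 197, 1), (0, 3, 1, 263, 1), (1, 0, 0, 0, 0), (0, 7, 1, 113, 1),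
  (3, 11, 1, 72, 0), (0, 13, 1, 61, 1), (0, 2, 1, 397, 1), (3, 53, 1, 15, 0), (0, 2, 2, 199, 1), (0, 797, 1, 2, 0),
  (1, 0, 0, 0, 0), (0, 17, 1, 47, 1), (0, 2, 5, 5, 2), (0, 3, 2, 89, 1), (0, 2, 1, 401, 1), (0, 11, 1, 73, 1),
  (3, 67, 1, 12, 0), (3, 23, 1, 35, 0), (1, 0, 0, 0, 0), (0, 3, 1, 269, 1), (0, 2, 3, 101, 1), (0, 809, 1, 2, 0),
  (1, 0, 0, 0, 0), (0, 811, 1, 2, 0), (2, 0, 0, 0, 0), (0, 3, 1, 271, 1), (1, 0, 0, 0, 0), (0, 5, 1, 163, 1),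
  (3, 17, 1, 48, 0), (0, 19, 1, 43, 1), (0, 2, 1, 409, 1), (3, 13, 1, 63, 0), (2, 0, 0, 0, 0), (0, 821, 1, 2, 0),
  (1, 0, 0, 0, 0), (0, 823, 1, 2, 0), (0, 2, 3, 103, 1), (3, 11, 1, 75, 0), (1, 0, 0, 0, 0), (0, 827, 1, 2, 0),
  (3, 23, 1, 36, 0), (0, 829, 1, 2, 0), (1, 0, 0, 0, 0), (0, 3, 1, 277, 1), (0, 2, 6, 13, 1), (0, 7, 2, 17, 1),
  (1, 0, 0, 0, 0), (0, 5, 1, 167, 1), (2, 0, 0, 0, 0), (0, 3, 3, 31, 1), (0, 2, 1, 419, 1), (0, 839, 1, 2, 0),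
  (3, 7, 1, 120, 0), (0, 29, 2, 2, 0), (0, 2, 1, 421, 1), (0, 3, 1, 281, 1), (0, 2, 2, 211, 1), (0, 5, 1, 13, 2),
  (1, 0, 0, 0, 0), (0, 7, 1, 11, 2), (0, 2, 4, 53, 1), (0, 3, 1, 283, 1), (1, 0, 0, 0, 0), (0, 23, 1, 37, 1),
  (3, 71, 1, 12, 0), (0, 853, 1, 2, 0), (1, 0, 0, 0, 0), (3, 19, 1, 45, 0), (0, 2, 3, 107, 1), (0, 857, 1, 2, 0),
  (1, 0, 0, 0, 0), (0, 859, 1, 2, 0), (2, 0, 0, 0, 0), (3, 41, 1, 21, 0), (0, 2, 1, 431, 1), (0, 863, 1, 2, 0),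
  (0, 2, 5, 3, 3), (0, 5, 1, 173, 1), (0, 2, 1, 433, 1), (0, 3, 1, 17, 2), (2, 0, 0, 0, 0), (0, 11, 1, 79, 1),
  (1, 0, 0, 0, 0), (0, 13, 1, 67, 1), (0, 2, 3, 109, 1), (0, 3, 2, 97, 1), (1, 0, 0, 0, 0), (0, 5, 3, 7, 1),
  (3, 73, 1, 12, 0), (0, 877, 1, 2, 0), (0, 2, 1, 439, 1), (0, 3, 1, 293, 1), (3, 11, 1, 80, 0), (0, 881, 1, 2, 0),
  (1, 0, 0, 0, 0), (0, 883, 1, 2, 0), (2, 0, 0, 0, 0), (3, 59, 1, 15, 0), (0, 2, 1, 443, 1), (0, 887, 1, 2, 0),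
  (3, 37, 1, 24, 0), (0, 7, 1, 127, 1), (1, 0, 0, 0, 0), (0, 3, 4, 11, 1), (0, 2, 2, 223, 1), (0, 19, 1, 47, 1),
  (1, 0, 0, 0, 0), (0, 5, 1, 179, 1), (0, 2, 7, 7, 1), (3, 23, 1, 39, 0), (0, 2, 1, 449, 1), (0, 29, 1, 31, 1),
  (3, 5, 2, 36, 0), (0, 17, 1, 53, 1), (1, 0, 0, 0, 0), (3, 43, 1, 21, 0), (0, 2, 3, 113, 1), (0, 5, 1, 181, 1),
  (1, 0, 0, 0, 0), (0, 907, 1, 2, 0), (0, 2, 2, 227, 1), (0, 3, 2, 101, 1), (1, 0, 0, 0, 0), (0, 911, 1, 2, 0),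
  (3, 19, 1, 48, 0), (0, 11, 1, 83, 1), (0, 2, 1, 457, 1), (3, 61, 1, 15, 0), (0, 2, 2, 229, 1), (0, 7, 1, 131, 1),
  (1, 0, 0, 0, 0), (0, 919, 1, 2, 0), (3, 23, 1, 40, 0), (0, 3, 1, 307, 1), (0, 2, 1, 461, 1), (0, 13, 1, 71, 1),
  (3, 11, 1, 84, 0), (0, 5, 2, 37, 1), (0, 2, 1, 463, 1), (0, 3, 2, 103, 1), (0, 2, 5, 29, 1), (0, 929, 1, 2, 0),
  (1, 0, 0, 0, 0), (0, 7, 2, 19, 1), (0, 2, 2, 233, 1), (0, 3, 1, 311, 1), (0, 2, 1, 467, 1), (3, 17, 1, 55, 0),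
  (3, 13, 1, 72, 0), (0, 937, 1, 2, 0), (1, 0, 0, 0, 0), (0, 3, 1, 313, 1), (2, 0, 0, 0, 0), (0, 941, 1, 2, 0),
  (1, 0, 0, 0, 0), (0, 23, 1, 41, 1), (0, 2, 4, 59, 1), (3, 5, 1, 189, 0), (1, 0, 0, 0, 0), (0, 947, 1, 2, 0),
  (3, 79, 1, 12, 0), (0, 13, 1, 73, 1), (1, 0, 0, 0, 0), (0, 3, 1, 317, 1), (3, 17, 1, 56, 0), (0, 953, 1, 2, 0),
  (1, 0, 0, 0, 0), (0, 5, 1, 191, 1), (0, 2, 2, 239, 1), (3, 29, 1, 33, 0), (0, 2, 1, 479, 1), (0, 7, 1, 137, 1),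
  (3, 2, 6, 15, 0), (0, 31, 2, 2, 0), (1, 0, 0, 0, 0), (0, 3, 2, 107, 1), (0, 2, 2, 241, 1), (0, 5, 1, 193, 1),
  (1, 0, 0, 0, 0), (0, 967, 1, 2, 0), (0, 2, 3, 11, 2), (3, 19, 1, 51, 0), (1, 0, 0, 0, 0), (0, 971, 1, 2, 0),
  (0, 2, 2, 3, 5), (0, 7, 1, 139, 1), (0, 2, 1, 487, 1), (3, 13, 1, 75, 0), (0, 2, 4, 61, 1), (0, 977, 1, 2, 0),
  (1, 0, 0, 0, 0), (0, 11, 1, 89, 1), (2, 0, 0, 0, 0), (0, 3, 2, 109, 1), (0, 2, 1, 491, 1), (0, 983, 1, 2, 0),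
  (3, 41, 1, 24, 0), (0, 5, 1, 197, 1), (1, 0, 0, 0, 0), (3, 47, 1, 21, 0), (2, 0, 0, 0, 0), (0, 23, 1, 43, 1),
  (1, 0, 0, 0, 0), (0, 991, 1, 2, 0), (0, 2, 5, 31, 1), (0, 3, 1, 331, 1), (1, 0, 0, 0, 0), (0, 5, 1, 199, 1),
  (3, 83, 1, 12, 0), (0, 997, 1, 2, 0), (0, 2, 1, 499, 1), (0, 3, 3, 37, 1), (0, 2, 3, 5, 3), (3, 13, 1, 77, 0),
  (1, 0, 0, 0, 0), (0, 17, 1, 59, 1), (0, 2, 2, 251, 1), (3, 67, 1, 15, 0), (0, 2, 1, 503, 1), (0, 19, 1, 53, 1),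
  (4, 0, 0, 0, 0), (0, 1009, 1, 2, 0), (1, 0, 0, 0, 0), (0, 3, 1, 337, 1), (2, 0, 0, 0, 0), (0, 1013, 1, 2, 0),
  (1, 0, 0, 0, 0), (3, 29, 1, 35, 0), (0, 2, 3, 127, 1), (0, 3, 2, 113, 1), (0, 2, 1, 509, 1), (0, 1019, 1, 2, 0),
  (3, 17, 1, 60, 0), (0, 1021, 1, 2, 0), (1, 0, 0, 0, 0), (3, 31, 1, 33, 0), (0, 2, 10, 2, 0), (0, 5, 2, 41, 1),
  (1, 0, 0, 0, 0), (0, 13, 1, 79, 1), (0, 2, 2, 257, 1), (0, 3, 1, 7, 3), (1, 0, 0, 0, 0), (0, 1031, 1, 2, 0),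
  (3, 43, 1, 24, 0), (0, 1033, 1, 2, 0), (1, 0, 0, 0, 0), (3, 23, 1, 45, 0), (2, 0, 0, 0, 0), (0, 17, 1, 61, 1),
  (1, 0, 0, 0, 0), (0, 1039, 1, 2, 0), (4, 0, 0, 0, 0), (0, 3, 1, 347, 1), (0, 2, 1, 521, 1), (0, 7, 1, 149, 1),
  (3, 29, 1, 36, 0), (3, 19, 1, 55, 0), (0, 2, 1, 523, 1), (0, 3, 1, 349, 1), (0, 2, 3, 131, 1), (0, 1049, 1, 2, 0),
  (1, 0, 0, 0, 0), (0, 1051, 1, 2, 0), (0, 2, 2, 263, 1), (0, 3, 4, 13, 1), (1, 0, 0, 0, 0), (0, 5, 1, 211, 1),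
  (3, 11, 1, 96, 0), (0, 7, 1, 151, 1), (0, 2, 1, 23, 2), (0, 3, 1, 353, 1), (2, 0, 0, 0, 0), (0, 1061, 1, 2, 0),
  (1, 0, 0, 0, 0), (0, 1063, 1, 2, 0), (3, 19, 1, 56, 0), (3, 71, 1, 15, 0), (1, 0, 0, 0, 0), (0, 11, 1, 97, 1),
  (3, 89, 1, 12, 0), (0, 1069, 1, 2, 0), (1, 0, 0, 0, 0), (3, 17, 1, 63, 0), (0, 2, 4, 67, 1), (0, 29, 1, 37, 1),
  (1, 0, 0, 0, 0), (0, 5, 2, 43, 1), (0, 2, 2, 269, 1), (0, 3, 1, 359, 1), (1, 0, 0, 0, 0), (0, 13, 1, 83, 1),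
  (4, 0, 0, 0, 0), (0, 23, 1, 47, 1), (0, 2, 1, 541, 1), (0, 3, 1, 19, 2), (0, 2, 2, 271, 1), (3, 31, 1, 35, 0),
  (1, 0, 0, 0, 0), (0, 1087, 1, 2, 0), (0, 2, 6, 17, 1), (0, 3, 2, 11, 2), (1, 0, 0, 0, 0), (0, 1091, 1, 2, 0),
  (4, 0, 0, 0, 0)]

end Cfsg.Agent.Lib.Helper9.Sieve
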