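import Mathlib
import Cfsg.Agent.Lib.Helper9.SmallOrderSieveD

/-!
# The small-order sieve: a non-commutative simple group of order `≤ 1092` has one of twelve listed orders
-/

set_option autoImplicit false
set_option linter.unusedSectionVars false
set_option linter.style.haveILetI false
set_option linter.unusedVariables false

namespace Cfsg.Agent.Lib.Helper9.Sieve

variable {G : Type*} [Group G] [Finite G] [IsSimpleGroup G]

set_option maxRecDepth 100000 in
/-- Every certificate in the table is valid (kernel computation). -/
theorem certTable_ok :
    (List.range 1093).all (fun n => decide (n = 0) || checkCert n (certTable.getD n (5, 0, 0, 0, 0))) = true := by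
  decide +kernel

/-- A non-commutative finite simple group of order at most `1092` has one of the listed orders. -/
theorem card_mem_listed (hG : ¬ IsMulCommutative G) (h : Nat.card G ≤ 1092) :
    Nat.card G ∈ listed := by
  have h1 := certTable_ok
  rw [List.all_eq_true] at h1
  have h2 := h1 (Nat.card G) (List.mem_range.mpr (by omega))
  have hpos : 0 < Nat.card G := Nat.card_pos
  rw [Bool.or_eq_true, decide_eq_true_eq] at h2
  rcases h2 with h2 | h2
  · omega
  · exact mem_listed_of_checkCert hG rfl _ h2

end Cfsg.Agent.Lib.Helper9.Sieve
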