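import Mathlib
import Cfsg.Agent.Lib.Helper9.CoprimeIndex
import Cfsg.Agent.Lib.Helper1.MinimalNormal

set_option autoImplicit false
open scoped Pointwise

namespace Cfsg.Agent.Lib.Helper9

universe u

/-- A `p`-subgroup `M` is contained in some conjugate of any subgroup `H` of index prime to `p`:
there is `g` with `g⁻¹ M g ≤ H`. -/
theorem exists_conj_le_of_not_dvd_index {G : Type*} [Group G] [Finite G] (p : ℕ) [Fact p.Prime]
    (M H : Subgroup G) (hM : IsPGroup p M) (hH : ¬ p ∣ H.index) :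
    ∃ g : G, ∀ m ∈ M, g⁻¹ * m * g ∈ H := by
  have hne : (MulAction.fixedPoints M (G ⧸ H)).Nonempty :=
    hM.nonempty_fixed_point_of_prime_not_dvd_card (G ⧸ H) (by rwa [← Subgroup.index_eq_card])
  obtain ⟨q, hq⟩ := hne
  induction q using QuotientGroup.induction_on with
  | H g =>
    refine ⟨g, fun m hm => ?_⟩
    have h1 := hq ⟨m, hm⟩
    have h2 : ((m * g : G) : G ⧸ H) = (g : G ⧸ H) := h1
    rw [QuotientGroup.eq] at h2
    have h3 := H.inv_mem h2
    simpa [mul_assoc] using h3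

/-- If `H₁` normalizes the `p`-subgroup `M`, `H` has index prime to `p` and coprime to the
index of `H₁`, then the normal closure of `M` is contained in `H`. -/
theorem normalClosure_le_of_coprime_index {G : Type*} [Group G] [Finite G] (p : ℕ)
    [Fact p.Prime] (M H₁ H : Subgroup G) (hM : IsPGroup p M)
    (hnorm : ∀ h ∈ H₁, ∀ m ∈ M, h * m * h⁻¹ ∈ M)
    (hcop : H₁.index.Coprime H.index) (hH : ¬ p ∣ H.index) :
    Subgroup.normalClosure (M : Set G) ≤ H := by
  obtain ⟨g, hg⟩ := exists_conj_le_of_not_dvd_index p M H hM hH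
  obtain ⟨h₁, hh₁, h, hh, rfl⟩ := exists_mul_of_coprime_index H₁ H hcop g
  -- M ≤ H
  have hMH : M ≤ H := by
    intro m hm
    have h1 : h₁ * m * h₁⁻¹ ∈ M := hnorm h₁ hh₁ m hm
    have h2 := hg _ h1
    have h3 : h * ((h₁ * h)⁻¹ * (h₁ * m * h₁⁻¹) * (h₁ * h)) * h⁻¹ ∈ H :=
      H.mul_mem (H.mul_mem hh h2) (H.inv_mem hh)
    have h4 : h * ((h₁ * h)⁻¹ * (h₁ * m * h₁⁻¹) * (h₁ * h)) * h⁻¹ = m := by group
    rwa [h4] at h3
  rw [Subgroup.normalClosure]
  rw [Subgroup.closure_le]
  intro x hx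
  rw [Group.mem_conjugatesOfSet_iff] at hx
  obtain ⟨m, hm, hconj⟩ := hx
  obtain ⟨c, hc⟩ := isConj_iff.1 hconj
  obtain ⟨k, hk, k₁, hk₁, rfl⟩ := exists_mul_of_coprime_index H H₁ hcop.symm c
  have h1 : k₁ * m * k₁⁻¹ ∈ M := hnorm k₁ hk₁ m hm
  have h2 : x = k * (k₁ * m * k₁⁻¹) * k⁻¹ := by rw [← hc]; group
  rw [h2]
  exact H.mul_mem (H.mul_mem hk (hMH h1)) (H.inv_mem hk)

theorem isSolvable_of_three_aux : ∀ (n : ℕ) (G : Type u) [Group G] [Finite G], Nat.card G = n →
    ∀ H₁ H₂ H₃ : Subgroup G, Group.IsSolvable H₁ → Group.IsSolvable H₂ → Group.IsSolvable H₃ →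
    H₁.index.Coprime H₂.index → H₁.index.Coprime H₃.index → H₂.index.Coprime H₃.index →
    Group.IsSolvable G := by
  intro n
  induction n using Nat.strong_induction_on with
  | _ n ih =>
  intro G _ _ hn H₁ H₂ H₃ hs₁ hs₂ hs₃ h12 h13 h23
  by_cases hH₁ : H₁ = ⊥
  · subst hH₁
    rw [Subgroup.index_bot] at h12
    have h1 : H₂.index ∣ Nat.card G := Subgroup.index_dvd_card H₂
    have h2 : H₂.index = 1 := h12.symm.eq_one_of_dvd h1
    have h3 : H₂ = ⊤ := Subgroup.index_eq_one.1 h2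
    subst h3
    exact Group.isSolvable_of_surjective (f := (Subgroup.topEquiv (G := G)).toMonoidHom)
      Subgroup.topEquiv.surjective
  · have : Nontrivial H₁ := (Subgroup.nontrivial_iff_ne_bot H₁).2 hH₁
    obtain ⟨p, R, hp, hRn, hRne, hRp, -, -, -⟩ :=
      Cfsg.Agent.Lib.Helper1.exists_normal_pSubgroup_of_isSolvable (G := H₁)
    have : Fact p.Prime := ⟨hp⟩
    set M : Subgroup G := R.map H₁.subtype with hMdef
    have hMp : IsPGroup p M := hRp.map _
    have hMne : M ≠ ⊥ := by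
      rw [Ne, Subgroup.map_eq_bot_iff_of_injective _ H₁.subtype_injective]
      exact hRne
    have hnorm : ∀ h ∈ H₁, ∀ m ∈ M, h * m * h⁻¹ ∈ M := by
      rintro h hh _ ⟨r, hr, rfl⟩
      exact ⟨⟨h, hh⟩ * r * ⟨h, hh⟩⁻¹, hRn.conj_mem r hr ⟨h, hh⟩, rfl⟩
    have hex : ∃ H : Subgroup G, Group.IsSolvable H ∧ H₁.index.Coprime H.index ∧
        ¬ p ∣ H.index := by
      by_cases hp2 : p ∣ H₂.index
      · refine ⟨H₃, hs₃, h13, fun hp3 => ?_⟩
        exact hp.one_lt.ne' (Nat.eq_one_of_dvd_coprimes h23 hp2 hp3)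
      · exact ⟨H₂, hs₂, h12, hp2⟩
    obtain ⟨H, hsH, hcopH, hpH⟩ := hex
    set N := Subgroup.normalClosure (M : Set G) with hNdef
    have hNH : N ≤ H := normalClosure_le_of_coprime_index p M H₁ H hMp hnorm hcopH hpH
    have : N.Normal := Subgroup.normalClosure_normal
    have hNne : N ≠ ⊥ := fun h => hMne (le_bot_iff.1 (h ▸ Subgroup.le_normalClosure))
    have : Group.IsSolvable N :=
      Group.isSolvable_of_isSolvable_injective (Subgroup.inclusion_injective hNH)
    have hcard : Nat.card (G ⧸ N) < n := by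
      rw [← hn, ← Subgroup.index_eq_card]
      have h1 := Subgroup.index_mul_card N
      have h2 : 1 < Nat.card N := (Subgroup.one_lt_card_iff_ne_bot N).2 hNne
      have h3 : 0 < N.index := Nat.pos_of_ne_zero Subgroup.index_ne_zero_of_finite
      nlinarith
    have hsurj := QuotientGroup.mk'_surjective N
    have hQ : Group.IsSolvable (G ⧸ N) := by
      refine ih _ hcard (G ⧸ N) rfl (H₁.map (QuotientGroup.mk' N)) (H₂.map (QuotientGroup.mk' N))
        (H₃.map (QuotientGroup.mk' N)) ?_ ?_ ?_ ?_ ?_ ?_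
      · exact Group.isSolvable_of_surjective (f := (QuotientGroup.mk' N).subgroupMap H₁)
          (MonoidHom.subgroupMap_surjective _ _)
      · exact Group.isSolvable_of_surjective (f := (QuotientGroup.mk' N).subgroupMap H₂)
          (MonoidHom.subgroupMap_surjective _ _)
      · exact Group.isSolvable_of_surjective (f := (QuotientGroup.mk' N).subgroupMap H₃)
          (MonoidHom.subgroupMap_surjective _ _)
      · exact Nat.Coprime.of_dvd (Subgroup.index_map_dvd _ hsurj)
          (Subgroup.index_map_dvd _ hsurj) h12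
      · exact Nat.Coprime.of_dvd (Subgroup.index_map_dvd _ hsurj)
          (Subgroup.index_map_dvd _ hsurj) h13
      · exact Nat.Coprime.of_dvd (Subgroup.index_map_dvd _ hsurj)
          (Subgroup.index_map_dvd _ hsurj) h23
    exact Group.isSolvable_of_ker_le_range N.subtype (QuotientGroup.mk' N) (by simp)

/-- **Wielandt**: a finite group with three solvable subgroups of pairwise coprime indices is
solvable. -/
theorem isSolvable_of_three_coprime_index {G : Type*} [Group G] [Finite G]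
    (H₁ H₂ H₃ : Subgroup G) (hs₁ : Group.IsSolvable H₁) (hs₂ : Group.IsSolvable H₂)
    (hs₃ : Group.IsSolvable H₃) (h12 : H₁.index.Coprime H₂.index)
    (h13 : H₁.index.Coprime H₃.index) (h23 : H₂.index.Coprime H₃.index) :
    Group.IsSolvable G :=
  isSolvable_of_three_aux _ G rfl H₁ H₂ H₃ hs₁ hs₂ hs₃ h12 h13 h23

end Cfsg.Agent.Lib.Helper9
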